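import Groth.Agent.Lib.Helper2.InjHullLocal
import Mathlib.RingTheory.Length
import Mathlib.RingTheory.FiniteLength
import Mathlib.RingTheory.HopkinsLevitzki
import Mathlib.RingTheory.SimpleModule.Basic

/-!
# Matlis duality for modules of finite length over a local ring (helper2)
-/

set_option autoImplicit false
universe u v

namespace Groth.Agent.Lib.Helper2
open InjHull

section HomExact

variable {R : Type u} [CommRing R] {E : Type u} [AddCommGroup E] [Module R E]
variable {M : Type u} [AddCommGroup M] [Module R M]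

/-- `Hom(-, E)` is exact for injective `E`: additivity of length. -/
lemma length_hom_eq_add (hE : Module.Injective R E) (N : Submodule R M) :
    Module.length R (M →ₗ[R] E) =
      Module.length R ((M ⧸ N) →ₗ[R] E) + Module.length R (N →ₗ[R] E) := by
  apply Module.length_eq_add_of_exact (LinearMap.lcomp R E N.mkQ) (LinearMap.lcomp R E N.subtype)
  · intro ψ ψ' h
    apply Submodule.linearMap_qext
    exact h
  · intro φ
    obtain ⟨ψ, hψ⟩ := Module.Injective.extension_property R E N M N.subtype N.injective_subtype φ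
    exact ⟨ψ, hψ⟩
  · intro φ
    constructor
    · intro h
      have hle : N ≤ LinearMap.ker φ := by
        intro x hx
        exact LinearMap.congr_fun h ⟨x, hx⟩
      exact ⟨N.liftQ φ hle, by ext x; rfl⟩
    · rintro ⟨ψ, rfl⟩
      ext x
      show ψ (N.mkQ x.1) = 0
      rw [Submodule.mkQ_apply, (Submodule.Quotient.mk_eq_zero N).mpr x.2, map_zero]

end HomExact

section Local

variable {R : Type u} [CommRing R] [IsLocalRing R] {E : Type u} [AddCommGroup E] [Module R E]
variable {f : IsLocalRing.ResidueField R →ₗ[R] E}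

/-- Every `R`-linear map `k → E(k)` has image in `k`. -/
lemma apply_one_mem_range_of_isInjectiveHull (hf : IsEssentialInj f)
    (φ : IsLocalRing.ResidueField R →ₗ[R] E) : φ 1 ∈ LinearMap.range f := by
  by_cases h0 : φ 1 = 0
  · rw [h0]; exact zero_mem _
  · obtain ⟨r, hr0, c, hc⟩ := ((isEssentialInj_iff f).mp hf).2 (φ 1) h0
    have hr : IsUnit r := by
      by_contra hr
      have hrm : r ∈ IsLocalRing.maximalIdeal R := (IsLocalRing.mem_maximalIdeal r).mpr hr
      apply hr0
      rw [← map_smul, maximalIdeal_smul_residueField r hrm, map_zero]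
    obtain ⟨u, rfl⟩ := hr
    refine ⟨(↑u⁻¹ : R) • c, ?_⟩
    rw [map_smul, hc, ← mul_smul, Units.inv_mul, one_smul]

/-- `Hom(k, E(k)) ≅ k`. -/
lemma length_hom_residueField (hf : IsEssentialInj f) :
    Module.length R (IsLocalRing.ResidueField R →ₗ[R] E) = 1 := by
  let Φ : IsLocalRing.ResidueField R →ₗ[R] (IsLocalRing.ResidueField R →ₗ[R] E) :=
    (LinearMap.llcomp R _ _ E f) ∘ₗ (LinearMap.mul R (IsLocalRing.ResidueField R))
  have hΦ : ∀ c x, Φ c x = f (c * x) := fun c x => rfl
  have hinj : Function.Injective Φ := by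
    rw [injective_iff_map_eq_zero]
    intro c hc
    have : f (c * 1) = 0 := by rw [← hΦ, hc]; rfl
    rw [mul_one] at this
    exact (map_eq_zero_iff _ hf.injective).mp this
  have hsurj : Function.Surjective Φ := by
    intro φ
    obtain ⟨c, hc⟩ := apply_one_mem_range_of_isInjectiveHull hf φ
    refine ⟨c, ?_⟩
    ext x
    obtain ⟨x', rfl⟩ := IsLocalRing.residue_surjective x
    rw [hΦ]
    have h1 : IsLocalRing.residue R x' = x' • (1 : IsLocalRing.ResidueField R) := by
      rw [Algebra.smul_def, mul_one]; rfl
    have h2 : c * IsLocalRing.residue R x' = x' • c := by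
      rw [Algebra.smul_def, mul_comm]; rfl
    rw [h2, map_smul, hc, h1, map_smul]
  rw [← (LinearEquiv.ofBijective Φ ⟨hinj, hsurj⟩).length_eq]
  have : IsSimpleModule R (R ⧸ IsLocalRing.maximalIdeal R) := by
    rw [isSimpleModule_iff_isCoatom]
    exact (Ideal.isMaximal_def.mp inferInstance)
  exact Module.length_eq_one R (R ⧸ IsLocalRing.maximalIdeal R)

/-- `Hom(S, E(k))` has length one for simple `S`. -/
lemma length_hom_simple (hf : IsEssentialInj f) (S : Type u) [AddCommGroup S] [Module R S]
    [IsSimpleModule R S] : Module.length R (S →ₗ[R] E) = 1 := by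
  obtain ⟨I, hI, ⟨e⟩⟩ := isSimpleModule_iff_quot_maximal.mp (inferInstance : IsSimpleModule R S)
  obtain rfl := IsLocalRing.eq_maximalIdeal hI
  rw [(LinearEquiv.congrLeft E R e).length_eq]
  exact length_hom_residueField hf

/-- Matlis duality preserves length. -/
theorem length_hom_eq_length (hf : IsInjectiveHull f) (M : Type u) [AddCommGroup M] [Module R M]
    (hM : IsFiniteLength R M) : Module.length R (M →ₗ[R] E) = Module.length R M := by
  induction hM with
  | of_subsingleton =>
    rw [Module.length_eq_zero, Module.length_eq_zero]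
  | @of_simple_quotient M _ _ N _ hN ih =>
    rw [length_hom_eq_add hf.isInjective N, ih, length_hom_simple hf.toIsEssentialInj,
      Module.length_eq_add_of_exact N.subtype N.mkQ N.injective_subtype N.mkQ_surjective
        (LinearMap.exact_subtype_mkQ N), Module.length_eq_one R (M ⧸ N), add_comm]

/-- `E(k)` is a cogenerator. -/
lemma exists_hom_apply_ne_zero (hf : IsInjectiveHull f) {M : Type u} [AddCommGroup M] [Module R M]
    (x : M) (hx : x ≠ 0) : ∃ φ : M →ₗ[R] E, φ x ≠ 0 := by
  let g : R →ₗ[R] M := LinearMap.toSpanSingleton R M x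
  let h : R →ₗ[R] E := f ∘ₗ (Algebra.linearMap R (IsLocalRing.ResidueField R))
  have hle : LinearMap.ker g ≤ LinearMap.ker h := by
    intro r hr
    have hrm : r ∈ IsLocalRing.maximalIdeal R := by
      rw [IsLocalRing.mem_maximalIdeal]
      intro hu
      obtain ⟨u, rfl⟩ := hu
      apply hx
      have : (u : R) • x = 0 := by simpa [g] using hr
      rw [← one_smul R x, ← Units.inv_mul u, mul_smul, this, smul_zero]
    rw [LinearMap.mem_ker, LinearMap.comp_apply, Algebra.linearMap_apply,
      IsLocalRing.ResidueField.algebraMap_eq, (IsLocalRing.residue_eq_zero_iff r).mpr hrm, map_zero]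
  let gbar : (R ⧸ LinearMap.ker g) →ₗ[R] M := (LinearMap.ker g).liftQ g le_rfl
  let hbar : (R ⧸ LinearMap.ker g) →ₗ[R] E := (LinearMap.ker g).liftQ h hle
  have hgbar : Function.Injective gbar := by
    rw [← LinearMap.ker_eq_bot]
    exact Submodule.ker_liftQ_eq_bot _ _ _ le_rfl
  have := hf.isInjective
  obtain ⟨φ, hφ⟩ := Module.Injective.extension_property R E _ _ gbar hgbar hbar
  refine ⟨φ, ?_⟩
  have h1 : φ x = hbar (Submodule.Quotient.mk 1) := by
    rw [← hφ, LinearMap.comp_apply]
    congr 1
    show x = g 1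
    simp [g]
  rw [h1]
  show f (algebraMap R (IsLocalRing.ResidueField R) 1) ≠ 0
  rw [map_one, Ne, map_eq_zero_iff _ hf.injective]
  exact one_ne_zero

/-- Matlis duality: the evaluation map is bijective for modules of finite length. -/
theorem bijective_applyₗ (hf : IsInjectiveHull f) (M : Type u) [AddCommGroup M] [Module R M]
    (hM : IsFiniteLength R M) :
    Function.Bijective (LinearMap.applyₗ : M →ₗ[R] (M →ₗ[R] E) →ₗ[R] E) := by
  have hinj : Function.Injective (LinearMap.applyₗ : M →ₗ[R] (M →ₗ[R] E) →ₗ[R] E) := by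
    rw [injective_iff_map_eq_zero]
    intro x hx
    by_contra hx0
    obtain ⟨φ, hφ⟩ := exists_hom_apply_ne_zero hf x hx0
    exact hφ (LinearMap.congr_fun hx φ)
  refine ⟨hinj, ?_⟩
  have hlen1 := length_hom_eq_length hf M hM
  have hM' : IsFiniteLength R (M →ₗ[R] E) := by
    rw [← Module.length_ne_top_iff, hlen1, Module.length_ne_top_iff]
    exact hM
  have hlen2 := length_hom_eq_length hf (M →ₗ[R] E) hM'
  set ev := (LinearMap.applyₗ : M →ₗ[R] (M →ₗ[R] E) →ₗ[R] E) with hev
  have hadd := Module.length_eq_add_of_exact ev (LinearMap.range ev).mkQ hinj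
    (Submodule.mkQ_surjective _) (LinearMap.exact_map_mkQ_range ev)
  rw [hlen2, hlen1] at hadd
  have hfin : Module.length R M ≠ ⊤ := Module.length_ne_top_iff.mpr hM
  have h0 : Module.length R (((M →ₗ[R] E) →ₗ[R] E) ⧸ LinearMap.range ev) = 0 := by
    have : Module.length R M + 0 = Module.length R M +
        Module.length R (((M →ₗ[R] E) →ₗ[R] E) ⧸ LinearMap.range ev) := by
      rw [add_zero]; exact hadd
    exact (ENat.add_right_injective_of_ne_top hfin this).symm
  rw [Module.length_eq_zero_iff, Submodule.Quotient.subsingleton_iff] at h0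
  exact LinearMap.range_eq_top.mp h0

end Local

end Groth.Agent.Lib.Helper2

namespace Groth.Agent.Lib.Helper2

lemma isFiniteLength_of_isArtinianRing (R : Type u) [CommRing R] [IsArtinianRing R] (M : Type v)
    [AddCommGroup M] [Module R M] [Module.Finite R M] : IsFiniteLength R M :=
  isFiniteLength_iff_isNoetherian_isArtinian.mpr ⟨inferInstance, inferInstance⟩

end Groth.Agent.Lib.Helper2

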