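import Mathlib
import Groth.Prelude.Def_CAlg

set_option linter.style.haveILetI false
set_option autoImplicit false
universe w v u
open CategoryTheory CategoryTheory.Limits Abelian

/-!
# Rees' change of rings for `Ext` vanishing: `Ext^i_{A/f}(N, A/f) = 0 ↔ Ext^{i+1}_A(N, A) = 0`

For `f` a nonzerodivisor of `A` and `N` an `A/(f)`-module, `i ≥ 1` (`P_of_one_le`), by dimension shifting.
-/

namespace Groth.Agent.Lib.Helper2.Rees

section generic

variable {C : Type u} [Category.{v} C] [Abelian C] [HasExt.{w} C]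

/-- Dimension shifting for vanishing, contravariant variable. -/
theorem ext_subsingleton_shift {S : ShortComplex C} (hS : S.ShortExact) (Y : C) (n : ℕ)
    (h0 : Subsingleton (Ext.{w} S.X₂ Y n)) (h1 : Subsingleton (Ext.{w} S.X₂ Y (n + 1))) :
    Subsingleton (Ext.{w} S.X₁ Y n) ↔ Subsingleton (Ext.{w} S.X₃ Y (n + 1)) := by
  constructor
  · intro h
    refine ⟨fun a b => ?_⟩
    have key : ∀ x₃ : Ext.{w} S.X₃ Y (n + 1), x₃ = 0 := by
      intro x₃
      obtain ⟨x₁, hx₁⟩ := Ext.contravariant_sequence_exact₃ hS Y x₃ (Subsingleton.elim _ _)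
        (add_comm 1 n)
      rw [← hx₁, Subsingleton.elim x₁ 0, Ext.comp_zero]
    rw [key a, key b]
  · intro h
    refine ⟨fun a b => ?_⟩
    have key : ∀ x₁ : Ext.{w} S.X₁ Y n, x₁ = 0 := by
      intro x₁
      obtain ⟨x₂, hx₂⟩ := Ext.contravariant_sequence_exact₁ hS Y x₁ (add_comm 1 n)
        (Subsingleton.elim _ _)
      rw [← hx₂, Subsingleton.elim x₂ 0, Ext.comp_zero]
    rw [key a, key b]

end generic

variable {A : Type u} [CommRing A] (f : A)

/-- restriction of scalars along `A → A/(f)`. -/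
noncomputable abbrev rho : ModuleCat.{u} (A ⧸ Ideal.span {f}) ⥤ ModuleCat.{u} A :=
  ModuleCat.restrictScalars (Ideal.Quotient.mk (Ideal.span {f}))

/-- the quotient map as an `A`-linear map `A → ρ(A/(f))`. -/
noncomputable def mkLin : A →ₗ[A] (rho f).obj (ModuleCat.of (A ⧸ Ideal.span {f}) (A ⧸ Ideal.span {f})) where
  toFun a := (Ideal.Quotient.mk (Ideal.span {f}) a : A ⧸ Ideal.span {f})
  map_add' a b := map_add _ a b
  map_smul' r a := by
    show Ideal.Quotient.mk (Ideal.span {f}) (r * a) = Ideal.Quotient.mk (Ideal.span {f}) r *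
      Ideal.Quotient.mk (Ideal.span {f}) a
    exact map_mul _ r a

/-- the short complex `0 → A → A → A/(f) → 0` of `A`-modules. -/
noncomputable def sesf : ShortComplex (ModuleCat.{u} A) :=
  ShortComplex.mk (f • 𝟙 (ModuleCat.of A A)) (ModuleCat.ofHom (mkLin f)) (by
    ext
    show Ideal.Quotient.mk (Ideal.span {f}) (f • (1 : A)) = 0
    rw [Ideal.Quotient.eq_zero_iff_mem, smul_eq_mul, mul_one]
    exact Ideal.mem_span_singleton_self f)

variable {f}

theorem sesf_shortExact (hreg : IsSMulRegular A f) : (sesf f).ShortExact := by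
  have hmono : Mono (sesf f).f := by
    rw [ModuleCat.mono_iff_injective]
    intro a b hab
    exact hreg hab
  have hepi : Epi (sesf f).g := by
    rw [ModuleCat.epi_iff_surjective]
    intro x
    obtain ⟨a, rfl⟩ := Ideal.Quotient.mk_surjective (I := Ideal.span {f}) x
    exact ⟨a, rfl⟩
  refine ShortComplex.ShortExact.mk' ?_ hmono hepi
  rw [ShortComplex.moduleCat_exact_iff]
  intro x hx
  have hx' : Ideal.Quotient.mk (Ideal.span {f}) (x : A) = 0 := hx
  rw [Ideal.Quotient.eq_zero_iff_mem, Ideal.mem_span_singleton'] at hx'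
  obtain ⟨b, hb⟩ := hx'
  refine ⟨b, ?_⟩
  show f • b = x
  rw [smul_eq_mul, mul_comm]
  exact hb

/-- `f` annihilates restricted modules. -/
theorem smul_rho_eq_zero (N : ModuleCat.{u} (A ⧸ Ideal.span {f})) (x : (rho f).obj N) :
    f • x = 0 := by
  show (Ideal.Quotient.mk (Ideal.span {f}) f) • (show N from x) = 0
  rw [Ideal.Quotient.eq_zero_iff_mem.mpr (Ideal.mem_span_singleton_self f), zero_smul]

theorem mem_annihilator_rho (N : ModuleCat.{u} (A ⧸ Ideal.span {f})) :
    f ∈ Module.annihilator A ((rho f).obj N) :=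
  Module.mem_annihilator.mpr (smul_rho_eq_zero N)

/-- no nonzero maps from a restricted module to `A`. -/
theorem hom_rho_self_eq_zero (hreg : IsSMulRegular A f) (N : ModuleCat.{u} (A ⧸ Ideal.span {f}))
    (φ : (rho f).obj N ⟶ ModuleCat.of A A) : φ = 0 := by
  ext x
  apply hreg
  show f • φ.hom x = f • (0 : A)
  rw [smul_zero, ← map_smul, smul_rho_eq_zero, map_zero]

theorem ext_zero_rho_self_eq_zero (hreg : IsSMulRegular A f) (N : ModuleCat.{u} (A ⧸ Ideal.span {f}))
    (x : Ext.{u} ((rho f).obj N) (ModuleCat.of A A) 0) : x = 0 := by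
  obtain ⟨φ, rfl⟩ := (Ext.mk₀_bijective _ _).2 x
  rw [hom_rho_self_eq_zero hreg N φ, Ext.mk₀_zero]

/-- `ρ` is full. -/
theorem exists_map_eq (N N' : ModuleCat.{u} (A ⧸ Ideal.span {f}))
    (ψ : (rho f).obj N ⟶ (rho f).obj N') : ∃ φ : N ⟶ N', (rho f).map φ = ψ := by
  refine ⟨ModuleCat.ofHom
    { toFun := fun n => ψ.hom n
      map_add' := fun a b => ψ.hom.map_add a b
      map_smul' := ?_ }, ?_⟩
  · intro r n
    obtain ⟨a, rfl⟩ := Ideal.Quotient.mk_surjective (I := Ideal.span {f}) r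
    exact ψ.hom.map_smul a n
  · ext n
    rfl

/-- The connecting map `Δ_N : Hom(N, A/(f)) → Ext¹_A(ρN, A)`. -/
noncomputable def Delta (hreg : IsSMulRegular A f) (N : ModuleCat.{u} (A ⧸ Ideal.span {f}))
    (φ : N ⟶ ModuleCat.of (A ⧸ Ideal.span {f}) (A ⧸ Ideal.span {f})) :
    Ext.{u} ((rho f).obj N) (ModuleCat.of A A) 1 :=
  (Ext.mk₀ ((rho f).map φ)).comp (sesf_shortExact hreg).extClass (zero_add 1)

theorem Delta_injective (hreg : IsSMulRegular A f) (N : ModuleCat.{u} (A ⧸ Ideal.span {f})) :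
    Function.Injective (Delta hreg N) := by
  intro φ φ' h
  have h0 : (Ext.mk₀ ((rho f).map (φ - φ'))).comp (sesf_shortExact hreg).extClass (zero_add 1) = 0 := by
    rw [sub_eq_add_neg, Functor.map_add, Functor.map_neg, Ext.mk₀_add, Ext.mk₀_neg, Ext.add_comp,
      Ext.neg_comp]
    exact add_neg_eq_zero.mpr h
  obtain ⟨x₂, hx₂⟩ := Ext.covariant_sequence_exact₃ _ (sesf_shortExact hreg) _ (zero_add 1) h0
  have hx₂0 : x₂ = 0 := ext_zero_rho_self_eq_zero hreg N x₂
  rw [hx₂0, Ext.zero_comp] at hx₂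
  have h1 : (rho f).map (φ - φ') = 0 :=
    (Ext.mk₀_bijective _ _).1 (hx₂.symm.trans (Ext.mk₀_zero _ _).symm)
  have h2 : φ - φ' = 0 := (rho f).map_injective (h1.trans ((rho f).map_zero _ _).symm)
  exact sub_eq_zero.mp h2

theorem Delta_surjective (hreg : IsSMulRegular A f) (N : ModuleCat.{u} (A ⧸ Ideal.span {f})) :
    Function.Surjective (Delta hreg N) := by
  intro x₁
  have h0 : x₁.comp (Ext.mk₀ (sesf f).f) (add_zero 1) = 0 := by
    have := Ext.postcomp_smul_id_eq_zero_of_mem_annihilator (M := ModuleCat.of A A)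
      (mem_annihilator_rho N) 1
    exact congr($this x₁)
  obtain ⟨x₃, hx₃⟩ := Ext.covariant_sequence_exact₁ _ (sesf_shortExact hreg) x₁ h0 (zero_add 1)
  obtain ⟨ψ, rfl⟩ := (Ext.mk₀_bijective _ _).2 x₃
  obtain ⟨φ, rfl⟩ := exists_map_eq N (ModuleCat.of (A ⧸ Ideal.span {f}) (A ⧸ Ideal.span {f})) ψ
  exact ⟨φ, hx₃⟩

theorem Delta_comp (hreg : IsSMulRegular A f) {K N : ModuleCat.{u} (A ⧸ Ideal.span {f})} (ι : K ⟶ N)
    (φ : N ⟶ ModuleCat.of (A ⧸ Ideal.span {f}) (A ⧸ Ideal.span {f})) :
    Delta hreg K (ι ≫ φ) = (Ext.mk₀ ((rho f).map ι)).comp (Delta hreg N φ) (zero_add 1) := by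
  unfold Delta
  rw [Functor.map_comp, ← Ext.mk₀_comp_mk₀, Ext.comp_assoc_of_second_deg_zero]
  rfl

variable (f)

/-- reduction mod `f` on finitely supported functions, as an `A`-linear map. -/
noncomputable def piLin (ι : Type u) :
    (ι →₀ A) →ₗ[A] (rho f).obj (ModuleCat.of (A ⧸ Ideal.span {f}) (ι →₀ (A ⧸ Ideal.span {f}))) where
  toFun g := (Finsupp.mapRange (Ideal.Quotient.mk (Ideal.span {f})) (map_zero _) g :
    ι →₀ (A ⧸ Ideal.span {f}))
  map_add' a b := by
    apply Finsupp.ext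
    intro i
    show Ideal.Quotient.mk (Ideal.span {f}) ((a + b) i) =
      Ideal.Quotient.mk (Ideal.span {f}) (a i) + Ideal.Quotient.mk (Ideal.span {f}) (b i)
    rw [Finsupp.add_apply, map_add]
  map_smul' r a := by
    apply Finsupp.ext
    intro i
    show Ideal.Quotient.mk (Ideal.span {f}) ((r • a) i) =
      Ideal.Quotient.mk (Ideal.span {f}) r * Ideal.Quotient.mk (Ideal.span {f}) (a i)
    rw [Finsupp.smul_apply, smul_eq_mul, map_mul]

theorem piLin_apply (ι : Type u) (g : ι →₀ A) (i : ι) :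
    (show ι →₀ (A ⧸ Ideal.span {f}) from piLin f ι g) i = Ideal.Quotient.mk (Ideal.span {f}) (g i) := rfl

/-- `0 → A^(ι) → A^(ι) → ρ((A/f)^(ι)) → 0`. -/
noncomputable def sesFree (ι : Type u) : ShortComplex (ModuleCat.{u} A) :=
  ShortComplex.mk (f • 𝟙 (ModuleCat.of A (ι →₀ A))) (ModuleCat.ofHom (piLin f ι)) (by
    ext i
    apply Finsupp.ext
    intro j
    show Ideal.Quotient.mk (Ideal.span {f}) ((f • (Finsupp.single i (1 : A) : ι →₀ A)) j) = 0
    rw [Finsupp.smul_apply, smul_eq_mul, Ideal.Quotient.eq_zero_iff_mem]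
    exact Ideal.mul_mem_right _ _ (Ideal.mem_span_singleton_self f))

variable {f}

open scoped Classical in
theorem sesFree_shortExact (hreg : IsSMulRegular A f) (ι : Type u) : (sesFree f ι).ShortExact := by
  have hmono : Mono (sesFree f ι).f := by
    rw [ModuleCat.mono_iff_injective]
    intro a b hab
    have hab' : f • (show ι →₀ A from a) = f • (show ι →₀ A from b) := hab
    apply Finsupp.ext
    intro i
    have h1 := congrArg (fun g : ι →₀ A => g i) hab'
    simp only [Finsupp.smul_apply] at h1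
    exact hreg h1
  have hepi : Epi (sesFree f ι).g := by
    rw [ModuleCat.epi_iff_surjective]
    intro x
    have hs := Ideal.Quotient.mk_surjective (I := Ideal.span {f})
    have h0 : Function.surjInv hs 0 ∈ Ideal.span {f} := by
      rw [← Ideal.Quotient.eq_zero_iff_mem, Function.surjInv_eq hs]
    -- choose representatives vanishing at 0
    let r : A ⧸ Ideal.span {f} → A := fun y => if y = 0 then 0 else Function.surjInv hs y
    have hr0 : r 0 = 0 := if_pos rfl
    have hr : ∀ y, Ideal.Quotient.mk (Ideal.span {f}) (r y) = y := by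
      intro y
      by_cases hy : y = 0
      · simp [r, hy]
      · simp only [r, if_neg hy]
        exact Function.surjInv_eq hs y
    refine ⟨Finsupp.mapRange r hr0 (show ι →₀ (A ⧸ Ideal.span {f}) from x), ?_⟩
    apply Finsupp.ext
    intro i
    show Ideal.Quotient.mk (Ideal.span {f}) ((Finsupp.mapRange r hr0
      (show ι →₀ (A ⧸ Ideal.span {f}) from x)) i) = _
    rw [Finsupp.mapRange_apply, hr]
  refine ShortComplex.ShortExact.mk' ?_ hmono hepi
  rw [ShortComplex.moduleCat_exact_iff]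
  intro x hx
  have hx' : ∀ i, (show ι →₀ A from x) i ∈ Ideal.span {f} := by
    intro i
    rw [← Ideal.Quotient.eq_zero_iff_mem]
    have := congrArg (fun g : ι →₀ (A ⧸ Ideal.span {f}) => g i) hx
    exact this
  -- divide by f
  let d : A → A := fun a => if h : ∃ b, b * f = a then Classical.choose h else 0
  have hd0 : d 0 = 0 := by
    have h : ∃ b, b * f = (0 : A) := ⟨0, zero_mul f⟩
    simp only [d, dif_pos h]
    have := Classical.choose_spec h
    apply hreg
    show f • _ = f • (0 : A)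
    rw [smul_zero, smul_eq_mul, mul_comm]
    exact this
  have hd : ∀ a ∈ Ideal.span {f}, f * d a = a := by
    intro a ha
    have h : ∃ b, b * f = a := Ideal.mem_span_singleton'.mp ha
    simp only [d, dif_pos h]
    rw [mul_comm]
    exact Classical.choose_spec h
  refine ⟨Finsupp.mapRange d hd0 (show ι →₀ A from x), ?_⟩
  show f • (Finsupp.mapRange d hd0 (show ι →₀ A from x)) = (show ι →₀ A from x)
  apply Finsupp.ext
  intro i
  rw [Finsupp.smul_apply, Finsupp.mapRange_apply, smul_eq_mul]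
  exact hd _ (hx' i)


theorem ext_rho_free_subsingleton (hreg : IsSMulRegular A f) (ι : Type u) (M : ModuleCat.{u} A) (j : ℕ) :
    Subsingleton (Ext.{u} ((rho f).obj (ModuleCat.of (A ⧸ Ideal.span {f}) (ι →₀ (A ⧸ Ideal.span {f})))) M
      (j + 2)) := by
  haveI : Projective (sesFree f ι).X₂ :=
    (IsProjective.iff_projective (R := A) (ι →₀ A)).mp inferInstance
  haveI : Projective (sesFree f ι).X₁ :=
    (IsProjective.iff_projective (R := A) (ι →₀ A)).mp inferInstance
  have key : ∀ x₃ : Ext.{u} (sesFree f ι).X₃ M (j + 2), x₃ = 0 := by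
    intro x₃
    obtain ⟨x₁, hx₁⟩ := Ext.contravariant_sequence_exact₃ (sesFree_shortExact hreg ι) M x₃
      (Ext.eq_zero_of_projective _) (add_comm 1 (j + 1))
    rw [← hx₁, Ext.eq_zero_of_projective x₁, Ext.comp_zero]
  exact ⟨fun a b => (key a).trans (key b).symm⟩

section cover

variable (N : Type u) [AddCommGroup N] [Module (A ⧸ Ideal.span {f}) N]

/-- the free cover `0 → K → (A/f)^(N) → N → 0`. -/
noncomputable abbrev cover : ShortComplex (ModuleCat.{u} (A ⧸ Ideal.span {f})) :=
  (Finsupp.linearCombination (A ⧸ Ideal.span {f}) (id : N → N)).shortComplexKer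

theorem cover_shortExact : (cover (f := f) N).ShortExact :=
  LinearMap.shortExact_shortComplexKer (Finsupp.linearCombination_id_surjective _ N)

instance : Projective (cover (f := f) N).X₂ :=
  (IsProjective.iff_projective (R := A ⧸ Ideal.span {f}) (N →₀ (A ⧸ Ideal.span {f}))).mp inferInstance

end cover

/-- the Rees vanishing statement in degree `i`. -/
def P (f : A) (i : ℕ) : Prop :=
  ∀ (N : Type u) [AddCommGroup N] [Module (A ⧸ Ideal.span {f}) N],
    Subsingleton (Ext.{u} (ModuleCat.of (A ⧸ Ideal.span {f}) N)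
      (ModuleCat.of (A ⧸ Ideal.span {f}) (A ⧸ Ideal.span {f})) i) ↔
    Subsingleton (Ext.{u} ((rho f).obj (ModuleCat.of (A ⧸ Ideal.span {f}) N)) (ModuleCat.of A A) (i + 1))

theorem P_one (hreg : IsSMulRegular A f) : P f 1 := by
  intro N _ _
  have hS := cover_shortExact (f := f) N
  have hρS : ((cover (f := f) N).map (rho f)).ShortExact := hS.map_of_exact (rho f)
  constructor
  · intro hE
    have key : ∀ y : Ext.{u} ((rho f).obj (ModuleCat.of (A ⧸ Ideal.span {f}) N)) (ModuleCat.of A A) 2,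
        y = 0 := by
      intro y
      have hF := ext_rho_free_subsingleton hreg N (ModuleCat.of A A) 0
      have hy0 : (Ext.mk₀ ((cover (f := f) N).map (rho f)).g).comp y (zero_add 2) = 0 :=
        @Subsingleton.elim _ hF _ _
      obtain ⟨z, hz⟩ := Ext.contravariant_sequence_exact₃ hρS (ModuleCat.of A A) y hy0
        (rfl : 1 + 1 = 2)
      obtain ⟨φ, rfl⟩ := Delta_surjective hreg (cover (f := f) N).X₁ z
      have hφ0 : hS.extClass.comp (Ext.mk₀ φ) (rfl : 1 + 0 = 1) = 0 := @Subsingleton.elim _ hE _ _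
      obtain ⟨x₂, hx₂⟩ := Ext.contravariant_sequence_exact₁ hS _ (Ext.mk₀ φ) (rfl : 1 + 0 = 1) hφ0
      obtain ⟨φ', rfl⟩ := (Ext.mk₀_bijective _ _).2 x₂
      rw [Ext.mk₀_comp_mk₀] at hx₂
      have hφ : φ = (cover (f := f) N).f ≫ φ' := ((Ext.mk₀_bijective _ _).1 hx₂).symm
      rw [← hz, hφ, Delta_comp]
      have h4 : hρS.extClass.comp (Ext.mk₀ ((rho f).map (cover (f := f) N).f)) (add_zero 1) = 0 :=
        hρS.extClass_comp
      have h5 := Ext.comp_assoc_of_second_deg_zero hρS.extClass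
        (Ext.mk₀ ((rho f).map (cover (f := f) N).f)) (Delta hreg (cover (f := f) N).X₂ φ')
        (rfl : 1 + 1 = 2)
      rw [h4, Ext.zero_comp] at h5
      exact h5.symm
    exact ⟨fun a b => (key a).trans (key b).symm⟩
  · intro hA
    have key : ∀ x : Ext.{u} (ModuleCat.of (A ⧸ Ideal.span {f}) N)
        (ModuleCat.of (A ⧸ Ideal.span {f}) (A ⧸ Ideal.span {f})) 1, x = 0 := by
      intro x
      obtain ⟨x₁, hx₁⟩ := Ext.contravariant_sequence_exact₃ hS _ x
        (Ext.eq_zero_of_projective _) (rfl : 1 + 0 = 1)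
      obtain ⟨φ, rfl⟩ := (Ext.mk₀_bijective _ _).2 x₁
      have hD0 : hρS.extClass.comp (Delta hreg (cover (f := f) N).X₁ φ) (rfl : 1 + 1 = 2) = 0 :=
        @Subsingleton.elim _ hA _ _
      obtain ⟨w, hw⟩ := Ext.contravariant_sequence_exact₁ hρS (ModuleCat.of A A)
        (Delta hreg (cover (f := f) N).X₁ φ) (rfl : 1 + 1 = 2) hD0
      obtain ⟨φ', rfl⟩ := Delta_surjective hreg (cover (f := f) N).X₂ w
      have h5 : Delta hreg (cover (f := f) N).X₁ ((cover (f := f) N).f ≫ φ') =
          Delta hreg (cover (f := f) N).X₁ φ := (Delta_comp hreg _ _).trans hw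
      have hφ : (cover (f := f) N).f ≫ φ' = φ := Delta_injective hreg _ h5
      rw [← hx₁, ← hφ, ← Ext.mk₀_comp_mk₀]
      have h4 : hS.extClass.comp (Ext.mk₀ (cover (f := f) N).f) (add_zero 1) = 0 := hS.extClass_comp
      have h6 := Ext.comp_assoc_of_second_deg_zero hS.extClass
        (Ext.mk₀ (cover (f := f) N).f) (Ext.mk₀ φ') (rfl : 1 + 0 = 1)
      rw [h4, Ext.zero_comp] at h6
      exact h6.symm
    exact ⟨fun a b => (key a).trans (key b).symm⟩

theorem P_succ (hreg : IsSMulRegular A f) (i : ℕ) (hi : 1 ≤ i) (h : P f i) : P f (i + 1) := by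
  intro N _ _
  have hS := cover_shortExact (f := f) N
  have hρS : ((cover (f := f) N).map (rho f)).ShortExact := hS.map_of_exact (rho f)
  obtain ⟨k, rfl⟩ : ∃ k, i = k + 1 := ⟨i - 1, by omega⟩
  have e1 := ext_subsingleton_shift hS (ModuleCat.of (A ⧸ Ideal.span {f}) (A ⧸ Ideal.span {f})) (k + 1)
    ⟨fun a b => (Ext.eq_zero_of_projective a).trans (Ext.eq_zero_of_projective b).symm⟩
    ⟨fun a b => (Ext.eq_zero_of_projective a).trans (Ext.eq_zero_of_projective b).symm⟩
  have e2 := ext_subsingleton_shift hρS (ModuleCat.of A A) (k + 1 + 1)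
    (ext_rho_free_subsingleton hreg N (ModuleCat.of A A) k)
    (ext_rho_free_subsingleton hreg N (ModuleCat.of A A) (k + 1))
  have e3 := h (LinearMap.ker (Finsupp.linearCombination (A ⧸ Ideal.span {f}) (id : N → N)))
  exact e1.symm.trans (e3.trans e2)

theorem P_of_one_le (hreg : IsSMulRegular A f) (i : ℕ) (hi : 1 ≤ i) : P f i := by
  induction i, hi using Nat.le_induction with
  | base => exact P_one hreg
  | succ n hn ih => exact P_succ hreg n hn ih

end Groth.Agent.Lib.Helper2.Rees
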