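import Mathlib
import Groth.Prelude.Def_CAlg
import Groth.Agent.Lib.Helper2.ReesExt
import Groth.Agent.S0340

/-!
# A Noetherian local ring is Gorenstein iff its quotient by a regular element is (S0343)

Uses the Rees vanishing transfer (`ReesExt.P_of_one_le`) and helper60's Bass criterion (S0340).
-/

set_option linter.style.haveILetI false
set_option autoImplicit false
universe w v u
open CategoryTheory CategoryTheory.Limits Abelian

namespace Groth.Agent.Lib.Helper2.Rees

theorem ext_subsingleton_of_iso_left' {C : Type u} [Category.{v} C] [Abelian C] [HasExt.{w} C]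
    {X X' : C} (e : X ≅ X') (Y : C) (n : ℕ) (h : Subsingleton (Ext.{w} X Y n)) :
    Subsingleton (Ext.{w} X' Y n) := by
  have key : ∀ x' : Ext.{w} X' Y n, x' = 0 := by
    intro x'
    have h1 : (Ext.mk₀ e.inv).comp ((Ext.mk₀ e.hom).comp x' (zero_add n)) (zero_add n) = x' := by
      rw [Ext.mk₀_comp_mk₀_assoc, e.inv_hom_id, Ext.mk₀_id_comp]
    rw [← h1, Subsingleton.elim ((Ext.mk₀ e.hom).comp x' (zero_add n)) 0, Ext.comp_zero]
  exact ⟨fun a b => (key a).trans (key b).symm⟩

variable (A : Type u) [CommRing A] [IsLocalRing A] (f : A)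

/-- The residue field of `A/(f)`, restricted to `A`, is the residue field of `A`. -/
noncomputable def residueIso [IsLocalRing (A ⧸ Ideal.span {f})] :
    (rho f).obj (ModuleCat.of (A ⧸ Ideal.span {f}) (IsLocalRing.ResidueField (A ⧸ Ideal.span {f}))) ≅
      ModuleCat.of A (IsLocalRing.ResidueField A) := by
  let φ : A →ₗ[A] (rho f).obj (ModuleCat.of (A ⧸ Ideal.span {f})
      (IsLocalRing.ResidueField (A ⧸ Ideal.span {f}))) :=
    { toFun := fun a => (IsLocalRing.residue (A ⧸ Ideal.span {f})
        (Ideal.Quotient.mk (Ideal.span {f}) a) : IsLocalRing.ResidueField (A ⧸ Ideal.span {f}))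
      map_add' := fun a b => by rw [map_add, map_add]; rfl
      map_smul' := fun r a => by
        change IsLocalRing.residue (A ⧸ Ideal.span {f}) (Ideal.Quotient.mk (Ideal.span {f}) (r * a)) =
          (Ideal.Quotient.mk (Ideal.span {f}) r : A ⧸ Ideal.span {f}) •
            (IsLocalRing.residue (A ⧸ Ideal.span {f}) (Ideal.Quotient.mk (Ideal.span {f}) a) :
              IsLocalRing.ResidueField (A ⧸ Ideal.span {f}))
        rw [map_mul, map_mul, Algebra.smul_def]
        rfl }
  have hsurj : Function.Surjective φ := by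
    intro x
    obtain ⟨y, rfl⟩ := IsLocalRing.residue_surjective (R := A ⧸ Ideal.span {f}) x
    obtain ⟨a, rfl⟩ := Ideal.Quotient.mk_surjective (I := Ideal.span {f}) y
    exact ⟨a, rfl⟩
  have hker : LinearMap.ker φ = IsLocalRing.maximalIdeal A := by
    ext a
    rw [LinearMap.mem_ker]
    show IsLocalRing.residue _ (Ideal.Quotient.mk _ a) = 0 ↔ a ∈ IsLocalRing.maximalIdeal A
    rw [IsLocalRing.residue_eq_zero_iff, IsLocalRing.mem_maximalIdeal, IsLocalRing.mem_maximalIdeal,
      mem_nonunits_iff, mem_nonunits_iff, not_iff_not]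
    haveI : IsLocalHom (Ideal.Quotient.mk (Ideal.span {f})) :=
      IsLocalHom.of_surjective _ Ideal.Quotient.mk_surjective
    constructor
    · intro hu
      exact (isUnit_of_map_unit (Ideal.Quotient.mk (Ideal.span {f})) a hu)
    · intro hu
      exact hu.map _
  exact ((Submodule.quotEquivOfEq _ _ hker.symm).trans (φ.quotKerEquivOfSurjective hsurj)).toModuleIso.symm

/-- `S0343`. -/
theorem isGorensteinLocalRing_iff_quotient [IsNoetherianRing A] (hf : f ∈ IsLocalRing.maximalIdeal A)
    (hreg : IsSMulRegular A f) :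
    LocCoh.IsGorensteinLocalRing A ↔ LocCoh.IsGorensteinLocalRing (A ⧸ Ideal.span {f}) := by
  have hne : Ideal.span {f} ≠ ⊤ := by
    intro h
    have h1 : Ideal.span {f} ≤ IsLocalRing.maximalIdeal A := (Ideal.span_singleton_le_iff_mem _).mpr hf
    rw [h] at h1
    exact (IsLocalRing.maximalIdeal.isMaximal A).ne_top (top_le_iff.mp h1)
  haveI : Nontrivial (A ⧸ Ideal.span {f}) := Ideal.Quotient.nontrivial_iff.mpr hne
  haveI : IsLocalRing (A ⧸ Ideal.span {f}) :=
    IsLocalRing.of_surjective' (Ideal.Quotient.mk (Ideal.span {f})) Ideal.Quotient.mk_surjective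
  have hbridge : ∀ i : ℕ, 1 ≤ i →
      (Subsingleton (Ext.{u} (ModuleCat.of (A ⧸ Ideal.span {f})
          (IsLocalRing.ResidueField (A ⧸ Ideal.span {f})))
        (ModuleCat.of (A ⧸ Ideal.span {f}) (A ⧸ Ideal.span {f})) i) ↔
       Subsingleton (Ext.{u} (ModuleCat.of A (IsLocalRing.ResidueField A)) (ModuleCat.of A A) (i + 1))) := by
    intro i hi
    refine (P_of_one_le hreg i hi (IsLocalRing.ResidueField (A ⧸ Ideal.span {f}))).trans ?_
    exact ⟨fun h => ext_subsingleton_of_iso_left' (residueIso A f) _ _ h,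
      fun h => ext_subsingleton_of_iso_left' (residueIso A f).symm _ _ h⟩
  rw [Groth.Agent.S0340.result A, Groth.Agent.S0340.result (A ⧸ Ideal.span {f})]
  constructor
  · rintro ⟨N, hN⟩
    refine ⟨N + 1, fun i hi => ?_⟩
    exact (hbridge i (by omega)).mpr (hN (i + 1) (by omega))
  · rintro ⟨N, hN⟩
    refine ⟨N + 2, fun i hi => ?_⟩
    obtain ⟨j, rfl⟩ : ∃ j, i = j + 1 := ⟨i - 1, by omega⟩
    exact (hbridge j (by omega)).mp (hN j (by omega))

end Groth.Agent.Lib.Helper2.Rees
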