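import Groth.Prelude.Def_Wider
import Mathlib.Algebra.Category.ModuleCat.EnoughInjectives
import Mathlib.Algebra.Category.ModuleCat.Injective
import Mathlib.Order.Zorn

/-!
# Injective hulls (helper2)
-/

set_option autoImplicit false
universe u v

namespace Groth.Agent.Lib.Helper2

open InjHull

section Ess

variable {R : Type u} [CommRing R] {I : Type v} [AddCommGroup I] [Module R I]

/-- `M` is essential in `E` (both submodules of `I`), elementwise form. -/
def EssIn (M E : Submodule R I) : Prop :=
  ∀ x ∈ E, x ≠ 0 → ∃ r : R, r • x ≠ 0 ∧ r • x ∈ M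

lemma EssIn.refl (M : Submodule R I) : EssIn M M := fun x hx hx0 => ⟨1, by simpa using hx0, by simpa using hx⟩

lemma EssIn.trans {M E F : Submodule R I} (h1 : EssIn M E) (h2 : EssIn E F) : EssIn M F := by
  intro x hx hx0
  obtain ⟨r, hr0, hr⟩ := h2 x hx hx0
  obtain ⟨s, hs0, hs⟩ := h1 _ hr hr0
  exact ⟨s * r, by rwa [mul_smul], by rwa [mul_smul]⟩

lemma EssIn.inf_ne_bot {M E : Submodule R I} (h : EssIn M E) (P : Submodule R I) (hPE : P ≤ E)
    (hP : P ≠ ⊥) : P ⊓ M ≠ ⊥ := by
  obtain ⟨x, hx, hx0⟩ := (Submodule.ne_bot_iff P).mp hP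
  obtain ⟨r, hr0, hr⟩ := h x (hPE hx) hx0
  exact (Submodule.ne_bot_iff _).mpr ⟨r • x, ⟨P.smul_mem r hx, hr⟩, hr0⟩

lemma essIn_of_forall_inf_ne_bot {M E : Submodule R I}
    (h : ∀ P : Submodule R I, P ≤ E → P ≠ ⊥ → P ⊓ M ≠ ⊥) : EssIn M E := by
  intro x hx hx0
  have h1 : (R ∙ x) ≤ E := (Submodule.span_singleton_le_iff_mem x E).mpr hx
  have h2 : (R ∙ x) ≠ ⊥ := by simpa using hx0
  obtain ⟨y, ⟨hy1, hy2⟩, hy0⟩ := (Submodule.ne_bot_iff _).mp (h _ h1 h2)
  obtain ⟨r, rfl⟩ := Submodule.mem_span_singleton.mp hy1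
  exact ⟨r, hy0, hy2⟩

end Ess

section Hull

variable {R : Type u} [CommRing R]
variable {M E : Type v} [AddCommGroup M] [Module R M] [AddCommGroup E] [Module R E]

lemma isEssentialInj_iff (f : M →ₗ[R] E) :
    IsEssentialInj f ↔ Function.Injective f ∧
      ∀ x : E, x ≠ 0 → ∃ r : R, r • x ≠ 0 ∧ r • x ∈ LinearMap.range f := by
  constructor
  · intro h
    refine ⟨h.injective, fun x hx0 => ?_⟩
    have : EssIn (LinearMap.range f) ⊤ :=
      essIn_of_forall_inf_ne_bot fun P _ hP => h.essential P hP
    exact this x trivial hx0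
  · rintro ⟨h1, h2⟩
    refine ⟨h1, fun N hN => ?_⟩
    have : EssIn (LinearMap.range f) ⊤ := fun x _ hx0 => h2 x hx0
    exact this.inf_ne_bot N le_top hN

/-- If `f` is an essential injection and `α ∘ f` is injective then `α` is injective. -/
lemma IsEssentialInj.injective_of_comp {f : M →ₗ[R] E} (hf : IsEssentialInj f)
    {X : Type*} [AddCommGroup X] [Module R X] (α : E →ₗ[R] X)
    (h : Function.Injective (α ∘ₗ f)) : Function.Injective α := by
  rw [← LinearMap.ker_eq_bot]
  by_contra hker
  have := hf.essential _ hker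
  obtain ⟨y, ⟨hy1, hy2⟩, hy0⟩ := (Submodule.ne_bot_iff _).mp this
  obtain ⟨m, rfl⟩ := hy2
  have : m = 0 := h (by simpa using hy1)
  exact hy0 (by simp [this])

end Hull

section Summand

variable {R : Type u} [CommRing R] {I : Type u} [AddCommGroup I] [Module R I]

/-- A direct summand of an injective module is injective. -/
lemma injective_of_isCompl (hI : Module.Injective R I) {E C : Submodule R I} (h : IsCompl E C) :
    Module.Injective R E := by
  refine ⟨fun X Y _ _ _ _ f hf g => ?_⟩
  obtain ⟨k, hk⟩ := Module.Injective.extension_property R I X Y f hf (E.subtype ∘ₗ g)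
  refine ⟨(Submodule.projectionOnto E C h) ∘ₗ k, fun x => ?_⟩
  have : k (f x) = (g x : I) := by simpa using LinearMap.congr_fun hk x
  rw [LinearMap.comp_apply, this, Submodule.projectionOnto_apply_left]

/-- A retract of an injective module is injective. -/
lemma injective_of_retract (hI : Module.Injective R I) {E : Type u} [AddCommGroup E] [Module R E]
    (i : E →ₗ[R] I) (r : I →ₗ[R] E) (h : r ∘ₗ i = LinearMap.id) : Module.Injective R E := by
  refine ⟨fun X Y _ _ _ _ f hf g => ?_⟩
  obtain ⟨k, hk⟩ := Module.Injective.extension_property R I X Y f hf (i ∘ₗ g)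
  refine ⟨r ∘ₗ k, fun x => ?_⟩
  have : k (f x) = i (g x) := by simpa using LinearMap.congr_fun hk x
  simpa [this] using LinearMap.congr_fun h (g x)

/-- An injective submodule of any module has a complement. -/
lemma exists_isCompl_of_injective {X : Type u} [AddCommGroup X] [Module R X] (E : Submodule R X)
    (hE : Module.Injective R E) : ∃ C : Submodule R X, IsCompl E C := by
  obtain ⟨r, hr⟩ := Module.Injective.extension_property R E E X E.subtype E.injective_subtype
    LinearMap.id
  exact ⟨LinearMap.ker r, LinearMap.isCompl_of_proj (fun x => by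
    simpa using LinearMap.congr_fun hr x)⟩

/-- Inside an injective module `I`, every submodule `M` has a maximal essential extension `E`
which is a direct summand of `I`. -/
theorem exists_essIn_isCompl (hI : Module.Injective R I) (M : Submodule R I) :
    ∃ E C : Submodule R I, M ≤ E ∧ EssIn M E ∧ IsCompl E C := by
  -- Step 1: a maximal essential extension
  obtain ⟨E, hME, hEmax⟩ := zorn_le_nonempty₀ {E : Submodule R I | M ≤ E ∧ EssIn M E}
    (by
      intro c hc hchain y hy
      refine ⟨sSup c, ⟨le_trans (hc hy).1 (le_sSup hy), ?_⟩, fun z hz => le_sSup hz⟩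
      intro x hx hx0
      have hdir : DirectedOn (· ≤ ·) c := hchain.directedOn
      obtain ⟨E', hE'c, hxE'⟩ := (Submodule.mem_sSup_of_directed ⟨y, hy⟩ hdir).mp hx
      exact (hc hE'c).2 x hxE' hx0)
    M ⟨le_rfl, EssIn.refl M⟩
  obtain ⟨⟨hME', hess⟩, hmax⟩ := hEmax
  -- Step 2: a maximal submodule disjoint from E
  obtain ⟨C, -, hCmax⟩ := zorn_le_nonempty₀ {C : Submodule R I | Disjoint E C}
    (by
      intro c hc hchain y hy
      refine ⟨sSup c, ?_, fun z hz => le_sSup hz⟩
      show Disjoint E (sSup c)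
      rw [Submodule.disjoint_def]
      intro x hxE hx
      have hdir : DirectedOn (· ≤ ·) c := hchain.directedOn
      obtain ⟨C', hC'c, hxC'⟩ := (Submodule.mem_sSup_of_directed ⟨y, hy⟩ hdir).mp hx
      exact (Submodule.disjoint_def.mp (hc hC'c)) x hxE hxC')
    ⊥ (by simp)
  obtain ⟨hEC, hCmax'⟩ := hCmax
  refine ⟨E, C, hME', hess, hEC, ?_⟩
  -- Step 3: E + C = I
  -- π restricted to E is essential in I / C
  have hπess : ∀ y : I ⧸ C, y ≠ 0 → ∃ (r : R) (e : I), e ∈ E ∧ r • y = C.mkQ e ∧ r • y ≠ 0 := by
    intro y hy0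
    obtain ⟨x, rfl⟩ := C.mkQ_surjective y
    have hxC : x ∉ C := by
      intro hx
      exact hy0 (by simpa using hx)
    have hlt : ¬ Disjoint E (C ⊔ (R ∙ x)) := by
      intro hd
      have := hCmax' hd le_sup_left
      exact hxC (this (Submodule.mem_sup_right (Submodule.mem_span_singleton_self x)))
    rw [Submodule.disjoint_def] at hlt
    push Not at hlt
    obtain ⟨e, heE, heCx, he0⟩ := hlt
    obtain ⟨c, hc, z, hz, rfl⟩ := Submodule.mem_sup.mp heCx
    obtain ⟨r, rfl⟩ := Submodule.mem_span_singleton.mp hz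
    refine ⟨r, c + r • x, heE, ?_, ?_⟩
    · simp only [Submodule.mkQ_apply, Submodule.Quotient.mk_add, Submodule.Quotient.mk_smul]
      rw [(Submodule.Quotient.mk_eq_zero C).mpr hc, zero_add]
    · intro h0
      have : r • x ∈ C := by
        rw [← Submodule.Quotient.mk_eq_zero, Submodule.Quotient.mk_smul]
        simpa using h0
      exact he0 (Submodule.disjoint_def.mp hEC _ heE (C.add_mem hc this))
  have hπinj : Function.Injective (C.mkQ ∘ₗ E.subtype) := by
    rw [← LinearMap.ker_eq_bot, LinearMap.ker_comp, Submodule.ker_mkQ]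
    rw [eq_bot_iff]
    intro x hx
    have := Submodule.disjoint_def.mp hEC x.1 x.2 (by simpa using hx)
    simpa using this
  obtain ⟨φ, hφ⟩ := Module.Injective.extension_property R I E (I ⧸ C) (C.mkQ ∘ₗ E.subtype) hπinj
    E.subtype
  have hφ' : ∀ e ∈ E, φ (C.mkQ e) = e := fun e he => by
    simpa using LinearMap.congr_fun hφ ⟨e, he⟩
  have hφinj : Function.Injective φ := by
    rw [injective_iff_map_eq_zero]
    intro y hy
    by_contra hy0
    obtain ⟨r, e, heE, hre, hr0⟩ := hπess y hy0
    have : φ (r • y) = e := by rw [hre, hφ' e heE]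
    rw [map_smul, hy, smul_zero] at this
    rw [← this] at hre
    exact hr0 (by simpa using hre)
  have hrange : LinearMap.range φ ≤ E := by
    apply hmax
    · refine ⟨fun m hm => ⟨C.mkQ m, hφ' m (hME' hm)⟩, ?_⟩
      rintro _ ⟨y, rfl⟩ hz0
      have hy0 : y ≠ 0 := fun h => hz0 (by simp [h])
      obtain ⟨r, e, heE, hre, hr0⟩ := hπess y hy0
      have h1 : r • φ y = e := by rw [← map_smul, hre, hφ' e heE]
      have he0 : e ≠ 0 := by
        intro h
        rw [h] at hre
        exact hr0 (by simpa using hre)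
      obtain ⟨s, hs0, hs⟩ := hess e heE he0
      exact ⟨s * r, by rwa [mul_smul, h1], by rwa [mul_smul, h1]⟩
    · exact fun e he => ⟨C.mkQ e, hφ' e he⟩
  rw [codisjoint_iff, eq_top_iff]
  intro x _
  have hx : φ (C.mkQ x) ∈ E := hrange ⟨_, rfl⟩
  have : C.mkQ x = C.mkQ (φ (C.mkQ x)) := hφinj (by rw [hφ' _ hx])
  have hxC : x - φ (C.mkQ x) ∈ C := by
    rw [← Submodule.Quotient.mk_eq_zero, Submodule.Quotient.mk_sub]
    exact sub_eq_zero.mpr this
  have : x = φ (C.mkQ x) + (x - φ (C.mkQ x)) := by abel
  rw [this]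
  exact Submodule.add_mem_sup hx hxC

end Summand

end Groth.Agent.Lib.Helper2

namespace Groth.Agent.Lib.Helper2
open InjHull CategoryTheory

/-- Every module embeds in an injective module (same universe). -/
lemma exists_injective_embedding (R : Type u) [CommRing R] (M : Type u) [AddCommGroup M]
    [Module R M] : ∃ (I : Type u) (_ : AddCommGroup I) (_ : Module R I) (i : M →ₗ[R] I),
      Module.Injective R I ∧ Function.Injective i := by
  obtain ⟨⟨J, hJ, f, hf⟩⟩ := (inferInstance : EnoughInjectives (ModuleCat.{u} R)).presentation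
    (ModuleCat.of R M)
  refine ⟨J, inferInstance, inferInstance, f.hom, ?_, ?_⟩
  · exact Module.injective_module_of_injective_object R J
  · exact (ModuleCat.mono_iff_injective f).mp hf

/-- The injective hull of a submodule of an injective module, as an `IsInjectiveHull`. -/
lemma isInjectiveHull_of_essIn {R : Type u} [CommRing R] {I : Type u} [AddCommGroup I] [Module R I]
    (hI : Module.Injective R I) {M : Type u} [AddCommGroup M] [Module R M] (i : M →ₗ[R] I)
    (hi : Function.Injective i) {E C : Submodule R I} (hME : LinearMap.range i ≤ E)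
    (hess : EssIn (LinearMap.range i) E) (hEC : IsCompl E C) :
    IsInjectiveHull (i.codRestrict E (fun m => hME ⟨m, rfl⟩)) := by
  refine ⟨(isEssentialInj_iff _).mpr ⟨?_, ?_⟩, injective_of_isCompl hI hEC⟩
  · intro a b hab
    apply hi
    simpa using congrArg Subtype.val hab
  · intro x hx0
    obtain ⟨r, hr0, m, hm⟩ := hess x.1 x.2 (by simpa using hx0)
    refine ⟨r, ?_, m, ?_⟩
    · intro h
      exact hr0 (by simpa using congrArg Subtype.val h)
    · ext
      simpa using hm

end Groth.Agent.Lib.Helper2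

namespace Groth.Agent.Lib.Helper2
open InjHull

/-- If `f : M → E` is an injective hull and `i : M → I` an embedding into an injective module,
then `E` embeds into `I` compatibly, with image a direct summand. -/
lemma IsInjectiveHull.exists_embedding {R : Type u} [CommRing R] {M E I : Type u}
    [AddCommGroup M] [Module R M] [AddCommGroup E] [Module R E] [AddCommGroup I] [Module R I]
    {f : M →ₗ[R] E} (hf : IsInjectiveHull f) (i : M →ₗ[R] I) (hi : Function.Injective i)
    (hI : Module.Injective R I) :
    ∃ α : E →ₗ[R] I, Function.Injective α ∧ α ∘ₗ f = i ∧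
      ∃ I' : Submodule R I, IsCompl (LinearMap.range α) I' := by
  obtain ⟨α, hα⟩ := Module.Injective.extension_property R I M E f hf.injective i
  have hαinj : Function.Injective α := IsEssentialInj.injective_of_comp hf.toIsEssentialInj α (by rw [hα]; exact hi)
  refine ⟨α, hαinj, hα, ?_⟩
  have hE := hf.isInjective
  obtain ⟨r, hr⟩ := Module.Injective.extension_property R E E I α hαinj LinearMap.id
  refine ⟨LinearMap.ker r, ?_⟩
  have h1 : ∀ x, r (α x) = x := fun x => by simpa using LinearMap.congr_fun hr x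
  constructor
  · rw [Submodule.disjoint_def]
    rintro _ ⟨x, rfl⟩ hx
    rw [LinearMap.mem_ker, h1] at hx
    simp [hx]
  · rw [codisjoint_iff, eq_top_iff]
    intro x _
    have : x = α (r x) + (x - α (r x)) := by abel
    rw [this]
    refine Submodule.add_mem_sup ⟨_, rfl⟩ ?_
    rw [LinearMap.mem_ker, map_sub, h1, sub_self]

/-- Uniqueness of injective hulls. -/
lemma IsInjectiveHull.exists_equiv {R : Type u} [CommRing R] {M E E' : Type u}
    [AddCommGroup M] [Module R M] [AddCommGroup E] [Module R E] [AddCommGroup E'] [Module R E']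
    {f : M →ₗ[R] E} (hf : IsInjectiveHull f) {g : M →ₗ[R] E'} (hg : IsInjectiveHull g) :
    ∃ e : E ≃ₗ[R] E', e.toLinearMap ∘ₗ f = g := by
  obtain ⟨α, hαinj, hα, C, hC⟩ := IsInjectiveHull.exists_embedding hf g hg.injective hg.isInjective
  have hsurj : Function.Surjective α := by
    rw [← LinearMap.range_eq_top]
    have hCbot : C = ⊥ := by
      by_contra hne
      have := hg.essential C hne
      apply this
      rw [eq_bot_iff]
      rintro x ⟨hx1, m, rfl⟩
      have : g m ∈ LinearMap.range α := ⟨f m, by simpa using LinearMap.congr_fun hα m⟩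
      exact (Submodule.disjoint_def.mp hC.disjoint) _ this hx1
    rw [hCbot] at hC
    simpa using hC.sup_eq_top
  exact ⟨LinearEquiv.ofBijective α ⟨hαinj, hsurj⟩, by ext m; simpa using LinearMap.congr_fun hα m⟩

end Groth.Agent.Lib.Helper2

namespace Groth.Agent.Lib.Helper2
open InjHull

/-- In an indecomposable injective module every nonzero submodule is essential. -/
lemma essIn_top_of_isIndecomposable {R : Type u} [CommRing R] {E : Type u} [AddCommGroup E]
    [Module R E] (hE : IsIndecomposable R E) (hinj : Module.Injective R E) (N : Submodule R E)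
    (hN : N ≠ ⊥) : EssIn N ⊤ := by
  obtain ⟨E', C, hNE', hess, hC⟩ := exists_essIn_isCompl hinj N
  rcases hE.2 E' C hC with h | h
  · exact absurd (le_bot_iff.mp (h ▸ hNE')) hN
  · rw [h] at hC
    have : E' = ⊤ := by simpa using hC.sup_eq_top
    rwa [this] at hess

/-- In an indecomposable injective module any two nonzero elements have a common nonzero
multiple. -/
lemma exists_smul_eq_smul_ne_zero {R : Type u} [CommRing R] {E : Type u} [AddCommGroup E]
    [Module R E] (hE : IsIndecomposable R E) (hinj : Module.Injective R E) {x y : E}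
    (hx : x ≠ 0) (hy : y ≠ 0) : ∃ r s : R, r • x = s • y ∧ r • x ≠ 0 := by
  have h := essIn_top_of_isIndecomposable hE hinj (R ∙ y) (by simpa using hy) x trivial hx
  obtain ⟨r, hr0, hr⟩ := h
  obtain ⟨s, hs⟩ := Submodule.mem_span_singleton.mp hr
  exact ⟨r, s, hs.symm, hr0⟩

/-- The set of zero-divisors on an indecomposable injective module, as a prime ideal. -/
lemma exists_prime_zeroDivisors {R : Type u} [CommRing R] {E : Type u} [AddCommGroup E]
    [Module R E] (hE : IsIndecomposable R E) (hinj : Module.Injective R E) :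
    ∃ p : Ideal R, p.IsPrime ∧ (p : Set R) = {r : R | ∃ x : E, x ≠ 0 ∧ r • x = 0} := by
  have hnt := hE.1
  let p : Ideal R :=
    { carrier := {r : R | ∃ x : E, x ≠ 0 ∧ r • x = 0}
      add_mem' := by
        rintro a b ⟨x, hx, hax⟩ ⟨y, hy, hby⟩
        obtain ⟨r, s, hrs, h0⟩ := exists_smul_eq_smul_ne_zero hE hinj hx hy
        refine ⟨r • x, h0, ?_⟩
        rw [add_smul, smul_comm a r x, hax, smul_zero, zero_add, hrs, smul_comm b s y, hby,
          smul_zero]
      zero_mem' := by
        obtain ⟨x, hx⟩ := exists_ne (0 : E)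
        exact ⟨x, hx, zero_smul R x⟩
      smul_mem' := by
        rintro c a ⟨x, hx, hax⟩
        exact ⟨x, hx, by rw [smul_eq_mul, mul_smul, hax, smul_zero]⟩ }
  refine ⟨p, ?_, rfl⟩
  constructor
  · rw [Ne, Ideal.eq_top_iff_one]
    rintro ⟨x, hx, h1⟩
    exact hx (by simpa using h1)
  · rintro a b ⟨x, hx, habx⟩
    by_cases hbx : b • x = 0
    · exact Or.inr ⟨x, hx, hbx⟩
    · exact Or.inl ⟨b • x, hbx, by rwa [← mul_smul]⟩

end Groth.Agent.Lib.Helper2

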