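import Groth.Agent.Lib.Helper2.MatlisDuality
import Groth.Agent.S0299
import Mathlib.RingTheory.TensorProduct.Quotient
import Mathlib.RingTheory.Flat.Basic
import Mathlib.RingTheory.LocalRing.Length
import Mathlib.LinearAlgebra.TensorProduct.RightExactness
import Mathlib.LinearAlgebra.TensorProduct.Pi

/-!
# Injective hull of the residue field under flat local base change with `𝔪_A B = 𝔪_B` (helper2)
-/

set_option autoImplicit false
universe u

namespace Groth.Agent.Lib.Helper2
open InjHull TensorProduct

section LengthBaseChange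

variable {A : Type u} [CommRing A] [IsLocalRing A]
variable {B : Type u} [CommRing B] [IsLocalRing B] [Algebra A B] [IsLocalHom (algebraMap A B)]
  [Module.Flat A B]

lemma length_quot_maximalIdeal : Module.length B (B ⧸ IsLocalRing.maximalIdeal B) = 1 := by
  rw [Module.length_eq_one_iff, isSimpleModule_iff_isCoatom]
  exact (Ideal.isMaximal_def.mp inferInstance)

lemma length_baseChange_eq
    (hm : (IsLocalRing.maximalIdeal A).map (algebraMap A B) = IsLocalRing.maximalIdeal B)
    (M : Type u) [AddCommGroup M] [Module A M] :
    Module.length B (B ⊗[A] M) = Module.length A M := by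
  rw [IsLocalRing.length_baseChange A B M, hm, length_quot_maximalIdeal, mul_one]

end LengthBaseChange

section TorsionBaseChange

variable {A : Type u} [CommRing A] {B : Type u} [CommRing B] [Algebra A B] [Module.Flat A B]
variable {E : Type u} [AddCommGroup E] [Module A E]

/-- Torsion commutes with flat base change (finitely many elements). -/
lemma mem_range_baseChange_torsionBySet (s : Finset A) (x : B ⊗[A] E)
    (h : ∀ a ∈ s, (algebraMap A B a) • x = 0) :
    x ∈ LinearMap.range ((Submodule.torsionBySet A E (s : Set A)).subtype.baseChange B) := by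
  classical
  let ψ : E →ₗ[A] (s → E) := LinearMap.pi (fun a => LinearMap.lsmul A E (a : A))
  have hex : Function.Exact (Submodule.torsionBySet A E (s : Set A)).subtype ψ := by
    intro y
    constructor
    · intro hy
      refine ⟨⟨y, ?_⟩, rfl⟩
      rw [Submodule.mem_torsionBySet_iff]
      intro a
      exact congr_fun hy a
    · rintro ⟨z, rfl⟩
      funext a
      exact ((Submodule.mem_torsionBySet_iff _ _).mp z.2) a
  have hex' := Module.Flat.lTensor_exact B hex
  have key : (ψ.lTensor B) x = 0 := by
    apply (TensorProduct.piRight A A B (fun _ : s => E)).injective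
    rw [map_zero]
    funext a
    have : ∀ y : B ⊗[A] E, (TensorProduct.piRight A A B (fun _ : s => E)) ((ψ.lTensor B) y) a =
        (algebraMap A B a) • y := by
      intro y
      induction y using TensorProduct.induction_on with
      | zero => simp
      | tmul b e =>
        simp only [LinearMap.lTensor_tmul, TensorProduct.piRight_apply,
          TensorProduct.piRightHom_tmul, ψ, LinearMap.pi_apply, LinearMap.lsmul_apply]
        rw [TensorProduct.tmul_smul, TensorProduct.smul_tmul', TensorProduct.smul_tmul',
          Algebra.smul_def, smul_eq_mul]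
      | add y z hy hz => simp only [map_add, Pi.add_apply, hy, hz, smul_add]
    rw [this x, h a a.2]
    rfl
  obtain ⟨y, hy⟩ := (hex' x).mp key
  exact ⟨y, hy⟩

end TorsionBaseChange


section Generic

variable {R : Type u} [CommRing R] [IsLocalRing R] [IsNoetherianRing R]
variable {E : Type u} [AddCommGroup E] [Module R E] {f : IsLocalRing.ResidueField R →ₗ[R] E}

/-- `E[𝔪^n] ≃ Hom(R ⧸ 𝔪^n, E)`. -/
noncomputable def homEquivMtors (n : ℕ) :
    ((R ⧸ IsLocalRing.maximalIdeal R ^ n) →ₗ[R] E) ≃ₗ[R] mtors R E n :=
  LinearEquiv.ofBijective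
    (LinearMap.codRestrict (mtors R E n)
      (LinearMap.applyₗ (Ideal.Quotient.mk (IsLocalRing.maximalIdeal R ^ n) 1))
      (fun g => apply_mk_mem_mtors g _))
    ⟨by
      intro g g' hgg'
      have h1 : g (Ideal.Quotient.mk _ 1) = g' (Ideal.Quotient.mk _ 1) :=
        congrArg Subtype.val hgg'
      apply Submodule.linearMap_qext
      apply LinearMap.ext_ring
      exact h1,
    by
      rintro ⟨x, hx⟩
      refine ⟨homOfMtors x hx, Subtype.ext ?_⟩
      simp only [LinearMap.codRestrict_apply, LinearMap.applyₗ_apply_apply]
      rw [homOfMtors_mk, one_smul]⟩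

lemma length_mtors (hf : IsInjectiveHull f) (n : ℕ) :
    Module.length R (mtors R E n) = Module.length R (R ⧸ IsLocalRing.maximalIdeal R ^ n) := by
  rw [← (homEquivMtors (E := E) n).length_eq]
  exact length_hom_eq_length hf _ (isFiniteLength_quot_maximalIdeal_pow R n)

lemma length_quot_pow_ne_top (n : ℕ) :
    Module.length R (R ⧸ IsLocalRing.maximalIdeal R ^ n) ≠ ⊤ :=
  Module.length_ne_top_iff.mpr (isFiniteLength_quot_maximalIdeal_pow R n)

omit [IsNoetherianRing R] in
/-- the socle of `E` is the image of the residue field. -/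
lemma mem_range_of_maximalIdeal_smul_eq_zero (hf : IsEssentialInj f) (x : E)
    (hx : ∀ a ∈ IsLocalRing.maximalIdeal R, a • x = 0) : x ∈ LinearMap.range f := by
  let φ : IsLocalRing.ResidueField R →ₗ[R] E :=
    Submodule.liftQ (IsLocalRing.maximalIdeal R) (LinearMap.toSpanSingleton R E x) (by
      intro a ha
      rw [LinearMap.mem_ker, LinearMap.toSpanSingleton_apply]
      exact hx a ha)
  have h1 : φ 1 = x := by
    show Submodule.liftQ (IsLocalRing.maximalIdeal R) (LinearMap.toSpanSingleton R E x) _
      (Submodule.Quotient.mk 1) = x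
    rw [Submodule.liftQ_apply, LinearMap.toSpanSingleton_apply, one_smul]
  rw [← h1]
  exact apply_one_mem_range_of_isInjectiveHull hf φ

end Generic

section SurjLength

variable {R : Type u} [CommRing R] {M N : Type u} [AddCommGroup M] [Module R M]
  [AddCommGroup N] [Module R N]

lemma surjective_of_injective_of_length_le (φ : M →ₗ[R] N) (hφ : Function.Injective φ)
    (hle : Module.length R N ≤ Module.length R M) (hfin : Module.length R M ≠ ⊤) :
    Function.Surjective φ := by
  have h1 := Module.length_eq_add_of_exact φ (LinearMap.range φ).mkQ hφ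
    (Submodule.mkQ_surjective _) (LinearMap.exact_map_mkQ_range φ)
  rw [h1] at hle
  have h2 : Module.length R (N ⧸ LinearMap.range φ) = 0 := by
    by_contra h0
    have hpos : 0 < Module.length R (N ⧸ LinearMap.range φ) := pos_iff_ne_zero.mpr h0
    have := (ENat.add_lt_add_iff_left hfin).mpr hpos
    rw [add_zero] at this
    exact absurd hle (not_le.mpr this)
  rw [Module.length_eq_zero_iff, Submodule.Quotient.subsingleton_iff] at h2
  exact LinearMap.range_eq_top.mp h2

end SurjLength


section Main

variable {A : Type u} [CommRing A] [IsLocalRing A] [IsNoetherianRing A]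
variable {B : Type u} [CommRing B] [IsLocalRing B] [IsNoetherianRing B] [Algebra A B]
  [IsLocalHom (algebraMap A B)] [Module.Flat A B]
variable {E : Type u} [AddCommGroup E] [Module A E] {f : IsLocalRing.ResidueField A →ₗ[A] E}

omit [IsLocalRing A] [IsNoetherianRing A] [IsLocalRing B] [IsNoetherianRing B]
  [IsLocalHom (algebraMap A B)] [Module.Flat A B] in
/-- if `I` kills `e` then `I B` kills `b ⊗ e`. -/
lemma map_smul_tmul_eq_zero (I : Ideal A) (e : E) (he : ∀ a ∈ I, a • e = 0) (b : B) (c : B)
    (hc : c ∈ I.map (algebraMap A B)) : c • (b ⊗ₜ[A] e) = 0 := by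
  let J : Ideal B := LinearMap.ker (LinearMap.toSpanSingleton B (B ⊗[A] E) (b ⊗ₜ[A] e))
  have hJ : I.map (algebraMap A B) ≤ J := by
    rw [Ideal.map_le_iff_le_comap]
    intro a ha
    rw [Ideal.mem_comap, LinearMap.mem_ker, LinearMap.toSpanSingleton_apply,
      TensorProduct.smul_tmul', smul_eq_mul, ← Algebra.smul_def, ← TensorProduct.smul_tmul',
      ← TensorProduct.tmul_smul, he a ha, TensorProduct.tmul_zero]
  have := hJ hc
  rwa [LinearMap.mem_ker, LinearMap.toSpanSingleton_apply] at this

omit [IsNoetherianRing B] [IsLocalHom (algebraMap A B)] [Module.Flat A B] in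
/-- `B ⊗ E` is `𝔪_B`-power torsion. -/
lemma isPowerTorsion_baseChange
    (hm : (IsLocalRing.maximalIdeal A).map (algebraMap A B) = IsLocalRing.maximalIdeal B)
    (hf : IsInjectiveHull f) :
    LocCoh.IsPowerTorsion (IsLocalRing.maximalIdeal B) (B ⊗[A] E) := by
  intro x
  induction x using TensorProduct.induction_on with
  | zero => exact ⟨0, fun a _ => smul_zero a⟩
  | tmul b e =>
    obtain ⟨n, hn⟩ := exists_mem_mtors hf e
    refine ⟨n, fun c hc => ?_⟩
    apply map_smul_tmul_eq_zero (IsLocalRing.maximalIdeal A ^ n) e (mem_mtors_iff.mp hn) b c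
    rwa [Ideal.map_pow, hm]
  | add x y hx hy =>
    obtain ⟨n, hn⟩ := hx
    obtain ⟨m, hm'⟩ := hy
    refine ⟨max n m, fun c hc => ?_⟩
    rw [smul_add, hn c (Ideal.pow_le_pow_right (le_max_left n m) hc),
      hm' c (Ideal.pow_le_pow_right (le_max_right n m) hc), add_zero]

theorem exists_isInjectiveHull_baseChange
    (hm : (IsLocalRing.maximalIdeal A).map (algebraMap A B) = IsLocalRing.maximalIdeal B)
    (hf : IsInjectiveHull f) :
    ∃ g : IsLocalRing.ResidueField B →ₗ[B] B ⊗[A] E, IsInjectiveHull g := by
  classical
  -- the generator of the socle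
  let z : B ⊗[A] E := (1 : B) ⊗ₜ[A] f 1
  have hz : ∀ b ∈ IsLocalRing.maximalIdeal B, b • z = 0 := by
    intro b hb
    apply map_smul_tmul_eq_zero (IsLocalRing.maximalIdeal A) (f 1) _ 1 b (by rwa [hm])
    intro a ha
    rw [← map_smul, maximalIdeal_smul_residueField a ha, map_zero]
  let g : IsLocalRing.ResidueField B →ₗ[B] B ⊗[A] E :=
    Submodule.liftQ (IsLocalRing.maximalIdeal B) (LinearMap.toSpanSingleton B (B ⊗[A] E) z) (by
      intro b hb
      rw [LinearMap.mem_ker, LinearMap.toSpanSingleton_apply]
      exact hz b hb)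
  have hg : ∀ b : B, g (IsLocalRing.residue B b) = b • z := by
    intro b
    show Submodule.liftQ (IsLocalRing.maximalIdeal B) (LinearMap.toSpanSingleton B (B ⊗[A] E) z) _
      (Submodule.Quotient.mk b) = b • z
    rw [Submodule.liftQ_apply, LinearMap.toSpanSingleton_apply]
  have hpt := isPowerTorsion_baseChange hm hf
  -- z ≠ 0
  have hz0 : z ≠ 0 := by
    have hinj : Function.Injective (f.baseChange B) :=
      Module.Flat.lTensor_preserves_injective_linearMap f hf.injective
    have h1 : z = f.baseChange B ((1 : B) ⊗ₜ[A] (1 : IsLocalRing.ResidueField A)) := rfl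
    rw [h1, Ne, ← map_zero (f.baseChange B), hinj.eq_iff]
    intro h0
    have h2 := congrArg (Algebra.TensorProduct.quotIdealMapEquivTensorQuot B
      (IsLocalRing.maximalIdeal A)).symm h0
    have h3 : (Algebra.TensorProduct.quotIdealMapEquivTensorQuot B
      (IsLocalRing.maximalIdeal A)).symm ((1 : B) ⊗ₜ[A] (1 : A ⧸ IsLocalRing.maximalIdeal A)) =
        Ideal.Quotient.mk _ (1 : B) := by
      rw [← map_one (Ideal.Quotient.mk (IsLocalRing.maximalIdeal A)),
        Algebra.TensorProduct.quotIdealMapEquivTensorQuot_symm_tmul, one_smul]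
      rfl
    have h4 : Ideal.Quotient.mk ((IsLocalRing.maximalIdeal A).map (algebraMap A B)) (1 : B) = 0 := by
      rw [← h3]
      exact h2.trans (map_zero _)
    rw [Ideal.Quotient.eq_zero_iff_mem, hm] at h4
    exact (Ideal.ne_top_iff_one _).mp (IsLocalRing.maximalIdeal.isMaximal B).ne_top h4
  -- g injective
  have hginj : Function.Injective g := by
    rw [injective_iff_map_eq_zero]
    intro c hc
    obtain ⟨b, rfl⟩ := IsLocalRing.residue_surjective c
    rw [hg] at hc
    by_contra hne
    have hb : IsUnit b := by
      by_contra hb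
      exact hne ((IsLocalRing.residue_eq_zero_iff b).mpr ((IsLocalRing.mem_maximalIdeal b).mpr hb))
    obtain ⟨u, rfl⟩ := hb
    apply hz0
    have := congrArg (fun t => (↑u⁻¹ : B) • t) hc
    simpa [smul_smul] using this
  -- socle contained in range g
  obtain ⟨s, hs⟩ := (IsNoetherian.noetherian (IsLocalRing.maximalIdeal A))
  have hsocle : ∀ x : B ⊗[A] E, (∀ b ∈ IsLocalRing.maximalIdeal B, b • x = 0) →
      x ∈ LinearMap.range g := by
    intro x hx
    have h1 := mem_range_baseChange_torsionBySet (B := B) (E := E) s x (by
      intro a ha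
      apply hx
      rw [← hm]
      apply Ideal.mem_map_of_mem
      rw [← hs]
      exact Ideal.subset_span ha)
    obtain ⟨y, rfl⟩ := h1
    clear hx
    induction y using TensorProduct.induction_on with
    | zero => rw [map_zero]; exact zero_mem _
    | tmul b e =>
      rw [LinearMap.baseChange_tmul, Submodule.subtype_apply]
      have he : (e : E) ∈ LinearMap.range f := by
        apply mem_range_of_maximalIdeal_smul_eq_zero hf.toIsEssentialInj
        intro a ha
        have hann : IsLocalRing.maximalIdeal A ≤
            LinearMap.ker (LinearMap.toSpanSingleton A E (e : E)) := by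
          rw [← hs, Ideal.span_le]
          intro a' ha'
          rw [SetLike.mem_coe, LinearMap.mem_ker, LinearMap.toSpanSingleton_apply]
          exact (Submodule.mem_torsionBySet_iff _ _).mp e.2 ⟨a', ha'⟩
        have := hann ha
        rwa [LinearMap.mem_ker, LinearMap.toSpanSingleton_apply] at this
      obtain ⟨c, hc⟩ := he
      obtain ⟨c, rfl⟩ := IsLocalRing.residue_surjective c
      refine ⟨IsLocalRing.residue B (c • b), ?_⟩
      rw [hg, ← hc]
      have h5 : f (IsLocalRing.residue A c) = c • f 1 := by
        rw [← map_smul]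
        congr 1
        rw [Algebra.smul_def, mul_one]
        rfl
      rw [h5, TensorProduct.tmul_smul, TensorProduct.smul_tmul', TensorProduct.smul_tmul',
        smul_eq_mul, mul_one]
    | add y y' hy hy' =>
      rw [map_add]
      exact add_mem hy hy'
  -- g essential
  have hess : IsEssentialInj g := by
    rw [isEssentialInj_iff]
    refine ⟨hginj, fun x hx => ?_⟩
    obtain ⟨r, hr0, hr⟩ := exists_smul_mem_torsionBy_of_isPowerTorsion _ hpt x hx
    refine ⟨r, hr0, hsocle _ ?_⟩
    intro b hb
    exact (Submodule.mem_torsionBySet_iff _ _).mp hr ⟨b, hb⟩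
  -- compare with an injective hull over B
  obtain ⟨EB, _, _, h, hh⟩ := Groth.Agent.S0299.result B (IsLocalRing.ResidueField B)
  have hEB := hh.isInjective
  obtain ⟨α, hα⟩ := Module.Injective.extension_property B EB _ _ g hginj h
  have hαinj : Function.Injective α :=
    IsEssentialInj.injective_of_comp hess α (by rw [hα]; exact hh.injective)
  have hαsurj : Function.Surjective α := by
    intro y
    obtain ⟨n, hn⟩ := exists_mem_mtors hh y
    let ι := (mtors A E n).subtype.baseChange B
    have hιinj : Function.Injective ι :=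
      Module.Flat.lTensor_preserves_injective_linearMap _ (Submodule.injective_subtype _)
    have hmem : ∀ t, α (ι t) ∈ mtors B EB n := by
      intro t
      rw [mem_mtors_iff]
      intro c hc
      rw [← map_smul]
      suffices h0 : c • ι t = 0 by rw [h0, map_zero]
      induction t using TensorProduct.induction_on with
      | zero => rw [map_zero, smul_zero]
      | tmul b e =>
        rw [LinearMap.baseChange_tmul]
        apply map_smul_tmul_eq_zero (IsLocalRing.maximalIdeal A ^ n) _ (mem_mtors_iff.mp e.2) b c
        rwa [Ideal.map_pow, hm]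
      | add t t' ht ht' => rw [map_add, smul_add, ht, ht', add_zero]
    let β : B ⊗[A] (mtors A E n) →ₗ[B] mtors B EB n :=
      LinearMap.codRestrict (mtors B EB n) (α ∘ₗ ι) hmem
    have hβinj : Function.Injective β := by
      intro t t' htt'
      apply hιinj
      apply hαinj
      exact congrArg Subtype.val htt'
    have hpow : (IsLocalRing.maximalIdeal A ^ n).map (algebraMap A B) =
        IsLocalRing.maximalIdeal B ^ n := by rw [Ideal.map_pow, hm]
    have hlen1 : Module.length B (B ⊗[A] (mtors A E n)) =
        Module.length A (A ⧸ IsLocalRing.maximalIdeal A ^ n) := by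
      rw [length_baseChange_eq hm, length_mtors hf]
    have hlen2 : Module.length B (mtors B EB n) =
        Module.length A (A ⧸ IsLocalRing.maximalIdeal A ^ n) := by
      rw [length_mtors hh, ← hpow,
        (Algebra.TensorProduct.quotIdealMapEquivTensorQuot B
          (IsLocalRing.maximalIdeal A ^ n)).toLinearEquiv.length_eq, length_baseChange_eq hm]
    have hβsurj := surjective_of_injective_of_length_le β hβinj (by rw [hlen1, hlen2])
      (by rw [hlen1]; exact length_quot_pow_ne_top n)
    obtain ⟨t, ht⟩ := hβsurj ⟨y, hn⟩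
    exact ⟨ι t, congrArg Subtype.val ht⟩
  let e : (B ⊗[A] E) ≃ₗ[B] EB := LinearEquiv.ofBijective α ⟨hαinj, hαsurj⟩
  have hinjE : Module.Injective B (B ⊗[A] E) :=
    injective_of_retract hEB e.toLinearMap e.symm.toLinearMap (by ext x; simp)
  exact ⟨g, ⟨hess.1, hess.2⟩, hinjE⟩

end Main

end Groth.Agent.Lib.Helper2
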