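import Groth.Agent.Lib.Helper2.Coextend
import Groth.Agent.Lib.Helper2.Matlis
import Groth.Agent.Lib.Helper2.MatlisFlat
import Mathlib.RingTheory.Ideal.GoingUp
import Mathlib.RingTheory.Ideal.Quotient.Operations
import Mathlib.RingTheory.Noetherian.Basic
import Mathlib.RingTheory.IntegralClosure.IsIntegralClosure.Basic
import Mathlib.Algebra.Module.Torsion.Basic

set_option autoImplicit false
universe u v
open InjHull CategoryTheory

/-!
# `Hom_A(B, E)` for a finite algebra `B` over a Noetherian local ring `A` (helper2)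

* `coextMk`, `coextLin`: elements of `(coextendScalars (algebraMap A B)).obj (of A E)` as `A`-linear
  maps `B → E`.
* `isFiniteLength_of_finite_of_maximalIdeal_smul`
* `coextSocleMap n φ₀ : B ⧸ n →ₗ[B] Hom_A(B, E)`; its image is the `n`-socle.
* `exists_isInjectiveHull_powTorsion_coext`: `Γ_n(Hom_A(B, E))` is an injective hull of `B ⧸ n`.
* `exists_isInjectiveHull_coext_of_isLocalRing`: for `B` local, `Hom_A(B, E)` is an injective hull
  of the residue field of `B`.
-/

namespace Groth.Agent.Lib.Helper2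

section API

variable {A B : Type u} [CommRing A] [CommRing B] [Algebra A B]
  {E : Type u} [AddCommGroup E] [Module A E]

/-- An `A`-linear map `B → E` as an element of the coextension. -/
noncomputable def coextMk (h : B →ₗ[A] E) :
    (ModuleCat.coextendScalars (algebraMap A B)).obj (ModuleCat.of A E) :=
  (ModuleCat.CoextendScalars.equiv (algebraMap A B) (ModuleCat.of A E)).symm
    { toFun := fun b => h b
      map_add' := fun a b => h.map_add a b
      map_smul' := fun r b => by
        have : ∀ b' : B, h (algebraMap A B r * b') = r • h b' := by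
          intro b'
          rw [← Algebra.smul_def, map_smul]
        exact this b }

/-- The `A`-linear map `B → E` underlying an element of the coextension. -/
noncomputable def coextLin
    (x : (ModuleCat.coextendScalars (algebraMap A B)).obj (ModuleCat.of A E)) : B →ₗ[A] E where
  toFun := fun b => ModuleCat.CoextendScalars.equiv (algebraMap A B) (ModuleCat.of A E) x b
  map_add' := fun a b =>
    (ModuleCat.CoextendScalars.equiv (algebraMap A B) (ModuleCat.of A E) x).map_add a b
  map_smul' := fun r b => by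
    rw [Algebra.smul_def]
    exact (ModuleCat.CoextendScalars.equiv (algebraMap A B) (ModuleCat.of A E) x).map_smul r b

@[simp] lemma coextLin_coextMk (h : B →ₗ[A] E) : coextLin (coextMk h) = h := rfl

lemma coextMk_coextLin
    (x : (ModuleCat.coextendScalars (algebraMap A B)).obj (ModuleCat.of A E)) :
    coextMk (coextLin x) = x := rfl

lemma coextLin_injective :
    Function.Injective (coextLin (A := A) (B := B) (E := E)) := by
  intro x y h
  rw [← coextMk_coextLin x, ← coextMk_coextLin y, h]

lemma coextLin_smul_apply (s : B)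
    (x : (ModuleCat.coextendScalars (algebraMap A B)).obj (ModuleCat.of A E)) (b : B) :
    coextLin (s • x) b = coextLin x (b * s) := rfl

lemma coextLin_add
    (x y : (ModuleCat.coextendScalars (algebraMap A B)).obj (ModuleCat.of A E)) :
    coextLin (x + y) = coextLin x + coextLin y := rfl

lemma coextLin_zero :
    coextLin (0 : (ModuleCat.coextendScalars (algebraMap A B)).obj (ModuleCat.of A E)) = 0 := rfl

end API

section FL

variable {A : Type u} [CommRing A] [IsLocalRing A]

/-- A finite module killed by the maximal ideal has finite length. -/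
lemma isFiniteLength_of_finite_of_maximalIdeal_smul {M : Type v} [AddCommGroup M] [Module A M]
    [Module.Finite A M] (h : ∀ a ∈ IsLocalRing.maximalIdeal A, ∀ m : M, a • m = 0) :
    IsFiniteLength A M := by
  let _ : Field (A ⧸ IsLocalRing.maximalIdeal A) := Ideal.Quotient.field _
  have htors : Module.IsTorsionBySet A M (IsLocalRing.maximalIdeal A : Set A) := by
    intro m a
    exact h a.1 a.2 m
  let _ : Module (A ⧸ IsLocalRing.maximalIdeal A) M := htors.module
  have : IsScalarTower A (A ⧸ IsLocalRing.maximalIdeal A) M := htors.isScalarTower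
  have : Module.Finite (A ⧸ IsLocalRing.maximalIdeal A) M :=
    Module.Finite.of_restrictScalars_finite A _ _
  rw [← Module.length_ne_top_iff,
    Module.length_eq_of_surjective (R := A ⧸ IsLocalRing.maximalIdeal A) (S := A)
      Ideal.Quotient.mk_surjective, Module.length_eq_finrank]
  exact ENat.natCast_ne_top _

end FL

section Main

variable {A : Type u} [CommRing A] [IsLocalRing A] [IsNoetherianRing A]
  {B : Type u} [CommRing B] [Algebra A B] [Module.Finite A B]
  {E : Type u} [AddCommGroup E] [Module A E] {f : IsLocalRing.ResidueField A →ₗ[A] E}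
  (n : Ideal B) [hn : n.IsMaximal]

omit [IsNoetherianRing A] in
lemma comap_eq_maximalIdeal_of_isMaximal :
    n.comap (algebraMap A B) = IsLocalRing.maximalIdeal A := by
  have : Algebra.IsIntegral A B := Algebra.IsIntegral.of_finite A B
  have := Ideal.isMaximal_comap_of_isIntegral_of_isMaximal (R := A) n
  exact IsLocalRing.eq_maximalIdeal this

omit [IsNoetherianRing A] in
lemma algebraMap_mem_of_mem_maximalIdeal {a : A} (ha : a ∈ IsLocalRing.maximalIdeal A) :
    algebraMap A B a ∈ n := by
  rw [← comap_eq_maximalIdeal_of_isMaximal n] at ha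
  exact ha

omit [IsNoetherianRing A] in
lemma isFiniteLength_quot_of_isMaximal : IsFiniteLength A (B ⧸ n) := by
  apply isFiniteLength_of_finite_of_maximalIdeal_smul
  intro a ha x
  obtain ⟨b, rfl⟩ := Ideal.Quotient.mk_surjective x
  rw [Algebra.smul_def, ← Ideal.Quotient.mk_algebraMap,
    Ideal.Quotient.eq_zero_iff_mem.mpr (algebraMap_mem_of_mem_maximalIdeal n ha), zero_mul]

/-- `c ↦ (x ↦ φ₀ (c * x))`. -/
noncomputable def quotDualMap (φ₀ : (B ⧸ n) →ₗ[A] E) : (B ⧸ n) →ₗ[A] ((B ⧸ n) →ₗ[A] E) :=
  (LinearMap.llcomp A _ _ E φ₀) ∘ₗ (LinearMap.mul A (B ⧸ n))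

omit [IsLocalRing A] [IsNoetherianRing A] [Module.Finite A B] hn in
lemma quotDualMap_apply (φ₀ : (B ⧸ n) →ₗ[A] E) (c x : B ⧸ n) :
    quotDualMap n φ₀ c x = φ₀ (c * x) := rfl

omit [IsLocalRing A] [IsNoetherianRing A] [Module.Finite A B] in
lemma quotDualMap_injective (φ₀ : (B ⧸ n) →ₗ[A] E) (h0 : φ₀ ≠ 0) :
    Function.Injective (quotDualMap n φ₀) := by
  let _ : Field (B ⧸ n) := Ideal.Quotient.field n
  rw [← LinearMap.ker_eq_bot, LinearMap.ker_eq_bot']
  intro c hc
  by_contra hc0
  apply h0
  apply LinearMap.ext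
  intro x
  have := LinearMap.congr_fun hc (c⁻¹ * x)
  rwa [quotDualMap_apply, ← mul_assoc, mul_inv_cancel₀ hc0, one_mul] at this

omit [IsNoetherianRing A] in
lemma quotDualMap_surjective (hf : IsInjectiveHull f) (φ₀ : (B ⧸ n) →ₗ[A] E) (h0 : φ₀ ≠ 0) :
    Function.Surjective (quotDualMap n φ₀) := by
  have hfl := isFiniteLength_quot_of_isMaximal (A := A) n
  apply surjective_of_injective_of_length_le _ (quotDualMap_injective n φ₀ h0)
  · rw [length_hom_eq_length hf _ hfl]
  · exact Module.length_ne_top_iff.mpr hfl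

omit [IsLocalRing A] [IsNoetherianRing A] [Module.Finite A B] hn in
/-- The map `B ⧸ n → Hom_A(B, E)`, `c ↦ (b ↦ φ₀ (c * mk b))`. -/
noncomputable def coextSocleMap (φ₀ : (B ⧸ n) →ₗ[A] E) :
    (B ⧸ n) →ₗ[B] (ModuleCat.coextendScalars (algebraMap A B)).obj (ModuleCat.of A E) where
  toFun c := coextMk ((quotDualMap n φ₀ c) ∘ₗ (Ideal.Quotient.mkₐ A n).toLinearMap)
  map_add' := by
    intro c c'
    apply coextLin_injective
    rw [coextLin_add, coextLin_coextMk, coextLin_coextMk, coextLin_coextMk, map_add,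
      LinearMap.add_comp]
  map_smul' := by
    intro s c
    apply coextLin_injective
    apply LinearMap.ext
    intro b
    rw [coextLin_smul_apply, coextLin_coextMk, coextLin_coextMk]
    simp only [LinearMap.comp_apply, AlgHom.toLinearMap_apply, Ideal.Quotient.mkₐ_eq_mk,
      quotDualMap_apply, RingHom.id_apply, map_mul]
    congr 1
    rw [Algebra.smul_def, Ideal.Quotient.algebraMap_eq]
    ring

omit [IsLocalRing A] [IsNoetherianRing A] [Module.Finite A B] hn in
lemma coextLin_coextSocleMap (φ₀ : (B ⧸ n) →ₗ[A] E) (c : B ⧸ n) (b : B) :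
    coextLin (coextSocleMap n φ₀ c) b = φ₀ (c * Ideal.Quotient.mk n b) := rfl

omit [IsLocalRing A] [IsNoetherianRing A] [Module.Finite A B] hn in
lemma smul_coextSocleMap_eq_zero (φ₀ : (B ⧸ n) →ₗ[A] E) (c : B ⧸ n) (m : B) (hm : m ∈ n) :
    m • coextSocleMap n φ₀ c = 0 := by
  rw [← map_smul, Algebra.smul_def, Ideal.Quotient.algebraMap_eq,
    Ideal.Quotient.eq_zero_iff_mem.mpr hm, zero_mul, map_zero]

omit [IsLocalRing A] [IsNoetherianRing A] [Module.Finite A B] in
lemma coextSocleMap_injective (φ₀ : (B ⧸ n) →ₗ[A] E) (h0 : φ₀ ≠ 0) :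
    Function.Injective (coextSocleMap n φ₀) := by
  intro c c' h
  apply quotDualMap_injective n φ₀ h0
  apply LinearMap.ext
  intro x
  obtain ⟨b, rfl⟩ := Ideal.Quotient.mk_surjective x
  rw [quotDualMap_apply, quotDualMap_apply, ← coextLin_coextSocleMap, ← coextLin_coextSocleMap, h]

omit [IsNoetherianRing A] in
lemma mem_range_coextSocleMap (hf : IsInjectiveHull f) (φ₀ : (B ⧸ n) →ₗ[A] E) (h0 : φ₀ ≠ 0)
    (x : (ModuleCat.coextendScalars (algebraMap A B)).obj (ModuleCat.of A E))
    (hx : ∀ m ∈ n, m • x = 0) : x ∈ LinearMap.range (coextSocleMap n φ₀) := by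
  have hker : n.restrictScalars A ≤ LinearMap.ker (coextLin x) := by
    intro m hm
    rw [LinearMap.mem_ker]
    have h1 : coextLin x m = coextLin (m • x) 1 := by rw [coextLin_smul_apply, one_mul]
    rw [h1, hx m hm, coextLin_zero, LinearMap.zero_apply]
  let hbar : (B ⧸ n) →ₗ[A] E :=
    ((n.restrictScalars A).liftQ (coextLin x) hker) ∘ₗ
      (Submodule.Quotient.restrictScalarsEquiv A n).symm.toLinearMap
  have hbar_mk : ∀ b : B, hbar (Ideal.Quotient.mk n b) = coextLin x b := fun b => rfl
  obtain ⟨c, hc⟩ := quotDualMap_surjective n hf φ₀ h0 hbar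
  refine ⟨c, ?_⟩
  apply coextLin_injective
  apply LinearMap.ext
  intro b
  rw [coextLin_coextSocleMap, ← quotDualMap_apply, hc, hbar_mk]

/-- For a maximal ideal `n` of a finite `A`-algebra `B`, the `n`-power torsion of `Hom_A(B, E)` is an
injective hull of `B ⧸ n`. -/
theorem exists_isInjectiveHull_powTorsion_coext [IsNoetherianRing B] (hf : IsInjectiveHull f) :
    ∃ g : (B ⧸ n) →ₗ[B]
      ↥(powTorsion (I := (ModuleCat.coextendScalars (algebraMap A B)).obj (ModuleCat.of A E)) n),
      IsInjectiveHull g := by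
  let _ : Field (B ⧸ n) := Ideal.Quotient.field n
  obtain ⟨φ₀, hφ₀⟩ := exists_hom_apply_ne_zero hf (1 : B ⧸ n) one_ne_zero
  have h0 : φ₀ ≠ 0 := by
    rintro rfl
    exact hφ₀ rfl
  have hJ : Module.Injective B
      ((ModuleCat.coextendScalars (algebraMap A B)).obj (ModuleCat.of A E)) :=
    injective_coextendScalars (algebraMap A B) E hf.isInjective
  have hmem : ∀ c, coextSocleMap n φ₀ c ∈
      powTorsion (I := (ModuleCat.coextendScalars (algebraMap A B)).obj (ModuleCat.of A E)) n := by
    intro c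
    rw [mem_powTorsion_iff]
    refine ⟨1, fun m hm => ?_⟩
    rw [pow_one] at hm
    exact smul_coextSocleMap_eq_zero n φ₀ c m hm
  refine ⟨(coextSocleMap n φ₀).codRestrict _ hmem,
    (isEssentialInj_iff _).mpr ⟨?_, fun x hx => ?_⟩, injective_powTorsion hJ n⟩
  · intro c c' h
    exact coextSocleMap_injective n φ₀ h0 (congrArg Subtype.val h)
  · have hpow : LocCoh.IsPowerTorsion n
        ↥(powTorsion (I := (ModuleCat.coextendScalars (algebraMap A B)).obj (ModuleCat.of A E)) n) := by
      intro y
      obtain ⟨k, hk⟩ := (mem_powTorsion_iff _).mp y.2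
      exact ⟨k, fun a ha => Subtype.ext (hk a ha)⟩
    obtain ⟨r, hr0, hr⟩ := exists_smul_mem_torsionBy_of_isPowerTorsion n hpow x hx
    refine ⟨r, hr0, ?_⟩
    have hkill : ∀ m ∈ n, m • (r • x).1 = 0 := fun m hm =>
      congrArg Subtype.val ((Submodule.mem_torsionBySet_iff _ _).mp hr ⟨m, hm⟩)
    obtain ⟨c, hc⟩ := mem_range_coextSocleMap n hf φ₀ h0 _ hkill
    exact ⟨c, Subtype.ext hc⟩

omit hn in
lemma exists_pow_algebraMap_smul_eq_zero (hf : IsInjectiveHull f)
    (x : (ModuleCat.coextendScalars (algebraMap A B)).obj (ModuleCat.of A E)) :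
    ∃ k : ℕ, ∀ a ∈ IsLocalRing.maximalIdeal A ^ k, algebraMap A B a • x = 0 := by
  have hfg : (LinearMap.range (coextLin x)).FG := by
    rw [LinearMap.range_eq_map]
    exact Submodule.FG.map _ Module.Finite.fg_top
  have hE := (isPowerTorsion_iff_powTorsion_eq_top _ E).mp
    (isPowerTorsion_of_isInjectiveHull_residueField hf)
  obtain ⟨k, hk⟩ := exists_pow_le_torsionBySet (IsLocalRing.maximalIdeal A) hfg
    (by rw [hE]; exact le_top)
  refine ⟨k, fun a ha => ?_⟩
  apply coextLin_injective
  apply LinearMap.ext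
  intro b
  rw [coextLin_smul_apply, coextLin_zero, LinearMap.zero_apply, mul_comm, ← Algebra.smul_def,
    map_smul]
  exact (Submodule.mem_torsionBySet_iff _ _).mp (hk ⟨b, rfl⟩) ⟨a, ha⟩

omit [IsNoetherianRing A] hn in
lemma exists_maximalIdeal_pow_le_map [IsLocalRing B] [IsNoetherianRing B] :
    ∃ N : ℕ, IsLocalRing.maximalIdeal B ^ N ≤
      (IsLocalRing.maximalIdeal A).map (algebraMap A B) := by
  have : Algebra.IsIntegral A B := Algebra.IsIntegral.of_finite A B
  obtain ⟨N, hN⟩ := Ideal.exists_radical_pow_le_of_fg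
    ((IsLocalRing.maximalIdeal A).map (algebraMap A B)) (IsNoetherian.noetherian _)
  refine ⟨N, le_trans (Ideal.pow_right_mono ?_ N) hN⟩
  rw [Ideal.radical_eq_sInf]
  apply le_sInf
  rintro P ⟨hIP, hP⟩
  have h1 : IsLocalRing.maximalIdeal A ≤ P.comap (algebraMap A B) :=
    Ideal.map_le_iff_le_comap.mp hIP
  have h2 : P.comap (algebraMap A B) = IsLocalRing.maximalIdeal A :=
    ((IsLocalRing.maximalIdeal.isMaximal A).eq_of_le (Ideal.IsPrime.ne_top inferInstance) h1).symm
  have h3 : P.IsMaximal := Ideal.isMaximal_of_isIntegral_of_isMaximal_comap (R := A) P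
    (by rw [h2]; infer_instance)
  rw [IsLocalRing.eq_maximalIdeal h3]

omit hn in
lemma isPowerTorsion_coext_of_isLocalRing [IsLocalRing B] [IsNoetherianRing B]
    (hf : IsInjectiveHull f) :
    LocCoh.IsPowerTorsion (IsLocalRing.maximalIdeal B)
      ((ModuleCat.coextendScalars (algebraMap A B)).obj (ModuleCat.of A E)) := by
  intro x
  obtain ⟨k, hk⟩ := exists_pow_algebraMap_smul_eq_zero hf x
  obtain ⟨N, hN⟩ := exists_maximalIdeal_pow_le_map (A := A) (B := B)
  refine ⟨N * k, fun s hs => ?_⟩
  let ann : Ideal B := LinearMap.ker (LinearMap.toSpanSingleton B _ x)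
  have h1 : (IsLocalRing.maximalIdeal A ^ k).map (algebraMap A B) ≤ ann := by
    rw [Ideal.map_le_iff_le_comap]
    intro a ha
    exact hk a ha
  have h2 : IsLocalRing.maximalIdeal B ^ (N * k) ≤ ann := by
    rw [pow_mul]
    refine le_trans (Ideal.pow_right_mono hN k) ?_
    rw [← Ideal.map_pow]
    exact h1
  exact h2 hs

/-- `Hom_A(B, E)` is an injective hull of the residue field of `B`, for `B` local finite over `A`. -/
theorem exists_isInjectiveHull_coext_of_isLocalRing [IsLocalRing B] [IsNoetherianRing B]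
    (hf : IsInjectiveHull f) :
    ∃ g : IsLocalRing.ResidueField B →ₗ[B]
      (ModuleCat.coextendScalars (algebraMap A B)).obj (ModuleCat.of A E), IsInjectiveHull g := by
  obtain ⟨φ₀, hφ₀⟩ := exists_hom_apply_ne_zero hf (1 : B ⧸ IsLocalRing.maximalIdeal B)
    (one_ne_zero (α := IsLocalRing.ResidueField B))
  have h0 : φ₀ ≠ 0 := by
    rintro rfl
    exact hφ₀ rfl
  have hJ : Module.Injective B
      ((ModuleCat.coextendScalars (algebraMap A B)).obj (ModuleCat.of A E)) :=
    injective_coextendScalars (algebraMap A B) E hf.isInjective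
  refine ⟨coextSocleMap (IsLocalRing.maximalIdeal B) φ₀,
    isInjectiveHull_of_injective_of_powerTorsion_of_socle hJ
      (isPowerTorsion_coext_of_isLocalRing hf) _
      (coextSocleMap_injective _ φ₀ h0) ?_⟩
  intro y hy
  exact mem_range_coextSocleMap _ hf φ₀ h0 y hy

end Main

end Groth.Agent.Lib.Helper2
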