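import Groth.Agent.Lib.Helper2.Matlis
import Mathlib.RingTheory.AdicCompletion.Algebra
import Mathlib.RingTheory.HopkinsLevitzki
import Mathlib.RingTheory.KrullDimension.Basic

/-!
# `End_R(E) ≃ₐ[R] R^` for `E` the injective hull of the residue field (helper2)
-/

set_option autoImplicit false
universe u

namespace Groth.Agent.Lib.Helper2
open InjHull

section

variable (R : Type u) [CommRing R] [IsLocalRing R] [IsNoetherianRing R]

lemma isArtinianRing_quot_maximalIdeal_pow (n : ℕ) :
    IsArtinianRing (R ⧸ (IsLocalRing.maximalIdeal R) ^ n) := by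
  rw [isArtinianRing_iff_krullDimLE_zero]
  refine Ring.KrullDimLE.mk₀ fun J hJ => ?_
  have hP : (J.comap (Ideal.Quotient.mk ((IsLocalRing.maximalIdeal R) ^ n))).IsPrime :=
    hJ.comap _
  have h1 : (IsLocalRing.maximalIdeal R) ^ n ≤
      J.comap (Ideal.Quotient.mk ((IsLocalRing.maximalIdeal R) ^ n)) := by
    intro x hx
    rw [Ideal.mem_comap, Ideal.Quotient.eq_zero_iff_mem.mpr hx]
    exact zero_mem _
  have h2 : IsLocalRing.maximalIdeal R ≤
      J.comap (Ideal.Quotient.mk ((IsLocalRing.maximalIdeal R) ^ n)) := hP.le_of_pow_le h1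
  have h3 : J.comap (Ideal.Quotient.mk ((IsLocalRing.maximalIdeal R) ^ n)) =
      IsLocalRing.maximalIdeal R := le_antisymm (IsLocalRing.le_maximalIdeal hP.ne_top) h2
  have h4 : (J.comap (Ideal.Quotient.mk ((IsLocalRing.maximalIdeal R) ^ n))).IsMaximal := by
    rw [h3]; infer_instance
  have h5 := Ideal.map_comap_of_surjective (Ideal.Quotient.mk ((IsLocalRing.maximalIdeal R) ^ n))
    Ideal.Quotient.mk_surjective J
  rcases Ideal.map_eq_top_or_isMaximal_of_surjective
    (Ideal.Quotient.mk ((IsLocalRing.maximalIdeal R) ^ n)) Ideal.Quotient.mk_surjective h4 with h | h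
  · rw [h5] at h; exact absurd h hJ.ne_top
  · rwa [h5] at h

lemma isFiniteLength_quot_maximalIdeal_pow (n : ℕ) :
    IsFiniteLength R (R ⧸ (IsLocalRing.maximalIdeal R) ^ n) := by
  rw [isFiniteLength_iff_isNoetherian_isArtinian]
  have := isArtinianRing_quot_maximalIdeal_pow R n
  exact ⟨isNoetherian_quotient _,
    isArtinian_of_surjective_algebraMap
      (Ideal.Quotient.mk_surjective (I := (IsLocalRing.maximalIdeal R) ^ n))⟩

end

section

variable (R : Type u) [CommRing R] [IsLocalRing R]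
variable (E : Type u) [AddCommGroup E] [Module R E]

/-- `E[𝔪^n]`. -/
abbrev mtors (n : ℕ) : Submodule R E :=
  Submodule.torsionBySet R E ((IsLocalRing.maximalIdeal R ^ n : Ideal R) : Set R)

variable {R E}

lemma mem_mtors_iff {n : ℕ} {x : E} :
    x ∈ mtors R E n ↔ ∀ a ∈ IsLocalRing.maximalIdeal R ^ n, a • x = 0 := by
  rw [Submodule.mem_torsionBySet_iff]
  exact ⟨fun h a ha => h ⟨a, ha⟩, fun h a => h a.1 a.2⟩

lemma mtors_mono {m n : ℕ} (h : m ≤ n) : mtors R E m ≤ mtors R E n := by
  intro x hx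
  rw [mem_mtors_iff] at hx ⊢
  exact fun a ha => hx a (Ideal.pow_le_pow_right h ha)

variable [IsNoetherianRing R] {f : IsLocalRing.ResidueField R →ₗ[R] E}

lemma exists_mem_mtors (hf : IsInjectiveHull f) (x : E) : ∃ n, x ∈ mtors R E n := by
  obtain ⟨n, hn⟩ := isPowerTorsion_of_isInjectiveHull_residueField hf x
  exact ⟨n, mem_mtors_iff.mpr hn⟩

/-- the hom `R ⧸ 𝔪^n → E` attached to `x ∈ E[𝔪^n]` -/
noncomputable def homOfMtors {n : ℕ} (x : E) (hx : x ∈ mtors R E n) :
    (R ⧸ IsLocalRing.maximalIdeal R ^ n) →ₗ[R] E :=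
  Submodule.liftQ (IsLocalRing.maximalIdeal R ^ n) (LinearMap.toSpanSingleton R E x) (by
    intro a ha
    rw [LinearMap.mem_ker, LinearMap.toSpanSingleton_apply]
    exact mem_mtors_iff.mp hx a ha)

omit [IsNoetherianRing R] in
lemma homOfMtors_mk {n : ℕ} (x : E) (hx : x ∈ mtors R E n) (r : R) :
    homOfMtors x hx (Ideal.Quotient.mk _ r) = r • x := by
  unfold homOfMtors
  erw [Submodule.liftQ_apply]
  rfl

omit [IsNoetherianRing R] in
lemma apply_mk_mem_mtors {n : ℕ} (g : (R ⧸ IsLocalRing.maximalIdeal R ^ n) →ₗ[R] E) (q) :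
    g q ∈ mtors R E n := by
  rw [mem_mtors_iff]
  intro a ha
  rw [← map_smul]
  obtain ⟨r, rfl⟩ := Ideal.Quotient.mk_surjective q
  rw [Algebra.smul_def, Ideal.Quotient.algebraMap_eq, ← map_mul,
    Ideal.Quotient.eq_zero_iff_mem.mpr (Ideal.mul_mem_right _ _ ha), map_zero]

omit [IsNoetherianRing R] in
/-- faithfulness of `E[𝔪^n]` over `R ⧸ 𝔪^n`. -/
lemma mem_pow_of_forall_smul_eq_zero (hf : IsInjectiveHull f) (n : ℕ) (r : R)
    (h : ∀ x ∈ mtors R E n, r • x = 0) : r ∈ IsLocalRing.maximalIdeal R ^ n := by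
  by_contra hr
  have hne : (Ideal.Quotient.mk (IsLocalRing.maximalIdeal R ^ n) r) ≠ 0 := by
    rwa [Ne, Ideal.Quotient.eq_zero_iff_mem]
  obtain ⟨φ, hφ⟩ := exists_hom_apply_ne_zero hf _ hne
  apply hφ
  have h1 : φ (Ideal.Quotient.mk _ r) = r • φ (Ideal.Quotient.mk _ 1) := by
    rw [← map_smul]
    congr 1
    rw [Algebra.smul_def, Ideal.Quotient.algebraMap_eq, ← map_mul, mul_one]
  rw [h1]
  exact h _ (apply_mk_mem_mtors φ _)

/-- fullness: every hom `E[𝔪^n] → E` is multiplication by a scalar. -/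
lemma exists_smul_eq_of_mtors (hf : IsInjectiveHull f) (n : ℕ) (φ : mtors R E n →ₗ[R] E) :
    ∃ r : R, ∀ x (hx : x ∈ mtors R E n), φ ⟨x, hx⟩ = r • x := by
  have hM := isFiniteLength_quot_maximalIdeal_pow R n
  have hbij := bijective_applyₗ hf (R ⧸ IsLocalRing.maximalIdeal R ^ n) hM
  let ev1 : ((R ⧸ IsLocalRing.maximalIdeal R ^ n) →ₗ[R] E) →ₗ[R] mtors R E n :=
    LinearMap.codRestrict (mtors R E n)
      (LinearMap.applyₗ (Ideal.Quotient.mk (IsLocalRing.maximalIdeal R ^ n) 1))
      (fun g => apply_mk_mem_mtors g _)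
  obtain ⟨q, hq⟩ := hbij.2 (φ ∘ₗ ev1)
  obtain ⟨r, rfl⟩ := Ideal.Quotient.mk_surjective q
  refine ⟨r, fun x hx => ?_⟩
  have := LinearMap.congr_fun hq (homOfMtors x hx)
  simp only [LinearMap.applyₗ_apply_apply, LinearMap.coe_comp, Function.comp_apply] at this
  rw [homOfMtors_mk] at this
  rw [this]
  congr 1
  apply Subtype.ext
  simp only [ev1, LinearMap.codRestrict_apply, LinearMap.applyₗ_apply_apply]
  rw [homOfMtors_mk, one_smul]

end


section EndRing

variable {R : Type u} [CommRing R] [IsLocalRing R] [IsNoetherianRing R]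
variable {E : Type u} [AddCommGroup E] [Module R E] {f : IsLocalRing.ResidueField R →ₗ[R] E}

lemma exists_smul_eq_on_mtors (hf : IsInjectiveHull f) (n : ℕ) (φ : Module.End R E) :
    ∃ r : R, ∀ x ∈ mtors R E n, φ x = r • x := by
  obtain ⟨r, hr⟩ := exists_smul_eq_of_mtors hf n (φ ∘ₗ (mtors R E n).subtype)
  exact ⟨r, fun x hx => hr x hx⟩

/-- the class in `R ⧸ 𝔪^n` by which `φ` acts on `E[𝔪^n]`. -/
noncomputable def endToQuotFun (hf : IsInjectiveHull f) (n : ℕ) (φ : Module.End R E) :
    R ⧸ IsLocalRing.maximalIdeal R ^ n :=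
  Ideal.Quotient.mk _ (exists_smul_eq_on_mtors hf n φ).choose

lemma endToQuotFun_eq_iff (hf : IsInjectiveHull f) (n : ℕ) (φ : Module.End R E) (r : R) :
    endToQuotFun hf n φ = Ideal.Quotient.mk _ r ↔ ∀ x ∈ mtors R E n, φ x = r • x := by
  have h0 := (exists_smul_eq_on_mtors hf n φ).choose_spec
  unfold endToQuotFun
  rw [Ideal.Quotient.eq]
  constructor
  · intro h x hx
    have := mem_mtors_iff.mp hx _ h
    rw [h0 x hx]
    rw [sub_smul, sub_eq_zero] at this
    exact this
  · intro h
    apply mem_pow_of_forall_smul_eq_zero hf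
    intro x hx
    rw [sub_smul, ← h0 x hx, ← h x hx, sub_self]

/-- the ring hom `End_R(E) → R ⧸ 𝔪^n`. -/
noncomputable def endToQuot (hf : IsInjectiveHull f) (n : ℕ) :
    Module.End R E →+* R ⧸ IsLocalRing.maximalIdeal R ^ n where
  toFun := endToQuotFun hf n
  map_one' := by
    rw [← map_one (Ideal.Quotient.mk _), endToQuotFun_eq_iff]
    intro x _; simp
  map_mul' φ φ' := by
    obtain ⟨r, hr⟩ := Ideal.Quotient.mk_surjective (endToQuotFun hf n φ)
    obtain ⟨r', hr'⟩ := Ideal.Quotient.mk_surjective (endToQuotFun hf n φ')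
    rw [← hr, ← hr', ← map_mul, endToQuotFun_eq_iff]
    intro x hx
    rw [Module.End.mul_apply, (endToQuotFun_eq_iff hf n φ' r').mp hr'.symm x hx, map_smul,
      (endToQuotFun_eq_iff hf n φ r).mp hr.symm x hx, smul_smul, mul_comm]
  map_zero' := by
    rw [← map_zero (Ideal.Quotient.mk _), endToQuotFun_eq_iff]
    intro x _; simp
  map_add' φ φ' := by
    obtain ⟨r, hr⟩ := Ideal.Quotient.mk_surjective (endToQuotFun hf n φ)
    obtain ⟨r', hr'⟩ := Ideal.Quotient.mk_surjective (endToQuotFun hf n φ')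
    rw [← hr, ← hr', ← map_add, endToQuotFun_eq_iff]
    intro x hx
    rw [LinearMap.add_apply, (endToQuotFun_eq_iff hf n φ' r').mp hr'.symm x hx,
      (endToQuotFun_eq_iff hf n φ r).mp hr.symm x hx, add_smul]

lemma endToQuot_eq_iff (hf : IsInjectiveHull f) (n : ℕ) (φ : Module.End R E) (r : R) :
    endToQuot hf n φ = Ideal.Quotient.mk _ r ↔ ∀ x ∈ mtors R E n, φ x = r • x :=
  endToQuotFun_eq_iff hf n φ r

lemma endToQuot_compat (hf : IsInjectiveHull f) {m n : ℕ} (hle : m ≤ n) :
    (Ideal.Quotient.factorPow (IsLocalRing.maximalIdeal R) hle).comp (endToQuot hf n) =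
      endToQuot hf m := by
  ext φ
  obtain ⟨r, hr⟩ := Ideal.Quotient.mk_surjective (endToQuot hf n φ)
  rw [RingHom.comp_apply, ← hr]
  symm
  rw [Ideal.Quotient.factorPow, Ideal.Quotient.factor_mk, endToQuot_eq_iff]
  intro x hx
  exact (endToQuot_eq_iff hf n φ r).mp hr.symm x (mtors_mono hle hx)

/-- the ring hom `End_R(E) → R^`. -/
noncomputable def endToCompletion (hf : IsInjectiveHull f) :
    Module.End R E →+* AdicCompletion (IsLocalRing.maximalIdeal R) R :=
  AdicCompletion.liftRingHom (IsLocalRing.maximalIdeal R) (endToQuot hf)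
    (fun hle => endToQuot_compat hf hle)

lemma evalₐ_endToCompletion (hf : IsInjectiveHull f) (n : ℕ) (φ : Module.End R E) :
    AdicCompletion.evalₐ (IsLocalRing.maximalIdeal R) n (endToCompletion hf φ) =
      endToQuot hf n φ :=
  AdicCompletion.evalₐ_liftRingHom _ _ _ _ _

lemma endToCompletion_injective (hf : IsInjectiveHull f) :
    Function.Injective (endToCompletion hf) := by
  rw [injective_iff_map_eq_zero]
  intro φ hφ
  ext x
  obtain ⟨n, hn⟩ := exists_mem_mtors hf x
  have h1 : endToQuot hf n φ = Ideal.Quotient.mk _ 0 := by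
    rw [← evalₐ_endToCompletion, hφ, map_zero, map_zero]
  have := (endToQuot_eq_iff hf n φ 0).mp h1 x hn
  simpa using this

lemma endToCompletion_surjective (hf : IsInjectiveHull f) :
    Function.Surjective (endToCompletion hf) := by
  classical
  intro y
  obtain ⟨a, rfl⟩ := AdicCompletion.mk_surjective (IsLocalRing.maximalIdeal R) R y
  have hcauchy : ∀ {m n : ℕ}, m ≤ n → a n - a m ∈ IsLocalRing.maximalIdeal R ^ m := by
    intro m n hmn
    have := a.2 hmn
    rw [SModEq.sub_mem] at this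
    have h2 : a.1 n - a.1 m ∈ (IsLocalRing.maximalIdeal R ^ m • ⊤ : Submodule R R) := by
      rw [← neg_sub]; exact neg_mem this
    simpa using h2
  let N : E → ℕ := fun x => Nat.find (exists_mem_mtors hf x)
  have hN : ∀ x, x ∈ mtors R E (N x) := fun x => Nat.find_spec (exists_mem_mtors hf x)
  have key : ∀ (x : E) (n : ℕ), x ∈ mtors R E n → a (N x) • x = a n • x := by
    intro x n hx
    have hle : N x ≤ n := Nat.find_min' _ hx
    have := mem_mtors_iff.mp (hN x) _ (hcauchy hle)
    rw [sub_smul, sub_eq_zero] at this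
    exact this.symm
  let φ : Module.End R E :=
    { toFun := fun x => a (N x) • x
      map_add' := by
        intro x y
        have hx : x ∈ mtors R E (max (N x) (N y)) := mtors_mono (le_max_left _ _) (hN x)
        have hy : y ∈ mtors R E (max (N x) (N y)) := mtors_mono (le_max_right _ _) (hN y)
        show a (N (x + y)) • (x + y) = a (N x) • x + a (N y) • y
        rw [key x _ hx, key y _ hy, key (x + y) _ (add_mem hx hy), smul_add]
      map_smul' := by
        intro c x
        show a (N (c • x)) • (c • x) = c • (a (N x) • x)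
        rw [key (c • x) _ (Submodule.smul_mem _ c (hN x)), smul_comm] }
  refine ⟨φ, ?_⟩
  apply AdicCompletion.ext_evalₐ
  intro n
  rw [evalₐ_endToCompletion, AdicCompletion.evalₐ_mk, endToQuot_eq_iff]
  intro x hx
  exact key x n hx

lemma endToCompletion_algebraMap (hf : IsInjectiveHull f) (r : R) :
    endToCompletion hf (algebraMap R (Module.End R E) r) =
      algebraMap R (AdicCompletion (IsLocalRing.maximalIdeal R) R) r := by
  apply AdicCompletion.ext_evalₐ
  intro n
  rw [evalₐ_endToCompletion, AlgHom.commutes, Ideal.Quotient.algebraMap_eq, endToQuot_eq_iff]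
  intro x _
  rw [Module.algebraMap_end_apply]

/-- `End_R(E) ≃ₐ[R] R^` for `E` an injective hull of the residue field of a Noetherian local
ring. -/
noncomputable def endEquivCompletion (hf : IsInjectiveHull f) :
    Module.End R E ≃ₐ[R] AdicCompletion (IsLocalRing.maximalIdeal R) R :=
  AlgEquiv.ofBijective
    { endToCompletion hf with commutes' := endToCompletion_algebraMap hf }
    ⟨endToCompletion_injective hf, endToCompletion_surjective hf⟩

end EndRing

end Groth.Agent.Lib.Helper2
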