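import Groth.Agent.Lib.Helper2.Matlis
import Groth.Agent.Lib.Helper2.MatlisComplete
import Groth.Agent.Lib.Helper2.MatlisFlat
import Groth.Agent.S0299

/-!
# A criterion for the injective hull of the residue field (helper2)

`exists_isInjectiveHull_of_powerTorsion_socle_length`: a power-torsion module with one-dimensional
socle and the correct lengths of `Hom(A/a_n, I)` is an injective hull of the residue field.
-/

set_option autoImplicit false
universe u v
open Submodule InjHull

namespace Groth.Agent.Lib.Helper2

section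

variable {A : Type u} [CommRing A] [IsLocalRing A] [IsNoetherianRing A]

lemma isFiniteLength_quot_of_pow_le (a : Ideal A) (N : ℕ)
    (h : IsLocalRing.maximalIdeal A ^ N ≤ a) : IsFiniteLength A (A ⧸ a) := by
  rw [← Module.length_ne_top_iff]
  have h1 := length_quot_pow_ne_top (R := A) N
  have hsurj : Function.Surjective
      (Submodule.mapQ (IsLocalRing.maximalIdeal A ^ N) a LinearMap.id (by simpa using h)) := by
    intro x
    obtain ⟨y, rfl⟩ := Submodule.Quotient.mk_surjective _ x
    exact ⟨Submodule.Quotient.mk y, by simp⟩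
  have := Module.length_le_of_surjective _ hsurj
  exact ne_top_of_le_ne_top h1 this

/-- A criterion for being an injective hull of the residue field. -/
theorem exists_isInjectiveHull_of_powerTorsion_socle_length (I : Type u) [AddCommGroup I]
    [Module A I] (ha : LocCoh.IsPowerTorsion (IsLocalRing.maximalIdeal A) I)
    (hb : Nonempty ((IsLocalRing.ResidueField A →ₗ[A] I) ≃ₗ[A] IsLocalRing.ResidueField A))
    (a : ℕ → Ideal A)
    (hcof : ∀ n : ℕ, ∃ N : ℕ, IsLocalRing.maximalIdeal A ^ N ≤ a n)
    (hcof' : ∀ N : ℕ, ∃ n : ℕ, a n ≤ IsLocalRing.maximalIdeal A ^ N)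
    (hlen : ∀ n : ℕ, Module.length A (A ⧸ a n) = Module.length A ((A ⧸ a n) →ₗ[A] I)) :
    ∃ f : IsLocalRing.ResidueField A →ₗ[A] I, InjHull.IsInjectiveHull f := by
  obtain ⟨e⟩ := hb
  let f : IsLocalRing.ResidueField A →ₗ[A] I := e.symm 1
  have hf0 : f ≠ 0 := by
    intro h
    have : e.symm 1 = e.symm 0 := by rw [map_zero]; exact h
    exact one_ne_zero (e.symm.injective this)
  -- every hom k → I is a multiple of f
  have hmul : ∀ φ : IsLocalRing.ResidueField A →ₗ[A] I, ∃ c : A, φ = c • f := by
    intro φ
    obtain ⟨c, hc⟩ := IsLocalRing.residue_surjective (e φ)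
    refine ⟨c, ?_⟩
    apply e.injective
    rw [map_smul, LinearEquiv.apply_symm_apply, ← hc, Algebra.smul_def, mul_one]
    rfl
  have hfinj : Function.Injective f := by
    rw [← LinearMap.ker_eq_bot, LinearMap.ker_eq_bot']
    intro x hx
    by_contra hx0
    apply hf0
    ext y
    obtain ⟨c, hc⟩ := IsLocalRing.residue_surjective (y * x⁻¹)
    have : y = c • x := by
      rw [Algebra.smul_def, IsLocalRing.ResidueField.algebraMap_eq, hc, mul_assoc,
        inv_mul_cancel₀ hx0, mul_one]
    rw [this, map_smul, hx, smul_zero, LinearMap.zero_apply]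
  -- socle ⊆ range f
  have hsoc : ∀ y : I, (∀ r ∈ IsLocalRing.maximalIdeal A, r • y = 0) → y ∈ LinearMap.range f := by
    intro y hy
    let φ : IsLocalRing.ResidueField A →ₗ[A] I :=
      Submodule.liftQ (IsLocalRing.maximalIdeal A) (LinearMap.toSpanSingleton A I y) (by
        intro r hr
        rw [LinearMap.mem_ker, LinearMap.toSpanSingleton_apply]
        exact hy r hr)
    have h1 : φ 1 = y := by
      show Submodule.liftQ (IsLocalRing.maximalIdeal A) (LinearMap.toSpanSingleton A I y) _
        (Submodule.Quotient.mk 1) = y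
      rw [Submodule.liftQ_apply, LinearMap.toSpanSingleton_apply, one_smul]
    obtain ⟨c, hc⟩ := hmul φ
    refine ⟨c • 1, ?_⟩
    rw [map_smul, ← h1, hc, LinearMap.smul_apply]
  have hess : IsEssentialInj f := by
    rw [isEssentialInj_iff]
    refine ⟨hfinj, fun x hx => ?_⟩
    obtain ⟨r, hr0, hr⟩ := exists_smul_mem_torsionBy_of_isPowerTorsion _ ha x hx
    refine ⟨r, hr0, hsoc _ (fun s hs => ?_)⟩
    exact (Submodule.mem_torsionBySet_iff _ _).mp hr ⟨s, hs⟩
  -- an injective hull of k
  obtain ⟨E, _, _, fE, hfE⟩ := Groth.Agent.S0299.result A (IsLocalRing.ResidueField A)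
  have hEinj : Module.Injective A E := hfE.isInjective
  obtain ⟨j, hj⟩ := Module.Injective.extension_property A E _ _ f hfinj fE
  have hjinj : Function.Injective j :=
    Groth.Agent.Lib.Helper2.IsEssentialInj.injective_of_comp hess j (by rw [hj]; exact hfE.injective)
  have hEpow := isPowerTorsion_of_isInjectiveHull_residueField hfE
  have hjsurj : Function.Surjective j := by
    intro y
    obtain ⟨N, hN⟩ := hEpow y
    obtain ⟨n, hn⟩ := hcof' N
    obtain ⟨N', hN'⟩ := hcof n
    have hfl := isFiniteLength_quot_of_pow_le (a n) N' hN'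
    -- postcomposition with j
    let jstar : ((A ⧸ a n) →ₗ[A] I) →ₗ[A] ((A ⧸ a n) →ₗ[A] E) := LinearMap.compRight A j
    have hjstar : Function.Injective jstar := by
      intro ψ ψ' h
      apply LinearMap.ext
      intro x
      apply hjinj
      exact LinearMap.congr_fun h x
    have hsurj := surjective_of_injective_of_length_le jstar hjstar
      (by rw [length_hom_eq_length hfE _ hfl, ← hlen n])
      (by rw [← hlen n]; exact Module.length_ne_top_iff.mpr hfl)
    let φ : (A ⧸ a n) →ₗ[A] E :=
      Submodule.liftQ (a n) (LinearMap.toSpanSingleton A E y) (by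
        intro r hr
        rw [LinearMap.mem_ker, LinearMap.toSpanSingleton_apply]
        exact hN r (hn hr))
    have h1 : φ (Submodule.Quotient.mk 1) = y := by
      rw [Submodule.liftQ_apply, LinearMap.toSpanSingleton_apply, one_smul]
    obtain ⟨ψ, hψ⟩ := hsurj φ
    refine ⟨ψ (Submodule.Quotient.mk 1), ?_⟩
    rw [← h1, ← hψ]
    rfl
  let je : I ≃ₗ[A] E := LinearEquiv.ofBijective j ⟨hjinj, hjsurj⟩
  refine ⟨f, hess, ?_⟩
  exact injective_of_retract hfE.isInjective je.toLinearMap je.symm.toLinearMap (by ext; simp)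

end

end Groth.Agent.Lib.Helper2
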