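import Groth.Agent.Lib.Helper2.InjTorsion
import Mathlib.RingTheory.LocalRing.ResidueField.Basic

/-!
# The injective hull of the residue field of a Noetherian local ring (helper2)
-/

set_option autoImplicit false
universe u v

namespace Groth.Agent.Lib.Helper2
open InjHull

lemma isPowerTorsion_iff_powTorsion_eq_top {R : Type u} [CommRing R] (J : Ideal R) (M : Type v)
    [AddCommGroup M] [Module R M] :
    LocCoh.IsPowerTorsion J M ↔ powTorsion (I := M) J = ⊤ := by
  rw [eq_top_iff]
  constructor
  · intro h x _
    exact (mem_powTorsion_iff J).mpr (h x)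
  · intro h x
    exact (mem_powTorsion_iff J).mp (h trivial)

lemma maximalIdeal_smul_residueField {R : Type u} [CommRing R] [IsLocalRing R]
    (a : R) (ha : a ∈ IsLocalRing.maximalIdeal R) (x : IsLocalRing.ResidueField R) :
    a • x = 0 := by
  rw [Algebra.smul_def]
  have : algebraMap R (IsLocalRing.ResidueField R) a = 0 := by
    rw [IsLocalRing.ResidueField.algebraMap_eq, IsLocalRing.residue_eq_zero_iff]
    exact ha
  rw [this, zero_mul]

/-- Over a Noetherian local ring the injective hull of the residue field is power torsion. -/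
theorem isPowerTorsion_of_isInjectiveHull_residueField {R : Type u} [CommRing R] [IsLocalRing R]
    [IsNoetherianRing R] {E : Type u} [AddCommGroup E] [Module R E]
    {f : IsLocalRing.ResidueField R →ₗ[R] E} (hf : IsInjectiveHull f) :
    LocCoh.IsPowerTorsion (IsLocalRing.maximalIdeal R) E := by
  rw [isPowerTorsion_iff_powTorsion_eq_top]
  have hΓ := injective_powTorsion hf.isInjective (IsLocalRing.maximalIdeal R)
  obtain ⟨C, hC⟩ := exists_isCompl_of_injective _ hΓ
  have hCbot : C = ⊥ := by
    by_contra hne
    apply hf.essential C hne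
    rw [eq_bot_iff]
    rintro _ ⟨hx1, x, rfl⟩
    have : f x ∈ powTorsion (I := E) (IsLocalRing.maximalIdeal R) := by
      rw [mem_powTorsion_iff]
      refine ⟨1, fun a ha => ?_⟩
      rw [pow_one] at ha
      rw [← map_smul, maximalIdeal_smul_residueField a ha, map_zero]
    exact (Submodule.disjoint_def.mp hC.disjoint) _ this hx1
  rw [hCbot] at hC
  simpa using hC.sup_eq_top

end Groth.Agent.Lib.Helper2

namespace Groth.Agent.Lib.Helper2
open InjHull

/-- In a power-torsion module the socle `M[J]` is essential. -/
lemma exists_smul_mem_torsionBy_of_isPowerTorsion {R : Type u} [CommRing R] (J : Ideal R)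
    {M : Type v} [AddCommGroup M] [Module R M] (hM : LocCoh.IsPowerTorsion J M) (x : M)
    (hx : x ≠ 0) : ∃ r : R, r • x ≠ 0 ∧ r • x ∈ LocCoh.torsionBy J M := by
  classical
  have hex := hM x
  have hN0 : Nat.find hex ≠ 0 := by
    intro h0
    have := Nat.find_spec hex
    rw [h0, pow_zero] at this
    exact hx (by simpa using this 1 (by simp))
  obtain ⟨N', hN'⟩ := Nat.exists_eq_succ_of_ne_zero hN0
  have hlt : N' < Nat.find hex := by omega
  have := Nat.find_min hex hlt
  push Not at this
  obtain ⟨a, ha, hax⟩ := this
  refine ⟨a, hax, ?_⟩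
  rw [Submodule.mem_torsionBySet_iff]
  rintro ⟨b, hb⟩
  rw [← mul_smul]
  apply Nat.find_spec hex
  rw [hN', Nat.succ_eq_add_one, pow_succ']
  exact Ideal.mul_mem_mul hb ha

end Groth.Agent.Lib.Helper2

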