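import Mathlib
import Groth.Agent.H76.FlatLocusFP

/-!
# Openness of the flat locus of a morphism locally of finite presentation (S0386)

Reduces to helper76's ring-theoretic `FlatLocusFP.isOpen_flatLocus`.

* `flat_stalkMap_iff_flat_localizedModule`: for affine `W ⊆ f⁻¹ V`, `V` affine, and `y ∈ W`, the stalk map at `y`
  is flat iff `Γ(X, W)_q` is flat over `Γ(S, V)`.
* `isOpen_flat_stalkMap_locus` (= S0386).
-/

set_option linter.style.haveILetI false
set_option autoImplicit false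

universe u
open CategoryTheory CategoryTheory.Limits AlgebraicGeometry TopologicalSpace Opposite

namespace Groth.Agent.Lib.Helper2

/-- Flatness of the stalk map at a point of an affine open `W ⊆ f⁻¹ V` in terms of the localization of
`Γ(X, W)` as a `Γ(S, V)`-module. -/
theorem flat_stalkMap_iff_flat_localizedModule {X S : Scheme.{u}} (f : X ⟶ S) {V : S.Opens}
    (hV : IsAffineOpen V) {W : X.Opens} (hW : IsAffineOpen W) (e : W ≤ f ⁻¹ᵁ V) (y : X) (hy : y ∈ W) :
    letI := (f.appLE V W e).hom.toAlgebra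
    (f.stalkMap y).hom.Flat ↔
      Module.Flat Γ(S, V) (LocalizedModule (hW.primeIdealOf ⟨y, hy⟩).asIdeal.primeCompl Γ(X, W)) := by
  letI algAB : Algebra Γ(S, V) Γ(X, W) := (f.appLE V W e).hom.toAlgebra
  letI algBOy : Algebra Γ(X, W) (X.presheaf.stalk y) := (X.presheaf.germ W y hy).hom.toAlgebra
  letI algAOs : Algebra Γ(S, V) (S.presheaf.stalk (f y)) := (S.presheaf.germ V (f y) (e hy)).hom.toAlgebra
  letI algOsOy : Algebra (S.presheaf.stalk (f y)) (X.presheaf.stalk y) := (f.stalkMap y).hom.toAlgebra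
  letI algAOy : Algebra Γ(S, V) (X.presheaf.stalk y) :=
    ((algebraMap Γ(X, W) (X.presheaf.stalk y)).comp (algebraMap Γ(S, V) Γ(X, W))).toAlgebra
  haveI : IsScalarTower Γ(S, V) Γ(X, W) (X.presheaf.stalk y) := IsScalarTower.of_algebraMap_eq' rfl
  haveI : IsScalarTower Γ(S, V) (S.presheaf.stalk (f y)) (X.presheaf.stalk y) := by
    apply IsScalarTower.of_algebraMap_eq'
    have h1 : f.appLE V W e ≫ X.presheaf.germ W y hy =
        S.presheaf.germ V (f y) (e hy) ≫ f.stalkMap y := by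
      rw [Scheme.Hom.germ_stalkMap, Scheme.Hom.appLE, Category.assoc, TopCat.Presheaf.germ_res]
    exact congrArg CommRingCat.Hom.hom h1
  haveI locS : IsLocalization.AtPrime (S.presheaf.stalk (f y)) (hV.primeIdealOf ⟨f y, e hy⟩).asIdeal :=
    hV.isLocalization_stalk ⟨f y, e hy⟩
  haveI locX : IsLocalization.AtPrime (X.presheaf.stalk y) (hW.primeIdealOf ⟨y, hy⟩).asIdeal :=
    hW.isLocalization_stalk ⟨y, hy⟩
  have h1 : (f.stalkMap y).hom.Flat ↔ Module.Flat Γ(S, V) (X.presheaf.stalk y) :=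
    Module.flat_iff_of_isLocalization (S.presheaf.stalk (f y))
      (hV.primeIdealOf ⟨f y, e hy⟩).asIdeal.primeCompl (X.presheaf.stalk y)
  rw [h1]
  -- the two localizations of `Γ(X, W)` at the prime agree
  let l1 : Γ(X, W) →ₗ[Γ(X, W)] X.presheaf.stalk y := Algebra.linearMap _ _
  haveI : IsLocalizedModule (hW.primeIdealOf ⟨y, hy⟩).asIdeal.primeCompl l1 :=
    (isLocalizedModule_iff_isLocalization' _ _).mpr locX
  let eq : LocalizedModule (hW.primeIdealOf ⟨y, hy⟩).asIdeal.primeCompl Γ(X, W) ≃ₗ[Γ(X, W)]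
      X.presheaf.stalk y := IsLocalizedModule.iso _ l1
  exact ⟨fun h => Module.Flat.of_linearEquiv (eq.restrictScalars Γ(S, V)),
    fun h => Module.Flat.of_linearEquiv (eq.symm.restrictScalars Γ(S, V))⟩

/-- `S0386`: the flat locus of a morphism locally of finite presentation is open. -/
theorem isOpen_flat_stalkMap_locus {X S : Scheme.{u}} (f : X ⟶ S) [LocallyOfFinitePresentation f] :
    IsOpen {x : X | (f.stalkMap x).hom.Flat} := by
  rw [isOpen_iff_mem_nhds]
  intro x hx
  obtain ⟨V, hV, hxV, -⟩ := exists_isAffineOpen_mem_and_subset (x := f x) (U := ⊤) trivial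
  obtain ⟨W, hW, hxW, hWV⟩ := exists_isAffineOpen_mem_and_subset (x := x) (U := f ⁻¹ᵁ V) hxV
  letI algAB : Algebra Γ(S, V) Γ(X, W) := (f.appLE V W hWV).hom.toAlgebra
  have hfp : (f.appLE V W hWV).hom.FinitePresentation :=
    HasRingHomProperty.appLE (P := @LocallyOfFinitePresentation) f inferInstance ⟨V, hV⟩ ⟨W, hW⟩ hWV
  haveI : Algebra.FinitePresentation Γ(S, V) Γ(X, W) := hfp
  have hT : IsOpen {q : PrimeSpectrum Γ(X, W) |
      Module.Flat Γ(S, V) (LocalizedModule q.asIdeal.primeCompl Γ(X, W))} :=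
    Groth.Agent.H76.FlatLocusFP.isOpen_flatLocus
  have hopen : IsOpen (hW.fromSpec '' {q : PrimeSpectrum Γ(X, W) |
      Module.Flat Γ(S, V) (LocalizedModule q.asIdeal.primeCompl Γ(X, W))}) :=
    hW.fromSpec.isOpenEmbedding.isOpenMap _ hT
  refine Filter.mem_of_superset (hopen.mem_nhds ?_) ?_
  · refine ⟨hW.primeIdealOf ⟨x, hxW⟩, ?_, hW.fromSpec_primeIdealOf ⟨x, hxW⟩⟩
    exact (flat_stalkMap_iff_flat_localizedModule f hV hW hWV x hxW).mp hx
  · rintro _ ⟨q, hq, rfl⟩
    have hyW : hW.fromSpec q ∈ W := by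
      have : hW.fromSpec q ∈ Set.range hW.fromSpec := ⟨q, rfl⟩
      rw [hW.range_fromSpec] at this
      exact this
    have hq' : hW.primeIdealOf ⟨hW.fromSpec q, hyW⟩ = q := by
      apply hW.fromSpec.isOpenEmbedding.injective
      exact hW.fromSpec_primeIdealOf ⟨hW.fromSpec q, hyW⟩
    refine (flat_stalkMap_iff_flat_localizedModule f hV hW hWV _ hyW).mpr ?_
    rw [hq']
    exact hq

end Groth.Agent.Lib.Helper2
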