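import Groth.Agent.Lib.Helper2.UnivInj
import Mathlib.RingTheory.Flat.EquationalCriterion
import Mathlib.LinearAlgebra.TensorProduct.Pi
import Mathlib.LinearAlgebra.TensorProduct.Prod

set_option autoImplicit false
universe u
open scoped TensorProduct

namespace Groth.Agent.Lib.Helper2

variable {R S : Type u} [CommRing R] [CommRing S] [Algebra R S]

/-- A linear system over `R` which is solvable after base change along a universally injective
`R → S` is solvable over `R`. -/
theorem UnivInjective.mem_range_of_tmul_mem_range (h : Pi1.UnivInjective R S) {X Y : Type u}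
    [AddCommGroup X] [Module R X] [AddCommGroup Y] [Module R Y] (Φ : X →ₗ[R] Y) (t : Y)
    (ht : (1 : S) ⊗ₜ[R] t ∈ LinearMap.range (Φ.lTensor S)) : t ∈ LinearMap.range Φ := by
  obtain ⟨σ, hσ⟩ := ht
  have hinj := UnivInjective.mk_one_injective h (Y ⧸ LinearMap.range Φ)
  have : (LinearMap.range Φ).mkQ t = 0 := by
    apply hinj
    rw [map_zero]
    change (1 : S) ⊗ₜ[R] ((LinearMap.range Φ).mkQ t) = 0
    have h1 : (1 : S) ⊗ₜ[R] ((LinearMap.range Φ).mkQ t) =
        ((LinearMap.range Φ).mkQ.lTensor S) ((1 : S) ⊗ₜ[R] t) := rfl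
    rw [h1, ← hσ, ← LinearMap.comp_apply, ← LinearMap.lTensor_comp]
    have : (LinearMap.range Φ).mkQ ∘ₗ Φ = 0 := by
      ext x
      simp
    rw [this, LinearMap.lTensor_zero, LinearMap.zero_apply]
  simpa using this

/-- Key lemma: if a relation can be trivialised over `S` using elements of the form `1 ⊗ z κ`,
then it can be trivialised over `R` using the `z κ`. -/
theorem UnivInjective.isTrivialRelation_aux (h : Pi1.UnivInjective R S) {M : Type u}
    [AddCommGroup M] [Module R M] {l : ℕ} {K : Type} [Fintype K] [DecidableEq K]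
    (f : Fin l → R) (x : Fin l → M) (z : K → M) (s : Fin l → K → S)
    (hx : ∀ i, (1 : S) ⊗ₜ[R] x i = ∑ κ, s i κ ⊗ₜ[R] z κ)
    (hf : ∀ κ, ∑ i, (f i) • s i κ = 0) :
    ∃ a : Fin l → K → R, (∀ i, x i = ∑ κ, a i κ • z κ) ∧ ∀ κ, ∑ i, f i * a i κ = 0 := by
  classical
  let Φ : (Fin l → K → R) →ₗ[R] (Fin l → M) × (K → R) :=
    { toFun := fun a => (fun i => ∑ κ, a i κ • z κ, fun κ => ∑ i, f i * a i κ)
      map_add' := by
        intro a b
        ext <;> simp [add_smul, mul_add, Finset.sum_add_distrib]
      map_smul' := by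
        intro c a
        ext <;> simp [mul_smul, Finset.smul_sum, Finset.mul_sum, mul_left_comm] }
  have hΦE : ∀ i κ, Φ (Pi.single i (Pi.single κ 1)) = (Pi.single i (z κ), Pi.single κ (f i)) := by
    intro i κ
    ext j
    · simp only [Φ, LinearMap.coe_mk, AddHom.coe_mk]
      by_cases hij : j = i
      · subst hij
        simp [Pi.single_apply, ite_smul]
      · simp [hij]
    · simp only [Φ, LinearMap.coe_mk, AddHom.coe_mk]
      rw [Finset.sum_eq_single i]
      · by_cases hij : j = κ
        · subst hij
          simp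
        · simp [hij]
      · intro b _ hb
        simp [hb]
      · simp
  have key : (1 : S) ⊗ₜ[R] ((x, 0) : (Fin l → M) × (K → R)) ∈ LinearMap.range (Φ.lTensor S) := by
    refine ⟨∑ i, ∑ κ, s i κ ⊗ₜ[R] (Pi.single i (Pi.single κ (1 : R)) : Fin l → K → R), ?_⟩
    simp only [map_sum, LinearMap.lTensor_tmul, hΦE]
    apply (TensorProduct.prodRight R S S (Fin l → M) (K → R)).injective
    simp only [map_sum, TensorProduct.prodRight_tmul]
    ext1
    · simp only [Prod.fst_sum]
      apply (TensorProduct.piRight R S S (fun _ : Fin l => M)).injective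
      ext j
      simp only [map_sum, TensorProduct.piRight_apply, TensorProduct.piRightHom_tmul,
        Finset.sum_apply]
      rw [hx j]
      rw [Finset.sum_eq_single j]
      · simp
      · intro b _ hb
        simp [Ne.symm hb]
      · simp
    · simp only [Prod.snd_sum]
      apply (TensorProduct.piRight R S S (fun _ : K => R)).injective
      ext κ
      simp only [map_sum, TensorProduct.piRight_apply, TensorProduct.piRightHom_tmul,
        Finset.sum_apply]
      have : ∀ i κ', (s i κ' ⊗ₜ[R] (Pi.single κ' (f i) : K → R) κ : S ⊗[R] R) =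
          if κ = κ' then (f i • s i κ') ⊗ₜ[R] (1 : R) else 0 := by
        intro i κ'
        by_cases hk : κ = κ'
        · subst hk
          simp only [Pi.single_eq_same, if_true]
          rw [TensorProduct.smul_tmul, smul_eq_mul, mul_one]
        · simp [hk]
      simp only [this]
      simp only [Finset.sum_ite_eq, Finset.mem_univ, if_true]
      rw [← TensorProduct.sum_tmul, hf κ]
      simp
  obtain ⟨a, ha⟩ := UnivInjective.mem_range_of_tmul_mem_range h Φ _ key
  refine ⟨a, fun i => ?_, fun κ => ?_⟩
  · have := congrFun (congrArg Prod.fst ha) i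
    simpa [Φ] using this.symm
  · have := congrFun (congrArg Prod.snd ha) κ
    simpa [Φ] using this

/-- Descent of flatness along universally injective ring maps. -/
theorem UnivInjective.flat (h : Pi1.UnivInjective R S) (M : Type u) [AddCommGroup M] [Module R M]
    [Module.Flat S (S ⊗[R] M)] : Module.Flat R M := by
  classical
  apply Module.Flat.of_forall_isTrivialRelation
  intro l f x hfx
  have hS : ∑ i, (algebraMap R S (f i)) • ((1 : S) ⊗ₜ[R] x i) = 0 := by
    have : ∀ i, (algebraMap R S (f i)) • ((1 : S) ⊗ₜ[R] x i) = (1 : S) ⊗ₜ[R] (f i • x i) := by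
      intro i
      rw [TensorProduct.smul_tmul', smul_eq_mul, mul_one, TensorProduct.tmul_smul,
        TensorProduct.smul_tmul', Algebra.smul_def, mul_one]
    simp_rw [this, ← TensorProduct.tmul_sum, hfx, TensorProduct.tmul_zero]
  obtain ⟨k, a', y', hy', ha'⟩ := Module.Flat.isTrivialRelation_of_sum_smul_eq_zero hS
  simp only at hy' ha'
  choose n sj mj hj using fun j => TensorProduct.exists_sum_tmul_eq (y' j)
  let K := Σ j : Fin k, Fin (n j)
  let z : K → M := fun κ => mj κ.1 κ.2
  let s : Fin l → K → S := fun i κ => a' i κ.1 * sj κ.1 κ.2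
  have hx : ∀ i, (1 : S) ⊗ₜ[R] x i = ∑ κ, s i κ ⊗ₜ[R] z κ := by
    intro i
    rw [hy' i, Fintype.sum_sigma]
    refine Finset.sum_congr rfl fun j _ => ?_
    rw [hj j, Finset.smul_sum]
    refine Finset.sum_congr rfl fun p _ => ?_
    rw [TensorProduct.smul_tmul', smul_eq_mul]
  have hf : ∀ κ, ∑ i, f i • s i κ = 0 := by
    intro κ
    have := ha' κ.1
    calc ∑ i, f i • s i κ = (∑ i, algebraMap R S (f i) * a' i κ.1) * sj κ.1 κ.2 := by
          rw [Finset.sum_mul]
          refine Finset.sum_congr rfl fun i _ => ?_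
          simp only [s]
          rw [Algebra.smul_def, mul_assoc]
      _ = 0 := by rw [this, zero_mul]
  obtain ⟨a, ha1, ha2⟩ := UnivInjective.isTrivialRelation_aux h f x z s hx hf
  rw [Module.isTrivialRelation_iff_vanishesTrivially]
  exact TensorProduct.VanishesTrivially.of_fintype a z ha1 (by simpa [mul_comm] using ha2)

end Groth.Agent.Lib.Helper2
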