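import Groth.Agent.Lib.Helper2.HartshorneConn
import Groth.Agent.Lib.Helper29.DepthSelf
import Groth.Prelude.Def_FEt
import Mathlib.AlgebraicGeometry.AffineScheme
import Mathlib.AlgebraicGeometry.Properties
import Mathlib.RingTheory.Ideal.GoingUp

/-!
# Sections over the complement of a depth-two locus (helper2)

* `exists_regular_pair_of_idealDepth`, `exists_regular_pair_of_finite`
* `res_bijective_of_regular_pair`: on an affine scheme, restriction of global sections to an open
  containing `D(x) ∪ D(y)` is bijective when `x, y` is a regular sequence.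
* `isIso_res_punctured_of_depth_two`
-/

set_option autoImplicit false
universe u
open AlgebraicGeometry CategoryTheory TopologicalSpace Opposite RingTheory.Sequence

namespace Groth.Agent.Lib.Helper2

lemma exists_regular_pair_of_idealDepth {R : Type u} [CommRing R] (I : Ideal R) (hI : I ≠ ⊤)
    (h : 2 ≤ LocCoh.idealDepth I R) :
    ∃ x y : R, x ∈ I ∧ y ∈ I ∧ IsSMulRegular R x ∧ RegMod x y := by
  unfold LocCoh.idealDepth at h
  rw [if_neg] at h
  swap
  · rw [smul_eq_mul, Ideal.mul_top]
    exact hI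
  by_contra hcon
  push Not at hcon
  have : (⨆ (rs : List R) (_ : IsWeaklyRegular R rs ∧ ∀ r ∈ rs, r ∈ I),
      (rs.length : ℕ∞)) ≤ 1 := by
    apply iSup₂_le
    rintro rs ⟨hreg, hmem⟩
    match rs, hreg, hmem with
    | [], _, _ => simp
    | [_], _, _ => simp
    | x :: y :: rest, hreg, hmem =>
      exfalso
      rw [isWeaklyRegular_cons_iff] at hreg
      obtain ⟨hx, hreg⟩ := hreg
      rw [isWeaklyRegular_cons_iff] at hreg
      obtain ⟨hy, -⟩ := hreg
      apply hcon x y (hmem x (by simp)) (hmem y (by simp)) hx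
      rintro r ⟨s, hs⟩
      have h0 : y • (Submodule.Quotient.mk r : QuotSMulTop x R) = y • 0 := by
        rw [smul_zero, ← Submodule.Quotient.mk_smul, Submodule.Quotient.mk_eq_zero, smul_eq_mul, hs]
        exact Submodule.smul_mem_pointwise_smul _ _ _ trivial
      have h1 := hy h0
      rw [Submodule.Quotient.mk_eq_zero, Submodule.mem_smul_pointwise_iff_exists] at h1
      obtain ⟨s', -, hs'⟩ := h1
      exact ⟨s', hs'.symm⟩
  have h2 : (2 : ℕ∞) ≤ 1 := le_trans h this
  exact absurd h2 (by decide)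

/-- A finite algebra over a Noetherian local ring all of whose localizations at maximal ideals have
depth at least two admits a regular pair in the extension of the maximal ideal. -/
lemma exists_regular_pair_of_finite (A B : Type u) [CommRing A] [IsNoetherianRing A]
    [IsLocalRing A] [CommRing B] [Algebra A B] [Module.Finite A B] [Nontrivial B]
    (h : ∀ (m : Ideal B) (_ : m.IsMaximal),
      (2 : ℕ∞) ≤ LocCoh.depth (Localization.AtPrime m) (Localization.AtPrime m)) :
    ∃ x y : B, x ∈ (IsLocalRing.maximalIdeal A).map (algebraMap A B) ∧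
      y ∈ (IsLocalRing.maximalIdeal A).map (algebraMap A B) ∧ IsSMulRegular B x ∧ RegMod x y := by
  have : Algebra.IsIntegral A B := Algebra.IsIntegral.of_finite A B
  have : IsNoetherianRing B := IsNoetherianRing.of_finite A B
  have hmax : ∀ (p : Ideal B) [p.IsPrime],
      (IsLocalRing.maximalIdeal A).map (algebraMap A B) ≤ p → p.IsMaximal := by
    intro p _ hp
    have h1 : IsLocalRing.maximalIdeal A ≤ p.comap (algebraMap A B) :=
      Ideal.map_le_iff_le_comap.mp hp
    have h2 : p.comap (algebraMap A B) = IsLocalRing.maximalIdeal A :=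
      ((IsLocalRing.maximalIdeal.isMaximal A).eq_of_le (Ideal.IsPrime.ne_top inferInstance) h1).symm
    exact Ideal.isMaximal_of_isIntegral_of_isMaximal_comap (R := A) p (by rw [h2]; infer_instance)
  apply exists_regular_pair_of_idealDepth
  · obtain ⟨m, hm⟩ := Ideal.exists_maximal B
    have h1 : (m.comap (algebraMap A B)).IsMaximal :=
      Ideal.isMaximal_comap_of_isIntegral_of_isMaximal (R := A) m
    have h2 := IsLocalRing.eq_maximalIdeal h1
    intro htop
    have : (IsLocalRing.maximalIdeal A).map (algebraMap A B) ≤ m := by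
      rw [Ideal.map_le_iff_le_comap, h2]
    rw [htop, top_le_iff] at this
    exact hm.ne_top this
  · have := Groth.Agent.Lib.Helper29.le_idealDepth_of_forall_le_depth_localization B 2 B
      ((IsLocalRing.maximalIdeal A).map (algebraMap A B)) (by
        intro p _ hp
        rw [Groth.Agent.Lib.Helper29.depth_localizedModule_self]
        exact h p (hmax p hp))
    exact_mod_cast this

section

variable {X : Scheme.{u}}

/-- restriction of sections -/
noncomputable abbrev res {U V : X.Opens} (h : V ≤ U) : Γ(X, U) →+* Γ(X, V) :=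
  (X.presheaf.map (homOfLE h).op).hom

lemma res_res {U V W : X.Opens} (h1 : V ≤ U) (h2 : W ≤ V) (s : Γ(X, U)) :
    res h2 (res h1 s) = res (h2.trans h1) s := by
  unfold res
  rw [← RingHom.comp_apply, ← CommRingCat.hom_comp, ← Functor.map_comp]
  rfl

lemma algebraMap_basicOpen_eq {U : X.Opens} (f : Γ(X, U)) (a : Γ(X, U)) :
    algebraMap Γ(X, U) Γ(X, X.basicOpen f) a = res (X.basicOpen_le f) a := rfl

/-- vanishing on a basic open of an affine open: killed by a power. -/
lemma exists_pow_mul_eq_zero_of_res_eq_zero {U : X.Opens} (hU : IsAffineOpen U) (f a : Γ(X, U))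
    (h : res (X.basicOpen_le f) a = 0) : ∃ n : ℕ, f ^ n * a = 0 := by
  have := hU.isLocalization_basicOpen f
  rw [← algebraMap_basicOpen_eq, IsLocalization.map_eq_zero_iff (Submonoid.powers f)] at h
  obtain ⟨⟨_, n, rfl⟩, hn⟩ := h
  exact ⟨n, hn⟩

/-- every section of a basic open of an affine open is a fraction -/
lemma exists_res_eq_mul_pow {U : X.Opens} (hU : IsAffineOpen U) (f : Γ(X, U))
    (z : Γ(X, X.basicOpen f)) :
    ∃ (n : ℕ) (a : Γ(X, U)), z * res (X.basicOpen_le f) f ^ n = res (X.basicOpen_le f) a := by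
  have := hU.isLocalization_basicOpen f
  obtain ⟨⟨a, ⟨_, n, rfl⟩⟩, h⟩ := IsLocalization.surj (Submonoid.powers f) z
  refine ⟨n, a, ?_⟩
  simpa [algebraMap_basicOpen_eq] using h

lemma isUnit_res_basicOpen {U : X.Opens} (f : Γ(X, U)) :
    IsUnit (res (X.basicOpen_le f) f) :=
  RingedSpace.isUnit_res_basicOpen _ f

/-- injectivity of restriction to an open containing `D(x)` for `x` regular. -/
lemma res_injective_of_regular [IsAffine X] (U : X.Opens) (x : Γ(X, ⊤))
    (hxU : X.basicOpen x ≤ U) (hx : IsSMulRegular Γ(X, ⊤) x) :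
    Function.Injective (res (le_top : U ≤ ⊤)) := by
  rw [injective_iff_map_eq_zero]
  intro r hr
  have h1 : res (X.basicOpen_le x) r = 0 := by
    rw [← res_res (le_top : U ≤ ⊤) hxU, hr, map_zero]
  obtain ⟨n, hn⟩ := exists_pow_mul_eq_zero_of_res_eq_zero (isAffineOpen_top X) x r h1
  exact (hx.pow n) (by simpa using hn)

/-- a section over `U ⊇ D(x)` vanishing on `D(x)` is zero, for `x` regular on an affine scheme. -/
lemma eq_zero_of_res_basicOpen_eq_zero [IsAffine X] (U : X.Opens) (x : Γ(X, ⊤))
    (hxU : X.basicOpen x ≤ U) (hx : IsSMulRegular Γ(X, ⊤) x) (t : Γ(X, U))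
    (ht : res hxU t = 0) : t = 0 := by
  apply X.IsSheaf.section_ext (U := op U)
  intro p hp
  obtain ⟨f, hfU, hpf⟩ := (isAffineOpen_top X).exists_basicOpen_le (V := U) ⟨p, hp⟩ trivial
  refine ⟨X.basicOpen f, hfU, hpf, ?_⟩
  change res hfU t = res hfU 0
  rw [map_zero]
  -- work in Γ(D(f)) = R_f
  have hDf : IsAffineOpen (X.basicOpen f) := (isAffineOpen_top X).basicOpen f
  set xf : Γ(X, X.basicOpen f) := res (X.basicOpen_le f) x with hxf
  have hbo : X.basicOpen xf = X.basicOpen f ⊓ X.basicOpen x := Scheme.basicOpen_res _ _ _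
  have hle : X.basicOpen xf ≤ X.basicOpen x := hbo ▸ inf_le_right
  have h0 : res (X.basicOpen_le xf) (res hfU t) = 0 := by
    rw [res_res, ← res_res hxU hle, ht, map_zero]
  obtain ⟨n, hn⟩ := exists_pow_mul_eq_zero_of_res_eq_zero hDf xf _ h0
  -- xf is a nonzerodivisor on Γ(D(f))
  have := (isAffineOpen_top X).isLocalization_basicOpen f
  have hxnzd : x ∈ nonZeroDivisors Γ(X, ⊤) := by
    rw [mem_nonZeroDivisors_iff_right]
    intro z hz
    exact hx (by simpa [mul_comm] using hz)
  have hxf_nzd : xf ∈ nonZeroDivisors Γ(X, X.basicOpen f) :=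
    IsLocalization.map_nonZeroDivisors_le (Submonoid.powers f) _ ⟨x, hxnzd, rfl⟩
  have hpow : xf ^ n ∈ nonZeroDivisors Γ(X, X.basicOpen f) := pow_mem hxf_nzd n
  exact (mem_nonZeroDivisors_iff_right.mp hpow) _ (by rw [mul_comm]; exact hn)

lemma res_surjective_of_regular_pair [IsAffine X] (U : X.Opens) (x y : Γ(X, ⊤))
    (hxU : X.basicOpen x ≤ U) (hyU : X.basicOpen y ≤ U) (hx : IsSMulRegular Γ(X, ⊤) x)
    (hxy : RegMod x y) : Function.Surjective (res (le_top : U ≤ ⊤)) := by
  intro s
  obtain ⟨n, a, ha⟩ := exists_res_eq_mul_pow (isAffineOpen_top X) x (res hxU s)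
  obtain ⟨m, b, hb⟩ := exists_res_eq_mul_pow (isAffineOpen_top X) y (res hyU s)
  have hW : X.basicOpen (x * y) = X.basicOpen x ⊓ X.basicOpen y := Scheme.basicOpen_mul _ _ _
  have hWx : X.basicOpen (x * y) ≤ X.basicOpen x := hW ▸ inf_le_left
  have hWy : X.basicOpen (x * y) ≤ X.basicOpen y := hW ▸ inf_le_right
  have hWU : X.basicOpen (x * y) ≤ U := hWx.trans hxU
  have e1 : res (X.basicOpen_le (x * y)) (a * y ^ m) =
      res hWU s * res (X.basicOpen_le (x * y)) x ^ n * res (X.basicOpen_le (x * y)) y ^ m := by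
    rw [map_mul, map_pow, ← res_res (X.basicOpen_le x) hWx a, ← ha, map_mul, map_pow, res_res,
      res_res]
  have e2 : res (X.basicOpen_le (x * y)) (b * x ^ n) =
      res hWU s * res (X.basicOpen_le (x * y)) y ^ m * res (X.basicOpen_le (x * y)) x ^ n := by
    rw [map_mul, map_pow, ← res_res (X.basicOpen_le y) hWy b, ← hb, map_mul, map_pow, res_res,
      res_res]
  have e3 : res (X.basicOpen_le (x * y)) (a * y ^ m - b * x ^ n) = 0 := by
    rw [map_sub, e1, e2]; ring
  obtain ⟨k, hk⟩ := exists_pow_mul_eq_zero_of_res_eq_zero (isAffineOpen_top X) (x * y) _ e3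
  have e4 : y ^ (m + k) * a = x ^ n * (y ^ k * b) := by
    have : x ^ k • (y ^ k * (a * y ^ m - b * x ^ n)) = x ^ k • 0 := by
      rw [smul_zero, smul_eq_mul, ← mul_assoc, ← mul_pow]
      exact hk
    have h2 := (hx.pow k) this
    linear_combination h2
  have hreg : RegMod (x ^ n) (y ^ (m + k)) := regMod_pow_right (regMod_pow_left hx hxy n) (m + k)
  obtain ⟨c, hc⟩ := hreg a ⟨y ^ k * b, e4⟩
  refine ⟨c, ?_⟩
  have h0 : res hxU (s - res (le_top : U ≤ ⊤) c) = 0 := by
    have hu : IsUnit (res (X.basicOpen_le x) x ^ n) := (isUnit_res_basicOpen x).pow n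
    apply hu.mul_left_injective
    simp only
    rw [zero_mul, map_sub, sub_mul, ha, res_res, hc, map_mul, map_pow]
    ring
  have := eq_zero_of_res_basicOpen_eq_zero U x hxU hx _ h0
  exact (sub_eq_zero.mp this).symm

theorem res_bijective_of_regular_pair [IsAffine X] (U : X.Opens) (x y : Γ(X, ⊤))
    (hxU : X.basicOpen x ≤ U) (hyU : X.basicOpen y ≤ U) (hx : IsSMulRegular Γ(X, ⊤) x)
    (hxy : RegMod x y) : Function.Bijective (res (le_top : U ≤ ⊤)) :=
  ⟨res_injective_of_regular U x hxU hx, res_surjective_of_regular_pair U x y hxU hyU hx hxy⟩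

end

lemma isSMulRegular_ringEquiv {R S : Type u} [CommRing R] [CommRing S] (e : R ≃+* S) {x : R}
    (hx : IsSMulRegular R x) : IsSMulRegular S (e x) := by
  intro z z' h
  simp only [smul_eq_mul] at h
  have h1 : x • e.symm z = x • e.symm z' := by
    apply e.injective
    simp only [smul_eq_mul, map_mul, RingEquiv.apply_symm_apply]
    exact h
  exact e.symm.injective (hx h1)

lemma regMod_ringEquiv {R S : Type u} [CommRing R] [CommRing S] (e : R ≃+* S) {x y : R}
    (h : RegMod x y) : RegMod (e x) (e y) := by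
  rintro r ⟨s, hs⟩
  obtain ⟨t, ht⟩ := h (e.symm r) ⟨e.symm s, by
    apply e.injective
    simp only [map_mul, RingEquiv.apply_symm_apply]
    exact hs⟩
  exact ⟨e t, by rw [← map_mul, ← ht, RingEquiv.apply_symm_apply]⟩

theorem isIso_res_punctured_of_depth_two (A B : Type u) [CommRing A] [IsNoetherianRing A]
    [IsLocalRing A] [CommRing B] [Algebra A B] [Module.Finite A B]
    (h : ∀ (m : Ideal B) (_ : m.IsMaximal),
      (2 : ℕ∞) ≤ LocCoh.depth (Localization.AtPrime m) (Localization.AtPrime m)) :
    IsIso ((Spec (CommRingCat.of B)).presheaf.map (homOfLE (le_top :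
      Spec.map (CommRingCat.ofHom (algebraMap A B)) ⁻¹ᵁ FEt.puncturedSpec A ≤ ⊤)).op) := by
  by_cases hB : Nontrivial B
  · obtain ⟨x, y, hxI, hyI, hx, hxy⟩ := exists_regular_pair_of_finite A B h
    let e : B ≃+* Γ(Spec (CommRingCat.of B), ⊤) :=
      (Scheme.ΓSpecIso (CommRingCat.of B)).symm.commRingCatIsoToRingEquiv
    have he : ∀ b : B, e b = (Scheme.ΓSpecIso (CommRingCat.of B)).inv b := fun _ => rfl
    have hmem : ∀ z : B, z ∈ (IsLocalRing.maximalIdeal A).map (algebraMap A B) →
        (Spec (CommRingCat.of B)).basicOpen (e z) ≤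
          Spec.map (CommRingCat.ofHom (algebraMap A B)) ⁻¹ᵁ FEt.puncturedSpec A := by
      intro z hz
      rw [he, basicOpen_eq_of_affine]
      intro p hp
      change (Spec.map (CommRingCat.ofHom (algebraMap A B))) p ∈ FEt.puncturedSpec A
      change (Spec.map (CommRingCat.ofHom (algebraMap A B))) p ∈
        ({IsLocalRing.closedPoint A}ᶜ : Set (PrimeSpectrum A))
      intro hcon
      have h1 : (p.asIdeal).comap (algebraMap A B) = IsLocalRing.maximalIdeal A := by
        have := congrArg PrimeSpectrum.asIdeal (Set.mem_singleton_iff.mp hcon)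
        exact this
      have h2 : (IsLocalRing.maximalIdeal A).map (algebraMap A B) ≤ p.asIdeal := by
        rw [Ideal.map_le_iff_le_comap, h1]
      exact hp (h2 hz)
    have hbij := res_bijective_of_regular_pair
      (Spec.map (CommRingCat.ofHom (algebraMap A B)) ⁻¹ᵁ FEt.puncturedSpec A) (e x) (e y)
      (hmem x hxI) (hmem y hyI) (isSMulRegular_ringEquiv e hx) (regMod_ringEquiv e hxy)
    exact (ConcreteCategory.isIso_iff_bijective _).mpr hbij
  · rw [not_nontrivial_iff_subsingleton] at hB
    have hemp : IsEmpty (Spec (CommRingCat.of B)) := by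
      change IsEmpty (PrimeSpectrum B)
      infer_instance
    have hU : (⊤ : (Spec (CommRingCat.of B)).Opens) ≤
        Spec.map (CommRingCat.ofHom (algebraMap A B)) ⁻¹ᵁ FEt.puncturedSpec A := by
      intro p
      exact (hemp.false p).elim
    have : IsIso (homOfLE (le_top :
        Spec.map (CommRingCat.ofHom (algebraMap A B)) ⁻¹ᵁ FEt.puncturedSpec A ≤ ⊤)) :=
      ⟨⟨homOfLE hU, Subsingleton.elim _ _, Subsingleton.elim _ _⟩⟩
    infer_instance

end Groth.Agent.Lib.Helper2
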