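import Groth.Agent.Lib.Helper2.UnivHomeo
import Mathlib.AlgebraicGeometry.Morphisms.Integral
import Mathlib.AlgebraicGeometry.Morphisms.Affine

/-!
# Homeomorphisms of schemes are affine (helper2)
-/

set_option autoImplicit false
universe u
open AlgebraicGeometry CategoryTheory

namespace Groth.Agent.Lib.Helper2

/-- A morphism of schemes that is a homeomorphism on underlying spaces is affine. -/
theorem isAffineHom_of_isHomeomorph {X Y : Scheme.{u}} (f : X ⟶ Y) (hf : IsHomeomorph f) :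
    IsAffineHom f := by
  apply isAffineHom_of_forall_exists_isAffineOpen
  intro y
  obtain ⟨x, rfl⟩ := hf.surjective y
  -- affine open nbhd V of f x
  obtain ⟨_, ⟨V, hV : IsAffineOpen V, rfl⟩, hyV, -⟩ :=
    (Y.isBasis_affineOpens).exists_subset_of_mem_open (Set.mem_univ (f x)) isOpen_univ
  -- affine open nbhd U of x inside f⁻¹ V
  obtain ⟨_, ⟨U, hU : IsAffineOpen U, rfl⟩, hxU, hUV⟩ :=
    (X.isBasis_affineOpens).exists_subset_of_mem_open (show x ∈ (f ⁻¹ᵁ V : Set X) from hyV)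
      (f ⁻¹ᵁ V).isOpen
  -- f(U) is open
  let W : Y.Opens := ⟨f '' U, hf.isOpenMap _ U.isOpen⟩
  obtain ⟨h, hhW, hxh⟩ := hV.exists_basicOpen_le (V := W) ⟨f x, ⟨x, hxU, rfl⟩⟩ hyV
  refine ⟨Y.basicOpen h, hxh, hV.basicOpen h, ?_⟩
  have hle : f ⁻¹ᵁ Y.basicOpen h ≤ U := by
    intro z hz
    obtain ⟨z', hz'U, hz'⟩ := hhW hz
    rwa [← hf.injective hz']
  have key : f ⁻¹ᵁ Y.basicOpen h =
      X.basicOpen (X.presheaf.map (homOfLE hUV).op (f.app V h)) := by
    rw [Scheme.basicOpen_res, ← Scheme.preimage_basicOpen]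
    exact (inf_eq_right.mpr hle).symm
  rw [key]
  exact hU.basicOpen _

end Groth.Agent.Lib.Helper2

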