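import Mathlib
import Groth.Agent.Lib.Helper91.GenericFreenessReduced

/-!
# Generic flatness over a reduced base (helper2)

Scheme-theoretic generic flatness deduced from helper91's generic freeness over reduced rings.
-/

set_option linter.style.haveILetI false

universe u
open AlgebraicGeometry CategoryTheory TopologicalSpace

namespace Groth.Agent.Lib.Helper2

/-- Flatness of `Localization.awayMap` from freeness of the localized module. -/
theorem awayMap_flat_of_free {R A : Type u} [CommRing R] [CommRing A] [Algebra R A] (f : R)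
    [Module.Free (Localization.Away f) (LocalizedModule (Submonoid.powers f) A)] :
    (Localization.awayMap (algebraMap R A) f).Flat := by
  letI alg : Algebra (Localization.Away f) (Localization.Away (algebraMap R A f)) :=
    (Localization.awayMap (algebraMap R A) f).toAlgebra
  haveI : IsScalarTower R (Localization.Away f) (Localization.Away (algebraMap R A f)) :=
    IsScalarTower.of_algebraMap_eq (fun r => by
      rw [RingHom.algebraMap_toAlgebra, IsScalarTower.algebraMap_apply R A (Localization.Away _)]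
      exact (IsLocalization.map_eq _ r).symm)
  haveI : IsLocalization (Algebra.algebraMapSubmonoid A (Submonoid.powers f))
      (Localization.Away (algebraMap R A f)) := by
    rw [Algebra.algebraMapSubmonoid, Submonoid.map_powers]; infer_instance
  haveI : IsLocalizedModule (Submonoid.powers f)
      (IsScalarTower.toAlgHom R A (Localization.Away (algebraMap R A f))).toLinearMap :=
    (isLocalizedModule_iff_isLocalization).mpr inferInstance
  let e : LocalizedModule (Submonoid.powers f) A ≃ₗ[R] Localization.Away (algebraMap R A f) :=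
    IsLocalizedModule.iso (Submonoid.powers f)
      (IsScalarTower.toAlgHom R A (Localization.Away (algebraMap R A f))).toLinearMap
  let e' : LocalizedModule (Submonoid.powers f) A ≃ₗ[Localization.Away f]
      Localization.Away (algebraMap R A f) :=
    e.extendScalarsOfIsLocalization (Submonoid.powers f) (Localization.Away f)
  have : Module.Free (Localization.Away f) (Localization.Away (algebraMap R A f)) :=
    Module.Free.of_equiv e'
  change Module.Flat (Localization.Away f) (Localization.Away (algebraMap R A f))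
  infer_instance

/-- Generic flatness, ring form. -/
theorem exists_awayMap_flat_fp {R A : Type u} [CommRing R] [IsReduced R] [CommRing A]
    (φ : R →+* A) (hφ : φ.FiniteType) (h : R) (hh : h ≠ 0) :
    ∃ g, h ∣ g ∧ g ≠ 0 ∧ (Localization.awayMap φ g).Flat ∧
      (Localization.awayMap φ g).FinitePresentation := by
  letI := φ.toAlgebra
  haveI : Algebra.FiniteType R A := hφ
  obtain ⟨f, hdvd, hf0, -, hfree, hfp, -⟩ :=
    Groth.Agent.Lib.Helper91.generic_freeness_reduced_aux (R := R) (S := A) (M := A) h hh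
  exact ⟨f, hdvd, hf0, awayMap_flat_of_free (R := R) (A := A) f, hfp⟩

theorem exists_common_good {R : Type*} [CommRing R] {ι : Type*} (s : Finset ι)
    (Good : ι → R → Prop) (hmono : ∀ i g t, Good i g → Good i (g * t))
    (hex : ∀ i, ∀ h : R, h ≠ 0 → ∃ g, h ∣ g ∧ g ≠ 0 ∧ Good i g) (h : R) (hh : h ≠ 0) :
    ∃ g, h ∣ g ∧ g ≠ 0 ∧ ∀ i ∈ s, Good i g := by
  classical
  induction s using Finset.induction_on with
  | empty => exact ⟨h, dvd_rfl, hh, by simp⟩
  | insert a s _ ih =>
    obtain ⟨g, hg, hg0, hgood⟩ := ih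
    obtain ⟨g', hg', hg'0, hgood'⟩ := hex a g hg0
    refine ⟨g', hg.trans hg', hg'0, ?_⟩
    intro i hi
    rcases Finset.mem_insert.mp hi with rfl | hi
    · exact hgood'
    · obtain ⟨t, rfl⟩ := hg'
      exact hmono i g t (hgood i hi)

theorem awayMap_mul_of_awayMap
    {Q : ∀ {R S : Type u} [CommRing R] [CommRing S], (R →+* S) → Prop}
    (hQi : RingHom.RespectsIso @Q) (hQl : RingHom.LocalizationAwayPreserves @Q)
    {R A : Type u} [CommRing R] [CommRing A] (φ : R →+* A) (g t : R)
    (h : Q (Localization.awayMap φ g)) : Q (Localization.awayMap φ (g * t)) := by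
  set ψ : Localization.Away g →+* Localization.Away (φ g) := Localization.awayMap φ g with hψ
  set t' : Localization.Away g := algebraMap R _ t with ht'
  have e : ψ t' = algebraMap A (Localization.Away (φ g)) (φ t) := IsLocalization.map_eq _ _
  have hψ' := hQl ψ t' (Localization.Away t') (Localization.Away (ψ t')) h
  haveI i1 : IsLocalization.Away (g * t) (Localization.Away t') :=
    IsLocalization.Away.mul' (Localization.Away g) (Localization.Away t') g t
  haveI i2 : IsLocalization.Away (algebraMap A (Localization.Away (φ g)) (φ t))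
      (Localization.Away (ψ t')) := e ▸ (inferInstance : IsLocalization.Away (ψ t') _)
  haveI i3 : IsLocalization.Away (φ g * φ t) (Localization.Away (ψ t')) :=
    IsLocalization.Away.mul' (Localization.Away (φ g)) (Localization.Away (ψ t')) (φ g) (φ t)
  haveI i4 : IsLocalization.Away (φ (g * t)) (Localization.Away (ψ t')) := by
    rw [map_mul]; exact i3
  refine (hQi.isLocalization_away_iff (Localization.Away t') (Localization.Away (ψ t')) φ
    (g * t)).mpr ?_
  convert hψ' using 1
  apply IsLocalization.ringHom_ext (Submonoid.powers (g * t))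
  rw [IsLocalization.Away.map, IsLocalization.map_comp]
  rw [IsScalarTower.algebraMap_eq R (Localization.Away g) (Localization.Away t'),
    ← RingHom.comp_assoc, IsLocalization.Away.map, IsLocalization.map_comp, RingHom.comp_assoc]
  rw [hψ, Localization.awayMap, IsLocalization.Away.map, IsLocalization.map_comp,
    ← RingHom.comp_assoc, ← IsScalarTower.algebraMap_eq]

theorem morphismRestrict_of_exists_appLE {P : MorphismProperty Scheme.{u}}
    {Q : ∀ {R S : Type u} [CommRing R] [CommRing S], (R →+* S) → Prop}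
    [HasRingHomProperty P Q]
    (hQ : RingHom.StableUnderCompositionWithLocalizationAwaySource @Q)
    {X S : Scheme.{u}} (f : X ⟶ S) (W : S.Opens)
    (H : ∀ x : X, f x ∈ W → ∃ (U : S.affineOpens) (V : X.affineOpens) (_ : U.1 ≤ W)
      (_ : x ∈ V.1) (e : V.1 ≤ f ⁻¹ᵁ U.1), Q (f.appLE U V e).hom) : P (f ∣_ W) := by
  rw [HasRingHomProperty.iff_exists_appLE (P := P) hQ]
  intro x
  obtain ⟨U, V, hUW, hxV, e, hq⟩ := H x.1 x.2
  have hU' : IsAffineOpen (W.ι ⁻¹ᵁ U.1) :=
    U.2.preimage_of_isOpenImmersion _ (by simpa using hUW)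
  have hVW : V.1 ≤ f ⁻¹ᵁ W := e.trans (f.preimage_mono hUW)
  have hV' : IsAffineOpen ((f ⁻¹ᵁ W).ι ⁻¹ᵁ V.1) :=
    V.2.preimage_of_isOpenImmersion _ (by simpa using hVW)
  have h1 : W.ι ''ᵁ (W.ι ⁻¹ᵁ U.1) = U.1 := by
    rw [Scheme.Hom.image_preimage_eq_opensRange_inf, Scheme.Opens.opensRange_ι]
    exact inf_eq_right.mpr hUW
  have h2 : (f ⁻¹ᵁ W).ι ''ᵁ ((f ⁻¹ᵁ W).ι ⁻¹ᵁ V.1) = V.1 := by
    rw [Scheme.Hom.image_preimage_eq_opensRange_inf, Scheme.Opens.opensRange_ι]
    exact inf_eq_right.mpr hVW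
  have e' : (f ⁻¹ᵁ W).ι ⁻¹ᵁ V.1 ≤ (f ∣_ W) ⁻¹ᵁ (W.ι ⁻¹ᵁ U.1) := by
    intro y hy
    have : f y.1 ∈ U.1 := e hy
    change ((f ∣_ W) y).1 ∈ U.1
    rwa [morphismRestrict_base_coe]
  refine ⟨⟨_, hU'⟩, ⟨_, hV'⟩, hxV, e', ?_⟩
  rw [morphismRestrict_appLE]
  exact (f.appLE_congr _ h1 h2 (fun f => Q f.hom)).mpr hq

/-- On an affine open `V` of a reduced scheme `S`, a finite type quasi-compact morphism is flat and of finite
presentation over a nonempty basic open of `V`. -/
theorem exists_basicOpen_flat_fp {X S : Scheme.{u}} (f : X ⟶ S) [IsReduced S]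
    [LocallyOfFiniteType f] [QuasiCompact f] {V : S.Opens} (hV : IsAffineOpen V)
    (hne : (V : Set S).Nonempty) :
    ∃ g : Γ(S, V), g ≠ 0 ∧ ∀ x : X, f x ∈ S.basicOpen g → ∃ W : X.Opens, IsAffineOpen W ∧ x ∈ W ∧
      ∃ e : W ≤ f ⁻¹ᵁ S.basicOpen g, (f.appLE (S.basicOpen g) W e).hom.Flat ∧
        (f.appLE (S.basicOpen g) W e).hom.FinitePresentation := by
  classical
  have hcpt : IsCompact (f ⁻¹ᵁ V : Set X) :=
    QuasiCompact.isCompact_preimage (f := f) _ V.isOpen hV.isCompact
  obtain ⟨s, hs, hU⟩ := isCompact_iff_finite_and_eq_biUnion_affineOpens.mp hcpt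
  haveI : Fintype s := hs.fintype
  have hle : ∀ i : s, i.1.1 ≤ f ⁻¹ᵁ V := fun i => by
    rw [hU]; exact le_iSup₂ (f := fun (j : X.affineOpens) (_ : j ∈ s) => (j : X.Opens)) i.1 i.2
  haveI : Nonempty V := hne.to_subtype
  have h1 : (1 : Γ(S, V)) ≠ 0 := one_ne_zero
  let Q : ∀ {R S : Type u} [CommRing R] [CommRing S], (R →+* S) → Prop :=
    fun f => f.Flat ∧ f.FinitePresentation
  have hQi : RingHom.RespectsIso @Q :=
    RingHom.Flat.respectsIso.and RingHom.finitePresentation_respectsIso
  have hQl : RingHom.LocalizationAwayPreserves @Q := by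
    intro R S _ _ f r R' S' _ _ _ _ _ _ hf
    exact ⟨RingHom.Flat.propertyIsLocal.localizationAwayPreserves f r R' S' hf.1,
      RingHom.finitePresentation_isLocal.localizationAwayPreserves f r R' S' hf.2⟩
  obtain ⟨g, -, hg0, hgood⟩ := exists_common_good (R := Γ(S, V)) (Finset.univ : Finset s)
    (fun i g => Q (Localization.awayMap (f.appLE V i.1.1 (hle i)).hom g))
    (fun i g t h => awayMap_mul_of_awayMap hQi hQl _ g t h)
    (fun i h hh => exists_awayMap_flat_fp _
      (HasRingHomProperty.appLE (P := @LocallyOfFiniteType) f inferInstance ⟨V, hV⟩ i.1 (hle i)) h hh)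
    1 h1
  refine ⟨g, hg0, ?_⟩
  intro x hx
  have hxV : x ∈ f ⁻¹ᵁ V := S.basicOpen_le g hx
  rw [hU] at hxV
  simp only [Opens.mem_iSup] at hxV
  obtain ⟨i, his, hxi⟩ := hxV
  have hq := hgood ⟨i, his⟩ (Finset.mem_univ _)
  refine ⟨X.basicOpen (f.appLE V i.1 (hle ⟨i, his⟩) g), i.2.basicOpen _, ?_,
    by simp [Scheme.Hom.appLE], ?_⟩
  · simpa [Scheme.Hom.appLE, ← Scheme.preimage_basicOpen] using And.intro hxi hx
  · have := hV.isLocalization_basicOpen g
    have := i.2.isLocalization_basicOpen (f.appLE V i.1 (hle ⟨i, his⟩) g)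
    have h3 := (hQi.isLocalization_away_iff Γ(S, S.basicOpen g)
      Γ(X, X.basicOpen (f.appLE V i.1 (hle ⟨i, his⟩) g)) (f.appLE V i.1 (hle ⟨i, his⟩)).hom g).mp hq
    rw [hV.appLE_eq_away_map f i.2 (hle ⟨i, his⟩) g]
    exact h3

theorem generic_flatness_reduced {X S : Scheme.{u}} (f : X ⟶ S) [IsReduced S]
    [LocallyOfFiniteType f] [QuasiCompact f] :
    ∃ U : S.Opens, Dense (U : Set ↑S) ∧ Flat (f ∣_ U) ∧ LocallyOfFinitePresentation (f ∣_ U) := by
  classical
  let Good : S.Opens → Prop := fun W => IsAffineOpen W ∧ ∀ x : X, f x ∈ W →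
    ∃ V : X.Opens, IsAffineOpen V ∧ x ∈ V ∧ ∃ e : V ≤ f ⁻¹ᵁ W,
      (f.appLE W V e).hom.Flat ∧ (f.appLE W V e).hom.FinitePresentation
  refine ⟨sSup {W | Good W}, ?_, ?_, ?_⟩
  · rw [dense_iff_inter_open]
    rintro V₀ hV₀ ⟨s, hs⟩
    obtain ⟨V, hV, hsV, hVV₀⟩ := Opens.isBasis_iff_nbhd.mp S.isBasis_affineOpens
      (show s ∈ (⟨V₀, hV₀⟩ : S.Opens) from hs)
    obtain ⟨g, hg0, hg⟩ := exists_basicOpen_flat_fp f hV ⟨s, hsV⟩
    have hne : S.basicOpen g ≠ ⊥ := fun h => hg0 ((basicOpen_eq_bot_iff g).mp h)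
    obtain ⟨y, hy⟩ := (Opens.ne_bot_iff_nonempty _).mp hne
    refine ⟨y, hVV₀ (S.basicOpen_le g hy), ?_⟩
    have hgood : Good (S.basicOpen g) := ⟨hV.basicOpen g, hg⟩
    exact (le_sSup (a := S.basicOpen g) hgood) hy
  · refine morphismRestrict_of_exists_appLE (P := @Flat) (Q := RingHom.Flat)
      (RingHom.Flat.stableUnderComposition.stableUnderCompositionWithLocalizationAway
        RingHom.Flat.holdsForLocalizationAway).1 f _ ?_
    intro x hx
    obtain ⟨W, hW, hxW⟩ := Opens.mem_sSup.mp hx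
    obtain ⟨V, hV, hxV, e, hq⟩ := hW.2 x hxW
    exact ⟨⟨W, hW.1⟩, ⟨V, hV⟩, le_sSup hW, hxV, e, hq.1⟩
  · refine morphismRestrict_of_exists_appLE (P := @LocallyOfFinitePresentation)
      (Q := RingHom.FinitePresentation)
      (RingHom.finitePresentation_stableUnderComposition.stableUnderCompositionWithLocalizationAway
        RingHom.finitePresentation_holdsForLocalizationAway).1 f _ ?_
    intro x hx
    obtain ⟨W, hW, hxW⟩ := Opens.mem_sSup.mp hx
    obtain ⟨V, hV, hxV, e, hq⟩ := hW.2 x hxW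
    exact ⟨⟨W, hW.1⟩, ⟨V, hV⟩, le_sSup hW, hxV, e, hq.2⟩

end Groth.Agent.Lib.Helper2
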