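import Groth.Agent.Lib.Helper2.InjHull
import Mathlib.RingTheory.LocalRing.ResidueField.Ideal
import Mathlib.RingTheory.Ideal.AssociatedPrime.Basic

/-!
# Injective hulls of `R ⧸ p` and indecomposable injectives (helper2)
-/

set_option autoImplicit false
universe u v

namespace Groth.Agent.Lib.Helper2
open InjHull

section
variable {R : Type u} [CommRing R] (p : Ideal R) [p.IsPrime]

/-- The canonical `R`-linear map `R ⧸ p → κ(p)`. -/
noncomputable def quotToResidueField : (R ⧸ p) →ₗ[R] p.ResidueField :=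
  (IsScalarTower.toAlgHom R (R ⧸ p) p.ResidueField).toLinearMap

lemma quotToResidueField_apply (a : R ⧸ p) :
    quotToResidueField p a = algebraMap (R ⧸ p) p.ResidueField a := rfl

lemma quotToResidueField_isEssentialInj : IsEssentialInj (quotToResidueField p) := by
  rw [isEssentialInj_iff]
  refine ⟨p.injective_algebraMap_quotient_residueField, fun x hx0 => ?_⟩
  obtain ⟨⟨a, s⟩, hs⟩ := IsLocalization.surj (nonZeroDivisors (R ⧸ p)) x
  obtain ⟨r, hr⟩ := Ideal.Quotient.mk_surjective (s : R ⧸ p)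
  have hrx : r • x = algebraMap (R ⧸ p) p.ResidueField a := by
    rw [← hs, ← hr, mul_comm, Algebra.smul_def, IsScalarTower.algebraMap_apply R (R ⧸ p)]
    rfl
  refine ⟨r, ?_, a, hrx.symm⟩
  rw [hrx, ← hs]
  refine mul_ne_zero hx0 ?_
  rw [Ne, map_eq_zero_iff _ p.injective_algebraMap_quotient_residueField]
  exact nonZeroDivisors.coe_ne_zero s

end

/-- An injective hull of `R ⧸ p` is indecomposable. -/
lemma isIndecomposable_of_isInjectiveHull_quot {R : Type u} [CommRing R] (p : Ideal R) [p.IsPrime]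
    {E : Type u} [AddCommGroup E] [Module R E] {f : (R ⧸ p) →ₗ[R] E} (hf : IsEssentialInj f) :
    IsIndecomposable R E := by
  have hf' := (isEssentialInj_iff f).mp hf
  refine ⟨hf.injective.nontrivial, fun N N' hNN' => ?_⟩
  by_contra hcon
  push Not at hcon
  obtain ⟨hN, hN'⟩ := hcon
  obtain ⟨x, hxN, hx0⟩ := (Submodule.ne_bot_iff N).mp hN
  obtain ⟨y, hyN', hy0⟩ := (Submodule.ne_bot_iff N').mp hN'
  obtain ⟨r, hr0, a, ha⟩ := hf'.2 x hx0
  obtain ⟨s, hs0, b, hb⟩ := hf'.2 y hy0
  have ha0 : a ≠ 0 := by rintro rfl; exact hr0 (by rw [← ha, map_zero])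
  have hb0 : b ≠ 0 := by rintro rfl; exact hs0 (by rw [← hb, map_zero])
  obtain ⟨a', rfl⟩ := Ideal.Quotient.mk_surjective a
  obtain ⟨b', rfl⟩ := Ideal.Quotient.mk_surjective b
  have h1 : f (Ideal.Quotient.mk p (a' * b')) ∈ N := by
    have : f (Ideal.Quotient.mk p (a' * b')) = b' • (r • x) := by
      rw [← ha, ← map_smul, mul_comm, map_mul]
      rfl
    rw [this]
    exact N.smul_mem _ (N.smul_mem _ hxN)
  have h2 : f (Ideal.Quotient.mk p (a' * b')) ∈ N' := by
    have : f (Ideal.Quotient.mk p (a' * b')) = a' • (s • y) := by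
      rw [← hb, ← map_smul, map_mul]
      rfl
    rw [this]
    exact N'.smul_mem _ (N'.smul_mem _ hyN')
  have h3 := Submodule.disjoint_def.mp hNN'.disjoint _ h1 h2
  rw [map_eq_zero_iff _ hf.injective, map_mul] at h3
  rcases mul_eq_zero.mp h3 with h | h
  · exact ha0 h
  · exact hb0 h

/-- An injective hull of `R ⧸ p` is also an injective hull of `κ(p)`. -/
lemma exists_isInjectiveHull_residueField {R : Type u} [CommRing R] (p : Ideal R) [p.IsPrime]
    {E : Type u} [AddCommGroup E] [Module R E] {f : (R ⧸ p) →ₗ[R] E} (hf : IsInjectiveHull f) :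
    ∃ g : p.ResidueField →ₗ[R] E, IsInjectiveHull g := by
  have hE := hf.isInjective
  obtain ⟨g, hg⟩ := Module.Injective.extension_property R E (R ⧸ p) p.ResidueField
    (quotToResidueField p) (quotToResidueField_isEssentialInj p).injective f
  refine ⟨g, (isEssentialInj_iff g).mpr ⟨?_, ?_⟩, hE⟩
  · exact IsEssentialInj.injective_of_comp (quotToResidueField_isEssentialInj p) g
      (by rw [hg]; exact hf.injective)
  · intro x hx0
    obtain ⟨r, hr0, a, ha⟩ := ((isEssentialInj_iff f).mp hf.toIsEssentialInj).2 x hx0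
    exact ⟨r, hr0, quotToResidueField p a, by rw [← ha, ← hg]; rfl⟩

/-- Over a Noetherian ring, an indecomposable injective is the injective hull of some `R ⧸ p`. -/
lemma exists_isInjectiveHull_quot_of_isIndecomposable {R : Type u} [CommRing R] [IsNoetherianRing R]
    {E : Type u} [AddCommGroup E] [Module R E] (hE : IsIndecomposable R E)
    (hinj : Module.Injective R E) :
    ∃ (p : Ideal R) (_ : p.IsPrime) (f : (R ⧸ p) →ₗ[R] E), IsInjectiveHull f := by
  have := hE.1
  obtain ⟨p, hp⟩ := associatedPrimes.nonempty R E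
  obtain ⟨hp1, f, hf⟩ := (isAssociatedPrime_iff_exists_injective_linearMap p E).mp hp
  refine ⟨p, hp1, f, (isEssentialInj_iff f).mpr ⟨hf, fun x hx0 => ?_⟩, hinj⟩
  have hne : LinearMap.range f ≠ ⊥ := by
    rw [Ne, LinearMap.range_eq_bot]
    intro h0
    have h1 : (1 : R ⧸ p) = 0 := hf (by rw [h0]; simp)
    have : Nontrivial (R ⧸ p) := Ideal.Quotient.nontrivial_iff.mpr hp1.ne_top
    exact one_ne_zero h1
  exact essIn_top_of_isIndecomposable hE hinj _ hne x trivial hx0

end Groth.Agent.Lib.Helper2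

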