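import Groth.Agent.Lib.Helper2.InjHullLocal
import Groth.Agent.Lib.Helper2.InjHullPrime
import Mathlib.Algebra.Module.LocalizedModule.Basic
import Mathlib.RingTheory.Localization.Module
import Mathlib.RingTheory.Localization.Ideal

/-!
# Localization of the injective hull `E(R/p)` (helper2)
-/

set_option autoImplicit false
universe u

namespace Groth.Agent.Lib.Helper2
open InjHull

section

variable {R : Type u} [CommRing R] (p : Ideal R) [p.IsPrime]
variable {E : Type u} [AddCommGroup E] [Module R E] {f : (R ⧸ p) →ₗ[R] E}

omit [p.IsPrime] in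
lemma smul_apply_quot_eq_zero (a : R) (ha : a ∈ p) (c : R ⧸ p) : a • f c = 0 := by
  rw [← map_smul]
  obtain ⟨c, rfl⟩ := Ideal.Quotient.mk_surjective c
  rw [Algebra.smul_def, Ideal.Quotient.algebraMap_eq, ← map_mul,
    Ideal.Quotient.eq_zero_iff_mem.mpr (Ideal.mul_mem_right _ _ ha), map_zero]

omit [p.IsPrime] in
/-- `E(R/p)` is `p`-power torsion (Noetherian `R`). -/
theorem isPowerTorsion_of_isInjectiveHull_quot [IsNoetherianRing R] (hf : IsInjectiveHull f) :
    LocCoh.IsPowerTorsion p E := by
  rw [isPowerTorsion_iff_powTorsion_eq_top]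
  have hΓ := injective_powTorsion hf.isInjective p
  obtain ⟨C, hC⟩ := exists_isCompl_of_injective _ hΓ
  have hCbot : C = ⊥ := by
    by_contra hne
    apply hf.essential C hne
    rw [eq_bot_iff]
    rintro _ ⟨hx1, x, rfl⟩
    have : f x ∈ powTorsion (I := E) p := by
      rw [mem_powTorsion_iff]
      refine ⟨1, fun a ha => ?_⟩
      rw [pow_one] at ha
      exact smul_apply_quot_eq_zero p a ha x
    exact (Submodule.disjoint_def.mp hC.disjoint) _ this hx1
  rw [hCbot] at hC
  simpa using hC.sup_eq_top

/-- elements outside `p` act injectively on `E(R/p)`. -/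
lemma smul_injective_of_notMem (hf : IsEssentialInj f) (s : R) (hs : s ∉ p) :
    Function.Injective (LinearMap.lsmul R E s) := by
  apply IsEssentialInj.injective_of_comp hf
  rw [injective_iff_map_eq_zero]
  intro c hc
  rw [LinearMap.comp_apply, LinearMap.lsmul_apply, ← map_smul] at hc
  have h1 := (injective_iff_map_eq_zero f).mp hf.injective _ hc
  obtain ⟨c, rfl⟩ := Ideal.Quotient.mk_surjective c
  rw [Algebra.smul_def, Ideal.Quotient.algebraMap_eq, ← map_mul, Ideal.Quotient.eq_zero_iff_mem] at h1
  rw [Ideal.Quotient.eq_zero_iff_mem]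
  exact (Ideal.IsPrime.mem_or_mem inferInstance h1).resolve_left hs

/-- elements outside `p` act surjectively on `E(R/p)`. -/
lemma smul_surjective_of_notMem (hf : IsInjectiveHull f) (s : R) (hs : s ∉ p) :
    Function.Surjective (LinearMap.lsmul R E s) := by
  have hinj := smul_injective_of_notMem p hf.toIsEssentialInj s hs
  let α := LinearMap.lsmul R E s
  let e : E ≃ₗ[R] LinearMap.range α := LinearEquiv.ofInjective α hinj
  have hrange : Module.Injective R (LinearMap.range α) :=
    injective_of_retract hf.isInjective e.symm.toLinearMap e.toLinearMap (by ext x; simp)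
  obtain ⟨C, hC⟩ := exists_isCompl_of_injective _ hrange
  have hind := isIndecomposable_of_isInjectiveHull_quot p hf.toIsEssentialInj
  have := hind.1
  rcases hind.2 _ _ hC with h | h
  · exfalso
    obtain ⟨x, hx⟩ := exists_ne (0 : E)
    have : α x ∈ (⊥ : Submodule R E) := h ▸ LinearMap.mem_range_self α x
    rw [Submodule.mem_bot] at this
    exact hx ((injective_iff_map_eq_zero α).mp hinj x this)
  · rw [h] at hC
    have : LinearMap.range α = ⊤ := by simpa using hC.sup_eq_top
    exact LinearMap.range_eq_top.mp this

end


section Localize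

variable {R : Type u} [CommRing R] (S : Submonoid R) (p : Ideal R) [p.IsPrime]
variable {E : Type u} [AddCommGroup E] [Module R E] {f : (R ⧸ p) →ₗ[R] E}

omit [p.IsPrime] in
/-- if `p` meets `S`, the localization of `E(R/p)` vanishes. -/
theorem subsingleton_localizedModule_of_inter_nonempty [IsNoetherianRing R]
    (hf : IsInjectiveHull f) (h : ((p : Set R) ∩ S).Nonempty) :
    Subsingleton (LocalizedModule S E) := by
  obtain ⟨s, hsp, hsS⟩ := h
  have hpt := isPowerTorsion_of_isInjectiveHull_quot p hf
  refine ⟨fun x y => ?_⟩
  have key : ∀ z : LocalizedModule S E, z = 0 := by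
    intro z
    induction z using LocalizedModule.induction_on with
    | h m t =>
      obtain ⟨n, hn⟩ := hpt m
      rw [← LocalizedModule.zero_mk t, LocalizedModule.mk_eq]
      refine ⟨⟨s ^ n, pow_mem hsS n⟩, ?_⟩
      rw [smul_zero, smul_zero, Submonoid.smul_def, Submonoid.smul_def, smul_comm]
      rw [hn _ (Ideal.pow_mem_pow hsp n), smul_zero]
  rw [key x, key y]

lemma mkLinearMap_bijective_of_disjoint (hf : IsInjectiveHull f)
    (hdisj : Disjoint (p : Set R) S) :
    Function.Bijective (LocalizedModule.mkLinearMap S E) := by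
  have hS : ∀ s ∈ S, s ∉ p := fun s hs hsp => Set.disjoint_left.mp hdisj hsp hs
  constructor
  · rw [injective_iff_map_eq_zero]
    intro x hx
    rw [LocalizedModule.mkLinearMap_apply, ← LocalizedModule.zero_mk 1, LocalizedModule.mk_eq] at hx
    obtain ⟨u, hu⟩ := hx
    rw [one_smul, smul_zero, smul_zero, Submonoid.smul_def] at hu
    exact (injective_iff_map_eq_zero _).mp
      (smul_injective_of_notMem p hf.toIsEssentialInj u (hS u u.2)) x hu
  · intro z
    induction z using LocalizedModule.induction_on with
    | h m t =>
      obtain ⟨y, hy⟩ := smul_surjective_of_notMem p hf (t : R) (hS t t.2) m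
      refine ⟨y, ?_⟩
      rw [LocalizedModule.mkLinearMap_apply, ← hy, LinearMap.lsmul_apply]
      exact (LocalizedModule.mk_cancel t y).symm


/-- A module over `S⁻¹R` which is injective over `R` is injective over `S⁻¹R`. -/
lemma injective_of_isLocalization (A : Type u) [CommRing A] [Algebra R A] [IsLocalization S A]
    (Q : Type u) [AddCommGroup Q] [Module R Q] [Module A Q] [IsScalarTower R A Q]
    (hQ : Module.Injective R Q) : Module.Injective A Q := by
  refine ⟨fun X Y _ _ _ _ φ hφ g => ?_⟩
  let _ : Module R X := Module.compHom X (algebraMap R A)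
  let _ : Module R Y := Module.compHom Y (algebraMap R A)
  have : IsScalarTower R A X := IsScalarTower.of_algebraMap_smul fun r x => rfl
  have : IsScalarTower R A Y := IsScalarTower.of_algebraMap_smul fun r x => rfl
  obtain ⟨k, hk⟩ := Module.Injective.extension_property R Q X Y (φ.restrictScalars R) hφ
    (g.restrictScalars R)
  exact ⟨k.extendScalarsOfIsLocalization S A, fun x => LinearMap.congr_fun hk x⟩

theorem exists_isInjectiveHull_localizedModule (hf : IsInjectiveHull f)
    (hdisj : Disjoint (p : Set R) S) :
    ∃ g : (Localization S ⧸ p.map (algebraMap R (Localization S))) →ₗ[Localization S]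
      LocalizedModule S E, IsInjectiveHull g := by
  have hS : ∀ s ∈ S, s ∉ p := fun s hs hsp => Set.disjoint_left.mp hdisj hsp hs
  have hbij := mkLinearMap_bijective_of_disjoint S p hf hdisj
  let e : E ≃ₗ[R] LocalizedModule S E := LinearEquiv.ofBijective _ hbij
  have hinjR : Module.Injective R (LocalizedModule S E) :=
    injective_of_retract hf.isInjective e.symm.toLinearMap e.toLinearMap (by ext x; simp)
  have hinj : Module.Injective (Localization S) (LocalizedModule S E) :=
    injective_of_isLocalization S (Localization S) _ hinjR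
  let z : LocalizedModule S E := LocalizedModule.mk (f 1) 1
  have hmk : ∀ (r : R) (s : S), IsLocalization.mk' (Localization S) r s • z =
      LocalizedModule.mk (f (Ideal.Quotient.mk p r)) s := by
    intro r s
    show IsLocalization.mk' (Localization S) r s • LocalizedModule.mk (f 1) 1 = _
    rw [← Localization.mk_eq_mk'_apply, LocalizedModule.mk_smul_mk, mul_one, ← map_smul]
    congr 2
    rw [Algebra.smul_def, mul_one]
    rfl
  let g : (Localization S ⧸ p.map (algebraMap R (Localization S))) →ₗ[Localization S]
      LocalizedModule S E :=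
    Submodule.liftQ _ (LinearMap.toSpanSingleton (Localization S) (LocalizedModule S E) z) (by
      show p.map (algebraMap R (Localization S)) ≤ _
      rw [Ideal.map_le_iff_le_comap]
      intro a ha
      have h1 : algebraMap R (Localization S) a = IsLocalization.mk' (Localization S) a (1 : S) :=
        (IsLocalization.mk'_one (M := S) (Localization S) a).symm
      rw [Ideal.mem_comap, LinearMap.mem_ker, LinearMap.toSpanSingleton_apply, h1, hmk,
        Ideal.Quotient.eq_zero_iff_mem.mpr ha, map_zero, LocalizedModule.zero_mk])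
  have hg : ∀ c : Localization S, g (Ideal.Quotient.mk _ c) = c • z := by
    intro c
    show Submodule.liftQ _ (LinearMap.toSpanSingleton (Localization S) (LocalizedModule S E) z) _
      (Submodule.Quotient.mk c) = c • z
    rw [Submodule.liftQ_apply, LinearMap.toSpanSingleton_apply]
  have hmk0 : ∀ (m : E) (t : S), LocalizedModule.mk m t = 0 → m = 0 := by
    intro m t h0
    rw [← LocalizedModule.zero_mk t, LocalizedModule.mk_eq] at h0
    obtain ⟨u, hu⟩ := h0
    rw [smul_zero, smul_zero, Submonoid.smul_def, Submonoid.smul_def, ← mul_smul] at hu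
    exact (injective_iff_map_eq_zero _).mp
      (smul_injective_of_notMem p hf.toIsEssentialInj _ (hS _ (S.mul_mem u.2 t.2))) m hu
  refine ⟨g, (isEssentialInj_iff g).mpr ⟨?_, ?_⟩, hinj⟩
  · rw [injective_iff_map_eq_zero]
    intro c hc
    obtain ⟨c, rfl⟩ := Ideal.Quotient.mk_surjective c
    obtain ⟨r, s, rfl⟩ := IsLocalization.mk'_surjective S c
    rw [hg, hmk] at hc
    have h1 := hmk0 _ _ hc
    have h2 := (injective_iff_map_eq_zero f).mp hf.injective _ h1
    rw [Ideal.Quotient.eq_zero_iff_mem] at h2 ⊢
    rw [IsLocalization.mk'_mem_map_algebraMap_iff]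
    exact ⟨1, S.one_mem, by rwa [one_mul]⟩
  · intro x hx
    induction x using LocalizedModule.induction_on with
    | h m t =>
      have hm : m ≠ 0 := by
        rintro rfl
        exact hx (LocalizedModule.zero_mk t)
      obtain ⟨r, hr0, c, hc⟩ := ((isEssentialInj_iff f).mp hf.toIsEssentialInj).2 m hm
      obtain ⟨c, rfl⟩ := Ideal.Quotient.mk_surjective c
      refine ⟨algebraMap R (Localization S) r, ?_, Ideal.Quotient.mk _ (IsLocalization.mk' (Localization S) c t), ?_⟩
      · rw [algebraMap_smul, LocalizedModule.smul'_mk]
        intro h0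
        exact hr0 (hmk0 _ _ h0)
      · rw [hg, hmk, hc, algebraMap_smul, LocalizedModule.smul'_mk]

end Localize

end Groth.Agent.Lib.Helper2
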