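import Groth.Agent.Lib.Helper2.MatlisComplete
import Groth.Agent.S0543
import Mathlib.LinearAlgebra.FiniteDimensional.Basic
import Mathlib.LinearAlgebra.Dimension.Free
import Mathlib.RingTheory.LocalRing.Quotient

/-!
# The injective hull of the residue field is Artinian; Artinian modules over Noetherian local rings (helper2)
-/

set_option autoImplicit false
universe u

namespace Groth.Agent.Lib.Helper2
open InjHull

section

variable {R : Type u} [CommRing R] [IsLocalRing R] [IsNoetherianRing R]
variable {E : Type u} [AddCommGroup E] [Module R E] {f : IsLocalRing.ResidueField R →ₗ[R] E}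

lemma isNoetherianRing_end (hf : IsInjectiveHull f) : IsNoetherianRing (Module.End R E) := by
  have := Groth.Agent.S0543.result R (IsLocalRing.maximalIdeal R)
  exact isNoetherianRing_of_ringEquiv (AdicCompletion (IsLocalRing.maximalIdeal R) R)
    (endEquivCompletion hf).symm.toRingEquiv

omit [IsLocalRing R] [IsNoetherianRing R] in
/-- endomorphisms vanishing on a submodule: a left ideal of `End_R(E)`. -/
def endAnn (N : Submodule R E) : Submodule (Module.End R E) (Module.End R E) where
  carrier := {φ | ∀ x ∈ N, φ x = 0}
  add_mem' := by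
    intro φ ψ hφ hψ x hx
    rw [LinearMap.add_apply, hφ x hx, hψ x hx, add_zero]
  zero_mem' := by intro x _; rfl
  smul_mem' := by
    intro ψ φ hφ x hx
    rw [smul_eq_mul, Module.End.mul_apply, hφ x hx, map_zero]

omit [IsNoetherianRing R] in
lemma endAnn_strictAnti (hf : IsInjectiveHull f) :
    StrictAnti (endAnn : Submodule R E → Submodule (Module.End R E) (Module.End R E)) := by
  intro N N' hlt
  refine lt_of_le_of_ne (fun φ hφ x hx => hφ x (hlt.le hx)) ?_
  intro heq
  obtain ⟨x, hxN', hxN⟩ := SetLike.exists_of_lt hlt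
  have hne : N.mkQ x ≠ 0 := by
    rwa [Ne, Submodule.mkQ_apply, Submodule.Quotient.mk_eq_zero]
  obtain ⟨g, hg⟩ := exists_hom_apply_ne_zero hf (N.mkQ x) hne
  have h1 : g ∘ₗ N.mkQ ∈ endAnn N := by
    intro y hy
    rw [LinearMap.comp_apply, Submodule.mkQ_apply, (Submodule.Quotient.mk_eq_zero N).mpr hy,
      map_zero]
  rw [← heq] at h1
  exact hg (h1 x hxN')

/-- The injective hull of the residue field of a Noetherian local ring is Artinian. -/
theorem isArtinian_of_isInjectiveHull_residueField (hf : IsInjectiveHull f) : IsArtinian R E := by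
  have := isNoetherianRing_end hf
  have : WellFoundedGT (Submodule (Module.End R E) (Module.End R E)) :=
    (isNoetherian_iff' (R := Module.End R E) (M := Module.End R E)).mp inferInstance
  exact (endAnn_strictAnti hf).wellFoundedLT

omit [IsNoetherianRing R] in
/-- A power-torsion module with finite socle embeds into a finite power of `E`. -/
lemma exists_injective_to_pi (hf : IsInjectiveHull f) (M : Type u) [AddCommGroup M] [Module R M]
    (hpt : LocCoh.IsPowerTorsion (IsLocalRing.maximalIdeal R) M)
    (hfin : Module.Finite (R ⧸ IsLocalRing.maximalIdeal R)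
      ↥(LocCoh.torsionBy (IsLocalRing.maximalIdeal R) M)) :
    ∃ (d : ℕ) (α : M →ₗ[R] (Fin d → E)), Function.Injective α := by
  let _ : Field (R ⧸ IsLocalRing.maximalIdeal R) := Ideal.Quotient.field _
  let k := R ⧸ IsLocalRing.maximalIdeal R
  let V := LocCoh.torsionBy (IsLocalRing.maximalIdeal R) M
  let b := Module.finBasis k V
  let d := Module.finrank k V
  let c : V →ₗ[R] (Fin d → k) := (b.equivFun.restrictScalars R).toLinearMap
  have hc : Function.Injective c := (b.equivFun.restrictScalars R).injective
  let fd : (Fin d → k) →ₗ[R] (Fin d → E) := LinearMap.pi (fun i => f ∘ₗ LinearMap.proj i)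
  have hfd : Function.Injective fd := by
    intro x y hxy
    funext i
    have := congr_fun hxy i
    exact hf.injective this
  have hE : Module.Injective R E := hf.isInjective
  have hEd : Module.Injective R (Fin d → E) := inferInstance
  obtain ⟨α, hα⟩ := Module.Injective.extension_property R (Fin d → E) V M V.subtype
    V.injective_subtype (fd ∘ₗ c)
  refine ⟨d, α, ?_⟩
  rw [injective_iff_map_eq_zero]
  intro x hx
  by_contra hx0
  obtain ⟨r, hr0, hr⟩ := exists_smul_mem_torsionBy_of_isPowerTorsion _ hpt x hx0
  have h1 : α (r • x) = 0 := by rw [map_smul, hx, smul_zero]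
  have h2 : α (r • x) = fd (c ⟨r • x, hr⟩) := by
    have := LinearMap.congr_fun hα ⟨r • x, hr⟩
    simpa using this
  rw [h1] at h2
  have h3 : (⟨r • x, hr⟩ : V) = 0 := by
    apply hc
    apply hfd
    rw [← h2, map_zero, map_zero]
  exact hr0 (congrArg Subtype.val h3)


omit [IsNoetherianRing R] in
lemma isPowerTorsion_of_isArtinian (M : Type u) [AddCommGroup M] [Module R M] [IsArtinian R M] :
    LocCoh.IsPowerTorsion (IsLocalRing.maximalIdeal R) M := by
  intro x
  let g : R →ₗ[R] M := LinearMap.toSpanSingleton R M x
  let I : Ideal R := LinearMap.ker g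
  have h1 : IsArtinian R (R ⧸ I) := isArtinian_of_linearEquiv (g.quotKerEquivRange).symm
  have h2 : IsArtinianRing (R ⧸ I) := isArtinian_of_tower R h1
  obtain ⟨n, hn⟩ := IsLocalRing.exists_maximalIdeal_pow_le_of_isArtinianRing_quotient I
  refine ⟨n, fun a ha => ?_⟩
  have := hn ha
  simpa [I, g] using this

omit [IsNoetherianRing R] in
lemma finite_socle_of_isArtinian (M : Type u) [AddCommGroup M] [Module R M] [IsArtinian R M] :
    Module.Finite (R ⧸ IsLocalRing.maximalIdeal R)
      ↥(LocCoh.torsionBy (IsLocalRing.maximalIdeal R) M) := by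
  let _ : Field (R ⧸ IsLocalRing.maximalIdeal R) := Ideal.Quotient.field _
  have : IsArtinian (R ⧸ IsLocalRing.maximalIdeal R)
      ↥(LocCoh.torsionBy (IsLocalRing.maximalIdeal R) M) := isArtinian_of_tower R inferInstance
  exact (IsSemisimpleModule.finite_tfae.out 0 2).mpr this

lemma isArtinian_of_isPowerTorsion_of_finite_socle (hf : IsInjectiveHull f) (M : Type u)
    [AddCommGroup M] [Module R M]
    (hpt : LocCoh.IsPowerTorsion (IsLocalRing.maximalIdeal R) M)
    (hfin : Module.Finite (R ⧸ IsLocalRing.maximalIdeal R)
      ↥(LocCoh.torsionBy (IsLocalRing.maximalIdeal R) M)) : IsArtinian R M := by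
  obtain ⟨d, α, hα⟩ := exists_injective_to_pi hf M hpt hfin
  have := isArtinian_of_isInjectiveHull_residueField hf
  exact isArtinian_of_injective α hα

omit [IsNoetherianRing R] in
lemma exists_injective_to_pi_of_isArtinian (hf : IsInjectiveHull f) (M : Type u)
    [AddCommGroup M] [Module R M] [IsArtinian R M] :
    ∃ (d : ℕ) (α : M →ₗ[R] (Fin d → E)), Function.Injective α :=
  exists_injective_to_pi hf M (isPowerTorsion_of_isArtinian M) (finite_socle_of_isArtinian M)

end

end Groth.Agent.Lib.Helper2
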