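import Groth.Agent.Lib.Helper2.InjHullLocalize
import Groth.Agent.Lib.Helper2.MatlisArtinian
import Mathlib.RingTheory.Localization.AtPrime.Basic

/-!
# `E(R/m)` is Artinian for a maximal ideal of a Noetherian ring (helper2)
-/

set_option autoImplicit false
universe u

namespace Groth.Agent.Lib.Helper2
open InjHull

section

variable {R : Type u} [CommRing R]

lemma mem_of_smul_mem_of_isPowerTorsion (m : Ideal R) [hm : m.IsMaximal] {M : Type u}
    [AddCommGroup M] [Module R M] (hM : LocCoh.IsPowerTorsion m M) (N : Submodule R M) (s : R)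
    (hs : s ∉ m) (y : M) (hy : s • y ∈ N) : y ∈ N := by
  obtain ⟨n, hn⟩ := hM y
  have h1 : Ideal.span {s} ⊔ m = ⊤ := by
    apply hm.out.2
    refine lt_of_le_of_ne le_sup_right ?_
    intro heq
    apply hs
    rw [heq]
    exact Ideal.mem_sup_left (Ideal.mem_span_singleton_self s)
  have h2 : Ideal.span {s} ⊔ m ^ n = ⊤ := Ideal.sup_pow_eq_top h1
  have h3 : (1 : R) ∈ Ideal.span {s} ⊔ m ^ n := by rw [h2]; trivial
  obtain ⟨u, hu, a, ha, hua⟩ := Submodule.mem_sup.mp h3
  obtain ⟨t, rfl⟩ := Ideal.mem_span_singleton'.mp hu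
  have : y = t • (s • y) := by
    conv_lhs => rw [← one_smul R y, ← hua, add_smul, hn a ha, add_zero, mul_smul]
  rw [this]
  exact N.smul_mem t hy

/-- an injective hull precomposed with an isomorphism is an injective hull. -/
lemma IsInjectiveHull.comp_equiv {M M' E : Type u} [AddCommGroup M] [Module R M]
    [AddCommGroup M'] [Module R M'] [AddCommGroup E] [Module R E] {f : M →ₗ[R] E}
    (hf : IsInjectiveHull f) (e : M' ≃ₗ[R] M) : IsInjectiveHull (f ∘ₗ e.toLinearMap) := by
  refine ⟨⟨hf.injective.comp e.injective, fun N hN => ?_⟩, hf.isInjective⟩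
  have : LinearMap.range (f ∘ₗ e.toLinearMap) = LinearMap.range f := by
    rw [LinearMap.range_comp, LinearEquiv.range, Submodule.map_top]
  rw [this]
  exact hf.essential N hN

end

section

variable {R : Type u} [CommRing R] [IsNoetherianRing R] (m : Ideal R) [m.IsMaximal]
variable {E : Type u} [AddCommGroup E] [Module R E] {f : (R ⧸ m) →ₗ[R] E}

theorem isArtinian_of_isInjectiveHull_quot_maximal (hf : IsInjectiveHull f) : IsArtinian R E := by
  let S := m.primeCompl
  let A := Localization.AtPrime m
  have hdisj : Disjoint (m : Set R) S := by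
    rw [Set.disjoint_left]
    intro x hx hxS
    exact hxS hx
  obtain ⟨g, hg⟩ := exists_isInjectiveHull_localizedModule S m hf hdisj
  have hbij := mkLinearMap_bijective_of_disjoint S m hf hdisj
  let e : E ≃ₗ[R] LocalizedModule S E := LinearEquiv.ofBijective _ hbij
  have hmax : m.map (algebraMap R A) = IsLocalRing.maximalIdeal A :=
    IsLocalization.AtPrime.map_eq_maximalIdeal m A
  let q : (IsLocalRing.ResidueField A) ≃ₗ[A] (A ⧸ m.map (algebraMap R A)) :=
    Submodule.quotEquivOfEq _ _ hmax.symm
  have hg' : IsInjectiveHull (g ∘ₗ q.toLinearMap) := IsInjectiveHull.comp_equiv hg q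
  have hArtA : IsArtinian A (LocalizedModule S E) :=
    isArtinian_of_isInjectiveHull_residueField hg'
  -- power torsion
  have hpt : LocCoh.IsPowerTorsion m (LocalizedModule S E) := by
    intro y
    obtain ⟨x, rfl⟩ := e.surjective y
    obtain ⟨n, hn⟩ := isPowerTorsion_of_isInjectiveHull_quot m hf x
    exact ⟨n, fun a ha => by rw [← map_smul, hn a ha, map_zero]⟩
  -- every `R`-submodule of the localization is an `A`-submodule
  have hArtR : IsArtinian R (LocalizedModule S E) := by
    apply (OrderEmbedding.wellFoundedLT (β := Submodule A (LocalizedModule S E)))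
    refine ⟨⟨fun N => { toAddSubmonoid := N.toAddSubmonoid, smul_mem' := ?_ }, ?_⟩, ?_⟩
    · intro c x hx
      obtain ⟨⟨r, s⟩, rfl⟩ := IsLocalization.mk'_surjective S c
      apply mem_of_smul_mem_of_isPowerTorsion m hpt N (s : R) s.2
      have : (s : R) • (IsLocalization.mk' A r s • x) = r • x := by
        rw [← algebraMap_smul A (s : R), ← mul_smul, IsLocalization.mk'_spec', algebraMap_smul]
      rw [this]
      exact N.smul_mem r hx
    · intro N N' h
      ext x
      exact Submodule.ext_iff.mp h x
    · intro N N'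
      exact Iff.rfl
  exact isArtinian_of_linearEquiv e.symm

end

end Groth.Agent.Lib.Helper2
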