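import Groth.Agent.Lib.Helper2.InjHull
import Groth.Agent.Lib.Helper2.InjHullLocal
import Groth.Agent.Lib.Helper2.MatlisFlat
import Mathlib.RingTheory.Flat.Basic
import Mathlib.LinearAlgebra.TensorProduct.Tower
import Mathlib.Algebra.Module.Injective

/-!
# Restriction of scalars of injective hulls along flat local maps (helper2)

* `injective_restrictScalars_of_flat`: an injective module over a flat `R`-algebra is `R`-injective.
* `exists_isInjectiveHull_restrictScalars`: for `R → S` flat local with `𝔪_R S = 𝔪_S` and equal
  residue fields, `E_S(κ_S)` restricted to `R` is `E_R(κ_R)`.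
-/

set_option autoImplicit false
universe u v
open InjHull TensorProduct

namespace Groth.Agent.Lib.Helper2

/-- An injective module over a flat `R`-algebra `S` is injective as an `R`-module. -/
theorem injective_restrictScalars_of_flat (R S E : Type u) [CommRing R] [CommRing S] [Algebra R S]
    [Module.Flat R S] [AddCommGroup E] [Module S E] [Module R E] [IsScalarTower R S E]
    (hE : Module.Injective S E) : Module.Injective R E := by
  refine Module.Baer.injective (fun J g => ?_)
  let ι : S ⊗[R] J →ₗ[S] S ⊗[R] R := (J.subtype).baseChange S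
  have hι : Function.Injective ι := by
    have := Module.Flat.lTensor_preserves_injective_linearMap (M := S) J.subtype
      J.injective_subtype
    intro a b hab
    apply this
    simpa [ι, LinearMap.baseChange_eq_ltensor] using hab
  let g' : S ⊗[R] J →ₗ[S] E := LinearMap.liftBaseChange S g
  obtain ⟨h, hh⟩ := Module.Injective.extension_property S E _ _ ι hι g'
  refine ⟨(h.restrictScalars R) ∘ₗ (TensorProduct.mk R S R 1), fun x hx => ?_⟩
  have h1 : h (ι ((1 : S) ⊗ₜ[R] (⟨x, hx⟩ : J))) = g' ((1 : S) ⊗ₜ[R] (⟨x, hx⟩ : J)) := by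
    rw [← hh]; rfl
  have h2 : ι ((1 : S) ⊗ₜ[R] (⟨x, hx⟩ : J)) = (1 : S) ⊗ₜ[R] x := by
    simp [ι]
  rw [h2] at h1
  simp only [LinearMap.coe_comp, LinearMap.coe_restrictScalars, Function.comp_apply,
    TensorProduct.mk_apply]
  rw [h1]
  simp [g']

theorem exists_isInjectiveHull_restrictScalars (R S : Type u) [CommRing R] [CommRing S]
    [IsLocalRing R] [IsLocalRing S] [IsNoetherianRing S] [Algebra R S]
    [IsLocalHom (algebraMap R S)] [Module.Flat R S]
    (hm : (IsLocalRing.maximalIdeal R).map (algebraMap R S) = IsLocalRing.maximalIdeal S)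
    (hk : Function.Bijective (IsLocalRing.ResidueField.map (algebraMap R S)))
    (E : Type u) [AddCommGroup E] [Module S E] [Module R E] [IsScalarTower R S E]
    (f : IsLocalRing.ResidueField S →ₗ[S] E) (hf : InjHull.IsInjectiveHull f) :
    ∃ g : IsLocalRing.ResidueField R →ₗ[R] E, InjHull.IsInjectiveHull g := by
  let κ : IsLocalRing.ResidueField R →ₗ[R] IsLocalRing.ResidueField S :=
    { toFun := IsLocalRing.ResidueField.map (algebraMap R S)
      map_add' := map_add _
      map_smul' := by
        intro r x
        simp only [RingHom.id_apply]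
        rw [Algebra.smul_def, map_mul, Algebra.smul_def]
        congr 1 }
  have hκ : ∀ x, κ x = IsLocalRing.ResidueField.map (algebraMap R S) x := fun _ => rfl
  let g : IsLocalRing.ResidueField R →ₗ[R] E := (f.restrictScalars R) ∘ₗ κ
  have hg : ∀ x, g x = f (IsLocalRing.ResidueField.map (algebraMap R S) x) := fun _ => rfl
  refine ⟨g, (isEssentialInj_iff g).mpr ⟨?_, ?_⟩, injective_restrictScalars_of_flat R S E hf.isInjective⟩
  · intro a b hab
    rw [hg, hg] at hab
    exact hk.injective (hf.injective hab)
  · intro x hx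
    have hpowS := isPowerTorsion_of_isInjectiveHull_residueField hf
    have hpowR : LocCoh.IsPowerTorsion (IsLocalRing.maximalIdeal R) E := by
      intro y
      obtain ⟨n, hn⟩ := hpowS y
      refine ⟨n, fun a ha => ?_⟩
      rw [← algebraMap_smul S a y]
      apply hn
      rw [← hm, ← Ideal.map_pow]
      exact Ideal.mem_map_of_mem _ ha
    obtain ⟨r, hr0, hr⟩ := exists_smul_mem_torsionBy_of_isPowerTorsion _ hpowR x hx
    refine ⟨r, hr0, ?_⟩
    have hy : ∀ s ∈ IsLocalRing.maximalIdeal S, s • (r • x) = 0 := by
      intro s hs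
      rw [← hm, Ideal.map] at hs
      induction hs using Submodule.span_induction with
      | mem s hs =>
        obtain ⟨a, ha, rfl⟩ := hs
        rw [algebraMap_smul]
        exact (Submodule.mem_torsionBySet_iff _ _).mp hr ⟨a, ha⟩
      | zero => rw [zero_smul]
      | add s t _ _ h1 h2 => rw [add_smul, h1, h2, add_zero]
      | smul c s _ h1 => rw [smul_eq_mul, mul_smul, h1, smul_zero]
    obtain ⟨c, hc⟩ := mem_range_of_maximalIdeal_smul_eq_zero hf.toIsEssentialInj (r • x) hy
    obtain ⟨c', rfl⟩ := hk.surjective c
    exact ⟨c', by rw [hg, hc]⟩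

end Groth.Agent.Lib.Helper2
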