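import Groth.Agent.Lib.Helper2.InjHull
import Groth.Agent.Lib.Helper2.InjHullPrime
import Mathlib.Order.CompactlyGenerated.Basic
import Mathlib.Algebra.DirectSum.Module
import Mathlib.RingTheory.Ideal.AssociatedPrime.Finiteness
import Mathlib.RingTheory.Noetherian.Basic
import Mathlib.RingTheory.Finiteness.Basic
import Mathlib.LinearAlgebra.DFinsupp

/-!
# Matlis decomposition of injective modules over a Noetherian ring (helper2)

* `injective_sSup_of_sSupIndep` (Bass): an independent sum of injective submodules is injective.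
* `exists_sSupIndep_indecomposable` (Matlis): every injective module over a Noetherian ring is an
  internal direct sum of indecomposable injective submodules.
-/

set_option autoImplicit false
universe u v
open InjHull

namespace Groth.Agent.Lib.Helper2

section Bass

variable {R : Type u} [CommRing R] {I : Type u} [AddCommGroup I] [Module R I]

/-- Sum map from a finite product of submodules. -/
noncomputable def sumMap (t : Finset (Submodule R I)) :
    ((i : {x // x ∈ t}) → ↥(i.1)) →ₗ[R] I :=
  ∑ i : {x // x ∈ t}, (i.1).subtype ∘ₗ LinearMap.proj i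

lemma sumMap_apply (t : Finset (Submodule R I)) (x : (i : {x // x ∈ t}) → ↥(i.1)) :
    sumMap t x = ∑ i : {x // x ∈ t}, (x i : I) := by
  simp [sumMap, LinearMap.sum_apply]

lemma sumMap_injective (t : Finset (Submodule R I)) (ht : sSupIndep (t : Set (Submodule R I))) :
    Function.Injective (sumMap t) := by
  rw [← LinearMap.ker_eq_bot, LinearMap.ker_eq_bot']
  intro x hx
  rw [sumMap_apply] at hx
  have hind : iSupIndep (fun i : {x // x ∈ t} => i.1) := by
    have := (sSupIndep_iff (t : Set (Submodule R I))).mp ht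
    exact this
  have := (iSupIndep_iff_finsetSum_eq_zero_imp_eq_zero _).mp hind Finset.univ
    (fun i => (x i : I)) (fun i _ => (x i).2) hx
  funext i
  exact Subtype.ext (this i (Finset.mem_univ i))

lemma le_range_sumMap (t : Finset (Submodule R I)) :
    t.sup id ≤ LinearMap.range (sumMap t) := by
  classical
  apply Finset.sup_le
  intro E hE x hx
  refine ⟨Pi.single (⟨E, hE⟩ : {x // x ∈ t}) ⟨x, hx⟩, ?_⟩
  rw [sumMap_apply, Finset.sum_eq_single (⟨E, hE⟩ : {x // x ∈ t})]
  · simp
  · intro b _ hb
    simp [Pi.single_eq_of_ne hb]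
  · intro h
    exact absurd (Finset.mem_univ _) h

lemma range_sumMap_le (t : Finset (Submodule R I)) (S : Set (Submodule R I))
    (hts : (t : Set (Submodule R I)) ⊆ S) :
    LinearMap.range (sumMap t) ≤ sSup S := by
  rintro _ ⟨x, rfl⟩
  rw [sumMap_apply]
  refine Submodule.sum_mem _ (fun i _ => ?_)
  exact (le_sSup (hts i.2) : i.1 ≤ sSup S) (x i).2

/-- **Bass**: over a Noetherian ring, the sum of an independent family of injective submodules
is injective. -/
theorem injective_sSup_of_sSupIndep [IsNoetherianRing R] (S : Set (Submodule R I))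
    (hS : sSupIndep S) (hinj : ∀ E ∈ S, Module.Injective R ↥E) :
    Module.Injective R ↥(sSup S) := by
  refine Module.Baer.injective (fun J g => ?_)
  let K : Submodule R I := LinearMap.range ((sSup S).subtype ∘ₗ g)
  have hKfg : K.FG := by
    rw [show K = Submodule.map ((sSup S).subtype ∘ₗ g) ⊤ from (LinearMap.range_eq_map _)]
    exact Submodule.FG.map _ (Module.Finite.fg_top)
  have hKN : K ≤ sSup S := by
    rintro _ ⟨x, rfl⟩
    exact (g x).2
  obtain ⟨t, hts, hKt⟩ := (CompleteLattice.isCompactElement_iff_exists_le_sSup_of_le_sSup _ K).mp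
    ((Submodule.fg_iff_compact K).mp hKfg) S hKN
  have : ∀ i : {x // x ∈ t}, Module.Injective R ↥(i.1) := fun i => hinj _ (hts i.2)
  have hσ := sumMap_injective t (hS.mono hts)
  -- retraction
  obtain ⟨ρ, hρ⟩ := Module.Injective.extension_property R ((i : {x // x ∈ t}) → ↥(i.1))
    ((i : {x // x ∈ t}) → ↥(i.1)) I (sumMap t) hσ LinearMap.id
  have hP : Module.Injective R ((i : {x // x ∈ t}) → ↥(i.1)) := inferInstance
  obtain ⟨g', hg'⟩ := Module.Baer.of_injective hP J (ρ ∘ₗ (sSup S).subtype ∘ₗ g)
  refine ⟨((sumMap t).codRestrict (sSup S) (fun x => range_sumMap_le t S hts ⟨x, rfl⟩)) ∘ₗ g', ?_⟩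
  intro x hx
  apply Subtype.ext
  rw [LinearMap.comp_apply, LinearMap.codRestrict_apply, hg' x hx]
  have hmem : ((g ⟨x, hx⟩ : ↥(sSup S)) : I) ∈ LinearMap.range (sumMap t) :=
    le_range_sumMap t (hKt ⟨⟨x, hx⟩, rfl⟩)
  obtain ⟨p, hp⟩ := hmem
  simp only [LinearMap.comp_apply, Submodule.subtype_apply]
  rw [← hp]
  have := LinearMap.congr_fun hρ p
  simp only [LinearMap.comp_apply, LinearMap.id_apply] at this
  rw [this, hp]

end Bass

section Decomp

variable {R : Type u} [CommRing R] {I : Type u} [AddCommGroup I] [Module R I]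

lemma sSupIndep_insert' {S : Set (Submodule R I)} (hS : sSupIndep S) {E : Submodule R I}
    (hE : Disjoint E (sSup S)) : sSupIndep (insert E S) := by
  intro a ha
  by_cases haE : a = E
  · subst haE
    refine hE.mono_right (sSup_le_sSup ?_)
    rintro x ⟨hx, hxa⟩
    rcases hx with rfl | hx
    · exact absurd rfl hxa
    · exact hx
  · have haS : a ∈ S := by
      rcases ha with rfl | ha
      · exact absurd rfl haE
      · exact ha
    have h1 : insert E S \ {a} = insert E (S \ {a}) := by
      ext x
      simp only [Set.mem_sdiff, Set.mem_insert_iff, Set.mem_singleton_iff]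
      constructor
      · rintro ⟨h | h, hx⟩
        · exact Or.inl h
        · exact Or.inr ⟨h, hx⟩
      · rintro (h | ⟨h, hx⟩)
        · exact ⟨Or.inl h, fun hxa => haE (hxa ▸ h)⟩
        · exact ⟨Or.inr h, hx⟩
    rw [h1, sSup_insert, sup_comm]
    refine Disjoint.disjoint_sup_right_of_disjoint_sup_left (hS haS) ?_
    refine hE.symm.mono_left ?_
    exact sup_le (le_sSup haS) (sSup_le_sSup Set.sdiff_subset)

lemma exists_indecomposable_injective_of_isCompl [IsNoetherianRing R]
    (hI : Module.Injective R I) {N C : Submodule R I} (hNC : IsCompl N C) (hC : C ≠ ⊥) :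
    ∃ E : Submodule R I, IsIndecomposable R ↥E ∧ Module.Injective R ↥E ∧ Disjoint E N := by
  have : Nontrivial ↥C := Submodule.nontrivial_iff_ne_bot.mpr hC
  obtain ⟨p, hp⟩ := associatedPrimes.nonempty R ↥C
  obtain ⟨hp1, f, hf⟩ := (isAssociatedPrime_iff_exists_injective_linearMap p ↥C).mp hp
  let i : (R ⧸ p) →ₗ[R] I := C.subtype ∘ₗ f
  have hi : Function.Injective i := C.injective_subtype.comp hf
  obtain ⟨E, C', hME, hess, hEC⟩ := exists_essIn_isCompl hI (LinearMap.range i)
  have hull := isInjectiveHull_of_essIn hI i hi hME hess hEC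
  refine ⟨E, isIndecomposable_of_isInjectiveHull_quot p hull.toIsEssentialInj, hull.isInjective, ?_⟩
  rw [disjoint_iff]
  by_contra hne
  have h1 := hess.inf_ne_bot (E ⊓ N) inf_le_left hne
  apply h1
  rw [eq_bot_iff]
  have hiC : LinearMap.range i ≤ C := by
    rintro _ ⟨x, rfl⟩
    exact (f x).2
  calc (E ⊓ N) ⊓ LinearMap.range i ≤ N ⊓ C := inf_le_inf inf_le_right hiC
    _ = ⊥ := hNC.inf_eq_bot

/-- **Matlis**: over a Noetherian ring every injective module is the internal direct sum of
indecomposable injective submodules. -/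
theorem exists_sSupIndep_indecomposable [IsNoetherianRing R] (hI : Module.Injective R I) :
    ∃ S : Set (Submodule R I), sSupIndep S ∧ sSup S = ⊤ ∧
      ∀ E ∈ S, IsIndecomposable R ↥E ∧ Module.Injective R ↥E := by
  obtain ⟨S, hSmax⟩ := zorn_subset
    {S : Set (Submodule R I) | sSupIndep S ∧ ∀ E ∈ S, IsIndecomposable R ↥E ∧ Module.Injective R ↥E}
    (by
      intro c hc hchain
      refine ⟨⋃₀ c, ⟨iSupIndep_sUnion_of_directed hchain.directedOn (fun a ha => (hc ha).1), ?_⟩,
        fun s hs => Set.subset_sUnion_of_mem hs⟩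
      rintro E ⟨s, hs, hEs⟩
      exact (hc hs).2 E hEs)
  obtain ⟨⟨hind, hS⟩, hmax⟩ := hSmax
  refine ⟨S, hind, ?_, hS⟩
  have hNinj := injective_sSup_of_sSupIndep S hind (fun E hE => (hS E hE).2)
  obtain ⟨C, hC⟩ := exists_isCompl_of_injective (sSup S) hNinj
  by_cases hC0 : C = ⊥
  · rw [hC0] at hC
    simpa using hC.sup_eq_top
  · exfalso
    obtain ⟨E, hE1, hE2, hE3⟩ := exists_indecomposable_injective_of_isCompl hI hC hC0
    have hmem : insert E S ∈ {S : Set (Submodule R I) | sSupIndep S ∧
        ∀ E ∈ S, IsIndecomposable R ↥E ∧ Module.Injective R ↥E} := by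
      refine ⟨sSupIndep_insert' hind hE3, ?_⟩
      rintro E' (rfl | hE')
      · exact ⟨hE1, hE2⟩
      · exact hS E' hE'
    have hsub := hmax hmem (Set.subset_insert E S)
    have hES : E ∈ S := hsub (Set.mem_insert E S)
    have hle : E ≤ sSup S := le_sSup hES
    have hbot : E = ⊥ := by
      rw [eq_bot_iff]
      exact hE3 le_rfl hle
    have := hE1.1
    rw [hbot] at this
    exact not_subsingleton _ (inferInstance : Subsingleton (⊥ : Submodule R I))

end Decomp

end Groth.Agent.Lib.Helper2
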