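import Groth.Prelude.Def_Flat
import Mathlib.AlgebraicGeometry.Morphisms.Integral
import Mathlib.AlgebraicGeometry.Morphisms.UniversallyInjective
import Mathlib.AlgebraicGeometry.Morphisms.UnderlyingMap
import Mathlib.AlgebraicGeometry.Morphisms.Immersion
import Mathlib.AlgebraicGeometry.Morphisms.ClosedImmersion
import Mathlib.Topology.Homeomorph.Lemmas

set_option autoImplicit false
universe u

namespace Groth.Agent.Lib.Helper2

open AlgebraicGeometry CategoryTheory Limits MorphismProperty

instance isUnivHomeo_respectsIso : (FlatMor.IsUnivHomeo.{u}).RespectsIso :=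
  universally_respectsIso _

instance isUnivHomeo_isStableUnderBaseChange : (FlatMor.IsUnivHomeo.{u}).IsStableUnderBaseChange :=
  universally_isStableUnderBaseChange _

instance topologically_isHomeomorph_isStableUnderComposition :
    (topologically (fun f => IsHomeomorph f) : MorphismProperty Scheme.{u}).IsStableUnderComposition
    where
  comp_mem {X Y Z} f g hf hg := by
    change IsHomeomorph ((f ≫ g : X ⟶ Z) : X → Z)
    have : ((f ≫ g : X ⟶ Z) : X → Z) = (g : Y → Z) ∘ (f : X → Y) := by
      ext x; simp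
    rw [this]
    exact IsHomeomorph.comp hg hf

instance isUnivHomeo_isStableUnderComposition :
    (FlatMor.IsUnivHomeo.{u}).IsStableUnderComposition :=
  IsStableUnderComposition.universally _

theorem IsUnivHomeo.isHomeomorph {X Y : Scheme.{u}} {f : X ⟶ Y} (h : FlatMor.IsUnivHomeo f) :
    IsHomeomorph (f : X → Y) :=
  universally_le _ _ h

theorem IsUnivHomeo.id (X : Scheme.{u}) : FlatMor.IsUnivHomeo (𝟙 X) := by
  intro X' Y' i₁ i₂ f' H
  have : IsIso f' := H.isIso_fst_of_isIso  
  exact (f'.homeomorph).isHomeomorph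

instance isUnivHomeo_isMultiplicative : (FlatMor.IsUnivHomeo.{u}).IsMultiplicative where
  id_mem X := IsUnivHomeo.id X

theorem IsUnivHomeo.universallyInjective {X Y : Scheme.{u}} {f : X ⟶ Y}
    (h : FlatMor.IsUnivHomeo f) : UniversallyInjective f := by
  refine ⟨?_⟩
  refine universally_mono ?_ _ h
  intro X Y f hf
  exact hf.injective

theorem IsUnivHomeo.surjective {X Y : Scheme.{u}} {f : X ⟶ Y}
    (h : FlatMor.IsUnivHomeo f) : Surjective f :=
  ⟨(IsUnivHomeo.isHomeomorph h).surjective⟩

theorem IsUnivHomeo.quasiCompact {X Y : Scheme.{u}} {f : X ⟶ Y}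
    (h : FlatMor.IsUnivHomeo f) : QuasiCompact f :=
  ⟨fun _ _ hc ↦ (IsUnivHomeo.isHomeomorph h).homeomorph.isCompact_preimage.mpr hc⟩

/-- A surjective closed immersion is a universal homeomorphism. -/
theorem IsUnivHomeo.of_isClosedImmersion_of_surjective {X Y : Scheme.{u}} (f : X ⟶ Y)
    [IsClosedImmersion f] [Surjective f] : FlatMor.IsUnivHomeo f := by
  intro X' Y' i₁ i₂ f' H
  have h1 : IsClosedImmersion f' := MorphismProperty.of_isPullback H.flip inferInstance
  have h2 : Surjective f' := MorphismProperty.of_isPullback H.flip inferInstance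
  have hemb : Topology.IsClosedEmbedding (f' : X' → Y') := f'.isClosedEmbedding
  exact isHomeomorph_iff_isEmbedding_surjective.mpr ⟨hemb.isEmbedding, f'.surjective⟩

/-- The diagonal of a universally injective morphism is a surjective closed immersion. -/
theorem isClosedImmersion_diagonal_of_universallyInjective {X Y : Scheme.{u}} (f : X ⟶ Y)
    [UniversallyInjective f] : IsClosedImmersion (pullback.diagonal f) := by
  have hs : Surjective (pullback.diagonal f) := (UniversallyInjective.iff_diagonal f).mp ‹_›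
  apply IsClosedImmersion.of_isPreimmersion
  rw [(pullback.diagonal f).surjective.range_eq]
  exact isClosed_univ

/-- The diagonal of a universal homeomorphism is a universal homeomorphism. -/
theorem IsUnivHomeo.diagonal {X Y : Scheme.{u}} {f : X ⟶ Y} (h : FlatMor.IsUnivHomeo f) :
    FlatMor.IsUnivHomeo (pullback.diagonal f) := by
  have := IsUnivHomeo.universallyInjective h
  have hs : Surjective (pullback.diagonal f) := (UniversallyInjective.iff_diagonal f).mp ‹_›
  have := isClosedImmersion_diagonal_of_universallyInjective f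
  exact IsUnivHomeo.of_isClosedImmersion_of_surjective _

instance isUnivHomeo_hasOfPostcompProperty :
    (FlatMor.IsUnivHomeo.{u}).HasOfPostcompProperty FlatMor.IsUnivHomeo.{u} := by
  rw [hasOfPostcompProperty_iff_le_diagonal]
  intro X Y f hf
  exact IsUnivHomeo.diagonal hf

/-- If `g ≫ h` and `h` are universal homeomorphisms then so is `g`. -/
theorem IsUnivHomeo.of_comp_right {X Y Z : Scheme.{u}} (g : X ⟶ Y) (h : Y ⟶ Z)
    (hgh : FlatMor.IsUnivHomeo (g ≫ h)) (hh : FlatMor.IsUnivHomeo h) : FlatMor.IsUnivHomeo g :=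
  MorphismProperty.of_postcomp _ g h hh hgh

/-- If `g ≫ h` and `g` are universal homeomorphisms then so is `h`. -/
theorem IsUnivHomeo.of_comp_left {X Y Z : Scheme.{u}} (g : X ⟶ Y) (h : Y ⟶ Z)
    (hgh : FlatMor.IsUnivHomeo (g ≫ h)) (hg : FlatMor.IsUnivHomeo g) : FlatMor.IsUnivHomeo h := by
  intro Y' Z' i₁ i₂ h' H
  -- form the pullback of `g` along `i₁ : Y' ⟶ Y`
  set P := pullback g i₁ with hP
  set p : P ⟶ Y' := pullback.snd g i₁ with hp
  have H1 : IsPullback p (pullback.fst g i₁) i₁ g :=
    (IsPullback.of_hasPullback g i₁).flip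
  have H2 : IsPullback (p ≫ h') (pullback.fst g i₁) i₂ (g ≫ h) :=
    H1.paste_horiz H
  have h1 : IsHomeomorph (p : P → Y') := hg _ _ _ H1
  have h2 : IsHomeomorph ((p ≫ h' : P ⟶ Z') : P → Z') := hgh _ _ _ H2
  have hcomp : ((p ≫ h' : P ⟶ Z') : P → Z') = (h' : Y' → Z') ∘ (p : P → Y') := by
    ext x; simp
  rw [hcomp] at h2
  change IsHomeomorph (h' : Y' → Z')
  have : (h' : Y' → Z') = ((h' : Y' → Z') ∘ (p : P → Y')) ∘ h1.homeomorph.symm := by
    ext y
    have : p (h1.homeomorph.symm y) = y := h1.homeomorph.apply_symm_apply y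
    simp only [Function.comp_apply]
    rw [this]
  rw [this]
  exact h2.comp h1.homeomorph.symm.isHomeomorph

end Groth.Agent.Lib.Helper2
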