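import Groth.Agent.Lib.Helper2.ConnDim

/-!
# Connectedness dimension versus subdimension (helper2)
-/

set_option autoImplicit false
universe u
open TopologicalSpace Set

namespace Groth.Agent.Lib.Helper2

variable {T : Type*} [TopologicalSpace T]

/-- A proper closed subset of an irreducible set: dimension goes up by at least one. -/
theorem topologicalKrullDim_add_one_le_of_ssubset_of_isIrreducible {Z C : Set T} (hZC : Z ⊆ C)
    (hne : Z ≠ C) (hZ : IsClosed Z) (hC : IsIrreducible C) [Nonempty (IrreducibleCloseds Z)] :
    topologicalKrullDim Z + 1 ≤ topologicalKrullDim C := by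
  haveI : IrreducibleSpace C := Subtype.irreducibleSpace hC
  have hind : Topology.IsInducing (Set.inclusion hZC) := (Topology.IsEmbedding.inclusion hZC).isInducing
  let top : IrreducibleCloseds C :=
    ⟨Set.univ, IrreducibleSpace.isIrreducible_univ C, isClosed_univ⟩
  have hrange : IsClosed (Set.range (Set.inclusion hZC)) := by
    rw [Set.range_inclusion]
    exact hZ.preimage continuous_subtype_val
  have hlt : ∀ W : IrreducibleCloseds Z,
      IrreducibleCloseds.map (Set.inclusion hZC) hind.continuous W < top := by
    intro W
    refine lt_of_le_of_ne (fun x _ => Set.mem_univ x) ?_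
    intro heq
    have h1 : (IrreducibleCloseds.map (Set.inclusion hZC) hind.continuous W : Set C) ⊆
        Set.range (Set.inclusion hZC) := by
      rw [IrreducibleCloseds.coe_map]
      exact closure_minimal (Set.image_subset_range _ _) hrange
    have h2 : (Set.univ : Set C) ⊆ Set.range (Set.inclusion hZC) := by
      have : (top : Set C) = Set.univ := rfl
      rw [← this, ← heq]; exact h1
    apply hne
    apply Set.Subset.antisymm hZC
    intro c hc
    have := h2 (Set.mem_univ (⟨c, hc⟩ : C))
    rw [Set.range_inclusion] at this
    exact this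
  let f : WithTop (IrreducibleCloseds Z) → IrreducibleCloseds C := fun a =>
    a.recTopCoe top (IrreducibleCloseds.map (Set.inclusion hZC) hind.continuous)
  have hf : StrictMono f := by
    intro a b hab
    induction a with
    | top => exact absurd hab (not_top_lt)
    | coe a =>
      induction b with
      | top => exact hlt a
      | coe b =>
        exact IrreducibleCloseds.map_strictMono_of_isInducing hind (WithTop.coe_lt_coe.mp hab)
  have := Order.krullDim_le_of_strictMono f hf
  rwa [Order.krullDim_WithTop] at this

/-- A proper closed subset of an irreducible set of finite dimension has smaller dimension. -/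
theorem topologicalKrullDim_lt_of_ssubset_of_isIrreducible {Z C : Set T} (hZC : Z ⊆ C) (hne : Z ≠ C)
    (hZ : IsClosed Z) (hC : IsIrreducible C) (hfin : topologicalKrullDim C < ⊤) :
    topologicalKrullDim Z < topologicalKrullDim C := by
  haveI : IrreducibleSpace C := Subtype.irreducibleSpace hC
  haveI : Nonempty (IrreducibleCloseds C) :=
    ⟨⟨Set.univ, IrreducibleSpace.isIrreducible_univ C, isClosed_univ⟩⟩
  by_cases hne' : Nonempty (IrreducibleCloseds Z)
  · have h1 := topologicalKrullDim_add_one_le_of_ssubset_of_isIrreducible hZC hne hZ hC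
    have h0 : (0 : WithBot ℕ∞) ≤ topologicalKrullDim Z := Order.krullDim_nonneg
    have hZfin : topologicalKrullDim Z < ⊤ := lt_of_le_of_lt (topologicalKrullDim_mono hZC) hfin
    generalize topologicalKrullDim Z = a at *
    generalize topologicalKrullDim C = b at *
    induction a with
    | bot => exact absurd h0 (by simp)
    | coe a =>
      induction a with
      | top => exact absurd hZfin (by simp)
      | coe n =>
        refine lt_of_lt_of_le ?_ h1
        exact_mod_cast Nat.lt_succ_self n
  · rw [not_nonempty_iff] at hne'
    have h1 : topologicalKrullDim Z = ⊥ := Order.krullDim_eq_bot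
    rw [h1]
    exact lt_of_lt_of_le (by simp) (Order.krullDim_nonneg (α := IrreducibleCloseds C))

/-- In a Noetherian space, an irreducible component `C ≠ univ` contains a proper closed subset with
non-connected complement. -/
theorem exists_isClosed_not_isConnected_compl_ssubset [NoetherianSpace T] {C : Set T}
    (hC : C ∈ irreducibleComponents T) (hCu : C ≠ univ) :
    ∃ Z : Set T, IsClosed Z ∧ ¬ IsConnected Zᶜ ∧ Z ⊆ C ∧ Z ≠ C := by
  set S : Set (Set T) := irreducibleComponents T \ {C} with hS
  have hSfin : S.Finite := NoetherianSpace.finite_irreducibleComponents.subset Set.sdiff_subset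
  have hD : IsClosed (⋃₀ S) :=
    isClosed_sUnion_of_finite hSfin fun t ht => isClosed_of_mem_irreducibleComponents t ht.1
  have hCcl : IsClosed C := isClosed_of_mem_irreducibleComponents C hC
  have hCD : C ∪ ⋃₀ S = univ := by
    apply Set.eq_univ_of_forall
    intro x
    have hx : x ∈ ⋃₀ irreducibleComponents T := sUnion_irreducibleComponents (X := T) ▸ Set.mem_univ x
    obtain ⟨C', hC', hxC'⟩ := hx
    by_cases h : C' = C
    · left; rwa [← h]
    · right; exact ⟨C', ⟨hC', h⟩, hxC'⟩
  have hnot : ¬ C ⊆ ⋃₀ S := fun h =>
    (mem_of_subset_sUnion_irreducibleComponents C hC S hSfin Set.sdiff_subset h).2 rfl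
  refine ⟨C ∩ ⋃₀ S, hCcl.inter hD, ?_, Set.inter_subset_left, ?_⟩
  · intro hconn
    rcases eq_univ_or_eq_univ_of_isConnected_compl_inter hCcl hD hCD hconn with h | h
    · exact hCu h
    · exact hnot (h ▸ Set.subset_univ C)
  · intro h
    exact hnot (Set.inter_eq_left.mp h)

/-- In an irreducible space, the only closed set with non-connected complement is the whole space. -/
theorem eq_univ_of_not_isConnected_compl [PreirreducibleSpace T] {Z : Set T} (hZ : IsClosed Z)
    (hc : ¬ IsConnected Zᶜ) : Z = univ := by
  by_contra hne
  apply hc
  have hne' : (Zᶜ).Nonempty := by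
    rw [Set.nonempty_iff_ne_empty, Ne, Set.compl_empty_iff]
    exact hne
  exact ⟨hne', ((PreirreducibleSpace.isPreirreducible_univ (X := T)).open_subset hZ.isOpen_compl
    (Set.subset_univ _)).isPreconnected⟩

/-- In a non-irreducible nonempty Noetherian space of finite dimension there is a closed set with
non-connected complement of dimension smaller than that of a minimal-dimensional component. -/
theorem exists_isClosed_not_isConnected_compl_dim_lt [NoetherianSpace T] [Nonempty T]
    (hirr : ¬ IrreducibleSpace T) (hfin : topologicalKrullDim T < ⊤) :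
    ∃ (Z C₀ : Set T), IsClosed Z ∧ ¬ IsConnected Zᶜ ∧ C₀ ∈ irreducibleComponents T ∧
      topologicalKrullDim Z < topologicalKrullDim C₀ ∧
      ∀ C ∈ irreducibleComponents T, topologicalKrullDim C₀ ≤ topologicalKrullDim C := by
  have hfinc := NoetherianSpace.finite_irreducibleComponents (α := T)
  have hnec : (irreducibleComponents T).Nonempty :=
    ⟨_, irreducibleComponent_mem_irreducibleComponents (Classical.arbitrary T)⟩
  obtain ⟨C₀, hC₀, hmin⟩ := Set.exists_min_image (irreducibleComponents T)
    (fun C : Set T => topologicalKrullDim C) hfinc hnec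
  have hC₀u : C₀ ≠ univ := by
    rintro rfl
    exact hirr ((irreducibleSpace_def T).mpr hC₀.1)
  obtain ⟨Z, hZ, hZc, hZC, hZne⟩ := exists_isClosed_not_isConnected_compl_ssubset hC₀ hC₀u
  refine ⟨Z, C₀, hZ, hZc, hC₀, ?_, hmin⟩
  exact topologicalKrullDim_lt_of_ssubset_of_isIrreducible hZC hZne hZ hC₀.1
    (lt_of_le_of_lt (topologicalKrullDim_subspace_le T C₀) hfin)

end Groth.Agent.Lib.Helper2
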