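import Groth.Agent.Lib.Helper2.PuncturedFEt
import Groth.Agent.Lib.Helper29.DepthQuot
import Groth.Agent.Lib.Helper69.Rigid2
import Mathlib.AlgebraicGeometry.Morphisms.UniversallyOpen

/-!
# Fullness of restriction of finite étale covers along dense opens with depth ≥ 2 off the open

Gluing of the affine extension statement (Hartogs for flat morphisms over a Noetherian affine base) over an affine
open cover.
-/

set_option linter.style.haveILetI false

universe u
open AlgebraicGeometry CategoryTheory CategoryTheory.Limits TopologicalSpace Opposite RingTheory.Sequence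

namespace Groth.Agent.Lib.Helper2

/-- A weakly regular pair inside an ideal of depth at least two (the pair `1, 1` if the ideal is the unit
ideal). -/
lemma exists_weaklyRegular_pair_of_idealDepth {R : Type u} [CommRing R] (I : Ideal R)
    (h : 2 ≤ LocCoh.idealDepth I R) :
    ∃ x y : R, x ∈ I ∧ y ∈ I ∧ IsWeaklyRegular R [x, y] := by
  by_cases hI : I = ⊤
  · subst hI
    refine ⟨1, 1, trivial, trivial, ?_⟩
    rw [isWeaklyRegular_cons_iff]
    refine ⟨fun a b hab => by simpa using hab, ?_⟩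
    rw [isWeaklyRegular_cons_iff]
    exact ⟨fun a b hab => by simpa using hab, IsWeaklyRegular.nil _ _⟩
  unfold LocCoh.idealDepth at h
  rw [if_neg] at h
  swap
  · rw [smul_eq_mul, Ideal.mul_top]
    exact hI
  by_contra hcon
  push Not at hcon
  have : (⨆ (rs : List R) (_ : IsWeaklyRegular R rs ∧ ∀ r ∈ rs, r ∈ I),
      (rs.length : ℕ∞)) ≤ 1 := by
    apply iSup₂_le
    rintro rs ⟨hreg, hmem⟩
    match rs, hreg, hmem with
    | [], _, _ => simp
    | [_], _, _ => simp
    | x :: y :: rest, hreg, hmem =>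
      exfalso
      apply hcon x y (hmem x (by simp)) (hmem y (by simp))
      rw [isWeaklyRegular_cons_iff] at hreg ⊢
      obtain ⟨hx, hreg⟩ := hreg
      refine ⟨hx, ?_⟩
      rw [isWeaklyRegular_cons_iff] at hreg ⊢
      exact ⟨hreg.1, IsWeaklyRegular.nil _ _⟩
  have h2 : (2 : ℕ∞) ≤ 1 := le_trans h this
  exact absurd h2 (by decide)

/-- For a flat morphism `f : Y ⟶ Spec R` from an affine scheme to a Noetherian affine scheme and an open
`U` of `Spec R` such that the local rings at all primes outside `U` have depth at least two, global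
sections of `Y` restrict bijectively to `f⁻¹ U`. -/
theorem res_bijective_preimage_of_depth (R : CommRingCat.{u}) [IsNoetherianRing R]
    (U : (Spec R).Opens)
    (hU : ∀ p : PrimeSpectrum R, p ∉ U →
      (2 : ℕ∞) ≤ LocCoh.depth (Localization.AtPrime p.asIdeal) (Localization.AtPrime p.asIdeal))
    {Y : Scheme.{u}} (f : Y ⟶ Spec R) [IsAffine Y] [Flat f] :
    Function.Bijective (res (le_top : f ⁻¹ᵁ U ≤ ⊤)) := by
  -- the ideal of the complement
  let Uc : Set (PrimeSpectrum R) := ((U : Set ↥(Spec R)))ᶜ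
  have hcl : IsClosed Uc := U.isOpen.isClosed_compl
  obtain ⟨I, hI⟩ := (PrimeSpectrum.isClosed_iff_zeroLocus_ideal _).mp hcl
  have hmemU : ∀ p : PrimeSpectrum R, p ∈ U ↔ ¬ I ≤ p.asIdeal := by
    intro p
    have h1 : p ∈ U ↔ p ∉ Uc := (not_not (a := p ∈ (U : Set ↥(Spec R)))).symm
    rw [h1, hI, PrimeSpectrum.mem_zeroLocus, SetLike.coe_subset_coe]
  have hdepth : (2 : ℕ∞) ≤ LocCoh.idealDepth I R := by
    have := Groth.Agent.Lib.Helper29.le_idealDepth_of_forall_le_depth_localization R 2 R I (by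
      intro p _ hp
      rw [Groth.Agent.Lib.Helper29.depth_localizedModule_self]
      exact hU ⟨p, inferInstance⟩ (fun hpU => ((hmemU ⟨p, inferInstance⟩).mp hpU) hp))
    exact_mod_cast this
  obtain ⟨a₁, a₂, h₁, h₂, hreg⟩ := exists_weaklyRegular_pair_of_idealDepth I hdepth
  let φ : R →+* Γ(Y, ⊤) := (f.appTop.hom).comp (Scheme.ΓSpecIso R).inv.hom
  have hφ : φ.Flat := by
    refine RingHom.Flat.comp (RingHom.Flat.of_bijective ?_) (Scheme.Hom.flat_appTop f)
    exact (ConcreteCategory.bijective_of_isIso (Scheme.ΓSpecIso R).inv)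
  let _ : Algebra R Γ(Y, ⊤) := φ.toAlgebra
  have : Module.Flat R Γ(Y, ⊤) := hφ
  have hregB := hreg.of_flat (S := Γ(Y, ⊤))
  obtain ⟨hx, hxy⟩ := regMod_of_isWeaklyRegular hregB
  have hD : ∀ a ∈ I, Y.basicOpen (φ a) ≤ f ⁻¹ᵁ U := by
    intro a ha
    have h1 : Y.basicOpen (φ a) =
        f ⁻¹ᵁ (Spec R).basicOpen ((Scheme.ΓSpecIso R).inv a) := by
      rw [Scheme.preimage_basicOpen_top]
      rfl
    rw [h1]
    apply f.preimage_mono
    rw [basicOpen_eq_of_affine]
    intro p hp
    exact (hmemU p).mpr (fun hle => hp (hle ha))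
  exact res_bijective_of_regular_pair _ (φ a₁) (φ a₂) (hD a₁ h₁) (hD a₂ h₂) hx hxy

/-- Depth of the localization of `R` at `p` agrees with the depth of the stalk of any scheme containing `Spec R` as
an open subscheme. -/
lemma depth_localization_eq_depth_stalk {X : Scheme.{u}} (R : CommRingCat.{u}) [IsNoetherianRing R]
    (j : Spec R ⟶ X) [IsOpenImmersion j] (p : PrimeSpectrum R) :
    LocCoh.depth (Localization.AtPrime p.asIdeal) (Localization.AtPrime p.asIdeal) =
      LocCoh.depth (X.presheaf.stalk (j p)) (X.presheaf.stalk (j p)) := by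
  let e1 : Localization.AtPrime p.asIdeal ≃+* (Spec R).presheaf.stalk p :=
    (IsLocalization.algEquiv p.asIdeal.primeCompl (Localization.AtPrime p.asIdeal)
      ((Spec.structureSheaf R).presheaf.stalk p)).toRingEquiv
  let e2 : (Spec R).presheaf.stalk p ≃+* X.presheaf.stalk (j p) :=
    (asIso (j.stalkMap p)).symm.commRingCatIsoToRingEquiv
  haveI : IsNoetherianRing ((Spec R).presheaf.stalk p) := isNoetherianRing_of_ringEquiv _ e1
  rw [Groth.Agent.Lib.Helper29.depth_self_eq_of_ringEquiv e1,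
    Groth.Agent.Lib.Helper29.depth_self_eq_of_ringEquiv e2]

/-- Scheme-level extension over an affine base with respect to an arbitrary `ι' : P ⟶ Y` inducing a bijection on
global sections. -/
theorem exists_extension_of_appTop_bijective' {X : Scheme.{u}} [IsAffine X]
    (Y Z : FEt.Cat X) {P : Scheme.{u}} (ι' : P ⟶ Y.left)
    (hbij : Function.Bijective ι'.appTop.hom)
    (k : P ⟶ Z.left) (hk : k ≫ Z.hom = ι' ≫ Y.hom) :
    ∃ h₀ : Y.left ⟶ Z.left, h₀ ≫ Z.hom = Y.hom ∧ ι' ≫ h₀ = k := by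
  have hYfin : IsFinite Y.hom := Y.prop.1
  have hZfin : IsFinite Z.hom := Z.prop.1
  have hXY : IsAffine ((Functor.fromPUnit X).obj Y.right) := inferInstanceAs (IsAffine X)
  have hXZ : IsAffine ((Functor.fromPUnit X).obj Z.right) := inferInstanceAs (IsAffine X)
  have : IsAffine Y.left := isAffine_of_isAffineHom Y.hom
  have : IsAffine Z.left := isAffine_of_isAffineHom Z.hom
  let e := RingEquiv.ofBijective ι'.appTop.hom hbij
  let θ : Γ(Z.left, ⊤) ⟶ Γ(Y.left, ⊤) :=
    CommRingCat.ofHom (e.symm.toRingHom.comp k.appTop.hom)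
  have hθ : θ ≫ ι'.appTop = k.appTop := by
    ext z
    simp only [CommRingCat.hom_comp, RingHom.coe_comp, Function.comp_apply, θ,
      CommRingCat.hom_ofHom, RingEquiv.toRingHom_eq_coe, RingHom.coe_coe]
    exact e.apply_symm_apply _
  let h₀ : Y.left ⟶ Z.left := homOfAppTop θ
  have hh₀ : h₀.appTop = θ := homOfAppTop_appTop θ
  have hmono : Mono ι'.appTop :=
    ConcreteCategory.mono_of_injective _ hbij.1
  have hw : h₀ ≫ Z.hom = Y.hom := by
    apply ext_of_isAffine
    rw [Scheme.Hom.comp_appTop, hh₀, ← cancel_mono ι'.appTop, Category.assoc,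
      hθ, ← Scheme.Hom.comp_appTop, ← Scheme.Hom.comp_appTop]
    congr 1
  have hk' : ι' ≫ h₀ = k := by
    apply ext_of_isAffine
    rw [Scheme.Hom.comp_appTop, hh₀, hθ]
  exact ⟨h₀, hw, hk'⟩

/-- An open immersion with range `O` induces a bijection on global sections when restriction to `O` does. -/
lemma appTop_bijective_of_isOpenImmersion {P V : Scheme.{u}} (ι' : P ⟶ V) [IsOpenImmersion ι']
    (O : V.Opens) (hO : ι'.opensRange = O) (h : Function.Bijective (res (le_top : O ≤ ⊤))) :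
    Function.Bijective ι'.appTop.hom := by
  let e : P ≅ O.toScheme := IsOpenImmersion.isoOfRangeEq ι' O.ι (by
    rw [Scheme.Opens.range_ι, ← hO]; rfl)
  have e1 : ι'.appTop = O.ι.appTop ≫ e.hom.appTop := by
    rw [← Scheme.Hom.comp_appTop, IsOpenImmersion.isoOfRangeEq_hom_fac]
  have e2 : Function.Bijective O.ι.appTop.hom := res_bijective_congr O.ι_image_top h
  have e3 : IsIso e.hom.appTop := inferInstanceAs (IsIso (e.hom.app ⊤))
  rw [e1]
  simp only [CommRingCat.hom_comp, RingHom.coe_comp]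
  exact Function.Bijective.comp (ConcreteCategory.bijective_of_isIso _) e2

lemma range_fst_fst_eq {X Y W : Scheme.{u}} (f : Y ⟶ X) (j : W ⟶ X) (U : X.Opens) :
    Set.range (pullback.fst (pullback.fst f j) (pullback.fst f U.ι)) =
      (pullback.snd f j) ⁻¹' (j ⁻¹' (U : Set X)) := by
  rw [Scheme.Pullback.range_fst, Scheme.Pullback.range_fst, Scheme.Opens.range_ι]
  ext x
  simp only [Set.mem_preimage]
  rw [← Scheme.Hom.comp_apply, ← Scheme.Hom.comp_apply, pullback.condition]

/-- Local extension over an affine open chart `j : Spec R ⟶ X`. -/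
theorem exists_local_extension {X : Scheme.{u}} [IsNoetherian X] (U : X.Opens)
    (h : ∀ x : X, x ∉ U → (2 : ℕ∞) ≤ LocCoh.depth (X.presheaf.stalk x) (X.presheaf.stalk x))
    (Y Z : FEt.Cat X)
    (k : pullback Y.hom U.ι ⟶ Z.left) (hk : k ≫ Z.hom = pullback.fst Y.hom U.ι ≫ Y.hom)
    (R : CommRingCat.{u}) (j : Spec R ⟶ X) [IsOpenImmersion j] :
    ∃ g : pullback Y.hom j ⟶ Z.left, g ≫ Z.hom = pullback.fst Y.hom j ≫ Y.hom ∧
      ∀ (T : Scheme.{u}) (t₁ : T ⟶ pullback Y.hom j) (t₂ : T ⟶ pullback Y.hom U.ι),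
        t₁ ≫ pullback.fst Y.hom j = t₂ ≫ pullback.fst Y.hom U.ι → t₁ ≫ g = t₂ ≫ k := by
  haveI : IsLocallyNoetherian (Spec R) := isLocallyNoetherian_of_isOpenImmersion j
  haveI : IsNoetherianRing R := isLocallyNoetherian_Spec.mp inferInstance
  let YW : FEt.Cat (Spec R) := (FEt.restrict j).obj Y
  let ZW : FEt.Cat (Spec R) := (FEt.restrict j).obj Z
  have hYWleft : YW.left = pullback Y.hom j := rfl
  have hYWhom : YW.hom = pullback.snd Y.hom j := rfl
  have hZWhom : ZW.hom = pullback.snd Z.hom j := rfl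
  have hYfin : IsFinite YW.hom := YW.prop.1
  have hYet : Etale YW.hom := YW.prop.2
  have hXY : IsAffine ((Functor.fromPUnit (Spec R)).obj YW.right) := inferInstanceAs (IsAffine (Spec R))
  have : IsAffine YW.left := isAffine_of_isAffineHom YW.hom
  let UW : (Spec R).Opens := j ⁻¹ᵁ U
  have hdepth : ∀ p : PrimeSpectrum R, p ∉ UW →
      (2 : ℕ∞) ≤ LocCoh.depth (Localization.AtPrime p.asIdeal) (Localization.AtPrime p.asIdeal) := by
    intro p hp
    rw [depth_localization_eq_depth_stalk R j p]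
    exact h (j p) hp
  have hres : Function.Bijective (res (le_top : YW.hom ⁻¹ᵁ UW ≤ ⊤)) := by
    haveI : Flat YW.hom := inferInstance
    exact res_bijective_preimage_of_depth R UW hdepth (Y := YW.left) YW.hom
  -- the U-part of `YW.left`
  haveI : IsOpenImmersion (pullback.fst Y.hom U.ι) := inferInstance
  let ι' : pullback (pullback.fst Y.hom j) (pullback.fst Y.hom U.ι) ⟶ YW.left :=
    pullback.fst (pullback.fst Y.hom j) (pullback.fst Y.hom U.ι)
  haveI : IsOpenImmersion ι' :=
    inferInstanceAs (IsOpenImmersion (pullback.fst (pullback.fst Y.hom j) (pullback.fst Y.hom U.ι)))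
  have hrange : ι'.opensRange = YW.hom ⁻¹ᵁ UW :=
    TopologicalSpace.Opens.ext (range_fst_fst_eq Y.hom j U)
  have hbij : Function.Bijective ι'.appTop.hom :=
    appTop_bijective_of_isOpenImmersion ι' _ hrange hres
  let k' : pullback (pullback.fst Y.hom j) (pullback.fst Y.hom U.ι) ⟶ ZW.left :=
    pullback.lift (pullback.snd _ _ ≫ k) (pullback.fst _ _ ≫ pullback.snd Y.hom j) (by
      rw [Category.assoc, hk, ← Category.assoc, ← pullback.condition, Category.assoc,
        pullback.condition, Category.assoc])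
  have hk' : k' ≫ ZW.hom = ι' ≫ YW.hom := by
    rw [hZWhom, hYWhom]
    exact pullback.lift_snd _ _ _
  obtain ⟨h₀, hw, hι⟩ := exists_extension_of_appTop_bijective' YW ZW ι' hbij k' hk'
  refine ⟨h₀ ≫ pullback.fst Z.hom j, ?_, ?_⟩
  · have e1 : h₀ ≫ pullback.snd Z.hom j = pullback.snd Y.hom j := hw
    have e2 : pullback.fst Z.hom j ≫ Z.hom = pullback.snd Z.hom j ≫ j := pullback.condition
    have e3 : pullback.fst Y.hom j ≫ Y.hom = pullback.snd Y.hom j ≫ j := pullback.condition
    exact (Category.assoc _ _ _).trans ((congrArg (fun t => h₀ ≫ t) e2).trans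
      ((Category.assoc _ _ _).symm.trans ((congrArg (fun t => t ≫ j) e1).trans e3.symm)))
  · intro T t₁ t₂ ht
    let s : T ⟶ pullback (pullback.fst Y.hom j) (pullback.fst Y.hom U.ι) := pullback.lift t₁ t₂ ht
    have hs1 : s ≫ ι' = t₁ := pullback.lift_fst _ _ _
    have hs2 : s ≫ pullback.snd _ _ = t₂ := pullback.lift_snd _ _ _
    have e4 : k' ≫ pullback.fst Z.hom j = pullback.snd _ _ ≫ k := pullback.lift_fst _ _ _
    have step1 : t₁ ≫ h₀ ≫ pullback.fst Z.hom j = (s ≫ ι') ≫ h₀ ≫ pullback.fst Z.hom j :=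
      congrArg (fun t => t ≫ h₀ ≫ pullback.fst Z.hom j) hs1.symm
    have step2 : (s ≫ ι') ≫ h₀ ≫ pullback.fst Z.hom j = s ≫ (ι' ≫ h₀) ≫ pullback.fst Z.hom j :=
      (Category.assoc _ _ _).trans (congrArg (fun t => s ≫ t) (Category.assoc _ _ _).symm)
    have step3 : s ≫ (ι' ≫ h₀) ≫ pullback.fst Z.hom j = s ≫ k' ≫ pullback.fst Z.hom j :=
      congrArg (fun t => s ≫ t ≫ pullback.fst Z.hom j) hι
    have step4 : s ≫ k' ≫ pullback.fst Z.hom j = s ≫ pullback.snd _ _ ≫ k :=
      congrArg (fun t => s ≫ t) e4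
    have step5 : s ≫ pullback.snd _ _ ≫ k = t₂ ≫ k :=
      (Category.assoc _ _ _).symm.trans (congrArg (fun t => t ≫ k) hs2)
    exact step1.trans (step2.trans (step3.trans (step4.trans step5)))

open Groth.Agent.Lib.Helper69 in
/-- Global extension: a morphism over `X` from the `U`-part of `Y` to `Z` extends over all of `Y` when `X` has
depth at least two off the dense open `U`. -/
theorem exists_extension_of_depth {X : Scheme.{u}} [IsNoetherian X] (U : X.Opens)
    (hU : Dense (U : Set X))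
    (h : ∀ x : X, x ∉ U → (2 : ℕ∞) ≤ LocCoh.depth (X.presheaf.stalk x) (X.presheaf.stalk x))
    (Y Z : FEt.Cat X)
    (k : pullback Y.hom U.ι ⟶ Z.left) (hk : k ≫ Z.hom = pullback.fst Y.hom U.ι ≫ Y.hom) :
    ∃ h₀ : Y.left ⟶ Z.left, h₀ ≫ Z.hom = Y.hom ∧ pullback.fst Y.hom U.ι ≫ h₀ = k := by
  have hYet : Etale Y.hom := Y.prop.2
  have hZfin : IsFinite Z.hom := Z.prop.1
  have hZet : Etale Z.hom := Z.prop.2
  let 𝒜 := X.affineOpenCover
  let 𝒰 : Y.left.OpenCover := 𝒜.openCover.pullback₁ Y.hom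
  have key : ∀ i : 𝒰.I₀, ∃ g : 𝒰.X i ⟶ Z.left, g ≫ Z.hom = 𝒰.f i ≫ Y.hom ∧
      ∀ (T : Scheme.{u}) (t₁ : T ⟶ 𝒰.X i) (t₂ : T ⟶ pullback Y.hom U.ι),
        t₁ ≫ 𝒰.f i = t₂ ≫ pullback.fst Y.hom U.ι → t₁ ≫ g = t₂ ≫ k :=
    fun i => exists_local_extension U h Y Z k hk (𝒜.X i) (𝒜.f i)
  choose g hg1 hg2 using key
  -- density of the `U`-part
  have hdense : Dense (Set.range (pullback.fst Y.hom U.ι)) := by
    rw [Scheme.Pullback.range_fst, Scheme.Opens.range_ι]
    exact hU.preimage Y.hom.isOpenMap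
  have hcompat : ∀ i i' : 𝒰.I₀, pullback.fst (𝒰.f i) (𝒰.f i') ≫ g i =
      pullback.snd (𝒰.f i) (𝒰.f i') ≫ g i' := by
    intro i i'
    let a : pullback (𝒰.f i) (𝒰.f i') ⟶ Y.left := pullback.fst (𝒰.f i) (𝒰.f i') ≫ 𝒰.f i
    have ha : a = pullback.snd (𝒰.f i) (𝒰.f i') ≫ 𝒰.f i' := pullback.condition
    let ξ : pullback a (pullback.fst Y.hom U.ι) ⟶ pullback (𝒰.f i) (𝒰.f i') := pullback.fst _ _
    have hd : DenseRange ξ.base := by
      have : Set.range ξ = a ⁻¹' Set.range (pullback.fst Y.hom U.ι) :=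
        Scheme.Pullback.range_fst _ _
      rw [DenseRange, this]
      exact hdense.preimage a.isOpenEmbedding.isOpenMap
    refine eq_of_comp_eq_of_denseRange Z.hom _ _ ?_ ξ hd ?_
    · rw [Category.assoc, Category.assoc, hg1, hg1, ← Category.assoc,
        ← Category.assoc, pullback.condition]
    · have e1 : (ξ ≫ pullback.fst (𝒰.f i) (𝒰.f i')) ≫ g i = pullback.snd _ _ ≫ k := by
        apply hg2
        rw [Category.assoc]
        exact pullback.condition
      have e2 : (ξ ≫ pullback.snd (𝒰.f i) (𝒰.f i')) ≫ g i' = pullback.snd _ _ ≫ k := by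
        apply hg2
        rw [Category.assoc, ← ha]
        exact pullback.condition
      rw [← Category.assoc, ← Category.assoc, e1, e2]
  let h₀ : Y.left ⟶ Z.left := 𝒰.glueMorphisms g hcompat
  have hh₀ : ∀ i, 𝒰.f i ≫ h₀ = g i := fun i => 𝒰.ι_glueMorphisms g hcompat i
  refine ⟨h₀, ?_, ?_⟩
  · apply 𝒰.hom_ext
    intro i
    rw [← Category.assoc, hh₀, hg1]
  · let 𝒱 : (pullback Y.hom U.ι).OpenCover := 𝒰.pullback₁ (pullback.fst Y.hom U.ι)
    apply 𝒱.hom_ext
    intro i
    let i' : 𝒰.I₀ := i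
    have e1 : pullback.snd (pullback.fst Y.hom U.ι) (𝒰.f i') ≫ g i' =
        pullback.fst (pullback.fst Y.hom U.ι) (𝒰.f i') ≫ k := by
      apply hg2
      exact pullback.condition.symm
    have e2 : pullback.fst (pullback.fst Y.hom U.ι) (𝒰.f i') ≫ pullback.fst Y.hom U.ι =
        pullback.snd (pullback.fst Y.hom U.ι) (𝒰.f i') ≫ 𝒰.f i' := pullback.condition
    exact (Category.assoc _ _ _).symm.trans ((congrArg (fun t => t ≫ h₀) e2).trans
      ((Category.assoc _ _ _).trans
        ((congrArg (fun t => pullback.snd (pullback.fst Y.hom U.ι) (𝒰.f i') ≫ t) (hh₀ i')).trans e1)))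

/-- Restriction of finite étale covers to a dense open `U` of a Noetherian scheme with depth at least two at all
points off `U` is full. -/
theorem full_restrict_of_depth {X : Scheme.{u}} [IsNoetherian X] (U : X.Opens)
    (hU : Dense (U : Set X))
    (h : ∀ x : X, x ∉ U → (2 : ℕ∞) ≤ LocCoh.depth (X.presheaf.stalk x) (X.presheaf.stalk x)) :
    (FEt.restrict U.ι).Full := by
  constructor
  intro Y Z g
  let gl : pullback Y.hom U.ι ⟶ pullback Z.hom U.ι := g.left
  have hgw : gl ≫ pullback.snd Z.hom U.ι = pullback.snd Y.hom U.ι := MorphismProperty.Over.w g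
  let k : pullback Y.hom U.ι ⟶ Z.left := gl ≫ pullback.fst Z.hom U.ι
  have hk0 : k ≫ Z.hom = pullback.fst Y.hom U.ι ≫ Y.hom := by
    rw [Category.assoc, pullback.condition, ← Category.assoc, hgw, pullback.condition]
  obtain ⟨h₀, hw, hk⟩ := exists_extension_of_depth U hU h Y Z k hk0
  refine ⟨MorphismProperty.Over.homMk h₀ hw trivial, ?_⟩
  ext
  simp only [FEt.restrict, MorphismProperty.Over.pullback_map_left,
    MorphismProperty.Over.homMk_hom, Over.homMk_left]
  apply pullback.hom_ext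
  · rw [pullback.lift_fst]
    exact hk
  · rw [pullback.lift_snd]
    exact hgw.symm

end Groth.Agent.Lib.Helper2
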