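import Groth.Agent.Lib.Helper2.PuncturedSections

/-!
# Hartshorne's connectedness theorem, global affine form (helper2)

`isPreconnected_compl_zeroLocus_of_regular_pair`, `isPreconnected_compl_zeroLocus_of_depth`.
-/

set_option autoImplicit false
universe u
open PrimeSpectrum

namespace Groth.Agent.Lib.Helper2

/-- In a ring with connected spectrum, `e * (1 - e) = 0` forces `e` or `1 - e` to be a unit. -/
lemma isUnit_or_isUnit_one_sub_of_preconnectedSpace {A : Type u} [CommRing A]
    [PreconnectedSpace (PrimeSpectrum A)] (e : A) (he : e * (1 - e) = 0) :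
    IsUnit e ∨ IsUnit (1 - e) := by
  have hclopen : IsClopen (basicOpen e : Set (PrimeSpectrum A)) :=
    isClopen_basicOpen_of_mul_add e (1 - e) he (by ring)
  have hunit : ∀ a : A, (∀ p : PrimeSpectrum A, a ∉ p.asIdeal) → IsUnit a := by
    intro a ha
    by_contra hnu
    obtain ⟨m, hm, ham⟩ := exists_max_ideal_of_mem_nonunits (show a ∈ nonunits A from hnu)
    exact ha ⟨m, hm.isPrime⟩ ham
  rcases _root_.isClopen_iff.mp hclopen with h | h
  · right
    apply hunit
    intro p hp
    have h1 : p ∉ (basicOpen e : Set (PrimeSpectrum A)) := by rw [h]; exact Set.notMem_empty p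
    have h2 : e ∈ p.asIdeal := by
      by_contra h3
      exact h1 h3
    have : (1 : A) ∈ p.asIdeal := by
      have := p.asIdeal.add_mem h2 hp
      rwa [add_sub_cancel] at this
    exact p.2.ne_top ((Ideal.eq_top_iff_one _).mpr this)
  · left
    apply hunit
    intro p hp
    have h1 : p ∈ (basicOpen e : Set (PrimeSpectrum A)) := by rw [h]; exact Set.mem_univ p
    exact h1 hp

/-- Hartshorne's connectedness, global affine form: in a Noetherian ring with connected spectrum, the complement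
of `V(I)` is preconnected as soon as `I` contains a regular sequence of length two. -/
theorem isPreconnected_compl_zeroLocus_of_regular_pair (A : Type u) [CommRing A] [IsNoetherianRing A]
    [PreconnectedSpace (PrimeSpectrum A)] (I : Ideal A) {x y : A} (hxI : x ∈ I) (hyI : y ∈ I)
    (hx : IsSMulRegular A x) (hxy : RegMod x y) :
    IsPreconnected ((zeroLocus (I : Set A))ᶜ) := by
  rw [isPreconnected_closed_iff]
  intro t t' ht ht' hsub hne hne'
  obtain ⟨J₁, rfl⟩ := (isClosed_iff_zeroLocus_ideal t).mp ht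
  obtain ⟨J₂, rfl⟩ := (isClosed_iff_zeroLocus_ideal t').mp ht'
  by_contra hempty
  rw [Set.not_nonempty_iff_eq_empty] at hempty
  -- I * J₁ * J₂ is nilpotent
  have hnil : I * (J₁ * J₂) ≤ nilradical A := by
    rw [nilradical_eq_sInf]
    apply le_sInf
    intro P hP
    have hP' : P.IsPrime := hP
    by_cases hIP : I ≤ P
    · exact Ideal.mul_le_left.trans hIP
    · have hmem : (⟨P, hP'⟩ : PrimeSpectrum A) ∈ (zeroLocus (I : Set A))ᶜ := by
        rw [Set.mem_compl_iff, mem_zeroLocus, SetLike.coe_subset_coe]; exact hIP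
      rcases hsub hmem with h1 | h1
      · rw [mem_zeroLocus, SetLike.coe_subset_coe] at h1
        exact Ideal.mul_le_right.trans (Ideal.mul_le_left.trans h1)
      · rw [mem_zeroLocus, SetLike.coe_subset_coe] at h1
        exact Ideal.mul_le_right.trans (Ideal.mul_le_right.trans h1)
  obtain ⟨n, hn⟩ := IsNoetherianRing.isNilpotent_nilradical A
  have hIJn : I ^ n * (J₁ ^ n * J₂ ^ n) = ⊥ := by
    rw [← mul_pow, ← mul_pow, eq_bot_iff, ← Ideal.zero_eq_bot, ← hn]
    exact Ideal.pow_right_mono hnil n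
  have hmul : ∀ a ∈ J₁ ^ n, ∀ b ∈ J₂ ^ n, a * b = 0 := by
    intro a ha b hb
    apply (hx.pow n)
    simp only [smul_eq_mul, mul_zero]
    have := Ideal.mul_mem_mul (Ideal.pow_mem_pow hxI n) (Ideal.mul_mem_mul ha hb)
    rwa [hIJn, Ideal.mem_bot] at this
  -- I ≤ radical (J₁ ⊔ J₂)
  have hrad : I ≤ (J₁ ⊔ J₂).radical := by
    rw [Ideal.radical_eq_sInf]
    apply le_sInf
    rintro P ⟨hle, hP⟩
    by_contra hIP
    have hmem : (⟨P, hP⟩ : PrimeSpectrum A) ∈
        (zeroLocus (I : Set A))ᶜ ∩ (zeroLocus ↑J₁ ∩ zeroLocus ↑J₂) := by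
      refine ⟨?_, ?_, ?_⟩
      · rw [Set.mem_compl_iff, mem_zeroLocus, SetLike.coe_subset_coe]; exact hIP
      · rw [mem_zeroLocus, SetLike.coe_subset_coe]
        exact le_sup_left.trans hle
      · rw [mem_zeroLocus, SetLike.coe_subset_coe]
        exact le_sup_right.trans hle
    rw [hempty] at hmem
    exact hmem
  obtain ⟨k, hk⟩ := Ideal.exists_pow_le_of_le_radical_of_fg hrad (IsNoetherian.noetherian _)
  set K := k * (n + n) with hKdef
  have hK : I ^ K ≤ J₁ ^ n ⊔ J₂ ^ n := by
    rw [hKdef, pow_mul]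
    exact (Ideal.pow_right_mono hk (n + n)).trans Ideal.sup_pow_add_le_pow_sup_pow
  obtain ⟨a, ha, b, hb, hab⟩ := Submodule.mem_sup.mp (hK (Ideal.pow_mem_pow hxI K))
  obtain ⟨c, hc, d, hd, hcd⟩ := Submodule.mem_sup.mp (hK (Ideal.pow_mem_pow hyI K))
  have hxK : IsSMulRegular A (x ^ K) := hx.pow K
  have h1 : y ^ K * a = x ^ K * c := by
    rw [← hab, ← hcd]
    have e1 := hmul a ha d hd
    have e2 := hmul c hc b hb
    linear_combination e1 - e2
  have hreg : RegMod (x ^ K) (y ^ K) := regMod_pow_right (regMod_pow_left hx hxy K) K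
  obtain ⟨e, he⟩ := hreg a ⟨c, h1⟩
  have hb' : b = x ^ K * (1 - e) := by
    rw [mul_sub, mul_one, ← he, ← hab]; ring
  have hee : e * (1 - e) = 0 := by
    apply hxK
    apply hxK
    simp only [smul_eq_mul, mul_zero]
    have := hmul a ha b hb
    rw [he, hb'] at this
    rw [← this]; ring
  obtain ⟨p, hpI, hpJ⟩ := hne
  obtain ⟨q, hqI, hqJ⟩ := hne'
  rw [mem_zeroLocus, SetLike.coe_subset_coe] at hpJ hqJ
  rcases isUnit_or_isUnit_one_sub_of_preconnectedSpace e hee with hu | hu
  · have h0 : 1 - e = 0 := hu.mul_right_eq_zero.mp hee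
    have hxJ : x ^ K ∈ J₁ ^ n := by
      rw [← hab, hb', h0, mul_zero, add_zero]; exact ha
    have hJ : J₂ ^ n = ⊥ := by
      rw [eq_bot_iff]
      intro j hj
      rw [Ideal.mem_bot]
      apply hxK
      simp only [smul_eq_mul, mul_zero]
      exact hmul _ hxJ j hj
    have hJp : J₂ ≤ p.asIdeal := p.2.le_of_pow_le (hJ ▸ bot_le)
    have : p ∈ (zeroLocus (I : Set A))ᶜ ∩ (zeroLocus ↑J₁ ∩ zeroLocus ↑J₂) := by
      refine ⟨hpI, ?_, ?_⟩
      · rw [mem_zeroLocus, SetLike.coe_subset_coe]; exact hpJ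
      · rw [mem_zeroLocus, SetLike.coe_subset_coe]; exact hJp
    rw [hempty] at this
    exact this
  · have h0 : e = 0 := hu.mul_left_eq_zero.mp hee
    have hxJ : x ^ K ∈ J₂ ^ n := by
      rw [← hab, he, h0, mul_zero, zero_add]; exact hb
    have hJ : J₁ ^ n = ⊥ := by
      rw [eq_bot_iff]
      intro j hj
      rw [Ideal.mem_bot]
      apply hxK
      simp only [smul_eq_mul, mul_zero]
      rw [mul_comm]
      exact hmul j hj _ hxJ
    have hJq : J₁ ≤ q.asIdeal := q.2.le_of_pow_le (hJ ▸ bot_le)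
    have : q ∈ (zeroLocus (I : Set A))ᶜ ∩ (zeroLocus ↑J₁ ∩ zeroLocus ↑J₂) := by
      refine ⟨hqI, ?_, ?_⟩
      · rw [mem_zeroLocus, SetLike.coe_subset_coe]; exact hJq
      · rw [mem_zeroLocus, SetLike.coe_subset_coe]; exact hqJ
    rw [hempty] at this
    exact this

/-- Affine Hartshorne connectedness from depth conditions on local rings. -/
theorem isPreconnected_compl_zeroLocus_of_depth (A : Type u) [CommRing A] [IsNoetherianRing A]
    [ConnectedSpace (PrimeSpectrum A)] (I : Ideal A)
    (h : ∀ (p : Ideal A) [p.IsPrime], I ≤ p →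
      (2 : ℕ∞) ≤ LocCoh.depth (Localization.AtPrime p) (Localization.AtPrime p)) :
    IsPreconnected ((zeroLocus (I : Set A))ᶜ) := by
  by_cases hI : I = ⊤
  · subst hI
    rw [show ((⊤ : Ideal A) : Set A) = Set.univ from rfl, zeroLocus_univ, Set.compl_empty]
    exact isPreconnected_univ
  · have hdepth : (2 : ℕ∞) ≤ LocCoh.idealDepth I A := by
      have := Groth.Agent.Lib.Helper29.le_idealDepth_of_forall_le_depth_localization A 2 A I (by
        intro p _ hp
        rw [Groth.Agent.Lib.Helper29.depth_localizedModule_self]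
        exact h p hp)
      exact_mod_cast this
    obtain ⟨x, y, hxI, hyI, hx, hxy⟩ := exists_regular_pair_of_idealDepth I hI hdepth
    exact isPreconnected_compl_zeroLocus_of_regular_pair A I hxI hyI hx hxy

end Groth.Agent.Lib.Helper2
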