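import Mathlib
import Groth.Agent.Lib.Helper2.FEtDepthGlue
import Groth.Agent.Lib.Helper2.HartshorneConnAffine

/-!
# Hartshorne connectedness, global form

* `isOpen_connectedComponent_of_noetherianSpace`, `isOpen_connectedComponent_of_locally_noetherian`,
  `isOpen_connectedComponent_of_isLocallyNoetherian`: connected components of (locally) Noetherian spaces/schemes are open.
* `connectedComponentsMap_bijective_of_local`: topological criterion for `π₀(U) → π₀(X)` to be bijective.
* `exists_isAffineOpen_isPreconnected_nhd`: preconnected affine open neighbourhoods in locally Noetherian schemes.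
* `affine_inter_of_depth`, `connectedComponentsMap_bijective_of_depth`.
-/

set_option linter.style.haveILetI false
set_option autoImplicit false

universe u
open AlgebraicGeometry CategoryTheory TopologicalSpace Set RingTheory.Sequence

namespace Groth.Agent.Lib.Helper2

/-- In a Noetherian space connected components are open. -/
lemma isOpen_connectedComponent_of_noetherianSpace {α : Type*} [TopologicalSpace α] [NoetherianSpace α]
    (x : α) : IsOpen (connectedComponent x) := by
  rw [← isClosed_compl_iff]
  have hfin : (irreducibleComponents α).Finite := NoetherianSpace.finite_irreducibleComponents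
  have heq : (connectedComponent x)ᶜ =
      ⋃₀ {Z ∈ irreducibleComponents α | Disjoint Z (connectedComponent x)} := by
    ext y
    constructor
    · intro hy
      have hyu : y ∈ ⋃₀ irreducibleComponents α := by
        rw [sUnion_irreducibleComponents]; trivial
      obtain ⟨Z, hZ, hyZ⟩ := hyu
      refine ⟨Z, ⟨hZ, ?_⟩, hyZ⟩
      rw [Set.disjoint_left]
      intro z hzZ hzC
      apply hy
      have h1 : Z ⊆ connectedComponent z :=
        (hZ.1.isPreirreducible.isPreconnected).subset_connectedComponent hzZ
      rw [connectedComponent_eq hzC]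
      exact h1 hyZ
    · rintro ⟨Z, ⟨-, hZd⟩, hyZ⟩ hyC
      exact Set.disjoint_left.mp hZd hyZ hyC
  rw [heq, sUnion_eq_biUnion]
  have hfin' : {Z ∈ irreducibleComponents α | Disjoint Z (connectedComponent x)}.Finite :=
    hfin.subset (fun Z hZ => hZ.1)
  exact hfin'.isClosed_biUnion (fun Z hZ => isClosed_of_mem_irreducibleComponents Z hZ.1)

/-- If every point has a Noetherian open neighbourhood then connected components are open. -/
lemma isOpen_connectedComponent_of_locally_noetherian {α : Type*} [TopologicalSpace α]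
    (h : ∀ x : α, ∃ N : Set α, IsOpen N ∧ x ∈ N ∧ NoetherianSpace N) (x : α) :
    IsOpen (connectedComponent x) := by
  rw [isOpen_iff_mem_nhds]
  intro y hy
  obtain ⟨N, hNo, hyN, hN⟩ := h y
  have h1 : IsOpen (connectedComponent (⟨y, hyN⟩ : N)) :=
    isOpen_connectedComponent_of_noetherianSpace _
  have h2 : IsOpen ((↑) '' connectedComponent (⟨y, hyN⟩ : N) : Set α) :=
    hNo.isOpenMap_subtype_val _ h1
  have h3 : _root_.IsPreconnected ((↑) '' connectedComponent (⟨y, hyN⟩ : N) : Set α) :=
    isPreconnected_connectedComponent.image _ continuous_subtype_val.continuousOn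
  have h4 : y ∈ ((↑) '' connectedComponent (⟨y, hyN⟩ : N) : Set α) :=
    ⟨⟨y, hyN⟩, mem_connectedComponent, rfl⟩
  have h5 : ((↑) '' connectedComponent (⟨y, hyN⟩ : N) : Set α) ⊆ connectedComponent x := by
    rw [connectedComponent_eq hy]
    exact h3.subset_connectedComponent h4
  exact Filter.mem_of_superset (h2.mem_nhds h4) h5

/-- Topological core: for a dense open `U` of `X` with open connected components such that every point off `U` has
an open preconnected neighbourhood `V` with `V ∩ U` preconnected, `π₀(U) → π₀(X)` is bijective. -/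
theorem connectedComponentsMap_bijective_of_local {X : Type*} [TopologicalSpace X] (U : Set X)
    (hUo : IsOpen U) (hUd : Dense U)
    (hLC : ∀ u : U, IsOpen (connectedComponent u))
    (hloc : ∀ x : X, x ∉ U → ∃ V : Set X, IsOpen V ∧ x ∈ V ∧ _root_.IsPreconnected V ∧ _root_.IsPreconnected (V ∩ U)) :
    Function.Bijective (Continuous.connectedComponentsMap
      (continuous_subtype_val : Continuous (fun x : U => (x : X)))) := by
  constructor
  · -- injectivity
    intro a b hab
    obtain ⟨u₁, rfl⟩ := ConnectedComponents.surjective_coe a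
    obtain ⟨u₂, rfl⟩ := ConnectedComponents.surjective_coe b
    have hab' : ((u₂ : X) : ConnectedComponents X) = ((u₁ : X) : ConnectedComponents X) := hab.symm
    rw [ConnectedComponents.coe_eq_coe'] at hab'
    symm
    rw [ConnectedComponents.coe_eq_coe']
    -- S' = image of the component of u₁
    set S : Set U := connectedComponent u₁ with hS
    set S' : Set X := (↑) '' S with hS'
    have hSclosed : IsClosed S := isClosed_connectedComponent
    have hclU : ∀ y : X, y ∈ closure S' → y ∈ U → y ∈ S' := by
      intro y hy hyU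
      have h1 : (⟨y, hyU⟩ : U) ∈ closure S := by
        rw [closure_subtype]
        exact hy
      rw [hSclosed.closure_eq] at h1
      exact ⟨⟨y, hyU⟩, h1, rfl⟩
    have hopen : IsOpen (closure S') := by
      rw [isOpen_iff_mem_nhds]
      intro a ha
      by_cases haU : a ∈ U
      · have haS : a ∈ S' := hclU a ha haU
        have hS'open : IsOpen S' := hUo.isOpenMap_subtype_val _ (hLC u₁)
        exact Filter.mem_of_superset (hS'open.mem_nhds haS) subset_closure
      · obtain ⟨V, hVo, haV, -, hVU⟩ := hloc a haU
        -- V ∩ U ⊆ S'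
        have hmeet : (V ∩ S').Nonempty := by
          have := mem_closure_iff.mp ha V hVo haV
          exact this
        obtain ⟨z, hzV, ⟨z', hz'S, rfl⟩⟩ := hmeet
        have hpre : _root_.IsPreconnected ((↑) ⁻¹' (V ∩ U) : Set U) := by
          have hind : Topology.IsInducing ((↑) : U → X) := Topology.IsInducing.subtypeVal
          rw [← hind.isPreconnected_image]
          have : ((↑) '' ((↑) ⁻¹' (V ∩ U) : Set U) : Set X) = V ∩ U := by
            rw [Subtype.image_preimage_coe]
            ext w
            simp only [mem_inter_iff]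
            tauto
          rw [this]
          exact hVU
        have hsub : ((↑) ⁻¹' (V ∩ U) : Set U) ⊆ S := by
          have hz'mem : z' ∈ ((↑) ⁻¹' (V ∩ U) : Set U) := ⟨hzV, z'.2⟩
          have := hpre.subset_connectedComponent hz'mem
          rw [hS, connectedComponent_eq hz'S]
          exact this
        have hVsub : V ⊆ closure S' := by
          intro y hyV
          rw [mem_closure_iff]
          intro N hNo hyN
          obtain ⟨w, ⟨hwN, hwV⟩, hwU⟩ := hUd.inter_open_nonempty (N ∩ V) (hNo.inter hVo) ⟨y, hyN, hyV⟩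
          exact ⟨w, hwN, ⟨⟨w, hwU⟩, hsub ⟨hwV, hwU⟩, rfl⟩⟩
        exact Filter.mem_of_superset (hVo.mem_nhds haV) hVsub
    have hclopen : IsClopen (closure S') := ⟨isClosed_closure, hopen⟩
    have hu₁ : (u₁ : X) ∈ closure S' := subset_closure ⟨u₁, mem_connectedComponent, rfl⟩
    have hsub : connectedComponent (u₁ : X) ⊆ closure S' := hclopen.connectedComponent_subset hu₁
    obtain ⟨w, hwS, hw⟩ := hclU _ (hsub hab') u₂.2
    have : w = u₂ := Subtype.ext hw
    rw [← this]
    exact hwS
  · -- surjectivity
    intro c
    obtain ⟨x, rfl⟩ := ConnectedComponents.surjective_coe c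
    by_cases hxU : x ∈ U
    · exact ⟨((⟨x, hxU⟩ : U) : ConnectedComponents U), rfl⟩
    · obtain ⟨V, hVo, hxV, hVpre, -⟩ := hloc x hxU
      obtain ⟨w, hwV, hwU⟩ := hUd.inter_open_nonempty V hVo ⟨x, hxV⟩
      refine ⟨((⟨w, hwU⟩ : U) : ConnectedComponents U), ?_⟩
      change ((w : X) : ConnectedComponents X) = (x : ConnectedComponents X)
      rw [ConnectedComponents.coe_eq_coe']
      exact hVpre.subset_connectedComponent hxV hwV

/-- Connected components of a locally Noetherian scheme are open. -/
lemma isOpen_connectedComponent_of_isLocallyNoetherian (X : Scheme.{u}) [IsLocallyNoetherian X]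
    (x : X) : IsOpen (connectedComponent x) := by
  apply isOpen_connectedComponent_of_locally_noetherian
  intro y
  obtain ⟨W, hW, hyW, -⟩ := exists_isAffineOpen_mem_and_subset (x := y) (U := ⊤) trivial
  haveI := IsLocallyNoetherian.component_noetherian ⟨W, hW⟩
  exact ⟨W, W.isOpen, hyW, noetherianSpace_of_isAffineOpen W hW⟩

/-- Every point of a locally Noetherian scheme has a preconnected affine open neighbourhood. -/
lemma exists_isAffineOpen_isPreconnected_nhd (X : Scheme.{u}) [IsLocallyNoetherian X] (x : X) :
    ∃ V : X.Opens, IsAffineOpen V ∧ x ∈ V ∧ _root_.IsPreconnected (V : Set X) := by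
  obtain ⟨V₀, hV₀, hxV₀, -⟩ := exists_isAffineOpen_mem_and_subset (x := x) (U := ⊤) trivial
  let x₀ : V₀.toScheme := ⟨x, hxV₀⟩
  have hCo : IsOpen (connectedComponent x₀) :=
    isOpen_connectedComponent_of_isLocallyNoetherian V₀.toScheme x₀
  let N₀ : V₀.toScheme.Opens := ⟨connectedComponent x₀, hCo⟩
  haveI : IsAffine V₀.toScheme := hV₀
  haveI : IsClosedImmersion N₀.ι := by
    apply IsClosedImmersion.of_isPreimmersion
    rw [Scheme.Opens.range_ι]
    exact isClosed_connectedComponent
  have hN₀ : IsAffineOpen N₀ := isAffine_of_isAffineHom N₀.ι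
  refine ⟨V₀.ι ''ᵁ N₀, hN₀.image_of_isOpenImmersion V₀.ι, ⟨x₀, mem_connectedComponent, rfl⟩, ?_⟩
  exact isPreconnected_connectedComponent.image _ V₀.ι.continuous.continuousOn

/-- The affine piece of Hartshorne's connectedness: nonemptiness and preconnectedness of `V ∩ U`. -/
lemma affine_inter_of_depth (X : Scheme.{u}) [IsLocallyNoetherian X] (U : X.Opens)
    (h : ∀ x : X, x ∉ (U : Set X) →
      (2 : ℕ∞) ≤ LocCoh.depth (X.presheaf.stalk x) (X.presheaf.stalk x))
    (V : X.Opens) (hV : IsAffineOpen V) :
    ((V : Set X).Nonempty → ((V : Set X) ∩ U).Nonempty) ∧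
      (_root_.IsPreconnected (V : Set X) → _root_.IsPreconnected ((V : Set X) ∩ U)) := by
  haveI : IsNoetherianRing Γ(X, V) := IsLocallyNoetherian.component_noetherian ⟨V, hV⟩
  let φ := hV.fromSpec
  have hrange : Set.range φ = V := hV.range_fromSpec
  let Uc : Set (PrimeSpectrum Γ(X, V)) := (φ ⁻¹' (U : Set X))ᶜ
  have hcl : IsClosed Uc := ((U.isOpen.preimage φ.continuous)).isClosed_compl
  obtain ⟨I, hI⟩ := (PrimeSpectrum.isClosed_iff_zeroLocus_ideal _).mp hcl
  have hmemU : ∀ p : PrimeSpectrum Γ(X, V), φ p ∈ U ↔ ¬ I ≤ p.asIdeal := by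
    intro p
    have h1 : φ p ∈ U ↔ p ∉ Uc := (not_not (a := p ∈ φ ⁻¹' (U : Set X))).symm
    rw [h1, hI, PrimeSpectrum.mem_zeroLocus, SetLike.coe_subset_coe]
  have hdl : ∀ (p : Ideal Γ(X, V)) [p.IsPrime], I ≤ p →
      (2 : ℕ∞) ≤ LocCoh.depth (Localization.AtPrime p) (Localization.AtPrime p) := by
    intro p _ hp
    have := depth_localization_eq_depth_stalk Γ(X, V) φ ⟨p, inferInstance⟩
    rw [this]
    apply h
    intro hU
    exact (hmemU ⟨p, inferInstance⟩).mp hU hp
  have himage : φ '' (PrimeSpectrum.zeroLocus (I : Set Γ(X, V)))ᶜ = (V : Set X) ∩ U := by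
    ext y
    constructor
    · rintro ⟨p, hp, rfl⟩
      refine ⟨hrange ▸ Set.mem_range_self p, ?_⟩
      rw [← hI] at hp
      exact not_not.mp hp
    · rintro ⟨hyV, hyU⟩
      rw [← hrange] at hyV
      obtain ⟨p, rfl⟩ := hyV
      refine ⟨p, ?_, rfl⟩
      rw [← hI]
      exact fun hc => hc hyU
  constructor
  · rintro ⟨y, hyV⟩
    rw [← hrange] at hyV
    obtain ⟨p₀, rfl⟩ := hyV
    haveI : Nontrivial Γ(X, V) := p₀.nontrivial
    have hdepth : (2 : ℕ∞) ≤ LocCoh.idealDepth I Γ(X, V) := by
      have := Groth.Agent.Lib.Helper29.le_idealDepth_of_forall_le_depth_localization Γ(X, V) 2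
        Γ(X, V) I (by
        intro p _ hp
        rw [Groth.Agent.Lib.Helper29.depth_localizedModule_self]
        exact hdl p hp)
      exact_mod_cast this
    obtain ⟨a₁, a₂, h₁, h₂, hreg⟩ := exists_weaklyRegular_pair_of_idealDepth I hdepth
    rw [isWeaklyRegular_cons_iff] at hreg
    have hreg1 : IsSMulRegular Γ(X, V) a₁ := hreg.1
    have hnn : ¬ IsNilpotent a₁ := by
      rintro ⟨n, hn⟩
      have h2 : IsSMulRegular Γ(X, V) (a₁ ^ n) := hreg1.pow n
      have h3 : (a₁ ^ n) • (1 : Γ(X, V)) = (a₁ ^ n) • (0 : Γ(X, V)) := by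
        rw [hn]; simp
      exact one_ne_zero (h2 h3)
    have hne : (PrimeSpectrum.basicOpen a₁ : Set (PrimeSpectrum Γ(X, V))).Nonempty := by
      rw [Set.nonempty_iff_ne_empty]
      intro hemp
      apply hnn
      rw [← PrimeSpectrum.basicOpen_eq_bot_iff]
      exact TopologicalSpace.Opens.ext hemp
    obtain ⟨p, hp⟩ := hne
    rw [← himage]
    refine ⟨φ p, p, ?_, rfl⟩
    intro hpI
    exact hp (hpI h₁)
  · intro hpre
    by_cases hne : (V : Set X).Nonempty
    · haveI : ConnectedSpace (PrimeSpectrum Γ(X, V)) := by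
        have hind : Topology.IsInducing φ := φ.isOpenEmbedding.isInducing
        have h1 : _root_.IsPreconnected (Set.univ : Set (PrimeSpectrum Γ(X, V))) := by
          have h0 : _root_.IsPreconnected (φ '' (Set.univ : Set (Spec Γ(X, V)))) := by
            rw [Set.image_univ, hrange]
            exact hpre
          exact hind.isPreconnected_image.mp h0
        obtain ⟨y, hyV⟩ := hne
        rw [← hrange] at hyV
        obtain ⟨p₀, -⟩ := hyV
        haveI : Nonempty (PrimeSpectrum Γ(X, V)) := ⟨p₀⟩
        haveI : PreconnectedSpace (PrimeSpectrum Γ(X, V)) := ⟨h1⟩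
        exact ConnectedSpace.mk inferInstance
      have := isPreconnected_compl_zeroLocus_of_depth Γ(X, V) I hdl
      rw [← himage]
      exact this.image _ φ.continuous.continuousOn
    · rw [Set.not_nonempty_iff_eq_empty] at hne
      rw [hne, Set.empty_inter]
      exact isPreconnected_empty

/-- Hartshorne's connectedness, global form: removing a closed subset along which the depth is at least two does not
change the set of connected components of a locally Noetherian scheme. -/
theorem connectedComponentsMap_bijective_of_depth (X : Scheme.{u}) [IsLocallyNoetherian X]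
    (U : X.Opens)
    (h : ∀ x : X, x ∉ (U : Set X) →
      (2 : ℕ∞) ≤ LocCoh.depth (X.presheaf.stalk x) (X.presheaf.stalk x)) :
    Function.Bijective (Continuous.connectedComponentsMap
      (continuous_subtype_val : Continuous (fun x : U => (x : X)))) := by
  apply connectedComponentsMap_bijective_of_local (U : Set X) U.isOpen
  · rw [dense_iff_inter_open]
    rintro N hNo ⟨x, hxN⟩
    obtain ⟨V, hV, hxV, hVN⟩ := exists_isAffineOpen_mem_and_subset (x := x) (U := ⟨N, hNo⟩) hxN
    obtain ⟨y, hyV, hyU⟩ := (affine_inter_of_depth X U h V hV).1 ⟨x, hxV⟩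
    exact ⟨y, hVN hyV, hyU⟩
  · intro u
    exact isOpen_connectedComponent_of_isLocallyNoetherian U.toScheme u
  · intro x hx
    obtain ⟨V, hV, hxV, hVpre⟩ := exists_isAffineOpen_isPreconnected_nhd X x
    exact ⟨V, V.isOpen, hxV, hVpre, (affine_inter_of_depth X U h V hV).2 hVpre⟩

end Groth.Agent.Lib.Helper2
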