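import Mathlib.AlgebraicGeometry.Group.Smooth
import Mathlib.AlgebraicGeometry.Morphisms.Separated
import Mathlib.AlgebraicGeometry.Morphisms.Immersion
import Mathlib.AlgebraicGeometry.Morphisms.UniversallyOpen
import Mathlib.CategoryTheory.Monoidal.Cartesian.Over
import Mathlib.CategoryTheory.Limits.Constructions.Over.Connected

/-!
# Helper lemmas on group objects / group schemes (helper2)
-/

set_option autoImplicit false
universe u v
open CategoryTheory MonoidalCategory CartesianMonoidalCategory MonObj GrpObj AlgebraicGeometry

namespace Groth.Agent.Lib.Helper2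

/-- The shear isomorphism `(g, h) ↦ (g, g * h)` of a group object. -/
def shearIso {C : Type*} [Category C] [CartesianMonoidalCategory C] (A : C) [GrpObj A] :
    A ⊗ A ≅ A ⊗ A where
  hom := lift (fst A A) μ[A]
  inv := lift (fst A A) (lift (fst A A ≫ ι[A]) (snd A A) ≫ μ[A])
  hom_inv_id := by
    apply CartesianMonoidalCategory.hom_ext
    · simp
    · simp only [Category.assoc, lift_snd, Category.id_comp, comp_lift_assoc, lift_fst_assoc]
      rw [eq_comm, eq_lift_inv_left]
      simp
  inv_hom_id := by
    apply CartesianMonoidalCategory.hom_ext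
    · simp
    · simp only [Category.assoc, lift_snd, Category.id_comp]
      rw [← eq_lift_inv_left]

lemma shearIso_hom_snd {C : Type*} [Category C] [CartesianMonoidalCategory C] (A : C) [GrpObj A] :
    (shearIso A).hom ≫ snd A A = μ[A] := by
  simp [shearIso]

lemma shearIso_hom_fst {C : Type*} [Category C] [CartesianMonoidalCategory C] (A : C) [GrpObj A] :
    (shearIso A).hom ≫ fst A A = fst A A := by
  simp [shearIso]

/-- The diagonal of a group object is the base change of the unit along `(g, h) ↦ g⁻¹ h`. -/
lemma isPullback_diag_unit {C : Type*} [Category C] [CartesianMonoidalCategory C] (A : C)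
    [GrpObj A] :
    IsPullback (lift (𝟙 A) (𝟙 A)) (toUnit A) (lift (fst A A ≫ ι[A]) (snd A A) ≫ μ[A]) η[A] where
  w := by
    rw [comp_lift_assoc]
    simp
  isLimit' := Nonempty.intro <| Limits.PullbackCone.IsLimit.mk _
    (fun s => s.fst ≫ fst A A)
    (by
      intro s
      have h := s.condition
      rw [comp_lift_assoc, ← Category.assoc, lift_inv_left_eq] at h
      rw [comp_lift]
      apply CartesianMonoidalCategory.hom_ext
      · simp
      · simp only [Category.comp_id, lift_snd]
        rw [h, toUnit_unique s.snd (toUnit _)]
        simp)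
    (by
      intro s
      exact toUnit_unique _ _)
    (by
      intro s m hm₁ hm₂
      rw [← hm₁]
      simp)

/-- For a group scheme `G` over `S`, the diagonal of `G → S` is the base change of the unit
section along `(g, h) ↦ g⁻¹ h`. -/
lemma isPullback_diagonal_unit (S : Scheme.{u}) (G : Over S) [GrpObj G] :
    IsPullback (Limits.pullback.diagonal G.hom) G.hom
      ((lift (fst G G ≫ ι[G]) (snd G G) ≫ μ[G]).left) η[G].left := by
  have h := (isPullback_diag_unit G).map (Over.forget S)
  have h1 : (Over.forget S).map (lift (𝟙 G) (𝟙 G)) = Limits.pullback.diagonal G.hom := by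
    apply Limits.pullback.hom_ext <;> simp [Limits.pullback.diagonal]
  have h2 : (Over.forget S).map (toUnit G) = G.hom := rfl
  rw [h1, h2] at h
  exact h

end Groth.Agent.Lib.Helper2
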