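import Mathlib

/-!
# The spectrum of a local ring of a scheme as the limit of the affine neighbourhoods (helper2)

For a scheme `X` and a point `x`:

* `AffNhd X x`: affine open neighbourhoods of `x` (a cofiltered preorder);
* `ringDiag`, `germCocone`, `isColimitGermCocone`: `𝒪_{X,x} = colim Γ(X, N)` in `CommRingCat`;
* `D X x : AffNhd X x ⥤ Scheme`, `N ↦ Spec Γ(X, N)`, with limit cone `cone X x` whose point is
  `Spec 𝒪_{X,x}` (`isLimitCone`), affine stages and transition maps;
* `toX N : (D X x).obj N ⟶ X` the open immersions with range `N`, compatible with the transition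
  maps (`D_map_toX`) and with `X.fromSpecStalk x` (`cone_π_toX`).
-/

set_option autoImplicit false
set_option linter.style.haveILetI false
set_option linter.unusedSectionVars false
universe u

open CategoryTheory CategoryTheory.Limits AlgebraicGeometry Opposite

namespace Groth.Agent.Lib.Helper2.StalkLimit

variable (X : Scheme.{u}) (x : X)

/-- Affine open neighbourhoods of `x`, ordered by inclusion. -/
abbrev AffNhd : Type u := {N : X.Opens // IsAffineOpen N ∧ x ∈ N}

instance : Nonempty (AffNhd X x) := by
  obtain ⟨_, ⟨N, hN, rfl⟩, hx, -⟩ :=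
    X.isBasis_affineOpens.exists_subset_of_mem_open (Set.mem_univ x) isOpen_univ
  exact ⟨⟨N, hN, hx⟩⟩

instance : IsDirected (AffNhd X x) (· ≥ ·) where
  directed N M := by
    obtain ⟨_, ⟨K, hK, rfl⟩, hx, hle⟩ :=
      X.isBasis_affineOpens.exists_subset_of_mem_open
        (show x ∈ ((N.1 ⊓ M.1 : X.Opens) : Set X) from ⟨N.2.2, M.2.2⟩) (N.1 ⊓ M.1).isOpen
    exact ⟨⟨K, hK, hx⟩, fun y hy => (hle hy).1, fun y hy => (hle hy).2⟩

/-- Any open neighbourhood of `x` contains an affine one. -/
lemma exists_le (W : X.Opens) (hx : x ∈ W) : ∃ N : AffNhd X x, N.1 ≤ W := by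
  obtain ⟨_, ⟨K, hK, rfl⟩, hxK, hle⟩ :=
    X.isBasis_affineOpens.exists_subset_of_mem_open hx W.isOpen
  exact ⟨⟨K, hK, hxK⟩, hle⟩

/-- The diagram of rings of sections over affine neighbourhoods. -/
noncomputable def ringDiag : (AffNhd X x)ᵒᵖ ⥤ CommRingCat.{u} :=
  (Subtype.mono_coe _).functor.op ⋙ X.presheaf

/-- The cocone of germs. -/
noncomputable def germCocone : Cocone (ringDiag X x) where
  pt := X.presheaf.stalk x
  ι := { app := fun N => X.presheaf.germ N.unop.1 x N.unop.2.2
         naturality := fun N M f => by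
          dsimp only [ringDiag, Functor.comp_map, Functor.const_obj_obj, Functor.const_obj_map]
          rw [Category.comp_id]
          exact X.presheaf.germ_res _ _ _ }

/-- The stalk is the colimit of the sections over affine neighbourhoods. -/
noncomputable def isColimitGermCocone : IsColimit (germCocone X x) := by
  have : ReflectsColimit (ringDiag X x) (forget CommRingCat.{u}) :=
    reflectsColimit_of_reflectsIsomorphisms _ _
  apply isColimitOfReflects (forget CommRingCat.{u})
  apply Types.FilteredColimit.isColimitOf'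
  · intro s
    change X.presheaf.stalk x at s
    obtain ⟨W, hxW, t, rfl⟩ := X.presheaf.exists_germ_eq (x := x) s
    obtain ⟨N, hN⟩ := exists_le X x W hxW
    refine ⟨op N, X.presheaf.map (homOfLE hN).op t, ?_⟩
    exact (X.presheaf.germ_res_apply (homOfLE hN) x N.2.2 t).symm
  · intro N s t h
    change Γ(X, N.unop.1) at s t
    obtain ⟨W, hxW, iU, iV, hW⟩ := X.presheaf.germ_eq x N.unop.2.2 N.unop.2.2 s t h
    obtain ⟨M, hM⟩ := exists_le X x W hxW
    refine ⟨op M, (homOfLE (show M ≤ N.unop from hM.trans iU.le)).op, ?_⟩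
    have := congrArg (X.presheaf.map (homOfLE hM).op) hW
    simp only [← ConcreteCategory.comp_apply, ← Functor.map_comp] at this
    exact this

/-- The cofiltered system `N ↦ Spec Γ(X, N)` of affine neighbourhoods of `x`. -/
noncomputable def D : AffNhd X x ⥤ Scheme.{u} := (ringDiag X x).rightOp ⋙ Scheme.Spec

/-- The cone with point `Spec 𝒪_{X,x}`. -/
noncomputable def cone : Cone (D X x) :=
  Scheme.Spec.mapCone (coneRightOpOfCocone (germCocone X x))

/-- `Spec 𝒪_{X,x}` is the limit of the affine neighbourhoods of `x`. -/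
noncomputable def isLimitCone : IsLimit (cone X x) :=
  isLimitOfPreserves Scheme.Spec (isLimitConeRightOpOfCocone _ (isColimitGermCocone X x))

lemma D_obj (N : AffNhd X x) : (D X x).obj N = Spec Γ(X, N.1) := rfl

lemma D_map {N M : AffNhd X x} (f : N ⟶ M) :
    (D X x).map f = Spec.map (X.presheaf.map (homOfLE (leOfHom f)).op) := rfl

lemma cone_pt : (cone X x).pt = Spec (X.presheaf.stalk x) := rfl

lemma cone_π (N : AffNhd X x) :
    (cone X x).π.app N = Spec.map (X.presheaf.germ N.1 x N.2.2) := rfl

instance (N : AffNhd X x) : IsAffine ((D X x).obj N) := by rw [D_obj]; infer_instance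

instance (N M : AffNhd X x) (f : N ⟶ M) : IsAffineHom ((D X x).map f) := by
  rw [D_map]; infer_instance

/-- The open immersion of a stage into `X`. -/
noncomputable def toX (N : AffNhd X x) : (D X x).obj N ⟶ X := N.2.1.fromSpec

instance (N : AffNhd X x) : IsOpenImmersion (toX X x N) := by
  unfold toX; exact N.2.1.isOpenImmersion_fromSpec

lemma range_toX (N : AffNhd X x) : Set.range (toX X x N) = (N.1 : Set X) :=
  N.2.1.range_fromSpec

lemma opensRange_toX (N : AffNhd X x) : (toX X x N).opensRange = N.1 :=
  N.2.1.opensRange_fromSpec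

lemma D_map_toX {N M : AffNhd X x} (f : N ⟶ M) : (D X x).map f ≫ toX X x M = toX X x N :=
  M.2.1.map_fromSpec N.2.1 (homOfLE (leOfHom f)).op

lemma cone_π_toX (N : AffNhd X x) : (cone X x).π.app N ≫ toX X x N = X.fromSpecStalk x :=
  N.2.1.fromSpecStalk_eq_fromSpecStalk N.2.2

end Groth.Agent.Lib.Helper2.StalkLimit
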