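import Mathlib

/-!
# "Good" rings: absolutely integrally closed rings with enough idempotents

A commutative ring is `Good` if every monic polynomial of positive degree has a root and
zero products are separated by idempotents.  Examples: the integral closure of any ring in a
product of algebraically closed fields.  Over a good ring, étale algebras and finite flat
finitely presented algebras admit sections Zariski-locally around every point of the image.
(Helper library for S1378.)
-/

set_option autoImplicit false
set_option linter.style.haveILetI false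
set_option linter.unusedSectionVars false

universe u

namespace Groth.Agent.Lib.Helper2.AICGood

open Polynomial

/-- A commutative ring is *good* if every monic polynomial of positive degree has a root
and zero products are separated by idempotents. -/
structure Good (R : Type*) [CommRing R] : Prop where
  root : ∀ p : R[X], p.Monic → 0 < p.natDegree → ∃ r, p.IsRoot r
  idem : ∀ x y : R, x * y = 0 → ∃ e : R, e * e = e ∧ x * e = 0 ∧ y * (1 - e) = 0

variable {R : Type*} [CommRing R]

/-- In a good ring, monic polynomials split into linear factors. -/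
theorem Good.splits (h : Good R) (p : R[X]) (hp : p.Monic) :
    ∃ s : Multiset R, p = (s.map fun r => X - C r).prod := by
  induction hn : p.natDegree generalizing p with
  | zero =>
    refine ⟨0, ?_⟩
    simp only [Multiset.map_zero, Multiset.prod_zero]
    exact hp.natDegree_eq_zero.mp hn
  | succ n ih =>
    rcases subsingleton_or_nontrivial R with _ | _
    · exact ⟨0, Subsingleton.elim _ _⟩
    obtain ⟨r, hr⟩ := h.root p hp (by omega)
    have hdvd : (X - C r) ∣ p := dvd_iff_isRoot.mpr hr
    obtain ⟨q, hq⟩ := hdvd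
    have hqm : q.Monic := by
      have := hp
      rw [hq] at this
      exact (monic_X_sub_C r).of_mul_monic_left this
    have hdeg : q.natDegree = n := by
      have := congrArg natDegree hq
      rw [(monic_X_sub_C r).natDegree_mul hqm, natDegree_X_sub_C, hn] at this
      omega
    obtain ⟨s, hs⟩ := ih q hqm hdeg
    refine ⟨r ::ₘ s, ?_⟩
    rw [Multiset.map_cons, Multiset.prod_cons, ← hs, hq]

/-- Goodness passes to localizations. -/
theorem Good.of_isLocalization (h : Good R) (M : Submonoid R) (R' : Type*) [CommRing R']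
    [Algebra R R'] [IsLocalization M R'] : Good R' := by
  constructor
  · intro p hp hdeg
    have h1 := IsLocalization.scaleRoots_commonDenom_mem_lifts M p
      (by rw [hp.leadingCoeff]; exact one_mem _)
    set b : R := ((IsLocalization.commonDenom M p.support p.coeff : M) : R) with hb
    have hbM : b ∈ M := (IsLocalization.commonDenom M p.support p.coeff).2
    have h2 : (p.scaleRoots (algebraMap R R' b)).Monic := by
      rwa [Polynomial.monic_scaleRoots_iff]
    obtain ⟨q, hq1, hq2, hq3⟩ := lifts_and_natDegree_eq_and_monic h1 h2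
    have hqdeg : 0 < q.natDegree := by
      rw [hq2, natDegree_scaleRoots]; exact hdeg
    obtain ⟨r, hr⟩ := h.root q hq3 hqdeg
    have hunit : IsUnit (algebraMap R R' b) := IsLocalization.map_units R' ⟨b, hbM⟩
    obtain ⟨u, hu⟩ := hunit
    refine ⟨↑u⁻¹ * algebraMap R R' r, ?_⟩
    have h3 : (p.scaleRoots (algebraMap R R' b)).eval (algebraMap R R' r) = 0 := by
      rw [← hq1, eval_map, eval₂_at_apply, hr.eq_zero, map_zero]
    have h4 := Polynomial.scaleRoots_eval₂_mul (p := p) (RingHom.id R') (↑u⁻¹ * algebraMap R R' r)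
      (algebraMap R R' b)
    simp only [RingHom.id_apply, eval₂_id] at h4
    rw [← hu, ← mul_assoc, Units.mul_inv, one_mul, hu, h3] at h4
    have h5 : IsUnit ((u : R') ^ p.natDegree) := (u.isUnit).pow _
    rw [← hu] at h4
    exact (h5.mul_right_eq_zero).mp h4.symm
  · intro x y hxy
    obtain ⟨⟨a, m⟩, ha⟩ := IsLocalization.surj M x
    obtain ⟨⟨b, m'⟩, hb⟩ := IsLocalization.surj M y
    simp only at ha hb
    have hab : algebraMap R R' (a * b) = 0 := by
      rw [map_mul, ← ha, ← hb]
      calc x * algebraMap R R' m * (y * algebraMap R R' m')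
          = (x * y) * (algebraMap R R' m * algebraMap R R' m') := by ring
        _ = 0 := by rw [hxy, zero_mul]
    obtain ⟨c, hc⟩ := (IsLocalization.map_eq_zero_iff M R' (a * b)).mp hab
    obtain ⟨e, he1, he2, he3⟩ := h.idem (c * a) b (by rw [mul_assoc]; exact hc)
    refine ⟨algebraMap R R' e, by rw [← map_mul, he1], ?_, ?_⟩
    · have hu : IsUnit (algebraMap R R' m * algebraMap R R' c) :=
        (IsLocalization.map_units R' m).mul (IsLocalization.map_units R' c)
      apply (hu.mul_left_eq_zero).mp
      calc x * algebraMap R R' e * (algebraMap R R' m * algebraMap R R' c)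
          = (x * algebraMap R R' m) * algebraMap R R' c * algebraMap R R' e := by ring
        _ = algebraMap R R' (c * a * e) := by rw [ha]; simp only [map_mul]; ring
        _ = 0 := by rw [he2, map_zero]
    · have hu : IsUnit (algebraMap R R' m') := IsLocalization.map_units R' m'
      apply (hu.mul_left_eq_zero).mp
      calc y * (1 - algebraMap R R' e) * algebraMap R R' m'
          = (y * algebraMap R R' m') * (1 - algebraMap R R' e) := by ring
        _ = algebraMap R R' (b * (1 - e)) := by rw [hb]; simp only [map_mul, map_sub, map_one]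
        _ = 0 := by rw [he3, map_zero]

/-- The integral closure of a ring in a product of algebraically closed fields is good. -/
theorem good_integralClosure_pi {A : Type*} [CommRing A] {ι : Type*} (K : ι → Type*)
    [∀ i, Field (K i)] [∀ i, IsAlgClosed (K i)] [Algebra A (∀ i, K i)] :
    Good (integralClosure A (∀ i, K i)) := by
  classical
  constructor
  · intro p hp hdeg
    -- componentwise roots
    have hroot : ∀ i, ∃ x : K i, (p.map ((Pi.evalRingHom K i).comp
        (algebraMap (integralClosure A (∀ i, K i)) (∀ i, K i)))).IsRoot x := by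
      intro i
      apply IsAlgClosed.exists_root
      have h1 := hp.natDegree_map ((Pi.evalRingHom K i).comp
        (algebraMap (integralClosure A (∀ i, K i)) (∀ i, K i)))
      have h2 : 0 < (p.map ((Pi.evalRingHom K i).comp
        (algebraMap (integralClosure A (∀ i, K i)) (∀ i, K i)))).natDegree := by
        rw [h1]; exact hdeg
      exact (natDegree_pos_iff_degree_pos.mp h2).ne'
    choose x hx using hroot
    have hx0 : aeval (x : ∀ i, K i) p = 0 := by
      funext i
      have := hx i
      rw [IsRoot.def, eval_map] at this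
      rw [Pi.zero_apply, ← this]
      have h3 : (aeval (x : ∀ i, K i) p) i = Pi.evalRingHom K i (aeval (x : ∀ i, K i) p) := rfl
      rw [h3, aeval_def, hom_eval₂]
      rfl
    have hint : IsIntegral (integralClosure A (∀ i, K i)) (x : ∀ i, K i) := ⟨p, hp, hx0⟩
    have hint' : IsIntegral A (x : ∀ i, K i) := isIntegral_trans _ hint
    have hmem : x ∈ integralClosure A (∀ i, K i) := hint'
    refine ⟨⟨x, hmem⟩, ?_⟩
    rw [IsRoot.def]
    apply Subtype.ext
    have h4 : ((p.eval (⟨x, hmem⟩ : integralClosure A (∀ i, K i)) :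
        integralClosure A (∀ i, K i)) : ∀ i, K i) = aeval (x : ∀ i, K i) p := by
      have := Polynomial.aeval_algebraMap_apply (∀ i, K i)
        (⟨x, hmem⟩ : integralClosure A (∀ i, K i)) p
      rw [Polynomial.coe_aeval_eq_eval] at this
      exact this.symm
    rw [h4, hx0]; rfl
  · intro a b hab
    let e : ∀ i, K i := fun i => if a.1 i = 0 then 1 else 0
    have he : e * e = e := by
      funext i; simp only [e, Pi.mul_apply]; split_ifs <;> simp
    have hint : IsIntegral A e := by
      refine ⟨X * (X - C 1), monic_X.mul (monic_X_sub_C 1), ?_⟩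
      simp only [eval₂_mul, eval₂_sub, eval₂_X, map_one, eval₂_one]
      rw [mul_sub, he, mul_one, sub_self]
    have hmem : e ∈ integralClosure A (∀ i, K i) := hint
    refine ⟨⟨e, hmem⟩, Subtype.ext he, Subtype.ext ?_, Subtype.ext ?_⟩
    · funext i
      show a.1 i * e i = 0
      simp only [e]; split_ifs with h <;> simp [h]
    · funext i
      show b.1 i * (1 - e i) = 0
      have h1 : a.1 i * b.1 i = 0 := congrFun (congrArg Subtype.val hab) i
      simp only [e]; split_ifs with h
      · simp
      · rcases mul_eq_zero.mp h1 with h2 | h2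
        · exact absurd h2 h
        · simp [h2]

/-- Étale algebras over a good ring admit sections Zariski-locally around any point in the
image. -/
theorem Good.exists_algHom_away_of_etale (h : Good R) (B : Type*) [CommRing B] [Algebra R B]
    [Algebra.Etale R B] (Q : Ideal B) [Q.IsPrime] :
    ∃ f : R, algebraMap R B f ∉ Q ∧ Nonempty (B →ₐ[R] Localization.Away f) := by
  obtain ⟨g, hgQ, hstd⟩ := Algebra.IsEtaleAt.exists_isStandardEtale (R := R) Q
  let Bg := Localization.Away g
  let P : StandardEtalePresentation R Bg := hstd.nonempty_standardEtalePresentation.some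
  have hQ' : (Q.map (algebraMap B Bg)).IsPrime :=
    IsLocalization.isPrime_of_isPrime_disjoint (.powers g) _ _ ‹_›
      ((Ideal.disjoint_powers_iff_notMem_of_isPrime _).mpr hgQ)
  have hcomap : (Q.map (algebraMap B Bg)).comap (algebraMap B Bg) = Q :=
    IsLocalization.comap_map_of_isPrime_disjoint (.powers g) _ ‹_›
      ((Ideal.disjoint_powers_iff_notMem_of_isPrime _).mpr hgQ)
  obtain ⟨s, hs⟩ := h.splits P.f P.monic_f
  have hx0 : aeval P.x P.f = 0 := P.hasMap.1
  have hprod : (s.map fun r => P.x - algebraMap R Bg r).prod = 0 := by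
    rw [← hx0, hs, map_multiset_prod, Multiset.map_map]
    congr 1
    apply Multiset.map_congr rfl
    intro r _
    simp
  have hmem : (s.map fun r => P.x - algebraMap R Bg r).prod ∈ Q.map (algebraMap B Bg) := by
    rw [hprod]; exact zero_mem _
  obtain ⟨y, hy, hyQ⟩ := (hQ'.multiset_prod_mem_iff_exists_mem _).mp hmem
  obtain ⟨r, hr, rfl⟩ := Multiset.mem_map.mp hy
  -- r is a root of f
  have hroot : P.f.eval r = 0 := by
    rw [hs, eval_multiset_prod]
    apply Multiset.prod_eq_zero
    rw [Multiset.map_map]
    exact Multiset.mem_map.mpr ⟨r, hr, by simp⟩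
  refine ⟨P.g.eval r, ?_, ?_⟩
  · intro hcontra
    have h1 : algebraMap R Bg (P.g.eval r) ∈ Q.map (algebraMap B Bg) := by
      rw [IsScalarTower.algebraMap_apply R B Bg]
      exact Ideal.mem_map_of_mem _ hcontra
    have h2 : (P.x - algebraMap R Bg r) ∣
        (aeval P.x P.g - algebraMap R Bg (P.g.eval r)) := by
      have := Polynomial.sub_dvd_eval_sub P.x (algebraMap R Bg r) (P.g.map (algebraMap R Bg))
      rwa [eval_map, eval_map, eval₂_at_apply, ← aeval_def] at this
    have h3 : aeval P.x P.g - algebraMap R Bg (P.g.eval r) ∈ Q.map (algebraMap B Bg) :=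
      Ideal.mem_of_dvd _ h2 hyQ
    have h4 : aeval P.x P.g ∈ Q.map (algebraMap B Bg) := by
      have := add_mem h3 h1
      rwa [sub_add_cancel] at this
    exact hQ'.ne_top (Ideal.eq_top_of_isUnit_mem _ h4 P.hasMap.2)
  · have hmap : P.HasMap (algebraMap R (Localization.Away (P.g.eval r)) r) := by
      constructor
      · rw [aeval_algebraMap_apply, coe_aeval_eq_eval, hroot, map_zero]
      · rw [aeval_algebraMap_apply, coe_aeval_eq_eval]
        exact IsLocalization.Away.algebraMap_isUnit _
    exact ⟨((P.lift _ hmap).comp P.equivRing.toAlgHom).comp (IsScalarTower.toAlgHom R B Bg)⟩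

/-- The kernel of `R → R_t`, as an explicit ideal. -/
def germKer (t : Ideal R) [t.IsPrime] : Ideal R where
  carrier := {x | ∃ u : R, u ∉ t ∧ u * x = 0}
  add_mem' := by
    rintro a b ⟨u, hu, hua⟩ ⟨v, hv, hvb⟩
    refine ⟨u * v, fun h => (Ideal.IsPrime.mem_or_mem ‹_› h).elim hu hv, ?_⟩
    rw [mul_add, mul_right_comm, hua, zero_mul, mul_assoc, hvb, mul_zero, add_zero]
  zero_mem' := ⟨1, fun h => Ideal.IsPrime.ne_top ‹_› ((Ideal.eq_top_iff_one t).mpr h), mul_zero 1⟩
  smul_mem' := by
    rintro c x ⟨u, hu, hux⟩
    exact ⟨u, hu, by rw [smul_eq_mul, mul_left_comm, hux, mul_zero]⟩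

theorem mem_germKer {t : Ideal R} [t.IsPrime] {x : R} :
    x ∈ germKer t ↔ ∃ u : R, u ∉ t ∧ u * x = 0 := Iff.rfl

theorem germKer_le (t : Ideal R) [t.IsPrime] : germKer t ≤ t := by
  rintro x ⟨u, hu, hux⟩
  have : u * x ∈ t := by rw [hux]; exact zero_mem _
  exact (Ideal.IsPrime.mem_or_mem ‹_› this).resolve_left hu

theorem Good.germKer_isPrime (h : Good R) (t : Ideal R) [t.IsPrime] : (germKer t).IsPrime := by
  constructor
  · intro htop
    have h1 : (1 : R) ∈ germKer t := by rw [htop]; trivial
    obtain ⟨u, hu, hu1⟩ := h1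
    rw [mul_one] at hu1
    exact hu (hu1 ▸ zero_mem _)
  · rintro x y ⟨u, hu, huxy⟩
    obtain ⟨e, he, hxe, hye⟩ := h.idem (u * x) y (by rw [mul_assoc]; exact huxy)
    by_cases het : e ∈ t
    · -- then 1 - e ∉ t
      right
      refine ⟨1 - e, fun h1 => ?_, by rw [mul_comm]; exact hye⟩
      have : (1 : R) ∈ t := by
        have := add_mem h1 het
        rwa [sub_add_cancel] at this
      exact Ideal.IsPrime.ne_top ‹_› ((Ideal.eq_top_iff_one t).mpr this)
    · left
      refine ⟨u * e, fun h1 => (Ideal.IsPrime.mem_or_mem ‹_› h1).elim hu het, ?_⟩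
      rw [mul_right_comm]; exact hxe

/-- Finite flat finitely presented algebras over a good ring admit sections Zariski-locally
around any point in the image. -/
theorem Good.exists_algHom_away_of_finite_flat (h : Good R) (C : Type*) [CommRing C] [Algebra R C]
    [Module.Finite R C] [Module.Flat R C] [Algebra.FinitePresentation R C]
    (Q : Ideal C) [Q.IsPrime] :
    ∃ f : R, algebraMap R C f ∉ Q ∧ Nonempty (C →ₐ[R] Localization.Away f) := by
  classical
  set t : Ideal R := Q.under R with ht
  haveI : t.IsPrime := inferInstance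
  haveI hp0 : (germKer t).IsPrime := h.germKer_isPrime t
  haveI : Q.LiesOver t := ⟨rfl⟩
  obtain ⟨Q', hQ'Q, hQ'prime, hQ'over⟩ :=
    Ideal.exists_ideal_le_liesOver_of_le (p := germKer t) (q := t) Q (germKer_le t)
  -- every element of `C` is congruent mod `Q'` to an element of `R`
  have hcong : ∀ c : C, ∃ r : R, c - algebraMap R C r ∈ Q' := by
    intro c
    obtain ⟨p, hp, hpc⟩ := Algebra.IsIntegral.isIntegral (R := R) c
    obtain ⟨s, hs⟩ := h.splits p hp
    have hprod : (s.map fun r => c - algebraMap R C r).prod = 0 := by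
      rw [← hpc, ← aeval_def, hs, map_multiset_prod, Multiset.map_map]
      congr 1
      apply Multiset.map_congr rfl
      intro r _
      simp
    have hmem : (s.map fun r => c - algebraMap R C r).prod ∈ Q' := by
      rw [hprod]; exact zero_mem _
    obtain ⟨y, hy, hyQ⟩ := (hQ'prime.multiset_prod_mem_iff_exists_mem _).mp hmem
    obtain ⟨r, hr, rfl⟩ := Multiset.mem_map.mp hy
    exact ⟨r, hyQ⟩
  choose ρ hρ using hcong
  obtain ⟨s, hs⟩ := (Module.Finite.fg_top : (⊤ : Submodule R C).FG)
  set K' : Ideal C := Ideal.span ((fun c => c - algebraMap R C (ρ c)) '' (s : Set C)) with hK'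
  have hK'Q' : K' ≤ Q' := by
    rw [hK', Ideal.span_le]
    rintro _ ⟨c, _, rfl⟩
    exact hρ c
  have hK'fg : K'.FG := ⟨s.image (fun c => c - algebraMap R C (ρ c)), by
    rw [hK', Finset.coe_image]⟩
  have hsurj : ∀ c : C, ∃ r : R, c - algebraMap R C r ∈ K' := by
    intro c
    have hc : c ∈ Submodule.span R (s : Set C) := by rw [hs]; trivial
    induction hc using Submodule.span_induction with
    | mem c hc =>
      exact ⟨ρ c, Ideal.subset_span ⟨c, hc, rfl⟩⟩
    | zero => exact ⟨0, by simp⟩
    | add a b _ _ ha hb =>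
      obtain ⟨r, hr⟩ := ha
      obtain ⟨r', hr'⟩ := hb
      refine ⟨r + r', ?_⟩
      have := add_mem hr hr'
      rw [map_add]
      convert this using 1
      ring
    | smul a x _ hx =>
      obtain ⟨r, hr⟩ := hx
      refine ⟨a * r, ?_⟩
      have := K'.mul_mem_left (algebraMap R C a) hr
      rw [map_mul, Algebra.smul_def]
      convert this using 1
      ring
  -- the ideal `I = K' ∩ R`
  set I : Ideal R := K'.comap (algebraMap R C) with hI
  have hIle : I ≤ germKer t := by
    intro x hx
    have h1 : algebraMap R C x ∈ Q' := hK'Q' hx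
    have h2 : x ∈ Q'.under R := h1
    rwa [← hQ'over.over] at h2
  haveI : Algebra.FinitePresentation R (C ⧸ K') := Algebra.FinitePresentation.quotient hK'fg
  have hker : RingHom.ker (Algebra.ofId R (C ⧸ K')).toRingHom = I := by
    ext x
    rw [RingHom.mem_ker, hI, Ideal.mem_comap]
    change (algebraMap R (C ⧸ K')) x = 0 ↔ _
    rw [IsScalarTower.algebraMap_apply R C (C ⧸ K'), Ideal.Quotient.algebraMap_eq,
      Ideal.Quotient.eq_zero_iff_mem]
  have hofIdsurj : Function.Surjective (Algebra.ofId R (C ⧸ K')) := by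
    intro y
    obtain ⟨c, rfl⟩ := Ideal.Quotient.mk_surjective y
    obtain ⟨r, hr⟩ := hsurj c
    refine ⟨r, ?_⟩
    change (algebraMap R (C ⧸ K')) r = _
    rw [IsScalarTower.algebraMap_apply R C (C ⧸ K'), Ideal.Quotient.algebraMap_eq]
    exact ((Ideal.Quotient.mk_eq_mk_iff_sub_mem _ _).mpr hr).symm
  have hIfg : I.FG := by
    rw [← hker]
    exact Algebra.FinitePresentation.ker_fG_of_surjective (Algebra.ofId R (C ⧸ K')) hofIdsurj
  -- a common annihilator outside `t`
  obtain ⟨f, hft, hfI⟩ : ∃ f : R, f ∉ t ∧ ∀ x ∈ I, f * x = 0 := by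
    obtain ⟨T, hT⟩ := hIfg
    have hTsub : ∀ x ∈ T, x ∈ germKer t := fun x hx => hIle (hT ▸ Ideal.subset_span hx)
    choose! u hu1 hu2 using hTsub
    refine ⟨∏ x ∈ T, u x, ?_, ?_⟩
    · intro hmem
      obtain ⟨x, hx, hxt⟩ := (Ideal.IsPrime.prod_mem_iff (hp := ‹t.IsPrime›)).mp hmem
      exact hu1 x hx hxt
    · intro x hx
      rw [← hT] at hx
      induction hx using Submodule.span_induction with
      | mem x hx =>
        obtain ⟨d, hd⟩ := Finset.dvd_prod_of_mem u hx
        rw [hd, mul_right_comm, hu2 x hx, zero_mul]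
      | zero => exact mul_zero _
      | add a b _ _ ha hb => rw [mul_add, ha, hb, add_zero]
      | smul a x _ hx => rw [smul_eq_mul, mul_left_comm, hx, mul_zero]
  refine ⟨f, hft, ?_⟩
  -- the quotient isomorphism
  have hlift : ∀ a : R, a ∈ I → (Algebra.ofId R (C ⧸ K')) a = 0 := by
    intro a ha
    have : a ∈ RingHom.ker (Algebra.ofId R (C ⧸ K')).toRingHom := by rw [hker]; exact ha
    exact this
  let φ₁ : (R ⧸ I) →ₐ[R] (C ⧸ K') := Ideal.Quotient.liftₐ I (Algebra.ofId R (C ⧸ K')) hlift
  have hφ₁bij : Function.Bijective φ₁ := by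
    constructor
    · rw [injective_iff_map_eq_zero]
      intro a ha
      obtain ⟨a, rfl⟩ := Ideal.Quotient.mk_surjective a
      have h1 : (Algebra.ofId R (C ⧸ K')) a = 0 := ha
      have h2 : a ∈ RingHom.ker (Algebra.ofId R (C ⧸ K')).toRingHom := h1
      rw [hker] at h2
      exact Ideal.Quotient.eq_zero_iff_mem.mpr h2
    · intro y
      obtain ⟨r, rfl⟩ := hofIdsurj y
      exact ⟨Ideal.Quotient.mk I r, rfl⟩
  let e : (R ⧸ I) ≃ₐ[R] (C ⧸ K') := AlgEquiv.ofBijective φ₁ hφ₁bij
  have hlift2 : ∀ a : R, a ∈ I → (Algebra.ofId R (Localization.Away f)) a = 0 := by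
    intro a ha
    change algebraMap R (Localization.Away f) a = 0
    rw [IsLocalization.map_eq_zero_iff (Submonoid.powers f)]
    exact ⟨⟨f, Submonoid.mem_powers f⟩, hfI a ha⟩
  let φ₂ : (R ⧸ I) →ₐ[R] Localization.Away f :=
    Ideal.Quotient.liftₐ I (Algebra.ofId R (Localization.Away f)) hlift2
  exact ⟨(φ₂.comp e.symm.toAlgHom).comp (Ideal.Quotient.mkₐ R K')⟩

end Groth.Agent.Lib.Helper2.AICGood
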