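import Mathlib
import Groth.Agent.Lib.Helper2.AICGood

/-!
# The universal "good" integral cover of a scheme

For any scheme `S` we glue the spectra of the integral closures of `Γ(S, U)` in the product of
the algebraic closures of the residue fields of the points of `U` (over affine opens `U`) to an
integral surjective morphism `π : T S ⟶ S`, covered by spectra of good rings.
-/

set_option autoImplicit false
set_option linter.style.haveILetI false
set_option linter.unusedSectionVars false

universe u

namespace Groth.Agent.Lib.Helper2.AICCover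

open AlgebraicGeometry CategoryTheory Limits AICGood Opposite

variable (S : Scheme.{u})

/-- The product of the algebraic closures of the residue fields at the points of `U`. -/
abbrev PiK (U : S.Opens) : Type u := ∀ s : U, AlgebraicClosure (S.residueField s.1)

/-- Evaluation of sections at all the points of `U`. -/
noncomputable def evalHom (U : S.Opens) : Γ(S, U) →+* PiK S U :=
  Pi.ringHom fun s => (algebraMap (S.residueField s.1)
    (AlgebraicClosure (S.residueField s.1))).comp (S.evaluation U s.1 s.2).hom

noncomputable instance algPiK (U : S.Opens) : Algebra Γ(S, U) (PiK S U) := (evalHom S U).toAlgebra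

theorem algebraMap_PiK_apply (U : S.Opens) (a : Γ(S, U)) (s : U) :
    algebraMap Γ(S, U) (PiK S U) a s = algebraMap (S.residueField s.1)
      (AlgebraicClosure (S.residueField s.1)) ((S.evaluation U s.1 s.2).hom a) := rfl

variable {S}

/-- Restriction of families along an inclusion of opens. -/
noncomputable def restrictPi {U V : S.Opens} (h : V ≤ U) : PiK S U →+* PiK S V :=
  Pi.ringHom fun s => Pi.evalRingHom (fun s : U => AlgebraicClosure (S.residueField s.1))
    (⟨s.1, h s.2⟩ : U)

theorem restrictPi_apply {U V : S.Opens} (h : V ≤ U) (x : PiK S U) (s : V) :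
    restrictPi h x s = x ⟨s.1, h s.2⟩ := rfl

theorem restrictPi_comp_algebraMap {U V : S.Opens} (h : V ≤ U) :
    (algebraMap Γ(S, V) (PiK S V)).comp (S.presheaf.map (homOfLE h).op).hom =
      (restrictPi h).comp (algebraMap Γ(S, U) (PiK S U)) := by
  ext a s
  simp only [RingHom.comp_apply, restrictPi_apply, algebraMap_PiK_apply]
  congr 1
  simp only [Scheme.evaluation, CommRingCat.hom_comp, RingHom.comp_apply]
  congr 1
  exact congrArg (fun φ => φ.hom a) (S.presheaf.germ_res (homOfLE h) s.1 s.2)

theorem algebraMap_PiK_apply_eq_zero_iff (U : S.Opens) (r : Γ(S, U)) (s : U) :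
    algebraMap Γ(S, U) (PiK S U) r s = 0 ↔ s.1 ∉ S.basicOpen r := by
  rw [algebraMap_PiK_apply]
  rw [map_eq_zero_iff (algebraMap (S.residueField s.1) (AlgebraicClosure (S.residueField s.1)))
    (algebraMap (S.residueField s.1) (AlgebraicClosure (S.residueField s.1))).injective]
  exact S.evaluation_eq_zero_iff_notMem_basicOpen s.1 s.2 r

/-- Restriction to a basic open is a localization of the product ring. -/
theorem isLocalization_restrictPi (U : S.Opens) (r : Γ(S, U)) :
    letI := (restrictPi (S.basicOpen_le r)).toAlgebra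
    IsLocalization.Away (algebraMap Γ(S, U) (PiK S U) r) (PiK S (S.basicOpen r)) := by
  classical
  letI := (restrictPi (S.basicOpen_le r)).toAlgebra
  have halg : ∀ x : PiK S U, algebraMap (PiK S U) (PiK S (S.basicOpen r)) x =
      restrictPi (S.basicOpen_le r) x := fun _ => rfl
  refine ⟨⟨?_, ?_, ?_⟩⟩
  · rintro ⟨_, n, rfl⟩
    rw [map_pow]
    refine IsUnit.pow n ?_
    rw [halg, Pi.isUnit_iff]
    intro s
    rw [restrictPi_apply, isUnit_iff_ne_zero, Ne, algebraMap_PiK_apply_eq_zero_iff]
    exact not_not.mpr s.2
  · intro z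
    refine ⟨⟨fun s => if h : s.1 ∈ S.basicOpen r then z ⟨s.1, h⟩ else 0, 1⟩, ?_⟩
    simp only [OneMemClass.coe_one, map_one, mul_one]
    funext s
    rw [halg, restrictPi_apply, dif_pos s.2]
  · intro a b hab
    refine ⟨⟨_, Submonoid.mem_powers _⟩, ?_⟩
    funext s
    simp only [Pi.mul_apply]
    by_cases h : s.1 ∈ S.basicOpen r
    · have := congrFun hab ⟨s.1, h⟩
      rw [halg, halg, restrictPi_apply, restrictPi_apply] at this
      rw [this]
    · rw [(algebraMap_PiK_apply_eq_zero_iff U r s).mpr h, zero_mul, zero_mul]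

variable (S)

/-- The presheaf of integral closures of `𝒪_S` in the products of algebraic closures of residue
fields. -/
noncomputable def diagram : S.Opensᵒᵖ ⥤ CommRingCat.{u} where
  obj U := .of (integralClosure Γ(S, U.unop) (PiK S U.unop))
  map {U V} i := CommRingCat.ofHom ((restrictPi i.unop.le).restrict _ _ fun x hx =>
    IsIntegral.map_of_comp_eq (S.presheaf.map (homOfLE i.unop.le).op).hom (restrictPi i.unop.le)
      (restrictPi_comp_algebraMap i.unop.le) hx)
  map_id U := by ext x; rfl
  map_comp i j := by ext x; rfl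

/-- The structure map from `𝒪_S`. -/
noncomputable def diagramMap : S.presheaf ⟶ diagram S where
  app U := CommRingCat.ofHom (algebraMap Γ(S, U.unop) (integralClosure Γ(S, U.unop) (PiK S U.unop)))
  naturality {U V} i := by
    ext a
    apply Subtype.ext
    exact congrArg (fun φ => φ a) (restrictPi_comp_algebraMap i.unop.le)



open Scheme.AffineZariskiSite in
set_option backward.isDefEq.respectTransparency false in
theorem coequifibered_diagramMap :
    ((toOpensFunctor S).op.whiskerLeft (diagramMap S)).Coequifibered := by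
  refine coequifibered_iff_forall_isLocalizationAway.mpr fun U r ↦ ?_
  letI : Algebra Γ(S, U.1) Γ(S, S.basicOpen r) :=
    (S.presheaf.map (homOfLE (S.basicOpen_le r)).op).hom.toAlgebra
  letI : Algebra (PiK S U.1) (PiK S (S.basicOpen r)) := (restrictPi (S.basicOpen_le r)).toAlgebra
  letI : Algebra Γ(S, U.1) (PiK S (S.basicOpen r)) :=
    ((restrictPi (S.basicOpen_le r)).comp (algebraMap Γ(S, U.1) (PiK S U.1))).toAlgebra
  letI : Algebra (integralClosure Γ(S, U.1) (PiK S U.1))
      (integralClosure Γ(S, S.basicOpen r) (PiK S (S.basicOpen r))) :=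
    ((diagram S).map (homOfLE (S.basicOpen_le r)).op).hom.toAlgebra
  haveI : IsLocalization.Away r Γ(S, S.basicOpen r) := U.2.isLocalization_basicOpen r
  haveI : IsLocalization.Away (algebraMap Γ(S, U.1) (PiK S U.1) r) (PiK S (S.basicOpen r)) :=
    isLocalization_restrictPi U.1 r
  haveI : IsScalarTower Γ(S, U.1) (PiK S U.1) (PiK S (S.basicOpen r)) := .of_algebraMap_eq' rfl
  haveI : IsScalarTower Γ(S, U.1) Γ(S, S.basicOpen r) (PiK S (S.basicOpen r)) :=
    .of_algebraMap_eq' (restrictPi_comp_algebraMap (S.basicOpen_le r)).symm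
  haveI : IsScalarTower (integralClosure Γ(S, U.1) (PiK S U.1))
      (integralClosure Γ(S, S.basicOpen r) (PiK S (S.basicOpen r)))
      (PiK S (S.basicOpen r)) := .of_algebraMap_eq' rfl
  haveI : IsScalarTower Γ(S, U.1) (integralClosure Γ(S, U.1) (PiK S U.1))
      (integralClosure Γ(S, S.basicOpen r) (PiK S (S.basicOpen r))) := .of_algebraMap_eq' rfl
  change IsLocalization.Away
    ((algebraMap Γ(S, U.1) (integralClosure Γ(S, U.1) (PiK S U.1))) r)
    (integralClosure Γ(S, S.basicOpen r) (PiK S (S.basicOpen r)))
  exact IsLocalization.Away.integralClosure r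



/-- The gluing data for the universal "good" integral cover. -/
noncomputable def glueData := Scheme.AffineZariskiSite.relativeGluingData (coequifibered_diagramMap S)

instance : ((glueData S).functor ⋙ Scheme.forget).IsLocallyDirected :=
  Scheme.Cover.RelativeGluingData.instIsLocallyDirectedI₀CompFunctorForgetOfIsThin ..

/-- The universal "good" integral cover of `S`. -/
noncomputable def T : Scheme.{u} := (glueData S).glued

/-- The open cover of `T S` by spectra of good rings. -/
noncomputable def cover : (T S).OpenCover := (glueData S).cover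

/-- The structure morphism. -/
noncomputable def π : T S ⟶ S := (glueData S).toBase

lemma cover_π (U : S.affineOpens) :
    (cover S).f U ≫ π S = Spec.map ((diagramMap S).app (.op U.1)) ≫ U.2.fromSpec :=
  colimit.ι_desc _ _

set_option backward.isDefEq.respectTransparency.types false in
lemma π_preimage (U : S.affineOpens) :
    π S ⁻¹ᵁ U = ((cover S).f U).opensRange := by
  simpa using! (glueData S).toBase_preimage_eq_opensRange_ι U

set_option backward.isDefEq.respectTransparency false in
instance : IsIntegralHom (π S) := by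
  rw [IsZariskiLocalAtTarget.iff_of_iSup_eq_top (P := @IsIntegralHom) _
    (iSup_affineOpens_eq_top _)]
  intro U
  let e := IsOpenImmersion.isoOfRangeEq (π S ⁻¹ᵁ U).ι ((cover S).f U)
      (by simpa using congr($(π_preimage S U).1))
  rw [← MorphismProperty.cancel_left_of_respectsIso @IsIntegralHom e.inv,
    ← MorphismProperty.cancel_right_of_respectsIso @IsIntegralHom _ U.2.isoSpec.hom]
  have : ((diagramMap S).app (.op U)).hom.IsIntegral := by
    change (algebraMap Γ(S, U) (integralClosure Γ(S, U) (PiK S U))).IsIntegral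
    exact algebraMap_isIntegral_iff.mpr inferInstance
  convert! IsIntegralHom.SpecMap_iff.mpr this
  rw [← cancel_mono U.2.fromSpec]
  simp [IsAffineOpen.isoSpec_hom, e, cover_π]



/-- The rings in the canonical cover of `T S` are good. -/
theorem good_chart (U : S.Opens) : Good (integralClosure Γ(S, U) (PiK S U)) :=
  good_integralClosure_pi (A := Γ(S, U)) (fun s : U => AlgebraicClosure (S.residueField s.1))

/-- The chart of `T S` over an affine open `U` of `S`. -/
noncomputable def chart (U : S.Opens) (hU : IsAffineOpen U) :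
    Spec (CommRingCat.of (integralClosure Γ(S, U) (PiK S U))) ⟶ T S :=
  (cover S).f ⟨U, hU⟩

instance (U : S.Opens) (hU : IsAffineOpen U) : IsOpenImmersion (chart S U hU) :=
  inferInstanceAs (IsOpenImmersion ((cover S).f ⟨U, hU⟩))

lemma chart_π (U : S.Opens) (hU : IsAffineOpen U) :
    chart S U hU ≫ π S = Spec.map (CommRingCat.ofHom
      (algebraMap Γ(S, U) (integralClosure Γ(S, U) (PiK S U)))) ≫ hU.fromSpec :=
  cover_π S ⟨U, hU⟩

lemma exists_chart (t : T S) : ∃ (U : S.Opens) (hU : IsAffineOpen U)
    (q : Spec (CommRingCat.of (integralClosure Γ(S, U) (PiK S U)))), chart S U hU q = t := by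
  obtain ⟨⟨U, hU⟩, q, hq⟩ := (cover S).exists_eq t
  exact ⟨U, hU, q, hq⟩

instance : Surjective (π S) := by
  classical
  constructor
  intro s
  obtain ⟨_, ⟨U, (hU : IsAffineOpen U), rfl⟩, hsU, -⟩ :=
    S.isBasis_affineOpens.exists_subset_of_mem_open (Set.mem_univ s) isOpen_univ
  let A' := integralClosure Γ(S, U) (PiK S U)
  let χ : A' →+* AlgebraicClosure (S.residueField s) :=
    (Pi.evalRingHom (fun s : U => AlgebraicClosure (S.residueField s.1)) ⟨s, hsU⟩).comp
      (algebraMap A' (PiK S U))
  let q : Spec (CommRingCat.of A') := ⟨RingHom.ker χ, RingHom.ker_isPrime χ⟩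
  refine ⟨chart S U hU q, ?_⟩
  rw [← Scheme.Hom.comp_apply, chart_π, Scheme.Hom.comp_apply]
  have hp : Spec.map (CommRingCat.ofHom (algebraMap Γ(S, U) A')) q =
      hU.primeIdealOf ⟨s, hsU⟩ := by
    apply PrimeSpectrum.ext
    ext a
    have h1 : a ∈ (hU.primeIdealOf ⟨s, hsU⟩).asIdeal ↔ s ∉ S.basicOpen a := by
      have h2 := hU.fromSpec_preimage_basicOpen a
      have h3 : hU.primeIdealOf ⟨s, hsU⟩ ∈ hU.fromSpec ⁻¹ᵁ S.basicOpen a ↔
          hU.primeIdealOf ⟨s, hsU⟩ ∈ (PrimeSpectrum.basicOpen a :
            TopologicalSpace.Opens (PrimeSpectrum Γ(S, U))) := by rw [h2]; rfl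
      have h4 : hU.primeIdealOf ⟨s, hsU⟩ ∈ hU.fromSpec ⁻¹ᵁ S.basicOpen a ↔
          s ∈ S.basicOpen a := by
        change hU.fromSpec (hU.primeIdealOf ⟨s, hsU⟩) ∈ S.basicOpen a ↔ _
        rw [hU.fromSpec_primeIdealOf ⟨s, hsU⟩]
      rw [← h4, h3]
      exact not_not.symm
    rw [h1, ← algebraMap_PiK_apply_eq_zero_iff U a ⟨s, hsU⟩]
    rfl
  rw [hp]
  exact hU.fromSpec_primeIdealOf ⟨s, hsU⟩

end Groth.Agent.Lib.Helper2.AICCover
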