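import Mathlib
import Groth.Agent.Lib.Helper2.AICGood
import Groth.Agent.S1379

/-!
# Zariski-local sections of fppf covers over spectra of good rings

Over `Spec R` with `R` good (see `AICGood`), étale morphisms, finite flat finitely presented
morphisms and hence (via S1379) all fppf covers admit sections Zariski-locally.
-/

set_option autoImplicit false
set_option linter.style.haveILetI false
set_option linter.unusedSectionVars false

universe u

namespace Groth.Agent.Lib.Helper2.AICSection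

open AlgebraicGeometry CategoryTheory Limits AICGood

/-- Étale morphisms to the spectrum of a good ring have Zariski-local sections around any point
of the image. -/
theorem exists_section_of_etale {R : Type u} [CommRing R] (hR : Good R) {X : Scheme.{u}}
    (e : X ⟶ Spec (CommRingCat.of R)) [Etale e] (x : X) :
    ∃ f : R, f ∉ (e x).asIdeal ∧
      ∃ σ : Spec (CommRingCat.of (Localization.Away f)) ⟶ X,
        σ ≫ e = Spec.map (CommRingCat.ofHom (algebraMap R (Localization.Away f))) := by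
  obtain ⟨_, ⟨W, hW, rfl⟩, hxW, -⟩ :=
    X.isBasis_affineOpens.exists_subset_of_mem_open (Set.mem_univ x) isOpen_univ
  let B : CommRingCat.{u} := Γ(X, W)
  let eW : Spec B ⟶ Spec (CommRingCat.of R) := hW.fromSpec ≫ e
  let ψ : CommRingCat.of R ⟶ B := Spec.preimage eW
  have hψ : Spec.map ψ = eW := Spec.map_preimage eW
  have hEt : Etale (Spec.map ψ) := by rw [hψ]; infer_instance
  have hψEt : ψ.hom.Etale := (HasRingHomProperty.Spec_iff (P := @Etale)).mp hEt
  algebraize [ψ.hom]
  let q : Spec B := hW.primeIdealOf ⟨x, hxW⟩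
  have hq : hW.fromSpec q = x := hW.fromSpec_primeIdealOf ⟨x, hxW⟩
  obtain ⟨f, hf, ⟨φ⟩⟩ := hR.exists_algHom_away_of_etale B q.asIdeal
  refine ⟨f, ?_, Spec.map (CommRingCat.ofHom φ.toRingHom) ≫ hW.fromSpec, ?_⟩
  · intro hmem
    apply hf
    have h1 : e x = Spec.map ψ q := by
      rw [hψ, ← hq]; rfl
    rw [h1] at hmem
    exact hmem
  · rw [Category.assoc]
    change _ ≫ eW = _
    rw [← hψ, ← Spec.map_comp]
    congr 1
    ext a
    exact φ.commutes a

/-- Finite flat finitely presented morphisms to the spectrum of a good ring have Zariski-local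
sections around any point of the image. -/
theorem exists_section_of_finite_flat {R : Type u} [CommRing R] (hR : Good R) {V : Scheme.{u}}
    (p : V ⟶ Spec (CommRingCat.of R)) [IsFinite p] [Flat p] [LocallyOfFinitePresentation p]
    (v : V) :
    ∃ f : R, f ∉ (p v).asIdeal ∧
      ∃ τ : Spec (CommRingCat.of (Localization.Away f)) ⟶ V,
        τ ≫ p = Spec.map (CommRingCat.ofHom (algebraMap R (Localization.Away f))) := by
  haveI : IsAffine V := isAffine_of_isAffineHom p
  let C : CommRingCat.{u} := Γ(V, ⊤)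
  let p' : Spec C ⟶ Spec (CommRingCat.of R) := V.isoSpec.inv ≫ p
  let ψ : CommRingCat.of R ⟶ C := Spec.preimage p'
  have hψ : Spec.map ψ = p' := Spec.map_preimage p'
  have h1 : IsFinite (Spec.map ψ) := by rw [hψ]; infer_instance
  have h2 : Flat (Spec.map ψ) := by rw [hψ]; infer_instance
  have h3 : LocallyOfFinitePresentation (Spec.map ψ) := by rw [hψ]; infer_instance
  have hψ1 : ψ.hom.Finite := (IsFinite.SpecMap_iff ψ).mp h1
  have hψ2 : ψ.hom.Flat := (HasRingHomProperty.Spec_iff (P := @Flat)).mp h2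
  have hψ3 : ψ.hom.FinitePresentation :=
    (HasRingHomProperty.Spec_iff (P := @LocallyOfFinitePresentation)).mp h3
  algebraize [ψ.hom]
  let q : Spec C := V.isoSpec.hom v
  obtain ⟨f, hf, ⟨φ⟩⟩ := hR.exists_algHom_away_of_finite_flat C q.asIdeal
  refine ⟨f, ?_, Spec.map (CommRingCat.ofHom φ.toRingHom) ≫ V.isoSpec.inv, ?_⟩
  · intro hmem
    apply hf
    have h4 : p v = Spec.map ψ q := by
      rw [hψ]
      change p v = (V.isoSpec.inv ≫ p) (V.isoSpec.hom v)
      rw [Scheme.Hom.comp_apply, ← Scheme.Hom.comp_apply V.isoSpec.hom]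
      simp
    rw [h4] at hmem
    exact hmem
  · rw [Category.assoc]
    change _ ≫ p' = _
    rw [← hψ, ← Spec.map_comp]
    congr 1
    ext a
    exact φ.commutes a

theorem mem_range_SpecMap_away {R : Type u} [CommRing R] (f : R)
    (t : Spec (CommRingCat.of R)) (hf : f ∉ t.asIdeal) :
    t ∈ Set.range (Spec.map (CommRingCat.ofHom (algebraMap R (Localization.Away f)))) := by
  have := PrimeSpectrum.localization_away_comap_range (Localization.Away f) f
  have h2 : t ∈ (PrimeSpectrum.basicOpen f : Set (PrimeSpectrum R)) := hf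
  rw [← this] at h2
  exact h2

/-- Over the spectrum of a good ring, every fppf cover has Zariski-local sections. -/
theorem exists_local_section {R : Type u} [CommRing R] (hR : Good R) {Y : Scheme.{u}}
    (gT : Y ⟶ Spec (CommRingCat.of R)) [Flat gT] [LocallyOfFinitePresentation gT] [Surjective gT]
    (t : Spec (CommRingCat.of R)) :
    ∃ (R' : CommRingCat.{u}) (j : CommRingCat.of R ⟶ R'), IsOpenImmersion (Spec.map j) ∧
      t ∈ Set.range (Spec.map j) ∧ ∃ r : Spec R' ⟶ Y, r ≫ gT = Spec.map j := by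
  obtain ⟨S'', V, e, π', he, ⟨s', hs'⟩, hsurj, hfin, hflat, hfp, hloc⟩ :=
    Groth.Agent.S1379.result gT t
  obtain ⟨f₁, hf₁, σ, hσ⟩ := exists_section_of_etale hR e s'
  rw [hs'] at hf₁
  have hR₁ : Good (Localization.Away f₁) := hR.of_isLocalization (.powers f₁) _
  obtain ⟨t₁, ht₁⟩ := mem_range_SpecMap_away f₁ t hf₁
  haveI : Surjective (pullback.snd π' σ) := inferInstance
  obtain ⟨v₁, hv₁⟩ := (pullback.snd π' σ).surjective t₁
  obtain ⟨f₂, hf₂, τ, hτ⟩ := exists_section_of_finite_flat hR₁ (pullback.snd π' σ) v₁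
  rw [hv₁] at hf₂
  obtain ⟨t₂, ht₂⟩ := mem_range_SpecMap_away f₂ t₁ hf₂
  let ρ : Spec (CommRingCat.of (Localization.Away f₂)) ⟶ V := τ ≫ pullback.fst π' σ
  obtain ⟨W', r, hvW', hr⟩ := hloc (ρ t₂)
  have hopen : IsOpen ((ρ ⁻¹ᵁ W' : (Spec (CommRingCat.of (Localization.Away f₂))).Opens) :
      Set (Spec (CommRingCat.of (Localization.Away f₂)))) := (ρ ⁻¹ᵁ W').2
  obtain ⟨_, ⟨_, ⟨f₃, rfl⟩, rfl⟩, ht₂f₃, hsub⟩ :=
    PrimeSpectrum.isBasis_basic_opens.exists_subset_of_mem_open
      (show t₂ ∈ ((ρ ⁻¹ᵁ W' : (Spec (CommRingCat.of (Localization.Away f₂))).Opens) :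
        Set (Spec (CommRingCat.of (Localization.Away f₂)))) from hvW') hopen
  obtain ⟨t₃, ht₃⟩ := mem_range_SpecMap_away f₃ t₂ ht₂f₃
  let j₁ := CommRingCat.ofHom (algebraMap R (Localization.Away f₁))
  let j₂ := CommRingCat.ofHom (algebraMap (Localization.Away f₁) (Localization.Away f₂))
  let j₃ := CommRingCat.ofHom (algebraMap (Localization.Away f₂) (Localization.Away f₃))
  have hrange : Set.range (Spec.map j₃ ≫ ρ) ⊆ Set.range W'.ι := by
    rintro _ ⟨y, rfl⟩
    rw [Scheme.Opens.range_ι]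
    have hy : Spec.map j₃ y ∈ ((PrimeSpectrum.basicOpen f₃ :
        TopologicalSpace.Opens (PrimeSpectrum (Localization.Away f₂))) :
        Set (PrimeSpectrum (Localization.Away f₂))) := by
      have := PrimeSpectrum.localization_away_comap_range (Localization.Away f₃) f₃
      rw [← this]
      exact ⟨y, rfl⟩
    exact hsub hy
  let ℓ : Spec (CommRingCat.of (Localization.Away f₃)) ⟶ W' :=
    IsOpenImmersion.lift W'.ι (Spec.map j₃ ≫ ρ) hrange
  have hℓ : ℓ ≫ W'.ι = Spec.map j₃ ≫ ρ := IsOpenImmersion.lift_fac _ _ _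
  refine ⟨CommRingCat.of (Localization.Away f₃), j₁ ≫ j₂ ≫ j₃, ?_, ?_, ℓ ≫ r, ?_⟩
  · rw [Spec.map_comp, Spec.map_comp]
    infer_instance
  · refine ⟨t₃, ?_⟩
    rw [Spec.map_comp, Spec.map_comp, Scheme.Hom.comp_apply, Scheme.Hom.comp_apply, ht₃, ht₂, ht₁]
  · rw [Category.assoc, hr, reassoc_of% hℓ]
    simp only [ρ, Category.assoc]
    rw [pullback.condition_assoc, hσ, reassoc_of% hτ, Spec.map_comp, Spec.map_comp]
    simp only [Category.assoc]
    rfl

end Groth.Agent.Lib.Helper2.AICSection
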