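import Mathlib
import Groth.Agent.Lib.Helper2.AICGood
import Groth.Agent.Lib.Helper2.AICSection
import Groth.Agent.Lib.Helper2.AICCover

/-!
# Every fppf cover is dominated, Zariski-locally, by an integral surjective morphism

The universal good integral cover `AICCover.T S ⟶ S` works for every fppf cover of `S`.
-/

set_option autoImplicit false
set_option linter.style.haveILetI false
set_option linter.unusedSectionVars false

universe u

namespace Groth.Agent.Lib.Helper2.AICMain

open AlgebraicGeometry CategoryTheory Limits AICGood AICSection AICCover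

theorem main {S' S : Scheme.{u}} (g : S' ⟶ S) [Flat g] [LocallyOfFinitePresentation g]
    [Surjective g] :
    ∃ (T : Scheme.{u}) (π : T ⟶ S), Surjective π ∧ IsIntegralHom π ∧
      ∀ t : ↑T, ∃ (V : T.Opens) (r : ↑V ⟶ S'), t ∈ V ∧ r ≫ g = V.ι ≫ π := by
  refine ⟨AICCover.T S, AICCover.π S, inferInstance, inferInstance, fun t => ?_⟩
  obtain ⟨U, hU, q, rfl⟩ := exists_chart S t
  obtain ⟨R', j, hj, ⟨q', hq'⟩, r, hr⟩ := exists_local_section (good_chart S U)
    (pullback.snd g (chart S U hU ≫ AICCover.π S)) q
  let ι' : Spec R' ⟶ AICCover.T S := Spec.map j ≫ chart S U hU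
  refine ⟨ι'.opensRange, ι'.isoOpensRange.inv ≫ r ≫ pullback.fst g (chart S U hU ≫ AICCover.π S),
    ⟨q', ?_⟩, ?_⟩
  · simp only [ι', Scheme.Hom.comp_apply, hq']
  · simp only [Category.assoc]
    rw [pullback.condition, reassoc_of% hr, Iso.inv_comp_eq, Scheme.Hom.isoOpensRange_hom_ι_assoc]
    simp only [ι', Category.assoc]

end Groth.Agent.Lib.Helper2.AICMain
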