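import Mathlib

/-!
# Generizations in dense opens of locally Noetherian schemes; extension of clopen subsets (helper2)

* `exists_specializes_of_mem_closure`: in a locally Noetherian scheme the closure of an open set
  consists of specializations of its points.
* `exists_specializes_mem_of_dense`: every point has a generization in a given dense open.
* `exists_isClopen_of_directed_generizations`: clopen subsets of a dense open `W₀` extend to clopen
  subsets of the whole scheme when the generizations of every point off `W₀` are directed.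
-/

set_option autoImplicit false
set_option linter.style.haveILetI false
set_option linter.unusedSectionVars false
universe u

open CategoryTheory CategoryTheory.Limits AlgebraicGeometry TopologicalSpace

namespace Groth.Agent.Lib.Helper2.DenseOpenGen

/-- In a quasi-sober Noetherian space every point of the closure of an open set is a specialization
of a point of the open set. -/
theorem exists_specializes_of_mem_closure_of_noetherianSpace {α : Type*} [TopologicalSpace α]
    [QuasiSober α] [NoetherianSpace α] {O : Set α} (hO : IsOpen O) {w : α} (hw : w ∈ closure O) :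
    ∃ y ∈ O, y ⤳ w := by
  have hfin : (irreducibleComponents α).Finite := NoetherianSpace.finite_irreducibleComponents
  let J : Set (Set α) := {Z ∈ irreducibleComponents α | (Z ∩ O).Nonempty}
  have hJfin : J.Finite := hfin.subset (fun Z hZ => hZ.1)
  have hclosed : IsClosed (⋃₀ J) := by
    rw [Set.sUnion_eq_biUnion]
    exact hJfin.isClosed_biUnion fun Z hZ => isClosed_of_mem_irreducibleComponents Z hZ.1
  have hsub : O ⊆ ⋃₀ J := by
    intro y hy
    have : y ∈ ⋃₀ irreducibleComponents α := by rw [sUnion_irreducibleComponents]; trivial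
    obtain ⟨Z, hZ, hyZ⟩ := this
    exact ⟨Z, ⟨hZ, ⟨y, hyZ, hy⟩⟩, hyZ⟩
  obtain ⟨Z, ⟨hZ, hne⟩, hwZ⟩ := closure_minimal hsub hclosed hw
  have hZirr : IsIrreducible Z := hZ.1
  have hZcl : IsClosed Z := isClosed_of_mem_irreducibleComponents Z hZ
  obtain ⟨y, hy⟩ := QuasiSober.sober hZirr hZcl
  refine ⟨y, (hy.mem_open_set_iff hO).mpr hne, ?_⟩
  exact hy.specializes hwZ

/-- Auxiliary form of `exists_specializes_of_mem_closure` inside an affine open neighbourhood. -/
theorem exists_specializes_of_mem_closure_aux {X : Scheme.{u}} [IsLocallyNoetherian X] {O : Set X}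
    (hO : IsOpen O) {w : X} (hw : w ∈ closure O) (N : X.Opens) (hN : IsAffineOpen N) (hwN : w ∈ N) :
    ∃ y ∈ O, y ⤳ w := by
  haveI : IsNoetherianRing Γ(X, N) := IsLocallyNoetherian.component_noetherian ⟨N, hN⟩
  have hNS : NoetherianSpace N := noetherianSpace_of_isAffineOpen N hN
  have hQS : QuasiSober N := N.isOpen.isOpenEmbedding_subtypeVal.quasiSober
  have hw' : (⟨w, hwN⟩ : N) ∈ closure ((Subtype.val : N → X) ⁻¹' O) := by
    rw [mem_closure_iff]
    intro G hG hwG
    have hGo : IsOpen (Subtype.val '' G) := N.isOpen.isOpenEmbedding_subtypeVal.isOpenMap G hG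
    have hwG' : w ∈ (Subtype.val : N → X) '' G := ⟨⟨w, hwN⟩, hwG, rfl⟩
    obtain ⟨z, hz1, hz2⟩ := mem_closure_iff.mp hw _ hGo hwG'
    obtain ⟨g, hg, rfl⟩ := hz1
    exact ⟨g, hg, hz2⟩
  obtain ⟨y, hy, hys⟩ := @exists_specializes_of_mem_closure_of_noetherianSpace N _ hQS hNS _
    (hO.preimage continuous_subtype_val) _ hw'
  exact ⟨y.1, hy, hys.map continuous_subtype_val⟩

/-- In a locally Noetherian scheme every point of the closure of an open set is a specialization
of a point of the open set. -/
theorem exists_specializes_of_mem_closure {X : Scheme.{u}} [IsLocallyNoetherian X] {O : Set X}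
    (hO : IsOpen O) {w : X} (hw : w ∈ closure O) : ∃ y ∈ O, y ⤳ w := by
  obtain ⟨_, ⟨N, hN, rfl⟩, hwN, -⟩ :=
    X.isBasis_affineOpens.exists_subset_of_mem_open (Set.mem_univ w) isOpen_univ
  exact exists_specializes_of_mem_closure_aux hO hw N hN hwN

/-- Every point of a locally Noetherian scheme has a generization in a given dense open. -/
theorem exists_specializes_mem_of_dense {X : Scheme.{u}} [IsLocallyNoetherian X] (U : X.Opens)
    (hU : Dense (U : Set X)) (x : X) : ∃ y ∈ U, y ⤳ x :=
  exists_specializes_of_mem_closure U.isOpen (hU x)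

/-- **Clopen subsets of a dense open extend**, provided that the generizations of every point off
the open subset are directed. -/
theorem exists_isClopen_of_directed_generizations {X : Scheme.{u}} [IsLocallyNoetherian X]
    (W₀ : Set X) (hd : Dense W₀)
    (hdir : ∀ w : X, w ∉ W₀ → ∃ g : X, ∀ y : X, y ⤳ w → g ⤳ y)
    (C' : Set X) (hC' : IsOpen C') (hC'' : IsOpen (W₀ \ C')) (hsub : C' ⊆ W₀) :
    ∃ C : Set X, IsClopen C ∧ C ∩ W₀ = C' := by
  have hdisj : ∀ w, w ∈ closure C' → w ∈ closure (W₀ \ C') → False := by
    intro w h1 h2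
    by_cases hw : w ∈ W₀
    · by_cases hwC : w ∈ C'
      · obtain ⟨z, hz1, hz2⟩ := mem_closure_iff.mp h2 _ hC' hwC
        exact hz2.2 hz1
      · obtain ⟨z, hz1, hz2⟩ := mem_closure_iff.mp h1 _ hC'' ⟨hw, hwC⟩
        exact hz1.2 hz2
    · obtain ⟨g, hg⟩ := hdir w hw
      obtain ⟨y₁, hy₁, hs₁⟩ := exists_specializes_of_mem_closure hC' h1
      obtain ⟨y₂, hy₂, hs₂⟩ := exists_specializes_of_mem_closure hC'' h2
      have hg1 : g ∈ C' := (hg y₁ hs₁).mem_open hC' hy₁
      have hg2 : g ∈ W₀ \ C' := (hg y₂ hs₂).mem_open hC'' hy₂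
      exact hg2.2 hg1
  have hcover : closure C' ∪ closure (W₀ \ C') = Set.univ := by
    rw [← closure_union, Set.union_diff_cancel hsub]
    exact hd.closure_eq
  have hcompl : closure C' = (closure (W₀ \ C'))ᶜ := by
    ext w
    constructor
    · intro h1 h2
      exact hdisj w h1 h2
    · intro h2
      have : w ∈ closure C' ∪ closure (W₀ \ C') := by rw [hcover]; trivial
      rcases this with h | h
      · exact h
      · exact absurd h h2
  refine ⟨closure C', ⟨isClosed_closure, ?_⟩, ?_⟩
  · rw [hcompl]
    exact isClosed_closure.isOpen_compl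
  · apply Set.Subset.antisymm
    · rintro w ⟨h1, hw⟩
      by_contra hwC
      exact hdisj w h1 (subset_closure ⟨hw, hwC⟩)
    · intro w hw
      exact ⟨subset_closure hw, hsub hw⟩

end Groth.Agent.Lib.Helper2.DenseOpenGen
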