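import Groth.Agent.Lib.Helper2.PuncturedSections
import Groth.Agent.S0237
import Mathlib.AlgebraicGeometry.Morphisms.Etale
import Mathlib.AlgebraicGeometry.Morphisms.Finite
import Mathlib.AlgebraicGeometry.Morphisms.Flat
import Mathlib.RingTheory.Regular.Flat
import Mathlib.RingTheory.Ideal.MinimalPrime.Localization

/-!
# Finite étale covers of the punctured spectrum of a local ring of depth ≥ 2 (helper2)

* `exists_weaklyRegular_pair`, `regMod_of_isWeaklyRegular`
* `res_bijective_preimage_punctured`: flat affine `Y → Spec A`: `Γ(Y) → Γ(f⁻¹ U)` bijective.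
* `appTop_pullback_fst_bijective`, `homOfAppTop`
* `full_restrict_of_appTop_bijective`: fullness criterion for restriction of finite étale covers
  of an affine scheme to an open.
* `dense_puncturedSpec`
* `restrict_punctured_full_faithful`
-/

set_option autoImplicit false
universe u
open AlgebraicGeometry CategoryTheory TopologicalSpace Opposite RingTheory.Sequence Limits

namespace Groth.Agent.Lib.Helper2

section

variable {R : Type u} [CommRing R]

lemma regMod_of_isWeaklyRegular {x y : R} (h : IsWeaklyRegular R [x, y]) :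
    IsSMulRegular R x ∧ RegMod x y := by
  rw [isWeaklyRegular_cons_iff] at h
  obtain ⟨hx, hreg⟩ := h
  rw [isWeaklyRegular_cons_iff] at hreg
  obtain ⟨hy, -⟩ := hreg
  refine ⟨hx, ?_⟩
  rintro r ⟨s, hs⟩
  have h0 : y • (Submodule.Quotient.mk r : QuotSMulTop x R) = y • 0 := by
    rw [smul_zero, ← Submodule.Quotient.mk_smul, Submodule.Quotient.mk_eq_zero, smul_eq_mul, hs]
    exact Submodule.smul_mem_pointwise_smul _ _ _ trivial
  have h1 := hy h0
  rw [Submodule.Quotient.mk_eq_zero, Submodule.mem_smul_pointwise_iff_exists] at h1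
  obtain ⟨s', -, hs'⟩ := h1
  exact ⟨s', hs'.symm⟩

lemma exists_weaklyRegular_pair [IsLocalRing R] (h : 2 ≤ LocCoh.depth R R) :
    ∃ x y : R, x ∈ IsLocalRing.maximalIdeal R ∧ y ∈ IsLocalRing.maximalIdeal R ∧
      IsWeaklyRegular R [x, y] := by
  unfold LocCoh.depth LocCoh.idealDepth at h
  rw [if_neg] at h
  swap
  · rw [smul_eq_mul, Ideal.mul_top]
    exact (IsLocalRing.maximalIdeal.isMaximal R).ne_top
  by_contra hcon
  push Not at hcon
  have : (⨆ (rs : List R) (_ : IsWeaklyRegular R rs ∧ ∀ r ∈ rs, r ∈ IsLocalRing.maximalIdeal R),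
      (rs.length : ℕ∞)) ≤ 1 := by
    apply iSup₂_le
    rintro rs ⟨hreg, hmem⟩
    match rs, hreg, hmem with
    | [], _, _ => simp
    | [_], _, _ => simp
    | x :: y :: rest, hreg, hmem =>
      exfalso
      apply hcon x y (hmem x (by simp)) (hmem y (by simp))
      rw [isWeaklyRegular_cons_iff] at hreg ⊢
      obtain ⟨hx, hreg⟩ := hreg
      refine ⟨hx, ?_⟩
      rw [isWeaklyRegular_cons_iff] at hreg ⊢
      exact ⟨hreg.1, IsWeaklyRegular.nil _ _⟩
  have h2 : (2 : ℕ∞) ≤ 1 := le_trans h this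
  exact absurd h2 (by decide)

end

lemma basicOpen_le_puncturedSpec (A : Type u) [CommRing A] [IsLocalRing A] (a : A)
    (ha : a ∈ IsLocalRing.maximalIdeal A) :
    (Spec (CommRingCat.of A)).basicOpen ((Scheme.ΓSpecIso (CommRingCat.of A)).inv a) ≤
      FEt.puncturedSpec A := by
  rw [basicOpen_eq_of_affine]
  intro p hp
  change p ∈ ({IsLocalRing.closedPoint A}ᶜ : Set (PrimeSpectrum A))
  intro hcon
  rw [Set.mem_singleton_iff] at hcon
  apply hp
  rw [hcon]
  exact ha

/-- For a flat morphism `f : Y ⟶ Spec A` from an affine scheme to the spectrum of a local ring of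
depth at least two, global sections of `Y` restrict bijectively to the preimage of the punctured
spectrum. -/
theorem res_bijective_preimage_punctured (A : Type u) [CommRing A] [IsLocalRing A]
    (hA : 2 ≤ LocCoh.depth A A) {Y : Scheme.{u}} (f : Y ⟶ Spec (CommRingCat.of A)) [IsAffine Y]
    [Flat f] : Function.Bijective (res (le_top : f ⁻¹ᵁ FEt.puncturedSpec A ≤ ⊤)) := by
  obtain ⟨a₁, a₂, h₁, h₂, hreg⟩ := exists_weaklyRegular_pair hA
  let φ : A →+* Γ(Y, ⊤) := (f.appTop.hom).comp (Scheme.ΓSpecIso (CommRingCat.of A)).inv.hom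
  have hφ : φ.Flat := by
    refine RingHom.Flat.comp (RingHom.Flat.of_bijective ?_) (Scheme.Hom.flat_appTop f)
    exact (ConcreteCategory.bijective_of_isIso (Scheme.ΓSpecIso (CommRingCat.of A)).inv)
  let _ : Algebra A Γ(Y, ⊤) := φ.toAlgebra
  have : Module.Flat A Γ(Y, ⊤) := hφ
  have hregB := hreg.of_flat (S := Γ(Y, ⊤))
  obtain ⟨hx, hxy⟩ := regMod_of_isWeaklyRegular hregB
  have hD : ∀ a ∈ IsLocalRing.maximalIdeal A,
      Y.basicOpen (φ a) ≤ f ⁻¹ᵁ FEt.puncturedSpec A := by
    intro a ha
    have h1 : Y.basicOpen (φ a) =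
        f ⁻¹ᵁ (Spec (CommRingCat.of A)).basicOpen ((Scheme.ΓSpecIso (CommRingCat.of A)).inv a) := by
      rw [Scheme.preimage_basicOpen_top]
      rfl
    rw [h1]
    exact f.preimage_mono (basicOpen_le_puncturedSpec A a ha)
  exact res_bijective_of_regular_pair _ (φ a₁) (φ a₂) (hD a₁ h₁) (hD a₂ h₂) hx hxy

lemma res_bijective_congr {Y : Scheme.{u}} {V W : Y.Opens} (e : V = W)
    (h : Function.Bijective (res (le_top : W ≤ ⊤))) :
    Function.Bijective (res (le_top : V ≤ ⊤)) := by
  subst e
  exact h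

/-- `pullback.fst f U.ι` induces a bijection on global sections when restriction to `f⁻¹ U` does. -/
lemma appTop_pullback_fst_bijective {X Y : Scheme.{u}} (f : Y ⟶ X) (U : X.Opens)
    (h : Function.Bijective (res (le_top : f ⁻¹ᵁ U ≤ ⊤))) :
    Function.Bijective (pullback.fst f U.ι).appTop.hom := by
  have e1 : (pullback.fst f U.ι).appTop =
      (f ⁻¹ᵁ U).ι.appTop ≫ (pullbackRestrictIsoRestrict f U).hom.appTop := by
    rw [← Scheme.Hom.comp_appTop, pullbackRestrictIsoRestrict_hom_ι]
  have e2 : Function.Bijective (f ⁻¹ᵁ U).ι.appTop.hom :=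
    res_bijective_congr (f ⁻¹ᵁ U).ι_image_top h
  have e3 : IsIso (pullbackRestrictIsoRestrict f U).hom.appTop :=
    inferInstanceAs (IsIso ((pullbackRestrictIsoRestrict f U).hom.app ⊤))
  rw [e1]
  simp only [CommRingCat.hom_comp, RingHom.coe_comp]
  exact Function.Bijective.comp (ConcreteCategory.bijective_of_isIso _) e2

/-- morphism to an affine scheme from a ring map on global sections -/
noncomputable def homOfAppTop {T Z : Scheme.{u}} [IsAffine Z] (θ : Γ(Z, ⊤) ⟶ Γ(T, ⊤)) : T ⟶ Z :=
  T.toSpecΓ ≫ Spec.map θ ≫ Z.isoSpec.inv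

lemma homOfAppTop_appTop {T Z : Scheme.{u}} [IsAffine Z] (θ : Γ(Z, ⊤) ⟶ Γ(T, ⊤)) :
    (homOfAppTop θ).appTop = θ := by
  have h2 : Z.isoSpec.inv.appTop ≫ Z.toSpecΓ.appTop = 𝟙 _ := by
    rw [← Scheme.Hom.comp_appTop, Scheme.toSpecΓ_isoSpec_inv]
    rfl
  rw [Scheme.toSpecΓ_appTop] at h2
  have h1 : Z.isoSpec.inv.appTop = (Scheme.ΓSpecIso Γ(Z, ⊤)).inv := (Iso.comp_hom_eq_id _).mp h2
  unfold homOfAppTop
  rw [Scheme.Hom.comp_appTop, Scheme.Hom.comp_appTop, h1, Scheme.toSpecΓ_appTop]
  simp

/-- General fullness criterion: restriction of finite étale covers of an affine scheme `X` to an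
open `U` is full as soon as global sections of every finite étale `Y` restrict bijectively to the
preimage of `U`. -/
theorem full_restrict_of_appTop_bijective {X : Scheme.{u}} [IsAffine X] (U : X.Opens)
    (H : ∀ Y : FEt.Cat X, Function.Bijective (pullback.fst Y.hom U.ι).appTop.hom) :
    (FEt.restrict U.ι).Full := by
  constructor
  intro Y Z g
  have hYfin : IsFinite Y.hom := Y.prop.1
  have hZfin : IsFinite Z.hom := Z.prop.1
  have hXY : IsAffine ((Functor.fromPUnit X).obj Y.right) := inferInstanceAs (IsAffine X)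
  have hXZ : IsAffine ((Functor.fromPUnit X).obj Z.right) := inferInstanceAs (IsAffine X)
  have : IsAffine Y.left := isAffine_of_isAffineHom Y.hom
  have : IsAffine Z.left := isAffine_of_isAffineHom Z.hom
  have hbij := H Y
  let gl : pullback Y.hom U.ι ⟶ pullback Z.hom U.ι := g.left
  have hgw : gl ≫ pullback.snd Z.hom U.ι = pullback.snd Y.hom U.ι := MorphismProperty.Over.w g
  let k : pullback Y.hom U.ι ⟶ Z.left := gl ≫ pullback.fst Z.hom U.ι
  let e := RingEquiv.ofBijective (pullback.fst Y.hom U.ι).appTop.hom hbij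
  let θ : Γ(Z.left, ⊤) ⟶ Γ(Y.left, ⊤) :=
    CommRingCat.ofHom (e.symm.toRingHom.comp k.appTop.hom)
  have hθ : θ ≫ (pullback.fst Y.hom U.ι).appTop = k.appTop := by
    ext z
    simp only [CommRingCat.hom_comp, RingHom.coe_comp, Function.comp_apply, θ,
      CommRingCat.hom_ofHom, RingEquiv.toRingHom_eq_coe, RingHom.coe_coe]
    exact e.apply_symm_apply _
  let h₀ : Y.left ⟶ Z.left := homOfAppTop θ
  have hh₀ : h₀.appTop = θ := homOfAppTop_appTop θ
  have hmono : Mono (pullback.fst Y.hom U.ι).appTop :=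
    ConcreteCategory.mono_of_injective _ hbij.1
  have hw : h₀ ≫ Z.hom = Y.hom := by
    apply ext_of_isAffine
    rw [Scheme.Hom.comp_appTop, hh₀, ← cancel_mono (pullback.fst Y.hom U.ι).appTop, Category.assoc,
      hθ, ← Scheme.Hom.comp_appTop, ← Scheme.Hom.comp_appTop]
    congr 1
    rw [Category.assoc, pullback.condition, ← Category.assoc, hgw, pullback.condition]
  have hk : pullback.fst Y.hom U.ι ≫ h₀ = k := by
    apply ext_of_isAffine
    rw [Scheme.Hom.comp_appTop, hh₀, hθ]
  refine ⟨MorphismProperty.Over.homMk h₀ hw trivial, ?_⟩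
  ext
  simp only [FEt.restrict, MorphismProperty.Over.pullback_map_left,
    MorphismProperty.Over.homMk_hom, Over.homMk_left]
  apply pullback.hom_ext
  · rw [pullback.lift_fst]
    exact hk
  · rw [pullback.lift_snd]
    exact hgw.symm

/-- The punctured spectrum of a local ring of positive depth is dense. -/
lemma dense_puncturedSpec (A : Type u) [CommRing A] [IsLocalRing A]
    (hA : 2 ≤ LocCoh.depth A A) :
    Dense ((FEt.puncturedSpec A : (Spec (CommRingCat.of A)).Opens) : Set (Spec (CommRingCat.of A))) := by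
  obtain ⟨a₁, a₂, h₁, h₂, hreg⟩ := exists_weaklyRegular_pair hA
  have hx : IsSMulRegular A a₁ := ((isWeaklyRegular_cons_iff _ _ _).mp hreg).1
  obtain ⟨p, hp, hple⟩ := Ideal.exists_minimalPrimes_le
    (bot_le : (⊥ : Ideal A) ≤ IsLocalRing.maximalIdeal A)
  have hpprime : p.IsPrime := hp.1.1
  have hpne : p ≠ IsLocalRing.maximalIdeal A := by
    rintro rfl
    have hdisj := Ideal.disjoint_nonZeroDivisors_of_mem_minimalPrimes hp
    have hnzd : a₁ ∈ nonZeroDivisors A := by
      rw [mem_nonZeroDivisors_iff_right]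
      intro z hz
      exact hx (by simpa [mul_comm] using hz)
    exact Set.disjoint_left.mp hdisj h₁ hnzd
  let P : PrimeSpectrum A := ⟨p, hpprime⟩
  have hPU : P ∈ ({IsLocalRing.closedPoint A}ᶜ : Set (PrimeSpectrum A)) := by
    intro hcon
    rw [Set.mem_singleton_iff] at hcon
    exact hpne (congrArg PrimeSpectrum.asIdeal hcon)
  have hspec : P ⤳ IsLocalRing.closedPoint A := by
    rw [← PrimeSpectrum.le_iff_specializes]
    exact hple
  intro q
  by_cases hq : q ∈ ({IsLocalRing.closedPoint A}ᶜ : Set (PrimeSpectrum A))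
  · exact subset_closure hq
  · have hq' : q = IsLocalRing.closedPoint A := by
      by_contra hne
      exact hq hne
    rw [hq']
    exact closure_mono (Set.singleton_subset_iff.mpr hPU) (specializes_iff_mem_closure.mp hspec)

theorem restrict_punctured_full_faithful (A : Type u) [CommRing A] [IsLocalRing A]
    (hA : (2 : ℕ∞) ≤ LocCoh.depth A A) :
    (FEt.restrict (FEt.puncturedSpec A).ι).Full ∧ (FEt.restrict (FEt.puncturedSpec A).ι).Faithful := by
  refine ⟨full_restrict_of_appTop_bijective _ (fun Y => ?_), Groth.Agent.S0237.result _ ?_⟩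
  · have : IsFinite Y.hom := Y.prop.1
    have : Etale Y.hom := Y.prop.2
    have hYa : IsAffine Y.left := isAffine_of_isAffineHom (Y := Spec (CommRingCat.of A)) Y.hom
    have : IsAffine ((𝟭 Scheme).obj Y.left) := hYa
    exact appTop_pullback_fst_bijective Y.hom _ (res_bijective_preimage_punctured A hA Y.hom)
  · have hd := dense_puncturedSpec A hA
    rw [DenseRange]
    convert hd
    exact Scheme.Opens.range_ι _

end Groth.Agent.Lib.Helper2
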