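import Mathlib
import Groth.Agent.Lib.Helper24.SmoothNormal
import Groth.Agent.Lib.Helper2.PuncturedFEt
import Groth.Agent.Lib.Helper69.Rigid2
import Groth.Agent.H72.NormalBir

/-!
# Extension of morphisms of finite étale covers over normal integral schemes

* `inl_injective_and_mem_range_of_isPushout`: étale base change of an integrally closed inclusion.
* `exists_extension_of_appTop_range`, `exists_extension_affine_of_integrallyClosedIn`: affine-local extension.
* `exists_local_extension_of_factor`: chart reduction.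
* `exists_extension_of_local`: gluing of local extensions along an open cover (for `i : S ⟶ X` with dense range).
* `nonemptyAffineOpenCover`, `exists_extension_generic`: extension from the generic fibre over a normal integral scheme.
* `full_restrict_of_exists_extension`, `exists_extension_open_of_normal`.
-/

set_option linter.style.haveILetI false
set_option autoImplicit false

universe u
open AlgebraicGeometry CategoryTheory CategoryTheory.Limits TensorProduct

namespace Groth.Agent.Lib.Helper2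

/-- Pure algebra: if `P = S ⊗[R] T` with `S` smooth over `R`, `R → T` injective and `R` integrally closed in `T`,
then `S → P` is injective and every element of `P` integral over `S` comes from `S`. -/
theorem inl_injective_and_mem_range_of_isPushout {R S T P : CommRingCat.{u}} {f : R ⟶ S} {g : R ⟶ T}
    {inl : S ⟶ P} {inr : T ⟶ P} (h : IsPushout f g inl inr)
    (hf : f.hom.Etale)
    (hginj : Function.Injective g.hom)
    (hgint : ∀ x : T, g.hom.IsIntegralElem x → x ∈ g.hom.range) :
    Function.Injective inl.hom ∧ ∀ x : P, inl.hom.IsIntegralElem x → x ∈ inl.hom.range := by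
  algebraize [f.hom, g.hom, inl.hom, inr.hom, inl.hom.comp f.hom]
  have : IsScalarTower R T P := .of_algebraMap_eq' <| congr($(h.1.1).hom)
  have hpo : Algebra.IsPushout R S T P := CommRingCat.isPushout_iff_isPushout.mp h
  let e : S ⊗[R] T ≃ₐ[S] P := Algebra.IsPushout.equiv R S T P
  have : Module.Flat R S := Algebra.Smooth.flat R S
  have hincl : Function.Injective (Algebra.TensorProduct.includeLeft : S →ₐ[S] S ⊗[R] T) :=
    Algebra.TensorProduct.includeLeft_injective (S := S) hginj
  have hint : integralClosure R T = ⊥ := by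
    rw [eq_bot_iff]
    intro x hx
    obtain ⟨r, hr⟩ := hgint x hx
    exact Algebra.mem_bot.mpr ⟨r, hr⟩
  constructor
  · intro a b hab
    apply hincl
    apply e.injective
    change e (algebraMap S (S ⊗[R] T) a) = e (algebraMap S (S ⊗[R] T) b)
    rw [e.commutes, e.commutes]
    exact hab
  · intro x hx
    have hx' : IsIntegral S (e.symm x) := by
      have : IsIntegral S x := hx
      exact this.map e.symm
    obtain ⟨s, hs⟩ := Groth.Agent.Lib.Helper24.mem_range_of_isIntegral_tensor_of_smooth R S T hint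
      (e.symm x) hx'
    refine ⟨s, ?_⟩
    have := congrArg e hs
    rw [e.commutes, e.apply_symm_apply] at this
    exact this

/-- Scheme-level extension over an affine base with respect to `ι' : P ⟶ Y` injective on global sections such that
the sections coming from `Z` lie in the image of the sections of `Y`. -/
theorem exists_extension_of_appTop_range {X : Scheme.{u}} [IsAffine X]
    (Y Z : FEt.Cat X) {P : Scheme.{u}} (ι' : P ⟶ Y.left)
    (hinj : Function.Injective ι'.appTop.hom)
    (k : P ⟶ Z.left) (hk : k ≫ Z.hom = ι' ≫ Y.hom)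
    (hrange : ∀ c : Γ(Z.left, ⊤), k.appTop.hom c ∈ ι'.appTop.hom.range) :
    ∃ h₀ : Y.left ⟶ Z.left, h₀ ≫ Z.hom = Y.hom ∧ ι' ≫ h₀ = k := by
  have hYfin : IsFinite Y.hom := Y.prop.1
  have hZfin : IsFinite Z.hom := Z.prop.1
  have hXY : IsAffine ((Functor.fromPUnit X).obj Y.right) := inferInstanceAs (IsAffine X)
  have hXZ : IsAffine ((Functor.fromPUnit X).obj Z.right) := inferInstanceAs (IsAffine X)
  have : IsAffine Y.left := isAffine_of_isAffineHom Y.hom
  have : IsAffine Z.left := isAffine_of_isAffineHom Z.hom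
  let e := RingEquiv.ofLeftInverse (f := ι'.appTop.hom) (Function.leftInverse_invFun hinj)
  let θ : Γ(Z.left, ⊤) ⟶ Γ(Y.left, ⊤) :=
    CommRingCat.ofHom (e.symm.toRingHom.comp (k.appTop.hom.codRestrict ι'.appTop.hom.range hrange))
  have hθ : θ ≫ ι'.appTop = k.appTop := by
    ext z
    simp only [CommRingCat.hom_comp, RingHom.coe_comp, Function.comp_apply, θ,
      CommRingCat.hom_ofHom, RingEquiv.toRingHom_eq_coe, RingHom.coe_coe]
    have h1 : ι'.appTop.hom (e.symm (k.appTop.hom.codRestrict ι'.appTop.hom.range hrange z)) =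
        ((e (e.symm (k.appTop.hom.codRestrict ι'.appTop.hom.range hrange z)) : ι'.appTop.hom.range) :
          Γ(P, ⊤)) := rfl
    rw [h1, e.apply_symm_apply]
    rfl
  let h₀ : Y.left ⟶ Z.left := homOfAppTop θ
  have hh₀ : h₀.appTop = θ := homOfAppTop_appTop θ
  have hmono : Mono ι'.appTop :=
    ConcreteCategory.mono_of_injective _ hinj
  have hw : h₀ ≫ Z.hom = Y.hom := by
    apply ext_of_isAffine
    rw [Scheme.Hom.comp_appTop, hh₀, ← cancel_mono ι'.appTop, Category.assoc,
      hθ, ← Scheme.Hom.comp_appTop, ← Scheme.Hom.comp_appTop]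
    congr 1
  have hk' : ι' ≫ h₀ = k := by
    apply ext_of_isAffine
    rw [Scheme.Hom.comp_appTop, hh₀, hθ]
  exact ⟨h₀, hw, hk'⟩

/-- Affine-local extension for normal bases: `X` affine, `i' : S ⟶ X` from an affine scheme which is injective on
global sections and such that `Γ(X)` is integrally closed in `Γ(S)`. Then morphisms `Y ×_X S ⟶ Z` over `X`
between finite étale covers extend uniquely to `Y ⟶ Z`. -/
theorem exists_extension_affine_of_integrallyClosedIn {X S : Scheme.{u}} [IsAffine X] [IsAffine S]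
    (i' : S ⟶ X)
    (hinj : Function.Injective i'.appTop.hom)
    (hint : ∀ x : Γ(S, ⊤), i'.appTop.hom.IsIntegralElem x → x ∈ i'.appTop.hom.range)
    (Y Z : FEt.Cat X)
    (k : pullback Y.hom i' ⟶ Z.left) (hk : k ≫ Z.hom = pullback.fst Y.hom i' ≫ Y.hom) :
    ∃ h₀ : Y.left ⟶ Z.left, h₀ ≫ Z.hom = Y.hom ∧ pullback.fst Y.hom i' ≫ h₀ = k := by
  have hYfin : IsFinite Y.hom := Y.prop.1
  have hYet : Etale Y.hom := Y.prop.2
  have hZfin : IsFinite Z.hom := Z.prop.1
  have hXY : IsAffine ((Functor.fromPUnit X).obj Y.right) := inferInstanceAs (IsAffine X)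
  have hXZ : IsAffine ((Functor.fromPUnit X).obj Z.right) := inferInstanceAs (IsAffine X)
  have : IsAffine Y.left := isAffine_of_isAffineHom Y.hom
  have : IsAffine Z.left := isAffine_of_isAffineHom Z.hom
  have hY1 : IsAffine ((𝟭 Scheme).obj Y.left) := ‹IsAffine Y.left›
  have hpo : IsPushout Y.hom.appTop i'.appTop (pullback.fst Y.hom i').appTop
      (pullback.snd Y.hom i').appTop :=
    isPushout_appTop_of_isPullback (IsPullback.of_hasPullback Y.hom i')
  have hetY : Y.hom.appTop.hom.Etale := HasRingHomProperty.appTop @Etale Y.hom hYet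
  obtain ⟨hinl, hrangeP⟩ := inl_injective_and_mem_range_of_isPushout hpo hetY hinj hint
  refine exists_extension_of_appTop_range Y Z (pullback.fst Y.hom i') hinl k hk ?_
  intro c
  apply hrangeP
  -- `c` is integral over `Γ(X)`
  have hcint : Z.hom.appTop.hom.IsIntegralElem c :=
    (RingHom.Finite.to_isIntegral (Scheme.Hom.finite_appTop Z.hom)) c
  obtain ⟨p, hp, hpc⟩ := hcint
  refine ⟨p.map Y.hom.appTop.hom, hp.map _, ?_⟩
  rw [Polynomial.eval₂_map]
  have hcomp : (pullback.fst Y.hom i').appTop.hom.comp Y.hom.appTop.hom =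
      k.appTop.hom.comp Z.hom.appTop.hom := by
    rw [← CommRingCat.hom_comp, ← CommRingCat.hom_comp, ← Scheme.Hom.comp_appTop,
      ← Scheme.Hom.comp_appTop, hk]
  rw [hcomp, ← Polynomial.hom_eval₂, hpc, map_zero]

/-- Chart reduction: if `i : S ⟶ X` factors through a monomorphism `j : W ⟶ X` as `i' ≫ j`, an extension result over
`W` along `i'` for the restricted covers gives a local extension over the chart `j`. -/
theorem exists_local_extension_of_factor {X S W : Scheme.{u}} (i : S ⟶ X) (j : W ⟶ X) [Mono j]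
    (i' : S ⟶ W) (hi : i' ≫ j = i)
    (Y Z : FEt.Cat X)
    (k : pullback Y.hom i ⟶ Z.left) (hk : k ≫ Z.hom = pullback.fst Y.hom i ≫ Y.hom)
    (H : ∀ (YW ZW : FEt.Cat W) (k' : pullback YW.hom i' ⟶ ZW.left),
      k' ≫ ZW.hom = pullback.fst YW.hom i' ≫ YW.hom →
      ∃ h₀ : YW.left ⟶ ZW.left, h₀ ≫ ZW.hom = YW.hom ∧ pullback.fst YW.hom i' ≫ h₀ = k') :
    ∃ g : pullback Y.hom j ⟶ Z.left, g ≫ Z.hom = pullback.fst Y.hom j ≫ Y.hom ∧
      ∀ (T : Scheme.{u}) (t₁ : T ⟶ pullback Y.hom j) (t₂ : T ⟶ pullback Y.hom i),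
        t₁ ≫ pullback.fst Y.hom j = t₂ ≫ pullback.fst Y.hom i → t₁ ≫ g = t₂ ≫ k := by
  let YW : FEt.Cat W := (FEt.restrict j).obj Y
  let ZW : FEt.Cat W := (FEt.restrict j).obj Z
  have hYWhom : YW.hom = pullback.snd Y.hom j := rfl
  have hZWhom : ZW.hom = pullback.snd Z.hom j := rfl
  have cY : pullback.fst Y.hom j ≫ Y.hom = pullback.snd Y.hom j ≫ j := pullback.condition
  have cZ : pullback.fst Z.hom j ≫ Z.hom = pullback.snd Z.hom j ≫ j := pullback.condition
  have cYi : pullback.fst Y.hom i ≫ Y.hom = pullback.snd Y.hom i ≫ i := pullback.condition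
  -- the comparison `T₀ = YW ×_W S ⟶ Y ×_X S`
  let fW : pullback (pullback.snd Y.hom j) i' ⟶ pullback Y.hom j := pullback.fst _ _
  let sW : pullback (pullback.snd Y.hom j) i' ⟶ S := pullback.snd _ _
  have cW : fW ≫ pullback.snd Y.hom j = sW ≫ i' := pullback.condition
  let tz : pullback (pullback.snd Y.hom j) i' ⟶ pullback Y.hom i :=
    pullback.lift (fW ≫ pullback.fst Y.hom j) sW (by
      rw [Category.assoc, cY, ← Category.assoc, cW, Category.assoc, hi])
  have htz1 : tz ≫ pullback.fst Y.hom i = fW ≫ pullback.fst Y.hom j := pullback.lift_fst _ _ _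
  have htz2 : tz ≫ pullback.snd Y.hom i = sW := pullback.lift_snd _ _ _
  let k' : pullback (pullback.snd Y.hom j) i' ⟶ pullback Z.hom j :=
    pullback.lift (tz ≫ k) (fW ≫ pullback.snd Y.hom j) (by
      rw [Category.assoc, hk, ← Category.assoc, htz1, Category.assoc, cY, Category.assoc])
  have hk'1 : k' ≫ pullback.fst Z.hom j = tz ≫ k := pullback.lift_fst _ _ _
  have hk'2 : k' ≫ pullback.snd Z.hom j = fW ≫ pullback.snd Y.hom j := pullback.lift_snd _ _ _
  obtain ⟨h₀, hw, hι⟩ := H YW ZW k' hk'2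
  have hw' : h₀ ≫ pullback.snd Z.hom j = pullback.snd Y.hom j := hw
  have hι' : fW ≫ h₀ = k' := hι
  refine ⟨h₀ ≫ pullback.fst Z.hom j, ?_, ?_⟩
  · exact (Category.assoc _ _ _).trans ((congrArg (fun t => h₀ ≫ t) cZ).trans
      ((Category.assoc _ _ _).symm.trans ((congrArg (fun t => t ≫ j) hw').trans cY.symm)))
  · intro T t₁ t₂ ht
    have hcond : t₁ ≫ pullback.snd Y.hom j = (t₂ ≫ pullback.snd Y.hom i) ≫ i' := by
      rw [← cancel_mono j, Category.assoc, ← cY, ← Category.assoc, ht, Category.assoc, cYi,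
        Category.assoc, Category.assoc, hi]
    let s : T ⟶ pullback (pullback.snd Y.hom j) i' :=
      pullback.lift t₁ (t₂ ≫ pullback.snd Y.hom i) hcond
    have hs1 : s ≫ fW = t₁ := pullback.lift_fst _ _ _
    have hs2 : s ≫ sW = t₂ ≫ pullback.snd Y.hom i := pullback.lift_snd _ _ _
    have hs3 : s ≫ tz = t₂ := by
      apply pullback.hom_ext
      · rw [Category.assoc, htz1, ← Category.assoc, hs1, ht]
      · rw [Category.assoc, htz2, hs2]
    have step1 : t₁ ≫ h₀ ≫ pullback.fst Z.hom j = (s ≫ fW) ≫ h₀ ≫ pullback.fst Z.hom j :=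
      congrArg (fun t => t ≫ h₀ ≫ pullback.fst Z.hom j) hs1.symm
    have step2 : (s ≫ fW) ≫ h₀ ≫ pullback.fst Z.hom j = s ≫ (fW ≫ h₀) ≫ pullback.fst Z.hom j :=
      (Category.assoc _ _ _).trans (congrArg (fun t => s ≫ t) (Category.assoc _ _ _).symm)
    have step3 : s ≫ (fW ≫ h₀) ≫ pullback.fst Z.hom j = s ≫ k' ≫ pullback.fst Z.hom j :=
      congrArg (fun t => s ≫ t ≫ pullback.fst Z.hom j) hι'
    have step4 : s ≫ k' ≫ pullback.fst Z.hom j = s ≫ tz ≫ k :=
      congrArg (fun t => s ≫ t) hk'1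
    have step5 : s ≫ tz ≫ k = t₂ ≫ k :=
      (Category.assoc _ _ _).symm.trans (congrArg (fun t => t ≫ k) hs3)
    exact step1.trans (step2.trans (step3.trans (step4.trans step5)))

open Groth.Agent.Lib.Helper69 in
/-- Gluing of local extensions: let `i : S ⟶ X` have dense range, `Y Z` finite étale over `X` and `k : Y ×_X S ⟶ Z`
a morphism over `X`. If `k` extends over each chart of an open cover of `X` (in a way compatible with `k`), then
it extends globally. -/
theorem exists_extension_of_local {X S : Scheme.{u}} (i : S ⟶ X) (hi : DenseRange i)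
    (Y Z : FEt.Cat X)
    (k : pullback Y.hom i ⟶ Z.left) (hk : k ≫ Z.hom = pullback.fst Y.hom i ≫ Y.hom)
    (𝒜 : X.OpenCover)
    (key : ∀ a : 𝒜.I₀, ∃ g : pullback Y.hom (𝒜.f a) ⟶ Z.left,
      g ≫ Z.hom = pullback.fst Y.hom (𝒜.f a) ≫ Y.hom ∧
      ∀ (T : Scheme.{u}) (t₁ : T ⟶ pullback Y.hom (𝒜.f a)) (t₂ : T ⟶ pullback Y.hom i),
        t₁ ≫ pullback.fst Y.hom (𝒜.f a) = t₂ ≫ pullback.fst Y.hom i → t₁ ≫ g = t₂ ≫ k) :
    ∃ h₀ : Y.left ⟶ Z.left, h₀ ≫ Z.hom = Y.hom ∧ pullback.fst Y.hom i ≫ h₀ = k := by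
  have hYet : Etale Y.hom := Y.prop.2
  have hZfin : IsFinite Z.hom := Z.prop.1
  have hZet : Etale Z.hom := Z.prop.2
  let 𝒰 : Y.left.OpenCover := 𝒜.pullback₁ Y.hom
  have key' : ∀ a : 𝒰.I₀, ∃ g : 𝒰.X a ⟶ Z.left, g ≫ Z.hom = 𝒰.f a ≫ Y.hom ∧
      ∀ (T : Scheme.{u}) (t₁ : T ⟶ 𝒰.X a) (t₂ : T ⟶ pullback Y.hom i),
        t₁ ≫ 𝒰.f a = t₂ ≫ pullback.fst Y.hom i → t₁ ≫ g = t₂ ≫ k :=
    fun a => key a
  choose g hg1 hg2 using key'
  -- density of the `S`-part
  have hdense : Dense (Set.range (pullback.fst Y.hom i)) := by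
    rw [Scheme.Pullback.range_fst]
    exact Dense.preimage hi Y.hom.isOpenMap
  have hcompat : ∀ a a' : 𝒰.I₀, pullback.fst (𝒰.f a) (𝒰.f a') ≫ g a =
      pullback.snd (𝒰.f a) (𝒰.f a') ≫ g a' := by
    intro a a'
    let b : pullback (𝒰.f a) (𝒰.f a') ⟶ Y.left := pullback.fst (𝒰.f a) (𝒰.f a') ≫ 𝒰.f a
    have hb : b = pullback.snd (𝒰.f a) (𝒰.f a') ≫ 𝒰.f a' := pullback.condition
    let ξ : pullback b (pullback.fst Y.hom i) ⟶ pullback (𝒰.f a) (𝒰.f a') := pullback.fst _ _
    have hd : DenseRange ξ.base := by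
      have : Set.range ξ = b ⁻¹' Set.range (pullback.fst Y.hom i) :=
        Scheme.Pullback.range_fst _ _
      rw [DenseRange, this]
      exact hdense.preimage b.isOpenEmbedding.isOpenMap
    refine eq_of_comp_eq_of_denseRange Z.hom _ _ ?_ ξ hd ?_
    · rw [Category.assoc, Category.assoc, hg1, hg1, ← Category.assoc,
        ← Category.assoc, pullback.condition]
    · have e1 : (ξ ≫ pullback.fst (𝒰.f a) (𝒰.f a')) ≫ g a = pullback.snd _ _ ≫ k := by
        apply hg2
        rw [Category.assoc]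
        exact pullback.condition
      have e2 : (ξ ≫ pullback.snd (𝒰.f a) (𝒰.f a')) ≫ g a' = pullback.snd _ _ ≫ k := by
        apply hg2
        rw [Category.assoc, ← hb]
        exact pullback.condition
      rw [← Category.assoc, ← Category.assoc, e1, e2]
  let h₀ : Y.left ⟶ Z.left := 𝒰.glueMorphisms g hcompat
  have hh₀ : ∀ a, 𝒰.f a ≫ h₀ = g a := fun a => 𝒰.ι_glueMorphisms g hcompat a
  refine ⟨h₀, ?_, ?_⟩
  · apply 𝒰.hom_ext
    intro a
    rw [← Category.assoc, hh₀, hg1]
  · let 𝒱 : (pullback Y.hom i).OpenCover := 𝒰.pullback₁ (pullback.fst Y.hom i)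
    apply 𝒱.hom_ext
    intro a
    let a' : 𝒰.I₀ := a
    have e1 : pullback.snd (pullback.fst Y.hom i) (𝒰.f a') ≫ g a' =
        pullback.fst (pullback.fst Y.hom i) (𝒰.f a') ≫ k := by
      apply hg2
      exact pullback.condition.symm
    have e2 : pullback.fst (pullback.fst Y.hom i) (𝒰.f a') ≫ pullback.fst Y.hom i =
        pullback.snd (pullback.fst Y.hom i) (𝒰.f a') ≫ 𝒰.f a' := pullback.condition
    exact (Category.assoc _ _ _).symm.trans ((congrArg (fun t => t ≫ h₀) e2).trans
      ((Category.assoc _ _ _).trans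
        ((congrArg (fun t => pullback.snd (pullback.fst Y.hom i) (𝒰.f a') ≫ t) (hh₀ a')).trans e1)))

/-- Injectivity and integral closedness pass from a ring map `φ` to the global sections of `Spec.map φ`. -/
lemma specMap_appTop_injective_and_integrallyClosedIn {R T : CommRingCat.{u}} (φ : R ⟶ T)
    (hinj : Function.Injective φ.hom)
    (hint : ∀ x : T, φ.hom.IsIntegralElem x → x ∈ φ.hom.range) :
    Function.Injective (Spec.map φ).appTop.hom ∧
      ∀ x : Γ(Spec T, ⊤), (Spec.map φ).appTop.hom.IsIntegralElem x →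
        x ∈ (Spec.map φ).appTop.hom.range := by
  have hnat : (Spec.map φ).appTop ≫ (Scheme.ΓSpecIso T).hom = (Scheme.ΓSpecIso R).hom ≫ φ :=
    Scheme.ΓSpecIso_naturality φ
  have hnat' : ∀ r, (Scheme.ΓSpecIso T).hom.hom ((Spec.map φ).appTop.hom r) =
      φ.hom ((Scheme.ΓSpecIso R).hom.hom r) := fun r => by
    have := congrArg (fun f => f.hom r) hnat
    simpa only [CommRingCat.hom_comp, RingHom.coe_comp, Function.comp_apply] using this
  have hbT : Function.Bijective (Scheme.ΓSpecIso T).hom.hom :=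
    ConcreteCategory.bijective_of_isIso (Scheme.ΓSpecIso T).hom
  have hbR : Function.Bijective (Scheme.ΓSpecIso R).hom.hom :=
    ConcreteCategory.bijective_of_isIso (Scheme.ΓSpecIso R).hom
  constructor
  · intro a b hab
    apply hbR.1
    apply hinj
    rw [← hnat', ← hnat', hab]
  · rintro x ⟨p, hp, hpx⟩
    have h1 : φ.hom.IsIntegralElem ((Scheme.ΓSpecIso T).hom.hom x) := by
      refine ⟨p.map (Scheme.ΓSpecIso R).hom.hom, hp.map _, ?_⟩
      rw [Polynomial.eval₂_map]
      have hcomp : φ.hom.comp (Scheme.ΓSpecIso R).hom.hom =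
          (Scheme.ΓSpecIso T).hom.hom.comp (Spec.map φ).appTop.hom := by
        ext r
        exact (hnat' r).symm
      rw [hcomp, ← Polynomial.hom_eval₂, hpx, map_zero]
    obtain ⟨r, hr⟩ := hint _ h1
    obtain ⟨r', rfl⟩ := hbR.2 r
    refine ⟨r', ?_⟩
    apply hbT.1
    rw [hnat', hr]

/-- The open cover of a scheme by the spectra of sections over all nonempty affine opens. -/
noncomputable def nonemptyAffineOpenCover (X : Scheme.{u}) : X.OpenCover where
  I₀ := {V : X.affineOpens // (V.1 : Set X).Nonempty}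
  X V := Spec Γ(X, V.1.1)
  f V := V.1.2.fromSpec
  mem₀ := by
    rw [Scheme.presieve₀_mem_precoverage_iff]
    refine ⟨fun x => ?_, fun V => inferInstance⟩
    obtain ⟨W, hW, hxW, -⟩ := exists_isAffineOpen_mem_and_subset (x := x) (U := ⊤) trivial
    refine ⟨⟨⟨W, hW⟩, ⟨x, hxW⟩⟩, ?_⟩
    rw [hW.range_fromSpec]
    exact hxW

/-- The generic point of an integral scheme has dense range. -/
lemma denseRange_fromSpecStalk_genericPoint (X : Scheme.{u}) [IsIntegral X] :
    DenseRange (X.fromSpecStalk (genericPoint X)) := by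
  have h1 : genericPoint X ∈ Set.range (X.fromSpecStalk (genericPoint X)) :=
    ⟨_, Scheme.fromSpecStalk_closedPoint⟩
  have h2 : Dense ({genericPoint X} : Set X) := by
    rw [dense_iff_closure_eq]
    exact (genericPoint_spec X).def
  exact h2.mono (Set.singleton_subset_iff.mpr h1)

/-- Extension from the generic fibre: for a normal integral scheme `X`, every morphism over `X` from the generic
fibre of a finite étale `Y` to a finite étale `Z` extends uniquely to `Y ⟶ Z`. -/
theorem exists_extension_generic {X : Scheme.{u}} [IsIntegral X] (hX : Pi1.IsNormalScheme X)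
    (Y Z : FEt.Cat X)
    (k : pullback Y.hom (X.fromSpecStalk (genericPoint X)) ⟶ Z.left)
    (hk : k ≫ Z.hom = pullback.fst Y.hom (X.fromSpecStalk (genericPoint X)) ≫ Y.hom) :
    ∃ h₀ : Y.left ⟶ Z.left, h₀ ≫ Z.hom = Y.hom ∧
      pullback.fst Y.hom (X.fromSpecStalk (genericPoint X)) ≫ h₀ = k := by
  refine exists_extension_of_local _ (denseRange_fromSpecStalk_genericPoint X) Y Z k hk
    (nonemptyAffineOpenCover X) ?_
  rintro ⟨⟨V, hV⟩, hne⟩
  haveI : Nonempty V := hne.to_subtype
  have hη : genericPoint X ∈ V :=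
    ((genericPoint_spec X).mem_open_set_iff V.isOpen).mpr (by simpa using hne)
  let φ : Γ(X, V) ⟶ X.presheaf.stalk (genericPoint X) := X.presheaf.germ V (genericPoint X) hη
  have hi : Spec.map φ ≫ hV.fromSpec = X.fromSpecStalk (genericPoint X) :=
    hV.fromSpecStalk_eq_fromSpecStalk hη
  have hic : IsIntegrallyClosed Γ(X, V) :=
    Groth.Agent.H72.NormalBir.isIntegrallyClosed_of_isNormal hX V hV
  have hfr : IsFractionRing Γ(X, V) X.functionField :=
    functionField_isFractionRing_of_isAffineOpen X V hV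
  obtain ⟨h1, h2⟩ := specMap_appTop_injective_and_integrallyClosedIn φ
    (germ_injective_of_isIntegral X _ hη) (by
      intro x hx
      have hx' : IsIntegral Γ(X, V) (x : X.functionField) := hx
      obtain ⟨y, hy⟩ := IsIntegrallyClosed.isIntegral_iff.mp hx'
      exact ⟨y, hy⟩)
  exact exists_local_extension_of_factor _ hV.fromSpec (Spec.map φ) hi Y Z k hk
    (fun YW ZW k' hk' =>
      exists_extension_affine_of_integrallyClosedIn (Spec.map φ) h1 h2 YW ZW k' hk')

/-- Fullness of base change from an extension property. -/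
theorem full_restrict_of_exists_extension {X S : Scheme.{u}} (i : S ⟶ X)
    (H : ∀ (Y Z : FEt.Cat X) (k : pullback Y.hom i ⟶ Z.left),
      k ≫ Z.hom = pullback.fst Y.hom i ≫ Y.hom →
      ∃ h₀ : Y.left ⟶ Z.left, h₀ ≫ Z.hom = Y.hom ∧ pullback.fst Y.hom i ≫ h₀ = k) :
    (FEt.restrict i).Full := by
  constructor
  intro Y Z g
  let gl : pullback Y.hom i ⟶ pullback Z.hom i := g.left
  have hgw : gl ≫ pullback.snd Z.hom i = pullback.snd Y.hom i := MorphismProperty.Over.w g
  let k : pullback Y.hom i ⟶ Z.left := gl ≫ pullback.fst Z.hom i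
  have hk0 : k ≫ Z.hom = pullback.fst Y.hom i ≫ Y.hom := by
    rw [Category.assoc, pullback.condition, ← Category.assoc, hgw, pullback.condition]
  obtain ⟨h₀, hw, hk⟩ := H Y Z k hk0
  refine ⟨MorphismProperty.Over.homMk h₀ hw trivial, ?_⟩
  ext
  simp only [FEt.restrict, MorphismProperty.Over.pullback_map_left,
    MorphismProperty.Over.homMk_hom, Over.homMk_left]
  apply pullback.hom_ext
  · rw [pullback.lift_fst]
    exact hk
  · rw [pullback.lift_snd]
    exact hgw.symm

open Groth.Agent.Lib.Helper69 in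
/-- Extension from a nonempty open of a normal integral scheme. -/
theorem exists_extension_open_of_normal {X : Scheme.{u}} [IsIntegral X] (hX : Pi1.IsNormalScheme X)
    (U : X.Opens) (hU : (U : Set X).Nonempty) (Y Z : FEt.Cat X)
    (k : pullback Y.hom U.ι ⟶ Z.left) (hk : k ≫ Z.hom = pullback.fst Y.hom U.ι ≫ Y.hom) :
    ∃ h₀ : Y.left ⟶ Z.left, h₀ ≫ Z.hom = Y.hom ∧ pullback.fst Y.hom U.ι ≫ h₀ = k := by
  have hYet : Etale Y.hom := Y.prop.2
  have hZfin : IsFinite Z.hom := Z.prop.1
  have hZet : Etale Z.hom := Z.prop.2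
  have hη : genericPoint X ∈ U :=
    ((genericPoint_spec X).mem_open_set_iff U.isOpen).mpr (by simpa using hU)
  let i := X.fromSpecStalk (genericPoint X)
  have hrange : Set.range i ⊆ Set.range U.ι := by
    rw [Scheme.Opens.range_ι, Scheme.range_fromSpecStalk]
    intro y hy
    exact (hy : y ⤳ genericPoint X).mem_open U.isOpen hη
  let a : Spec (X.presheaf.stalk (genericPoint X)) ⟶ U.toScheme := IsOpenImmersion.lift U.ι i hrange
  have ha : a ≫ U.ι = i := IsOpenImmersion.lift_fac _ _ _
  have cYi : pullback.fst Y.hom i ≫ Y.hom = pullback.snd Y.hom i ≫ i := pullback.condition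
  have cYU : pullback.fst Y.hom U.ι ≫ Y.hom = pullback.snd Y.hom U.ι ≫ U.ι := pullback.condition
  let n : pullback Y.hom i ⟶ pullback Y.hom U.ι :=
    pullback.lift (pullback.fst Y.hom i) (pullback.snd Y.hom i ≫ a) (by
      rw [cYi, Category.assoc, ha])
  have hn1 : n ≫ pullback.fst Y.hom U.ι = pullback.fst Y.hom i := pullback.lift_fst _ _ _
  have hn2 : n ≫ pullback.snd Y.hom U.ι = pullback.snd Y.hom i ≫ a := pullback.lift_snd _ _ _
  obtain ⟨h₀, hw, hh₀⟩ := exists_extension_generic hX Y Z (n ≫ k) (by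
    rw [Category.assoc, hk, ← Category.assoc, hn1])
  refine ⟨h₀, hw, ?_⟩
  let ξ : pullback (pullback.snd Y.hom U.ι) a ⟶ pullback Y.hom U.ι := pullback.fst _ _
  have cξ : ξ ≫ pullback.snd Y.hom U.ι = pullback.snd (pullback.snd Y.hom U.ι) a ≫ a :=
    pullback.condition
  have hd : DenseRange ξ.base := by
    have h1 : Set.range ξ = (pullback.snd Y.hom U.ι) ⁻¹' Set.range a :=
      Scheme.Pullback.range_fst _ _
    have h2 : Set.range a = U.ι ⁻¹' Set.range i := by
      rw [← ha, Scheme.Hom.comp_base, TopCat.coe_comp, Set.range_comp,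
        Set.preimage_image_eq _ U.ι.isOpenEmbedding.injective]
    have h3 : Dense (Set.range a) := by
      rw [h2]
      exact (denseRange_fromSpecStalk_genericPoint X).preimage U.ι.isOpenEmbedding.isOpenMap
    rw [DenseRange, h1]
    exact h3.preimage (pullback.snd Y.hom U.ι).isOpenMap
  refine eq_of_comp_eq_of_denseRange Z.hom _ _ ?_ ξ hd ?_
  · rw [Category.assoc, hw, hk]
  · let m : pullback (pullback.snd Y.hom U.ι) a ⟶ pullback Y.hom i :=
      pullback.lift (ξ ≫ pullback.fst Y.hom U.ι) (pullback.snd _ a) (by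
        rw [Category.assoc, cYU, ← Category.assoc, cξ, Category.assoc, ha])
    have hm1 : m ≫ pullback.fst Y.hom i = ξ ≫ pullback.fst Y.hom U.ι := pullback.lift_fst _ _ _
    have hm2 : m ≫ pullback.snd Y.hom i = pullback.snd _ a := pullback.lift_snd _ _ _
    have hmn : m ≫ n = ξ := by
      apply pullback.hom_ext
      · rw [Category.assoc, hn1, hm1]
      · rw [Category.assoc, hn2, ← Category.assoc, hm2, cξ]
    rw [← Category.assoc, ← hm1, Category.assoc, hh₀, ← Category.assoc, hmn]

end Groth.Agent.Lib.Helper2
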