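import Mathlib
import Groth.Prelude.Def_FEt

/-!
# Connected components of spectral spaces and finite étale covers

* `connectedComponent_eq_iInter_isClopen_of_spectral`: in a compact quasi-separated space with a basis of compact
  opens, connected components are intersections of clopens.
* `t2Space_connectedComponents_of_spectral`: `π₀` of such a space is Hausdorff.
* `isHomeomorph_connectedComponentsMap_of_clopen`: a map inducing a bijection on clopens induces a homeomorphism on `π₀`.
* `isHomeomorph_connectedComponentsMap_of_restrict`: if `FEt.restrict f` is full and essentially surjective then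
  `π₀(f)` is a homeomorphism (qcqs schemes).
-/

set_option linter.style.haveILetI false

universe u
open TopologicalSpace Set AlgebraicGeometry CategoryTheory CategoryTheory.Limits

namespace Groth.Agent.Lib.Helper2


section Spectral

variable {X : Type*} [TopologicalSpace X]

/-- `X` has a basis of compact open sets. -/
def HasCompactOpenBasis (X : Type*) [TopologicalSpace X] : Prop :=
  ∀ (x : X) (U : Set X), IsOpen U → x ∈ U → ∃ K : Set X, IsOpen K ∧ IsCompact K ∧ x ∈ K ∧ K ⊆ U

/-- A closed subset of a compact space with a basis of compact opens can be enlarged to a compact open avoiding a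
given disjoint closed set. -/
lemma exists_isCompact_isOpen_superset_disjoint [CompactSpace X] (hB : HasCompactOpenBasis X)
    {B C : Set X} (hBc : IsClosed B) (hCc : IsClosed C) (hBC : Disjoint B C) :
    ∃ U' : Set X, IsOpen U' ∧ IsCompact U' ∧ B ⊆ U' ∧ Disjoint U' C := by
  have hBcomp : IsCompact B := hBc.isCompact
  have hch : ∀ b : X, b ∈ B → ∃ K : Set X, IsOpen K ∧ IsCompact K ∧ b ∈ K ∧ K ⊆ Cᶜ := by
    intro b hb
    exact hB b Cᶜ hCc.isOpen_compl (fun hbC => Set.disjoint_left.mp hBC hb hbC)
  choose K hKo hKc hbK hKC using hch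
  obtain ⟨t, ht⟩ := hBcomp.elim_nhds_subcover' (fun b hb => K b hb)
    (fun b hb => (hKo b hb).mem_nhds (hbK b hb))
  refine ⟨⋃ x ∈ t, K x.1 x.2, ?_, ?_, ht, ?_⟩
  · exact isOpen_biUnion (fun x _ => hKo x.1 x.2)
  · exact t.isCompact_biUnion (fun x _ => hKc x.1 x.2)
  · rw [Set.disjoint_left]
    intro y hy hyC
    obtain ⟨x, hxt, hyx⟩ := Set.mem_iUnion₂.mp hy
    exact hKC x.1 x.2 hyx hyC

/-- In a compact quasi-separated space with a basis of compact opens (e.g. a spectral space), connected components
are intersections of clopen sets. -/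
theorem connectedComponent_eq_iInter_isClopen_of_spectral [CompactSpace X] [QuasiSeparatedSpace X]
    (hB : HasCompactOpenBasis X) (x : X) :
    connectedComponent x = ⋂ Z : { Z : Set X // IsClopen Z ∧ x ∈ Z }, (Z : Set X) := by
  apply Subset.antisymm connectedComponent_subset_iInter_isClopen
  set T : Set X := ⋂ Z : { Z : Set X // IsClopen Z ∧ x ∈ Z }, (Z : Set X) with hT
  have hTclosed : IsClosed T := isClosed_iInter fun Z => Z.2.1.1
  have hxT : x ∈ T := Set.mem_iInter.mpr fun Z => Z.2.2
  -- it suffices to show `T` is preconnected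
  suffices hpre : IsPreconnected T from hpre.subset_connectedComponent hxT
  rw [isPreconnected_iff_subset_of_fully_disjoint_closed hTclosed]
  intro u v hu hv hTuv huv
  set B := T ∩ u with hBdef
  set C := T ∩ v with hCdef
  have hBc : IsClosed B := hTclosed.inter hu
  have hCc : IsClosed C := hTclosed.inter hv
  have hBC : Disjoint B C := huv.mono inter_subset_right inter_subset_right
  have hTBC : T ⊆ B ∪ C := fun y hy => (hTuv hy).elim (fun h => Or.inl ⟨hy, h⟩) (fun h => Or.inr ⟨hy, h⟩)
  obtain ⟨U', hU'o, hU'c, hBU', hU'C⟩ := exists_isCompact_isOpen_superset_disjoint hB hBc hCc hBC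
  obtain ⟨V', hV'o, hV'c, hCV', hV'B⟩ := exists_isCompact_isOpen_superset_disjoint hB hCc hBc hBC.symm
  -- first clopen: avoids `U' ∩ V'`
  have hK : IsCompact (U' ∩ V') := QuasiSeparatedSpace.inter_isCompact U' V' hU'o hU'c hV'o hV'c
  have hKT : (U' ∩ V') ∩ T = ∅ := by
    rw [Set.eq_empty_iff_forall_notMem]
    rintro y ⟨⟨hyU, hyV⟩, hyT⟩
    rcases hTBC hyT with hyB | hyC
    · exact Set.disjoint_left.mp hV'B hyV hyB
    · exact Set.disjoint_left.mp hU'C hyU hyC
  obtain ⟨s₁, hs₁⟩ := hK.elim_finite_subfamily_closed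
    (fun Z : { Z : Set X // IsClopen Z ∧ x ∈ Z } => (Z : Set X)) (fun Z => Z.2.1.1) hKT
  -- second clopen: inside `U' ∪ V'`
  have hL : IsCompact (U' ∪ V')ᶜ := (hU'o.union hV'o).isClosed_compl.isCompact
  have hLT : (U' ∪ V')ᶜ ∩ T = ∅ := by
    rw [Set.eq_empty_iff_forall_notMem]
    rintro y ⟨hyL, hyT⟩
    apply hyL
    rcases hTBC hyT with hyB | hyC
    · exact Or.inl (hBU' hyB)
    · exact Or.inr (hCV' hyC)
  obtain ⟨s₂, hs₂⟩ := hL.elim_finite_subfamily_closed
    (fun Z : { Z : Set X // IsClopen Z ∧ x ∈ Z } => (Z : Set X)) (fun Z => Z.2.1.1) hLT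
  set Z : Set X := (⋂ i ∈ s₁, (i : Set X)) ∩ (⋂ i ∈ s₂, (i : Set X)) with hZ
  have hZclopen : IsClopen Z :=
    (isClopen_biInter_finset fun i _ => i.2.1).inter (isClopen_biInter_finset fun i _ => i.2.1)
  have hxZ : x ∈ Z := ⟨Set.mem_iInter₂.mpr fun i _ => i.2.2, Set.mem_iInter₂.mpr fun i _ => i.2.2⟩
  have hZ1 : Z ∩ (U' ∩ V') = ∅ := by
    rw [Set.eq_empty_iff_forall_notMem]
    rintro y ⟨⟨hy1, -⟩, hyK⟩
    exact (Set.eq_empty_iff_forall_notMem.mp hs₁) y ⟨hyK, hy1⟩
  have hZ2 : Z ⊆ U' ∪ V' := by
    rintro y ⟨-, hy2⟩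
    by_contra hc
    exact (Set.eq_empty_iff_forall_notMem.mp hs₂) y ⟨hc, hy2⟩
  -- the two pieces
  have hZU : IsClopen (Z ∩ U') := by
    refine ⟨?_, hZclopen.2.inter hU'o⟩
    have : Z ∩ U' = Z ∩ V'ᶜ := by
      ext y
      constructor
      · rintro ⟨hyZ, hyU⟩
        exact ⟨hyZ, fun hyV => (Set.eq_empty_iff_forall_notMem.mp hZ1) y ⟨hyZ, hyU, hyV⟩⟩
      · rintro ⟨hyZ, hyV⟩
        exact ⟨hyZ, (hZ2 hyZ).resolve_right hyV⟩
    rw [this]
    exact hZclopen.1.inter hV'o.isClosed_compl
  have hZV : IsClopen (Z ∩ V') := by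
    refine ⟨?_, hZclopen.2.inter hV'o⟩
    have : Z ∩ V' = Z ∩ U'ᶜ := by
      ext y
      constructor
      · rintro ⟨hyZ, hyV⟩
        exact ⟨hyZ, fun hyU => (Set.eq_empty_iff_forall_notMem.mp hZ1) y ⟨hyZ, hyU, hyV⟩⟩
      · rintro ⟨hyZ, hyU⟩
        exact ⟨hyZ, (hZ2 hyZ).resolve_left hyU⟩
    rw [this]
    exact hZclopen.1.inter hU'o.isClosed_compl
  rcases hZ2 hxZ with hxU | hxV
  · -- `T ⊆ Z ∩ U'`, so `C = ∅`
    left
    have hTsub : T ⊆ Z ∩ U' :=
      Set.iInter_subset (fun Z : { Z : Set X // IsClopen Z ∧ x ∈ Z } => (Z : Set X))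
        ⟨Z ∩ U', hZU, hxZ, hxU⟩
    intro y hy
    rcases hTuv hy with h | h
    · exact h
    · exact absurd (⟨hy, h⟩ : y ∈ C) (fun hyC => Set.disjoint_left.mp hU'C (hTsub hy).2 hyC)
  · right
    have hTsub : T ⊆ Z ∩ V' :=
      Set.iInter_subset (fun Z : { Z : Set X // IsClopen Z ∧ x ∈ Z } => (Z : Set X))
        ⟨Z ∩ V', hZV, hxZ, hxV⟩
    intro y hy
    rcases hTuv hy with h | h
    · exact absurd (⟨hy, h⟩ : y ∈ B) (fun hyB => Set.disjoint_left.mp hV'B (hTsub hy).2 hyB)
    · exact h




/-- The image of a clopen set in the space of connected components is clopen, and its preimage is the set. -/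
lemma preimage_image_mk_of_isClopen {Z : Set X} (hZ : IsClopen Z) :
    ((↑) : X → ConnectedComponents X) ⁻¹' (((↑) : X → ConnectedComponents X) '' Z) = Z := by
  rw [connectedComponents_preimage_image]
  exact hZ.biUnion_connectedComponent_eq

lemma isClopen_image_mk_of_isClopen {Z : Set X} (hZ : IsClopen Z) :
    IsClopen (((↑) : X → ConnectedComponents X) '' Z) := by
  rw [← ConnectedComponents.isQuotientMap_coe.isClopen_preimage, preimage_image_mk_of_isClopen hZ]
  exact hZ

/-- The space of connected components of a spectral space is Hausdorff. -/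
theorem t2Space_connectedComponents_of_spectral [CompactSpace X] [QuasiSeparatedSpace X]
    (hB : HasCompactOpenBasis X) : T2Space (ConnectedComponents X) := by
  refine ⟨fun a b hab => ?_⟩
  obtain ⟨x, rfl⟩ := ConnectedComponents.surjective_coe a
  obtain ⟨y, rfl⟩ := ConnectedComponents.surjective_coe b
  have hy : y ∉ connectedComponent x := by
    intro hy
    apply hab
    rw [ConnectedComponents.coe_eq_coe']
    exact connectedComponent_eq hy ▸ mem_connectedComponent
  rw [connectedComponent_eq_iInter_isClopen_of_spectral hB x] at hy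
  simp only [Set.mem_iInter, not_forall] at hy
  obtain ⟨⟨Z, hZ, hxZ⟩, hyZ⟩ := hy
  refine ⟨((↑) : X → ConnectedComponents X) '' Z, ((↑) : X → ConnectedComponents X) '' Zᶜ,
    (isClopen_image_mk_of_isClopen hZ).2, (isClopen_image_mk_of_isClopen hZ.compl).2,
    ⟨x, hxZ, rfl⟩, ⟨y, hyZ, rfl⟩, ?_⟩
  rw [Set.disjoint_left]
  rintro _ ⟨z, hz, rfl⟩ ⟨w, hw, hwz⟩
  have : z ∈ ((↑) : X → ConnectedComponents X) ⁻¹' (((↑) : X → ConnectedComponents X) '' Zᶜ) :=
    ⟨w, hw, hwz⟩
  rw [preimage_image_mk_of_isClopen hZ.compl] at this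
  exact this hz

/-- A continuous map between spectral spaces inducing a bijection on clopen subsets induces a homeomorphism on
connected components. -/
theorem isHomeomorph_connectedComponentsMap_of_clopen {Y : Type*} [TopologicalSpace Y]
    [CompactSpace X] [QuasiSeparatedSpace X] [CompactSpace Y] [QuasiSeparatedSpace Y]
    (hBX : HasCompactOpenBasis X) (hBY : HasCompactOpenBasis Y) {f : X → Y} (hf : Continuous f)
    (h1 : ∀ W : Set X, IsClopen W → ∃ V : Set Y, IsClopen V ∧ f ⁻¹' V = W)
    (h2 : ∀ V : Set Y, IsClopen V → f ⁻¹' V = ∅ → V = ∅) :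
    IsHomeomorph hf.connectedComponentsMap := by
  haveI := t2Space_connectedComponents_of_spectral hBY
  rw [isHomeomorph_iff_continuous_bijective]
  refine ⟨hf.connectedComponentsMap_continuous, ?_, ?_⟩
  · -- injective
    intro a b hab
    obtain ⟨x, rfl⟩ := ConnectedComponents.surjective_coe a
    obtain ⟨y, rfl⟩ := ConnectedComponents.surjective_coe b
    by_contra hne
    have hy : y ∉ connectedComponent x := by
      intro hy
      apply hne
      rw [ConnectedComponents.coe_eq_coe']
      exact connectedComponent_eq hy ▸ mem_connectedComponent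
    rw [connectedComponent_eq_iInter_isClopen_of_spectral hBX x] at hy
    simp only [Set.mem_iInter, not_forall] at hy
    obtain ⟨⟨Z, hZ, hxZ⟩, hyZ⟩ := hy
    obtain ⟨V, hV, hVZ⟩ := h1 Z hZ
    have hfx : f x ∈ V := by
      have : x ∈ f ⁻¹' V := hVZ ▸ hxZ
      exact this
    have hfy : f y ∉ V := by
      intro hc
      have : y ∈ f ⁻¹' V := hc
      rw [hVZ] at this
      exact hyZ this
    rw [Continuous.connectedComponentsMap_mk, Continuous.connectedComponentsMap_mk,
      ConnectedComponents.coe_eq_coe'] at hab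
    have hab' : f y ∈ connectedComponent (f x) := by
      rw [← connectedComponent_eq hab]
      exact mem_connectedComponent
    exact hfy (hV.connectedComponent_subset hfx hab')
  · -- surjective
    intro b
    obtain ⟨y, rfl⟩ := ConnectedComponents.surjective_coe b
    -- the family of closed sets `f ⁻¹' V`, `V` clopen containing `y`, has the finite intersection property
    have hne : (Set.univ ∩ ⋂ V : { V : Set Y // IsClopen V ∧ y ∈ V }, f ⁻¹' (V : Set Y)).Nonempty := by
      apply IsCompact.inter_iInter_nonempty isCompact_univ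
        (fun V : { V : Set Y // IsClopen V ∧ y ∈ V } => f ⁻¹' (V : Set Y))
        (fun V => V.2.1.1.preimage hf)
      intro s
      by_contra hempty
      rw [Set.not_nonempty_iff_eq_empty] at hempty
      have hVs : IsClopen (⋂ i ∈ s, ((i : { V : Set Y // IsClopen V ∧ y ∈ V }) : Set Y)) :=
        isClopen_biInter_finset fun i _ => i.2.1
      have : f ⁻¹' (⋂ i ∈ s, ((i : { V : Set Y // IsClopen V ∧ y ∈ V }) : Set Y)) = ∅ := by
        rw [← hempty, Set.univ_inter, Set.preimage_iInter₂]
      have h0 := h2 _ hVs this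
      have hy : y ∈ (⋂ i ∈ s, ((i : { V : Set Y // IsClopen V ∧ y ∈ V }) : Set Y)) :=
        Set.mem_iInter₂.mpr fun i _ => i.2.2
      rw [h0] at hy
      exact hy
    obtain ⟨x, -, hx⟩ := hne
    refine ⟨(x : ConnectedComponents X), ?_⟩
    rw [Continuous.connectedComponentsMap_mk, ConnectedComponents.coe_eq_coe']
    have : f x ∈ connectedComponent y := by
      rw [connectedComponent_eq_iInter_isClopen_of_spectral hBY y]
      exact Set.mem_iInter.mpr fun V => Set.mem_iInter.mp hx V
    exact this

end Spectral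

section Schemes



lemma hasCompactOpenBasis_scheme (X : Scheme.{u}) : HasCompactOpenBasis X := by
  intro x U hU hxU
  obtain ⟨V, hV, hxV, hVU⟩ := exists_isAffineOpen_mem_and_subset (x := x) (U := ⟨U, hU⟩) hxU
  exact ⟨V, V.2, hV.isCompact, hxV, hVU⟩

/-- The inclusion of a clopen subscheme is finite étale. -/
lemma prop_ι_of_isClosed {X : Scheme.{u}} (W : X.Opens) (hW : IsClosed (W : Set X)) :
    FEt.prop W.ι := by
  haveI : IsClosedImmersion W.ι := by
    apply IsClosedImmersion.of_isPreimmersion
    rw [Scheme.Opens.range_ι]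
    exact hW
  exact ⟨inferInstance, inferInstance⟩

/-- The finite étale cover given by a clopen subscheme. -/
noncomputable def clopenObj {X : Scheme.{u}} (W : X.Opens) (hW : IsClosed (W : Set X)) : FEt.Cat X :=
  MorphismProperty.Over.mk ⊤ W.ι (prop_ι_of_isClosed W hW)

/-- The image of a finite étale morphism is clopen. -/
lemma isClopen_range_of_prop {X : Scheme.{u}} (T : FEt.Cat X) : IsClopen (Set.range T.hom) := by
  haveI : IsFinite T.hom := T.prop.1
  haveI : Etale T.hom := T.prop.2
  exact ⟨T.hom.isClosedMap.isClosed_range, T.hom.isOpenMap.isOpen_range⟩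

/-- Range of the structure map of a restriction. -/
lemma range_restrict_obj_hom {X Y : Scheme.{u}} (f : X ⟶ Y) (T : FEt.Cat Y) :
    Set.range ((FEt.restrict f).obj T).hom = f ⁻¹' Set.range T.hom := by
  show Set.range (pullback.snd T.hom f) = _
  exact Scheme.Pullback.range_snd T.hom f

/-- Isomorphic objects have the same range. -/
lemma range_hom_eq_of_iso {X : Scheme.{u}} {T T' : FEt.Cat X} (e : T ≅ T') :
    Set.range T.hom = Set.range T'.hom := by
  apply Subset.antisymm
  · rintro _ ⟨t, rfl⟩
    refine ⟨e.hom.left t, ?_⟩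
    rw [← Scheme.Hom.comp_apply, Over.w e.hom.hom]
  · rintro _ ⟨t, rfl⟩
    refine ⟨e.inv.left t, ?_⟩
    rw [← Scheme.Hom.comp_apply, Over.w e.inv.hom]

/-- Existence of a morphism gives inclusion of ranges. -/
lemma range_hom_subset_of_hom {X : Scheme.{u}} {T T' : FEt.Cat X} (e : T ⟶ T') :
    Set.range T.hom ⊆ Set.range T'.hom := by
  rintro _ ⟨t, rfl⟩
  refine ⟨e.left t, ?_⟩
  rw [← Scheme.Hom.comp_apply, Over.w e.hom]



lemma range_clopenObj_hom {X : Scheme.{u}} (W : X.Opens) (hW : IsClosed (W : Set X)) :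
    Set.range (clopenObj W hW).hom = (W : Set X) := by
  show Set.range W.ι = _
  exact Scheme.Opens.range_ι W

/-- If restriction of finite étale covers along `f` is full and essentially surjective, `f` induces a homeomorphism
on connected components (for qcqs schemes). -/
theorem isHomeomorph_connectedComponentsMap_of_restrict {X Y : Scheme.{u}}
    [CompactSpace X] [QuasiSeparatedSpace X] [CompactSpace Y] [QuasiSeparatedSpace Y]
    (f : X ⟶ Y) [(FEt.restrict f).Full] [(FEt.restrict f).EssSurj] :
    IsHomeomorph f.continuous.connectedComponentsMap := by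
  apply isHomeomorph_connectedComponentsMap_of_clopen (hasCompactOpenBasis_scheme X)
    (hasCompactOpenBasis_scheme Y) f.continuous
  · intro W hW
    let W' : X.Opens := ⟨W, hW.2⟩
    let T := (FEt.restrict f).objPreimage (clopenObj W' hW.1)
    let e : (FEt.restrict f).obj T ≅ clopenObj W' hW.1 := (FEt.restrict f).objObjPreimageIso _
    refine ⟨Set.range T.hom, isClopen_range_of_prop T, ?_⟩
    rw [← range_restrict_obj_hom, range_hom_eq_of_iso e, range_clopenObj_hom]
    rfl
  · intro V hV hfV
    let V' : Y.Opens := ⟨V, hV.2⟩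
    let A : FEt.Cat Y := clopenObj V' hV.1
    let B : FEt.Cat Y := clopenObj (⊥ : Y.Opens) isClosed_empty
    have hA : Set.range ((FEt.restrict f).obj A).hom = ∅ := by
      rw [range_restrict_obj_hom, range_clopenObj_hom]
      exact hfV
    haveI : IsEmpty ((FEt.restrict f).obj A).left := by
      rw [Set.range_eq_empty_iff] at hA
      exact hA
    let a : ((FEt.restrict f).obj A).left ⟶ ((FEt.restrict f).obj B).left :=
      (isInitialOfIsEmpty (X := ((FEt.restrict f).obj A).left)).to _
    have ha : a ≫ ((FEt.restrict f).obj B).hom = ((FEt.restrict f).obj A).hom :=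
      (isInitialOfIsEmpty (X := ((FEt.restrict f).obj A).left)).hom_ext _ _
    let φ : (FEt.restrict f).obj A ⟶ (FEt.restrict f).obj B :=
      MorphismProperty.Over.homMk a ha trivial
    have hsub := range_hom_subset_of_hom ((FEt.restrict f).preimage φ)
    rw [range_clopenObj_hom, range_clopenObj_hom] at hsub
    exact Set.subset_empty_iff.mp hsub

end Schemes

end Groth.Agent.Lib.Helper2
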