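import Mathlib
import Groth.Prelude.Def_FEt
import Groth.Agent.Lib.Helper69.Rigid
import Groth.Agent.Lib.Helper2.SpectralPi0
import Groth.Agent.Lib.Helper2.FEtNormalExt
import Groth.Agent.Lib.Helper2.HartshorneConnGlobal

/-!
# Full faithfulness of `FEt.restrict` from a correspondence of clopen subsets (graph + rank argument)

* `eq_of_comp_eq_of_clopen`, `faithful_restrict_of_clopen`: faithfulness when every clopen of a cover containing the
  image of its restriction is everything.
* `isOpenImmersion_and_isClosedImmersion_of_section`: sections of finite étale morphisms are clopen immersions.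
* `exists_extension_of_clopen`: the graph of a morphism between restrictions descends to a clopen subscheme of the
  product which has rank one over the source (uses Mathlib's `Scheme.Hom.finrank`), hence is a graph.
* `full_faithful_restrict_of_clopen`.
* `clopen_correspondence_of_connectedComponents_bijective`,
  `full_faithful_restrict_of_connectedComponents_bijective` (= S14461).
-/

set_option linter.style.haveILetI false

universe u
open CategoryTheory CategoryTheory.Limits AlgebraicGeometry TopologicalSpace Opposite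

namespace Groth.Agent.Lib.Helper2

open Groth.Agent.Lib.Helper69 in
/-- Two `Y`-morphisms to a separated unramified `Y`-scheme which agree after precomposition with `ξ` agree, provided
every clopen subset of the source containing the image of `ξ` is everything. -/
theorem eq_of_comp_eq_of_clopen {T X Y W : Scheme.{u}} (p : X ⟶ Y) [IsSeparated p]
    [IsOpenImmersion (pullback.diagonal p)]
    (f g : T ⟶ X) (h : f ≫ p = g ≫ p) (ξ : W ⟶ T)
    (hd : ∀ C : Set T, IsClopen C → Set.range ξ ⊆ C → C = Set.univ)
    (hξ : ξ ≫ f = ξ ≫ g) : f = g := by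
  let X' : Over Y := Over.mk (f ≫ p)
  let Y' : Over Y := Over.mk p
  let U' : Over Y := Over.mk (ξ ≫ f ≫ p)
  let f' : X' ⟶ Y' := Over.homMk f
  let g' : X' ⟶ Y' := Over.homMk g h.symm
  let ξ' : U' ⟶ X' := Over.homMk ξ
  have : IsSeparated Y'.hom := ‹_›
  have : IsOpenImmersion (pullback.diagonal Y'.hom) := ‹_›
  have hopen : IsOpenImmersion (equalizer.ι f' g').left := isOpenImmersion_equalizer_ι_left f' g'
  have hclosed : IsClosedImmersion (equalizer.ι f' g').left := inferInstance
  have hfac : (equalizer.lift ξ' (by ext1; exact hξ) : U' ⟶ equalizer f' g').left ≫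
      (equalizer.ι f' g').left = ξ := by
    rw [← Over.comp_left, equalizer.lift_ι]; rfl
  have hsurj : Function.Surjective (equalizer.ι f' g').left := by
    rw [← Set.range_eq_univ]
    have hclopen : IsClopen (Set.range (equalizer.ι f' g').left) :=
      ⟨(Scheme.Hom.isClosedEmbedding _).isClosed_range, (Scheme.Hom.isOpenEmbedding _).isOpen_range⟩
    apply hd _ hclopen
    rintro _ ⟨w, rfl⟩
    refine ⟨(equalizer.lift ξ' (by ext1; exact hξ) : U' ⟶ equalizer f' g').left w, ?_⟩
    rw [← Scheme.Hom.comp_apply, hfac]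
  have : IsIso (equalizer.ι f' g').left :=
    (isIso_iff_isOpenImmersion_and_surjective _).mpr ⟨hopen, ⟨hsurj⟩⟩
  rw [← cancel_epi (equalizer.ι f' g').left]
  exact congr($(equalizer.condition f' g').left)

/-- Faithfulness of restriction from a clopen condition. -/
theorem faithful_restrict_of_clopen {X' X : Scheme.{u}} (i : X' ⟶ X)
    (hb : ∀ (Y : FEt.Cat X) (C : Set Y.left), IsClopen C →
      Set.range (pullback.fst Y.hom i) ⊆ C → C = Set.univ) :
    (FEt.restrict i).Faithful := by
  constructor
  intro A B φ ψ hφψ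
  have hBfin : IsFinite B.hom := B.prop.1
  have hBet : Etale B.hom := B.prop.2
  have h1 : pullback.fst A.hom i ≫ φ.left = pullback.fst A.hom i ≫ ψ.left := by
    have := congrArg (fun k => k.left ≫ pullback.fst B.hom i) hφψ
    simp only [FEt.restrict, MorphismProperty.Over.pullback_map_left] at this
    exact (pullback.lift_fst _ _ _).symm.trans (this.trans (pullback.lift_fst _ _ _))
  have key : φ.left = ψ.left :=
    eq_of_comp_eq_of_clopen B.hom φ.left ψ.left
      (by rw [MorphismProperty.Over.w, MorphismProperty.Over.w]) (pullback.fst A.hom i) (hb A) h1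
  ext
  exact key

/-- A section of a finite étale morphism is an open and closed immersion. -/
theorem isOpenImmersion_and_isClosedImmersion_of_section {A B : Scheme.{u}} (q : A ⟶ B) [IsFinite q] [Etale q]
    (γ : B ⟶ A) (hγ : γ ≫ q = 𝟙 B) : IsOpenImmersion γ ∧ IsClosedImmersion γ := by
  have h1 : Etale (γ ≫ q) := by rw [hγ]; infer_instance
  have h2 : IsClosedImmersion (γ ≫ q) := by rw [hγ]; infer_instance
  have hγet : Etale γ := MorphismProperty.of_postcomp (W := @Etale) (W' := @Etale) γ q inferInstance h1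
  have hγcl : IsClosedImmersion γ :=
    MorphismProperty.of_postcomp (W := @IsClosedImmersion) (W' := @IsSeparated) γ q inferInstance h2
  have hmono : Mono γ := mono_of_mono_fac hγ
  exact ⟨IsOpenImmersion.of_flat_of_mono γ, hγcl⟩

/-- Extension of morphisms of finite étale covers from a clopen correspondence (graph argument). -/
theorem exists_extension_of_clopen {X' X : Scheme.{u}} (i : X' ⟶ X) (Y Z : FEt.Cat X)
    (k : pullback Y.hom i ⟶ Z.left) (hk : k ≫ Z.hom = pullback.fst Y.hom i ≫ Y.hom)
    (hb : ∀ C : Set Y.left, IsClopen C → Set.range (pullback.fst Y.hom i) ⊆ C → C = Set.univ)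
    (ha : ∀ (T : FEt.Cat X) (C' : Set ↥(pullback T.hom i)), IsClopen C' →
      ∃ C : Set T.left, IsClopen C ∧ (pullback.fst T.hom i) ⁻¹' C = C') :
    ∃ h₀ : Y.left ⟶ Z.left, h₀ ≫ Z.hom = Y.hom ∧ pullback.fst Y.hom i ≫ h₀ = k := by
  have hYfin : IsFinite Y.hom := Y.prop.1
  have hYet : Etale Y.hom := Y.prop.2
  have hZfin : IsFinite Z.hom := Z.prop.1
  have hZet : Etale Z.hom := Z.prop.2
  let P := pullback Y.hom Z.hom
  let π₁ : P ⟶ Y.left := pullback.fst Y.hom Z.hom
  let π₂ : P ⟶ Z.left := pullback.snd Y.hom Z.hom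
  have hπ : π₁ ≫ Y.hom = π₂ ≫ Z.hom := pullback.condition
  let T : FEt.Cat X := MorphismProperty.Over.mk ⊤ (π₁ ≫ Y.hom) ⟨inferInstance, inferInstance⟩
  let Y' := pullback Y.hom i
  let a : Y' ⟶ Y.left := pullback.fst Y.hom i
  let b : Y' ⟶ X' := pullback.snd Y.hom i
  have hab : a ≫ Y.hom = b ≫ i := pullback.condition
  let γ₀ : Y' ⟶ P := pullback.lift a k hk.symm
  have hγ₀1 : γ₀ ≫ π₁ = a := pullback.lift_fst _ _ _
  have hγ₀2 : γ₀ ≫ π₂ = k := pullback.lift_snd _ _ _
  let T' := pullback (π₁ ≫ Y.hom) i
  let aT : T' ⟶ P := pullback.fst (π₁ ≫ Y.hom) i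
  let bT : T' ⟶ X' := pullback.snd (π₁ ≫ Y.hom) i
  have haTbT : aT ≫ π₁ ≫ Y.hom = bT ≫ i := pullback.condition
  let γ : Y' ⟶ T' := pullback.lift γ₀ b (by
    rw [← Category.assoc, hγ₀1, hab])
  have hγ1 : γ ≫ aT = γ₀ := pullback.lift_fst _ _ _
  have hγ2 : γ ≫ bT = b := pullback.lift_snd _ _ _
  let qT : T' ⟶ Y' := pullback.lift (aT ≫ π₁) bT (by rw [Category.assoc, haTbT])
  have hqT1 : qT ≫ a = aT ≫ π₁ := pullback.lift_fst _ _ _
  have hqT2 : qT ≫ b = bT := pullback.lift_snd _ _ _
  have hγq : γ ≫ qT = 𝟙 Y' := by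
    apply pullback.hom_ext
    · rw [Category.assoc, hqT1, ← Category.assoc, hγ1, hγ₀1, Category.id_comp]
    · rw [Category.assoc, hqT2, hγ2, Category.id_comp]
  -- `qT` is a base change of `π₁`
  have sq : IsPullback aT qT π₁ a := by
    have outer : IsPullback (qT ≫ b) aT i (π₁ ≫ Y.hom) := by
      rw [hqT2]
      exact (IsPullback.of_hasPullback (π₁ ≫ Y.hom) i).flip
    have right : IsPullback b a i Y.hom := (IsPullback.of_hasPullback Y.hom i).flip
    exact (IsPullback.of_right outer hqT1 right).flip
  have hqTfin : IsFinite qT := MorphismProperty.of_isPullback (P := @IsFinite) sq inferInstance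
  have hqTet : Etale qT := MorphismProperty.of_isPullback (P := @Etale) sq inferInstance
  obtain ⟨hγo, hγc⟩ := isOpenImmersion_and_isClosedImmersion_of_section qT γ hγq
  have hclopen : IsClopen (Set.range γ) :=
    ⟨γ.isClosedEmbedding.isClosed_range, γ.isOpenEmbedding.isOpen_range⟩
  obtain ⟨C, hC, hCγ⟩ := ha T (Set.range γ) hclopen
  have hCγ' : aT ⁻¹' C = Set.range γ := hCγ
  let G : P.Opens := ⟨C, hC.2⟩
  have hGprop : FEt.prop G.ι := prop_ι_of_isClosed G hC.1
  have hGfin : IsFinite G.ι := hGprop.1
  let ρ : (G : Scheme.{u}) ⟶ Y.left := G.ι ≫ π₁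
  have hγ₀C : Set.range γ₀ ⊆ Set.range G.ι := by
    rw [Scheme.Opens.range_ι]
    rintro _ ⟨y', rfl⟩
    have : γ y' ∈ aT ⁻¹' C := hCγ' ▸ ⟨y', rfl⟩
    have h2 : aT (γ y') = γ₀ y' := by rw [← Scheme.Hom.comp_apply, hγ1]
    rw [← h2]
    exact this
  let g₀ : Y' ⟶ G := IsOpenImmersion.lift G.ι γ₀ hγ₀C
  have hg₀ : g₀ ≫ G.ι = γ₀ := IsOpenImmersion.lift_fac _ _ _
  have hg₀ρ : g₀ ≫ ρ = a := by rw [← Category.assoc, hg₀, hγ₀1]
  -- the base change of `ρ` along `a` is an isomorphism
  have hiso : IsIso (pullback.snd ρ a) := by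
    let s : Y' ⟶ pullback ρ a := pullback.lift g₀ (𝟙 Y') (by rw [hg₀ρ, Category.id_comp])
    have hs1 : s ≫ pullback.fst ρ a = g₀ := pullback.lift_fst _ _ _
    have hs2 : s ≫ pullback.snd ρ a = 𝟙 Y' := pullback.lift_snd _ _ _
    have hcond : pullback.fst ρ a ≫ ρ = pullback.snd ρ a ≫ a := pullback.condition
    have hm : (pullback.fst ρ a ≫ G.ι) ≫ π₁ ≫ Y.hom = (pullback.snd ρ a ≫ b) ≫ i := by
      have e1 : (pullback.fst ρ a ≫ G.ι) ≫ π₁ ≫ Y.hom = (pullback.fst ρ a ≫ ρ) ≫ Y.hom := by
        simp only [ρ, Category.assoc]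
      rw [e1, hcond, Category.assoc, hab, Category.assoc]
    let m : pullback ρ a ⟶ T' := pullback.lift (pullback.fst ρ a ≫ G.ι) (pullback.snd ρ a ≫ b) hm
    have hm1 : m ≫ aT = pullback.fst ρ a ≫ G.ι := pullback.lift_fst _ _ _
    have hm2 : m ≫ bT = pullback.snd ρ a ≫ b := pullback.lift_snd _ _ _
    have hmrange : Set.range m ⊆ Set.range γ := by
      rintro _ ⟨w, rfl⟩
      rw [← hCγ']
      change aT (m w) ∈ C
      rw [← Scheme.Hom.comp_apply, hm1, Scheme.Hom.comp_apply]
      exact (pullback.fst ρ a w).2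
    let m' : pullback ρ a ⟶ Y' := IsOpenImmersion.lift γ m hmrange
    have hm' : m' ≫ γ = m := IsOpenImmersion.lift_fac _ _ _
    have hmq : m ≫ qT = pullback.snd ρ a := by
      apply pullback.hom_ext
      · rw [Category.assoc, hqT1, ← Category.assoc, hm1, Category.assoc]
        exact hcond
      · rw [Category.assoc, hqT2, hm2]
    have hm'snd : m' = pullback.snd ρ a := by
      rw [← hmq, ← hm', Category.assoc, hγq, Category.comp_id]
    have hsndγ : pullback.snd ρ a ≫ γ = m := by rw [← hm'snd, hm']
    have hinv : pullback.snd ρ a ≫ s = 𝟙 _ := by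
      apply pullback.hom_ext
      · rw [Category.assoc, hs1, Category.id_comp, ← cancel_mono G.ι, Category.assoc, hg₀, ← hγ1,
          ← Category.assoc, hsndγ, hm1]
      · rw [Category.assoc, hs2, Category.comp_id, Category.id_comp]
    exact ⟨s, hinv, hs2⟩
  -- rank one
  have hρfin : IsFinite ρ := inferInstance
  have hGet : Etale G.ι := inferInstance
  have hρet : Etale ρ := inferInstance
  have hrank : ∀ y' : Y', Scheme.Hom.finrank ρ (a y') = 1 := by
    intro y'
    rw [← Scheme.Hom.finrank_pullback_snd ρ a y', Scheme.Hom.finrank_eq_one_of_isIso]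
    rfl
  have hS : {y : Y.left | Scheme.Hom.finrank ρ y = 1} = Set.univ := by
    apply hb _ ((Scheme.Hom.isLocallyConstant_finrank ρ).isClopen_fiber 1)
    rintro _ ⟨y', rfl⟩
    exact hrank y'
  have hρiso : IsIso ρ := by
    rw [Scheme.Hom.isIso_iff_finrank_eq]
    funext y
    have : y ∈ {y : Y.left | Scheme.Hom.finrank ρ y = 1} := hS ▸ Set.mem_univ y
    exact this
  refine ⟨inv ρ ≫ G.ι ≫ π₂, ?_, ?_⟩
  · rw [Category.assoc, Category.assoc, ← hπ, IsIso.inv_comp_eq]
    simp only [ρ, Category.assoc]
  · have : a ≫ inv ρ = g₀ := by rw [IsIso.comp_inv_eq, hg₀ρ]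
    rw [← Category.assoc, this, ← Category.assoc, hg₀, hγ₀2]

/-- Full faithfulness of restriction of finite étale covers from a clopen correspondence. -/
theorem full_faithful_restrict_of_clopen {X' X : Scheme.{u}} (i : X' ⟶ X)
    (hb : ∀ (Y : FEt.Cat X) (C : Set Y.left), IsClopen C →
      Set.range (pullback.fst Y.hom i) ⊆ C → C = Set.univ)
    (ha : ∀ (T : FEt.Cat X) (C' : Set ↥(pullback T.hom i)), IsClopen C' →
      ∃ C : Set T.left, IsClopen C ∧ (pullback.fst T.hom i) ⁻¹' C = C') :
    (FEt.restrict i).Full ∧ (FEt.restrict i).Faithful :=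
  ⟨full_restrict_of_exists_extension i
    (fun Y Z k hk => exists_extension_of_clopen i Y Z k hk (hb Y) ha),
    faithful_restrict_of_clopen i hb⟩

/-- The clopen correspondence from a bijection on connected components (components open in the target). -/
theorem clopen_correspondence_of_connectedComponents_bijective {A B : Type*} [TopologicalSpace A]
    [TopologicalSpace B] {φ : A → B} (hφ : Continuous φ)
    (hopen : ∀ y : B, IsOpen (connectedComponent y))
    (hbij : Function.Bijective hφ.connectedComponentsMap) :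
    (∀ C : Set B, IsClopen C → Set.range φ ⊆ C → C = Set.univ) ∧
    (∀ C' : Set A, IsClopen C' → ∃ C : Set B, IsClopen C ∧ φ ⁻¹' C = C') := by
  have hsurj : ∀ y : B, ∃ x : A, y ∈ connectedComponent (φ x) := by
    intro y
    obtain ⟨c, hc⟩ := hbij.2 (y : ConnectedComponents B)
    obtain ⟨x, rfl⟩ := ConnectedComponents.surjective_coe c
    rw [Continuous.connectedComponentsMap_mk, ConnectedComponents.coe_eq_coe'] at hc
    refine ⟨x, ?_⟩
    rw [← connectedComponent_eq hc]
    exact mem_connectedComponent
  have hinj : ∀ x x' : A, φ x ∈ connectedComponent (φ x') → x ∈ connectedComponent x' := by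
    intro x x' hxx'
    have : hφ.connectedComponentsMap (x : ConnectedComponents A) =
        hφ.connectedComponentsMap (x' : ConnectedComponents A) := by
      rw [Continuous.connectedComponentsMap_mk, Continuous.connectedComponentsMap_mk,
        ConnectedComponents.coe_eq_coe']
      exact hxx'
    exact ConnectedComponents.coe_eq_coe'.mp (hbij.1 this)
  constructor
  · intro C hC hrange
    rw [Set.eq_univ_iff_forall]
    intro y
    obtain ⟨x, hx⟩ := hsurj y
    exact hC.connectedComponent_subset (hrange ⟨x, rfl⟩) hx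
  · intro C' hC'
    let C : Set B := ⋃ c ∈ C', connectedComponent (φ c)
    let D : Set B := ⋃ c ∈ C'ᶜ, connectedComponent (φ c)
    have hCopen : IsOpen C := isOpen_biUnion fun c _ => hopen _
    have hDopen : IsOpen D := isOpen_biUnion fun c _ => hopen _
    have hCD : Cᶜ = D := by
      ext y
      constructor
      · intro hy
        obtain ⟨x, hx⟩ := hsurj y
        refine Set.mem_iUnion₂.mpr ⟨x, ?_, hx⟩
        intro hxC'
        exact hy (Set.mem_iUnion₂.mpr ⟨x, hxC', hx⟩)
      · intro hy hyC
        obtain ⟨x, hxC', hx⟩ := Set.mem_iUnion₂.mp hy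
        obtain ⟨c, hcC', hc⟩ := Set.mem_iUnion₂.mp hyC
        -- φ x and φ c lie in the same component
        have h1 : connectedComponent (φ x) = connectedComponent (φ c) :=
          (connectedComponent_eq hx).trans (connectedComponent_eq hc).symm
        have h2 : φ x ∈ connectedComponent (φ c) := h1 ▸ mem_connectedComponent
        have h3 : x ∈ connectedComponent c := hinj x c h2
        exact hxC' (hC'.connectedComponent_subset hcC' h3)
    refine ⟨C, ⟨?_, hCopen⟩, ?_⟩
    · rw [← isOpen_compl_iff, hCD]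
      exact hDopen
    · ext x
      constructor
      · intro hx
        obtain ⟨c, hcC', hc⟩ := Set.mem_iUnion₂.mp hx
        exact hC'.connectedComponent_subset hcC' (hinj x c hc)
      · intro hx
        exact Set.mem_iUnion₂.mpr ⟨x, hx, mem_connectedComponent⟩

/-- `S14461`: restriction along `i` is fully faithful if base change along `i` induces bijections on `π₀` of all finite
étale covers (locally Noetherian base). -/
theorem full_faithful_restrict_of_connectedComponents_bijective {X X₀ : Scheme.{u}} [IsLocallyNoetherian X]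
    (i : X₀ ⟶ X)
    (h : ∀ Y : FEt.Cat X, Function.Bijective (pullback.fst Y.hom i).continuous.connectedComponentsMap) :
    (FEt.restrict i).Full ∧ (FEt.restrict i).Faithful := by
  have key : ∀ Y : FEt.Cat X,
      (∀ C : Set Y.left, IsClopen C → Set.range (pullback.fst Y.hom i) ⊆ C → C = Set.univ) ∧
      (∀ C' : Set ↥(pullback Y.hom i), IsClopen C' →
        ∃ C : Set Y.left, IsClopen C ∧ (pullback.fst Y.hom i) ⁻¹' C = C') := by
    intro Y
    have hYfin : IsFinite Y.hom := Y.prop.1
    have hYet : Etale Y.hom := Y.prop.2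
    haveI hXN : IsLocallyNoetherian ((Functor.fromPUnit X).obj Y.right) := ‹IsLocallyNoetherian X›
    haveI : IsLocallyNoetherian Y.left := LocallyOfFiniteType.isLocallyNoetherian Y.hom
    exact clopen_correspondence_of_connectedComponents_bijective (pullback.fst Y.hom i).continuous
      (fun y => isOpen_connectedComponent_of_isLocallyNoetherian Y.left y) (h Y)
  exact full_faithful_restrict_of_clopen i (fun Y => (key Y).1) (fun T => (key T).2)

end Groth.Agent.Lib.Helper2
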