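import Mathlib
import Groth.Agent.Lib.Helper87.GeomUnibranch
import Groth.Agent.Lib.Helper61.GU5
import Groth.Agent.Lib.Helper47.RegularLocalFlat
import Groth.Agent.Lib.Helper24.SmoothNormal

/-!
# Étale-local tools for purity of the branch locus (helper2)

* `isEtaleAt_of_flat_of_isUnramifiedAt`: local étale criterion (flat + unramified at a prime).
* `isEtaleAt_of_isUnramifiedAt_of_normal`: unramified over a normal base (with injective local homomorphism) is étale.
* `formallyUnramified_of_faithfullyFlat_formallyEtale`: descent of unramifiedness along a faithfully flat formally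
  étale map.
* `formallyEtale_faithfullyFlat_localization`, `map_maximalIdeal_of_etale`, `height_eq_of_etale`,
  `isRegularLocalRing_iff_of_etale`, `isIntegrallyClosed_of_etale`: local behaviour of étale algebras.
* `exists_finite_etale_model`: étale localization of a quasi-finite point to a finite algebra with a unique prime over
  the base point.
-/

set_option autoImplicit false
universe u

open TensorProduct IsLocalRing Algebra

namespace Groth.Agent.Lib.Helper2.PurityBranch

local notation "𝓀[" R "]" => ResidueField R

attribute [local instance] Algebra.FormallyEtale.of_formallyUnramified_of_field in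
/-- **Local étale criterion**: an algebra of finite presentation which is unramified at a prime `q` and whose local
ring at `q` is flat over the base is étale at `q`. -/
theorem isEtaleAt_of_flat_of_isUnramifiedAt {R S : Type u} [CommRing R] [CommRing S] [Algebra R S]
    [Algebra.FinitePresentation R S] (p : Ideal R) [p.IsPrime] (q : Ideal S) [q.IsPrime]
    [q.LiesOver p] [Algebra.IsUnramifiedAt R q]
    (hflat : Module.Flat R (Localization.AtPrime q)) : Algebra.IsEtaleAt R q := by
  let Rp := Localization.AtPrime p
  let Sp := Localization (algebraMapSubmonoid S p.primeCompl)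
  let Sq := Localization.AtPrime q
  let := Localization.AtPrime.algebraOfLiesOver p q
  let f : Sp →ₐ[S] Sq := IsLocalization.liftAlgHom (M := algebraMapSubmonoid S p.primeCompl)
        (f := Algebra.ofId _ _) (by
      rintro ⟨_, x, hx, rfl⟩
      simpa using! IsLocalization.map_units (M := q.primeCompl) Sq ⟨algebraMap _ _ x,
        by simp_all [q.over_def p]⟩)
  algebraize [f.toRingHom]
  have : IsScalarTower R Sp Sq := .to₁₃₄ _ S _ _
  have : IsScalarTower Rp Sp Sq := .of_algebraMap_eq' <| by
    apply IsLocalization.ringHom_ext p.primeCompl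
    simp only [RingHom.comp_assoc, ← IsScalarTower.algebraMap_eq]
  have : IsLocalization (algebraMapSubmonoid Sp q.primeCompl) Sq :=
    .isLocalization_of_submonoid_le _ _ (algebraMapSubmonoid S p.primeCompl) _
    (by rintro _ ⟨x, hx, rfl⟩; simp_all [q.over_def p])
  have : FinitePresentation Rp Sp := by
    have : Algebra.IsPushout R Rp S Sp :=
      .symm <| Algebra.isPushout_of_isLocalization p.primeCompl _ _ _
    exact .equiv (Algebra.IsPushout.equiv R Rp S Sp)
  have hfl : Module.Flat Rp Sq := (Module.flat_iff_of_isLocalization Rp p.primeCompl Sq).mpr hflat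
  have hun : FormallyUnramified Rp Sq := inferInstance
  have : EssFiniteType Rp Sq := .of_comp R _ _
  have : FormallySmooth 𝓀[Rp] (𝓀[Rp] ⊗[Rp] Sq) := by
    have : FormallyUnramified 𝓀[Rp] (𝓀[Rp] ⊗[Rp] Sq) := inferInstance
    have : EssFiniteType 𝓀[Rp] (𝓀[Rp] ⊗[Rp] Sq) := inferInstance
    have : FormallyEtale 𝓀[Rp] (𝓀[Rp] ⊗[Rp] Sq) := inferInstance
    infer_instance
  have hsm : FormallySmooth Rp Sq := FormallySmooth.of_formallySmooth_residueField_tensor
    (R := Rp) (S := Sq) (P := Sp) (algebraMapSubmonoid _ q.primeCompl)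
  have : FormallySmooth R Sq := .comp R Rp Sq
  exact Algebra.FormallyEtale.of_formallyUnramified_and_formallySmooth

/-- **Unramified over a normal base implies étale**: if `S` is of finite presentation over `R`, unramified at `q`,
the local ring `R_p` is a normal domain and `R_p → S_q` is injective, then `S` is étale over `R` at `q`. -/
theorem isEtaleAt_of_isUnramifiedAt_of_normal {R S : Type u} [CommRing R] [CommRing S] [Algebra R S]
    [Algebra.FinitePresentation R S] (p : Ideal R) [p.IsPrime] (q : Ideal S) [q.IsPrime]
    [q.LiesOver p] [Algebra.IsUnramifiedAt R q]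
    [IsDomain (Localization.AtPrime p)] [IsIntegrallyClosed (Localization.AtPrime p)]
    (hinj : Function.Injective (Localization.localRingHom p q (algebraMap R S) (q.over_def p))) :
    Algebra.IsEtaleAt R q := by
  let Rp := Localization.AtPrime p
  let Sq := Localization.AtPrime q
  let := Localization.AtPrime.algebraOfLiesOver p q
  have hgu : CAlg2.IsGeomUnibranch Rp :=
    Groth.Agent.Lib.Helper87.isGeomUnibranch_of_isIntegrallyClosed Rp
  have : EssFiniteType Rp Sq := .of_comp R _ _
  have : FormallyUnramified Rp Sq := inferInstance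
  have hloc : IsLocalHom (algebraMap Rp Sq) := by
    change IsLocalHom (Localization.localRingHom p q (algebraMap R S) _)
    infer_instance
  have hfl : Module.Flat Rp Sq :=
    Groth.Agent.Lib.Helper61.GU.flat_of_formallyUnramified_of_injective_of_isGeomUnibranch Rp Sq hgu hinj
  have hflat : Module.Flat R Sq := (Module.flat_iff_of_isLocalization Rp p.primeCompl Sq).mp hfl
  exact isEtaleAt_of_flat_of_isUnramifiedAt p q hflat

/-- Descent of formal unramifiedness along a faithfully flat formally étale map. -/
theorem formallyUnramified_of_faithfullyFlat_formallyEtale (R A B : Type u) [CommRing R] [CommRing A]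
    [CommRing B] [Algebra R A] [Algebra A B] [Algebra R B] [IsScalarTower R A B]
    [Algebra.FormallyEtale A B] [Module.FaithfullyFlat A B] [Algebra.FormallyUnramified R B] :
    Algebra.FormallyUnramified R A := by
  constructor
  have e := KaehlerDifferential.tensorKaehlerEquivOfFormallyEtale R A B
  have h1 : Subsingleton (B ⊗[A] Ω[A⁄R]) := e.toEquiv.subsingleton
  exact (Module.FaithfullyFlat.subsingleton_tensorProduct_iff_right A B).mp h1

/-- The local ring of an étale algebra at a prime is formally étale and faithfully flat over the local ring of the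
base at the prime below. -/
theorem formallyEtale_faithfullyFlat_localization {A B : Type u} [CommRing A] [CommRing B] [Algebra A B]
    [Algebra.Etale A B] (𝔞 : Ideal A) [𝔞.IsPrime] (𝔟 : Ideal B) [𝔟.IsPrime] [𝔟.LiesOver 𝔞] :
    letI := Localization.AtPrime.algebraOfLiesOver 𝔞 𝔟
    Algebra.FormallyEtale (Localization.AtPrime 𝔞) (Localization.AtPrime 𝔟) ∧
      Module.FaithfullyFlat (Localization.AtPrime 𝔞) (Localization.AtPrime 𝔟) := by
  letI := Localization.AtPrime.algebraOfLiesOver 𝔞 𝔟
  have h1 : Algebra.FormallyEtale A (Localization.AtPrime 𝔟) :=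
    Algebra.FormallyEtale.comp A B (Localization.AtPrime 𝔟)
  have h2 : Algebra.FormallyEtale (Localization.AtPrime 𝔞) (Localization.AtPrime 𝔟) :=
    .localization_base 𝔞.primeCompl
  refine ⟨h2, ?_⟩
  have hflB : Module.Flat A B := inferInstance
  have hfl1 : Module.Flat A (Localization.AtPrime 𝔟) := inferInstance
  have hfl : Module.Flat (Localization.AtPrime 𝔞) (Localization.AtPrime 𝔟) :=
    (Module.flat_iff_of_isLocalization (Localization.AtPrime 𝔞) 𝔞.primeCompl
      (Localization.AtPrime 𝔟)).mpr hfl1
  have hloc : IsLocalHom (algebraMap (Localization.AtPrime 𝔞) (Localization.AtPrime 𝔟)) := by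
    change IsLocalHom (Localization.localRingHom 𝔞 𝔟 (algebraMap A B) _)
    infer_instance
  exact Module.FaithfullyFlat.of_flat_of_isLocalHom

/-- For an étale algebra, the maximal ideal of the local ring upstairs is generated by the one downstairs. -/
theorem map_maximalIdeal_of_etale {A B : Type u} [CommRing A] [CommRing B] [Algebra A B]
    [Algebra.Etale A B] (𝔞 : Ideal A) [𝔞.IsPrime] (𝔟 : Ideal B) [𝔟.IsPrime] [𝔟.LiesOver 𝔞] :
    letI := Localization.AtPrime.algebraOfLiesOver 𝔞 𝔟
    (maximalIdeal (Localization.AtPrime 𝔞)).map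
      (algebraMap (Localization.AtPrime 𝔞) (Localization.AtPrime 𝔟)) =
        maximalIdeal (Localization.AtPrime 𝔟) := by
  letI := Localization.AtPrime.algebraOfLiesOver 𝔞 𝔟
  obtain ⟨h1, h2⟩ := formallyEtale_faithfullyFlat_localization 𝔞 𝔟
  have hloc : IsLocalHom (algebraMap (Localization.AtPrime 𝔞) (Localization.AtPrime 𝔟)) := by
    change IsLocalHom (Localization.localRingHom 𝔞 𝔟 (algebraMap A B) _)
    infer_instance
  have : EssFiniteType (Localization.AtPrime 𝔞) (Localization.AtPrime 𝔟) := .of_comp A _ _
  exact Algebra.FormallyUnramified.map_maximalIdeal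

/-- Étale maps preserve heights of primes. -/
theorem height_eq_of_etale {A B : Type u} [CommRing A] [CommRing B] [Algebra A B] [IsNoetherianRing A]
    [Algebra.Etale A B] (𝔞 : Ideal A) [𝔞.IsPrime] (𝔟 : Ideal B) [𝔟.IsPrime] [𝔟.LiesOver 𝔞] :
    𝔟.height = 𝔞.height := by
  letI := Localization.AtPrime.algebraOfLiesOver 𝔞 𝔟
  obtain ⟨h1, h2⟩ := formallyEtale_faithfullyFlat_localization 𝔞 𝔟
  have hloc : IsLocalHom (algebraMap (Localization.AtPrime 𝔞) (Localization.AtPrime 𝔟)) := by
    change IsLocalHom (Localization.localRingHom 𝔞 𝔟 (algebraMap A B) _)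
    infer_instance
  have hB : IsNoetherianRing B := Algebra.FiniteType.isNoetherianRing A B
  have h := Groth.Agent.Lib.Helper47.ringKrullDim_eq_of_flat_of_map_maximalIdeal
    (R := Localization.AtPrime 𝔞) (S := Localization.AtPrime 𝔟) (map_maximalIdeal_of_etale 𝔞 𝔟)
  rw [IsLocalization.AtPrime.ringKrullDim_eq_height 𝔟, IsLocalization.AtPrime.ringKrullDim_eq_height 𝔞]
    at h
  exact_mod_cast h

/-- Regularity ascends and descends along étale maps. -/
theorem isRegularLocalRing_iff_of_etale {A B : Type u} [CommRing A] [CommRing B] [Algebra A B]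
    [IsNoetherianRing A] [Algebra.Etale A B] (𝔞 : Ideal A) [𝔞.IsPrime] (𝔟 : Ideal B) [𝔟.IsPrime]
    [𝔟.LiesOver 𝔞] :
    IsRegularLocalRing (Localization.AtPrime 𝔞) ↔ IsRegularLocalRing (Localization.AtPrime 𝔟) := by
  letI := Localization.AtPrime.algebraOfLiesOver 𝔞 𝔟
  obtain ⟨h1, h2⟩ := formallyEtale_faithfullyFlat_localization 𝔞 𝔟
  have hloc : IsLocalHom (algebraMap (Localization.AtPrime 𝔞) (Localization.AtPrime 𝔟)) := by
    change IsLocalHom (Localization.localRingHom 𝔞 𝔟 (algebraMap A B) _)
    infer_instance
  have hB : IsNoetherianRing B := Algebra.FiniteType.isNoetherianRing A B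
  exact Groth.Agent.Lib.Helper47.isRegularLocalRing_iff_of_flat_of_map_maximalIdeal
    (R := Localization.AtPrime 𝔞) (S := Localization.AtPrime 𝔟) (map_maximalIdeal_of_etale 𝔞 𝔟)

/-- Normality ascends along étale maps. -/
theorem isIntegrallyClosed_of_etale {A B : Type u} [CommRing A] [CommRing B] [Algebra A B]
    [Algebra.Etale A B] (𝔞 : Ideal A) [𝔞.IsPrime] (𝔟 : Ideal B) [𝔟.IsPrime] [𝔟.LiesOver 𝔞]
    (h : IsDomain (Localization.AtPrime 𝔞) ∧ IsIntegrallyClosed (Localization.AtPrime 𝔞)) :
    IsDomain (Localization.AtPrime 𝔟) ∧ IsIntegrallyClosed (Localization.AtPrime 𝔟) :=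
  Groth.Agent.Lib.Helper24.isIntegrallyClosed_atPrime_of_smooth A B 𝔞 𝔟 h

/-- **Finite étale-local model** of a quasi-finite point: an étale neighbourhood `R'` of `p` and an étale
neighbourhood `C` of `q` such that `C` is finite over `R'` and has a unique prime over the chosen prime of `R'`. -/
theorem exists_finite_etale_model (R S : Type u) [CommRing R] [CommRing S] [Algebra R S]
    [Algebra.FiniteType R S] (p : Ideal R) [p.IsPrime] (q : Ideal S) [q.IsPrime] [q.LiesOver p]
    [Algebra.QuasiFiniteAt R q] :
    ∃ (R' C : Type u) (_ : CommRing R') (_ : CommRing C) (_ : Algebra R R') (_ : Algebra R' C)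
      (_ : Algebra S C) (_ : Algebra R C) (_ : IsScalarTower R R' C) (_ : IsScalarTower R S C)
      (_ : Algebra.Etale R R') (_ : Algebra.Etale S C) (_ : Module.Finite R' C)
      (P : Ideal R') (_ : P.IsPrime) (_ : P.LiesOver p) (P'' : Ideal C) (_ : P''.IsPrime)
      (_ : P''.LiesOver P) (_ : P''.LiesOver q), P.primesOver C = {P''} := by
  obtain ⟨R', _, _, _, P, _, _, e, he, P', _, _, hP'q, heP', -, hfin, huniq⟩ :=
    Algebra.exists_etale_isIdempotentElem_forall_liesOver_eq p q
  let T := R' ⊗[R] S
  letI : Algebra S T := Algebra.TensorProduct.rightAlgebra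
  let C := Localization.Away e
  -- `T` is étale over `S`
  let eT : S ⊗[R] R' ≃ₐ[S] T := { __ := Algebra.TensorProduct.comm R S R', commutes' _ := rfl }
  haveI : Algebra.Etale S T := Algebra.Etale.of_equiv eT
  haveI : Algebra.Etale T C := Algebra.Etale.of_isLocalizationAway e
  haveI : Algebra.Etale S C := Algebra.Etale.comp S T C
  have hdisj : Disjoint (Submonoid.powers e : Set T) (P' : Set T) := by
    rw [Ideal.disjoint_powers_iff_notMem_of_isPrime]
    exact heP'
  let P'' : Ideal C := P'.map (algebraMap T C)
  have hP''prime : P''.IsPrime :=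
    IsLocalization.isPrime_of_isPrime_disjoint (Submonoid.powers e) C P' inferInstance hdisj
  have hcomap : P''.comap (algebraMap T C) = P' :=
    IsLocalization.comap_map_of_isPrime_disjoint (Submonoid.powers e) C inferInstance hdisj
  have hP''T : P''.LiesOver P' := ⟨hcomap.symm⟩
  have hP''P : P''.LiesOver P := Ideal.LiesOver.trans P'' P' P
  have hP'q' : P'.LiesOver q := ⟨hP'q.symm⟩
  have hP''q : P''.LiesOver q := Ideal.LiesOver.trans P'' P' q
  refine ⟨R', C, inferInstance, inferInstance, inferInstance, inferInstance, inferInstance,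
    inferInstance, inferInstance, inferInstance, inferInstance, inferInstance, hfin, P, inferInstance,
    inferInstance, P'', hP''prime, hP''P, hP''q, ?_⟩
  ext Q
  simp only [Ideal.primesOver, Set.mem_setOf_eq, Set.mem_singleton_iff]
  constructor
  · rintro ⟨hQ, hQP⟩
    let Q' : Ideal T := Q.comap (algebraMap T C)
    have hQ'prime : Q'.IsPrime := Ideal.comap_isPrime _ _
    have hQQ' : Q.LiesOver Q' := ⟨rfl⟩
    have hQ'P : Q'.LiesOver P := by
      constructor
      rw [hQP.over]
      ext x
      simp only [Ideal.under, Ideal.mem_comap, Q']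
      rw [IsScalarTower.algebraMap_apply R' T C]
    have heQ' : e ∉ Q' := by
      intro h
      have hu : IsUnit (algebraMap T C e) := IsLocalization.Away.algebraMap_isUnit e
      exact hQ.ne_top (Ideal.eq_top_of_isUnit_mem _ h hu)
    have hQ'eq : Q' = P' := huniq Q' hQ'prime hQ'P heQ'
    have h1 : Q'.map (algebraMap T C) = Q := IsLocalization.map_comap (Submonoid.powers e) C Q
    rw [← h1, hQ'eq]
  · rintro rfl
    exact ⟨hP''prime, hP''P⟩

end Groth.Agent.Lib.Helper2.PurityBranch
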