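import Mathlib
import Groth.Prelude.Def_FEt
import Groth.Agent.Lib.Helper2.FEtClopenFull
import Groth.Agent.Lib.Helper2.PurityBranchTools
import Groth.Agent.Lib.Helper2.DenseOpenGen

/-!
# Fullness of restriction of finite étale covers to a dense open with normal complement (helper2)

* `isNormalDomain_stalk_of_etale`: normality of stalks ascends along étale morphisms.
* `exists_generic_of_isDomain_stalk`: generizations of a point with domain local ring are directed.
* `denseRange_of_isPullback`: étale base change preserves dense range.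
* `exists_extension_of_dense_of_normal`, `exists_extension_of_isPullback`: morphisms of finite étale
  covers of a locally Noetherian scheme `S` extend from a dense open `S'` when the local rings of
  `S` off `S'` are normal domains (clopen correspondence + graph argument of `FEtClopenFull`).
-/

set_option autoImplicit false
set_option linter.style.haveILetI false
set_option linter.unusedSectionVars false
universe u

open CategoryTheory CategoryTheory.Limits AlgebraicGeometry TopologicalSpace

namespace Groth.Agent.Lib.Helper2.FEtDenseFull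

open Groth.Agent.Lib.Helper2.DenseOpenGen

set_option backward.defeqAttrib.useBackward true in
set_option backward.isDefEq.respectTransparency false in
/-- Normality of stalks ascends along étale morphisms of schemes. -/
theorem isNormalDomain_stalk_of_etale {T S : Scheme.{u}} (g : T ⟶ S) [Etale g] (t : T)
    (h : IsDomain (S.presheaf.stalk (g t)) ∧ IsIntegrallyClosed (S.presheaf.stalk (g t))) :
    IsDomain (T.presheaf.stalk t) ∧ IsIntegrallyClosed (T.presheaf.stalk t) := by
  obtain ⟨_, ⟨U, hU, rfl⟩, hxU, -⟩ :=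
    S.isBasis_affineOpens.exists_subset_of_mem_open (Set.mem_univ (g t)) isOpen_univ
  obtain ⟨_, ⟨V, hV, rfl⟩, hxV, hVU⟩ :=
    T.isBasis_affineOpens.exists_subset_of_mem_open hxU (U.2.preimage g.continuous)
  have hφ : (g.appLE U V hVU).hom.Etale :=
    HasRingHomProperty.appLE @Etale g inferInstance ⟨U, hU⟩ ⟨V, hV⟩ hVU
  algebraize [(g.appLE U V hVU).hom]
  let p := (hU.primeIdealOf ⟨g t, hVU hxV⟩).asIdeal
  let q := (hV.primeIdealOf ⟨t, hxV⟩).asIdeal
  have : q.LiesOver p :=
    ⟨congr($(IsAffineOpen.comap_primeIdealOf_appLE U hU V hV hVU hxV).1).symm⟩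
  letI := S.presheaf.algebra_section_stalk ⟨g t, hVU hxV⟩
  haveI := hU.isLocalization_stalk ⟨g t, hVU hxV⟩
  letI := T.presheaf.algebra_section_stalk ⟨t, hxV⟩
  haveI := hV.isLocalization_stalk ⟨t, hxV⟩
  let eS : S.presheaf.stalk (g t) ≃ₐ[Γ(S, U)] Localization.AtPrime p :=
    IsLocalization.algEquiv p.primeCompl _ _
  let eT : T.presheaf.stalk t ≃ₐ[Γ(T, V)] Localization.AtPrime q :=
    IsLocalization.algEquiv q.primeCompl _ _
  have h1 := Groth.Agent.Lib.Helper24.isDomain_and_isIntegrallyClosed_of_ringEquiv eS.toRingEquiv h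
  have h2 := Groth.Agent.Lib.Helper2.PurityBranch.isIntegrallyClosed_of_etale p q h1
  exact Groth.Agent.Lib.Helper24.isDomain_and_isIntegrallyClosed_of_ringEquiv eT.symm.toRingEquiv h2

/-- The generizations of a point whose local ring is a domain are directed. -/
theorem exists_generic_of_isDomain_stalk {T : Scheme.{u}} (w : T) [IsDomain (T.presheaf.stalk w)] :
    ∃ g : T, ∀ y : T, y ⤳ w → g ⤳ y := by
  let b : Spec (T.presheaf.stalk w) := ⟨⊥, Ideal.isPrime_bot⟩
  refine ⟨T.fromSpecStalk w b, fun y hy => ?_⟩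
  have hy' : y ∈ Set.range (T.fromSpecStalk w) := by
    rw [Scheme.range_fromSpecStalk]
    exact hy
  obtain ⟨p, rfl⟩ := hy'
  have hbp : b ⤳ p := (PrimeSpectrum.le_iff_specializes b p).mp bot_le
  exact hbp.map (T.fromSpecStalk w).continuous

/-- The base change of a morphism with dense range along an étale morphism has dense range. -/
theorem denseRange_of_isPullback {S' S Y Y' : Scheme.{u}} (i : S' ⟶ S) (hi : DenseRange i)
    (y : Y ⟶ S) [Etale y] (a : Y' ⟶ Y) (y' : Y' ⟶ S') (hpb : IsPullback a y' y i) :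
    DenseRange a := by
  have h1 : Dense (y ⁻¹' Set.range i) := Dense.preimage hi y.isOpenMap
  refine h1.mono ?_
  rintro p ⟨v, hv⟩
  obtain ⟨z, hz, -⟩ := Scheme.exists_preimage_of_isPullback hpb p v hv.symm
  exact ⟨z, hz⟩

/-- **Extension of morphisms of finite étale covers from a dense open subscheme** of a locally
Noetherian scheme whose local rings off the open are normal domains. -/
theorem exists_extension_of_dense_of_normal {S' S : Scheme.{u}} [IsLocallyNoetherian S]
    (i : S' ⟶ S) [IsOpenImmersion i] (hi : DenseRange i)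
    (hn : ∀ s : S, s ∉ Set.range i →
      IsDomain (S.presheaf.stalk s) ∧ IsIntegrallyClosed (S.presheaf.stalk s))
    (Y Z : FEt.Cat S)
    (k : pullback Y.hom i ⟶ Z.left) (hk : k ≫ Z.hom = pullback.fst Y.hom i ≫ Y.hom) :
    ∃ h₀ : Y.left ⟶ Z.left, h₀ ≫ Z.hom = Y.hom ∧ pullback.fst Y.hom i ≫ h₀ = k := by
  have hYet : Etale Y.hom := Y.prop.2
  refine exists_extension_of_clopen i Y Z k hk ?_ ?_
  · intro C hC hsub
    have hd : DenseRange (pullback.fst Y.hom i) :=
      denseRange_of_isPullback i hi Y.hom _ _ (IsPullback.of_hasPullback Y.hom i)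
    have : Dense C := hd.mono hsub
    rw [← hC.1.closure_eq]
    exact this.closure_eq
  · intro T C' hC'
    have hTfin : IsFinite T.hom := T.prop.1
    have hTet : Etale T.hom := T.prop.2
    haveI : IsLocallyNoetherian ((Functor.fromPUnit S).obj T.right) :=
      inferInstanceAs (IsLocallyNoetherian S)
    haveI : IsLocallyNoetherian T.left := LocallyOfFiniteType.isLocallyNoetherian T.hom
    let j : pullback T.hom i ⟶ T.left := pullback.fst T.hom i
    have hjopen : Topology.IsOpenEmbedding j := j.isOpenEmbedding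
    have hd : DenseRange j :=
      denseRange_of_isPullback i hi T.hom _ _ (IsPullback.of_hasPullback T.hom i)
    have hrange : Set.range j = T.hom ⁻¹' Set.range i := Scheme.Pullback.range_fst T.hom i
    have hdir : ∀ w : T.left, w ∉ Set.range j → ∃ g : T.left, ∀ y : T.left, y ⤳ w → g ⤳ y := by
      intro w hw
      have hw' : T.hom w ∉ Set.range i := by
        intro h
        exact hw (hrange ▸ h)
      have hdom := (isNormalDomain_stalk_of_etale T.hom w (hn _ hw')).1
      exact @exists_generic_of_isDomain_stalk T.left w hdom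
    have h1 : IsOpen (j '' C') := hjopen.isOpenMap _ hC'.2
    have h2 : Set.range j \ j '' C' = j '' C'ᶜ := by
      ext w
      constructor
      · rintro ⟨⟨v, rfl⟩, hv⟩
        exact ⟨v, fun h => hv ⟨v, h, rfl⟩, rfl⟩
      · rintro ⟨v, hv, rfl⟩
        refine ⟨⟨v, rfl⟩, ?_⟩
        rintro ⟨v', hv', h⟩
        exact hv (hjopen.injective h ▸ hv')
    have h3 : IsOpen (Set.range j \ j '' C') := by
      rw [h2]
      exact hjopen.isOpenMap _ hC'.1.isOpen_compl
    obtain ⟨C, hC, hCeq⟩ := exists_isClopen_of_directed_generizations (Set.range j) hd hdir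
      (j '' C') h1 h3 (Set.image_subset_range _ _)
    refine ⟨C, hC, ?_⟩
    ext v
    constructor
    · intro hv
      have : j v ∈ C ∩ Set.range j := ⟨hv, ⟨v, rfl⟩⟩
      rw [hCeq] at this
      obtain ⟨v', hv', h⟩ := this
      exact hjopen.injective h ▸ hv'
    · intro hv
      have : j v ∈ C ∩ Set.range j := by
        rw [hCeq]
        exact ⟨v, hv, rfl⟩
      exact this.1

/-- `exists_extension_of_dense_of_normal` for an arbitrary pullback square. -/
theorem exists_extension_of_isPullback {S' S : Scheme.{u}} [IsLocallyNoetherian S]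
    (i : S' ⟶ S) [IsOpenImmersion i] (hi : DenseRange i)
    (hn : ∀ s : S, s ∉ Set.range i →
      IsDomain (S.presheaf.stalk s) ∧ IsIntegrallyClosed (S.presheaf.stalk s))
    {Y Z Y' : Scheme.{u}} (y : Y ⟶ S) (z : Z ⟶ S) [IsFinite y] [Etale y] [IsFinite z] [Etale z]
    (a : Y' ⟶ Y) (y' : Y' ⟶ S') (hpb : IsPullback a y' y i) (k : Y' ⟶ Z) (hk : k ≫ z = a ≫ y) :
    ∃ h : Y ⟶ Z, h ≫ z = y ∧ a ≫ h = k := by
  let Yc : FEt.Cat S := MorphismProperty.Over.mk ⊤ y ⟨inferInstance, inferInstance⟩
  let Zc : FEt.Cat S := MorphismProperty.Over.mk ⊤ z ⟨inferInstance, inferInstance⟩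
  let e : Y' ≅ pullback y i := hpb.isoPullback
  have he1 : e.hom ≫ pullback.fst y i = a := hpb.isoPullback_hom_fst
  have he1' : e.inv ≫ a = pullback.fst y i := hpb.isoPullback_inv_fst
  obtain ⟨h₀, hw, hh₀⟩ := exists_extension_of_dense_of_normal i hi hn Yc Zc (e.inv ≫ k) (by
    change (e.inv ≫ k) ≫ z = pullback.fst y i ≫ y
    rw [Category.assoc, hk, ← Category.assoc, he1'])
  let h₁ : Y ⟶ Z := h₀
  have hw' : h₁ ≫ z = y := hw
  have hh₀' : pullback.fst y i ≫ h₁ = e.inv ≫ k := hh₀
  refine ⟨h₁, hw', ?_⟩
  rw [← he1, Category.assoc, hh₀', Iso.hom_inv_id_assoc]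

end Groth.Agent.Lib.Helper2.FEtDenseFull
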