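import Mathlib
import Groth.Prelude.Def_FEt
import Groth.Agent.Lib.Helper69.UnivHomeo

/-!
# Zariski gluing of finite étale lifts along a universal homeomorphism (helper2)

`LiftsFEt g` is the concrete form of essential surjectivity of `FEt.restrict g`.  Main result:
`liftsFEt_of_affineOpens`: if `f : X' ⟶ X` is integral, universally injective and surjective and
finite étale covers lift along `X' ×_X U ⟶ U` for every affine open `U` of `X`, then they lift
along `f`.  The lifts over the affine opens are glued by Mathlib's relative gluing over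
`X.directedAffineCover`; the transition maps come from helper69's descent of morphisms along
universal homeomorphisms (`exists_desc_of_universalHomeo`) and are unique by
`eq_of_comp_eq_of_denseRange`.
-/

set_option autoImplicit false
set_option linter.style.haveILetI false
set_option linter.unusedSectionVars false
universe u

open CategoryTheory CategoryTheory.Limits AlgebraicGeometry

namespace Groth.Agent.Lib.Helper2.FEtGlue

open Groth.Agent.Lib.Helper69

/-- Concrete form of essential surjectivity of `FEt.restrict g`. -/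
def LiftsFEt {T' T : Scheme.{u}} (g : T' ⟶ T) : Prop :=
  ∀ (Z' : Scheme.{u}) (z' : Z' ⟶ T'), IsFinite z' → Etale z' →
    ∃ (Z : Scheme.{u}) (z : Z ⟶ T) (a : Z' ⟶ Z), IsFinite z ∧ Etale z ∧ IsPullback a z' z g

section Glue

variable {X' X : Scheme.{u}} (f : X' ⟶ X) [IsIntegralHom f] [UniversallyInjective f] [Surjective f]
  {Z' : Scheme.{u}} (z' : Z' ⟶ X') [IsFinite z'] [Etale z']

/-- `X' ×_X U`. -/
noncomputable abbrev XU (U : X.affineOpens) : Scheme.{u} := pullback f U.1.ι

/-- `X' ×_X U ⟶ U`. -/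
noncomputable abbrev fU (U : X.affineOpens) : XU f U ⟶ (U.1 : Scheme.{u}) := pullback.snd f U.1.ι

instance (U : X.affineOpens) : UniversallyInjective (fU f U) :=
  MorphismProperty.pullback_snd (P := @UniversallyInjective) _ _ inferInstance

instance (U : X.affineOpens) : Surjective (fU f U) :=
  MorphismProperty.pullback_snd (P := @Surjective) _ _ inferInstance

instance (U : X.affineOpens) : IsIntegralHom (fU f U) :=
  MorphismProperty.pullback_snd (P := @IsIntegralHom) _ _ inferInstance

/-- `Z' ×_X U`. -/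
noncomputable abbrev ZU' (U : X.affineOpens) : Scheme.{u} := pullback (z' ≫ f) U.1.ι

/-- `Z' ×_X U ⟶ X' ×_X U`. -/
noncomputable def zU' (U : X.affineOpens) : ZU' f z' U ⟶ XU f U :=
  pullback.lift (pullback.fst _ _ ≫ z') (pullback.snd _ _)
    (by rw [Category.assoc]; exact pullback.condition)

@[reassoc (attr := simp)]
lemma zU'_fst (U : X.affineOpens) :
    zU' f z' U ≫ pullback.fst f U.1.ι = pullback.fst (z' ≫ f) U.1.ι ≫ z' :=
  pullback.lift_fst _ _ _

@[reassoc (attr := simp)]
lemma zU'_snd (U : X.affineOpens) :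
    zU' f z' U ≫ pullback.snd f U.1.ι = pullback.snd (z' ≫ f) U.1.ι :=
  pullback.lift_snd _ _ _

lemma isPullback_zU' (U : X.affineOpens) :
    IsPullback (pullback.fst (z' ≫ f) U.1.ι) (zU' f z' U) z' (pullback.fst f U.1.ι) := by
  have h1 : IsPullback (zU' f z' U ≫ pullback.snd f U.1.ι) (pullback.fst (z' ≫ f) U.1.ι)
      U.1.ι (z' ≫ f) := by
    rw [zU'_snd]
    exact (IsPullback.of_hasPullback (z' ≫ f) U.1.ι).flip
  exact (IsPullback.of_right h1 (zU'_fst f z' U) (IsPullback.of_hasPullback f U.1.ι).flip).flip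

instance (U : X.affineOpens) : IsFinite (zU' f z' U) :=
  MorphismProperty.of_isPullback (P := @IsFinite) (isPullback_zU' f z' U) ‹_›

instance (U : X.affineOpens) : Etale (zU' f z' U) :=
  MorphismProperty.of_isPullback (P := @Etale) (isPullback_zU' f z' U) ‹_›

/-- transition maps of `Z' ×_X U`. -/
noncomputable def jZ' {U V : X.affineOpens} (hUV : U ≤ V) : ZU' f z' U ⟶ ZU' f z' V :=
  pullback.map (z' ≫ f) U.1.ι (z' ≫ f) V.1.ι (𝟙 _) (X.homOfLE hUV) (𝟙 _) (by simp) (by simp)

@[reassoc (attr := simp)]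
lemma jZ'_fst {U V : X.affineOpens} (hUV : U ≤ V) :
    jZ' f z' hUV ≫ pullback.fst (z' ≫ f) V.1.ι = pullback.fst (z' ≫ f) U.1.ι :=
  (pullback.lift_fst _ _ _).trans (Category.comp_id _)

@[reassoc (attr := simp)]
lemma jZ'_snd {U V : X.affineOpens} (hUV : U ≤ V) :
    jZ' f z' hUV ≫ pullback.snd (z' ≫ f) V.1.ι = pullback.snd (z' ≫ f) U.1.ι ≫ X.homOfLE hUV :=
  pullback.lift_snd _ _ _

/-- transition maps of `X' ×_X U`. -/
noncomputable def jX' {U V : X.affineOpens} (hUV : U ≤ V) : XU f U ⟶ XU f V :=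
  pullback.map f U.1.ι f V.1.ι (𝟙 _) (X.homOfLE hUV) (𝟙 _) (by simp) (by simp)

@[reassoc (attr := simp)]
lemma jX'_fst {U V : X.affineOpens} (hUV : U ≤ V) :
    jX' f hUV ≫ pullback.fst f V.1.ι = pullback.fst f U.1.ι :=
  (pullback.lift_fst _ _ _).trans (Category.comp_id _)

@[reassoc (attr := simp)]
lemma jX'_snd {U V : X.affineOpens} (hUV : U ≤ V) :
    jX' f hUV ≫ pullback.snd f V.1.ι = pullback.snd f U.1.ι ≫ X.homOfLE hUV :=
  pullback.lift_snd _ _ _

lemma jZ'_zU' {U V : X.affineOpens} (hUV : U ≤ V) :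
    jZ' f z' hUV ≫ zU' f z' V = zU' f z' U ≫ jX' f hUV := by
  apply pullback.hom_ext <;> simp

lemma isPullback_jZ' {U V : X.affineOpens} (hUV : U ≤ V) :
    IsPullback (jZ' f z' hUV) (zU' f z' U) (zU' f z' V) (jX' f hUV) := by
  have h1 : IsPullback (jZ' f z' hUV ≫ pullback.fst (z' ≫ f) V.1.ι) (zU' f z' U) z'
      (jX' f hUV ≫ pullback.fst f V.1.ι) := by
    rw [jZ'_fst, jX'_fst]
    exact isPullback_zU' f z' U
  exact IsPullback.of_right h1 (jZ'_zU' f z' hUV) (isPullback_zU' f z' V)


variable (H : ∀ U : X.affineOpens, LiftsFEt (pullback.snd f U.1.ι))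

include H in
lemma exists_lift (U : X.affineOpens) :
    ∃ (Z : Scheme.{u}) (z : Z ⟶ (U.1 : Scheme.{u})) (a : ZU' f z' U ⟶ Z), IsFinite z ∧ Etale z ∧
      IsPullback a (zU' f z' U) z (fU f U) :=
  H U (ZU' f z' U) (zU' f z' U) inferInstance inferInstance

/-- chosen lift over `U`. -/
noncomputable def ZZ (U : X.affineOpens) : Scheme.{u} := (exists_lift f z' H U).choose

/-- its structure map. -/
noncomputable def zz (U : X.affineOpens) : ZZ f z' H U ⟶ (U.1 : Scheme.{u}) :=
  (exists_lift f z' H U).choose_spec.choose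

/-- the comparison map. -/
noncomputable def aa (U : X.affineOpens) : ZU' f z' U ⟶ ZZ f z' H U :=
  (exists_lift f z' H U).choose_spec.choose_spec.choose

instance (U : X.affineOpens) : IsFinite (zz f z' H U) :=
  (exists_lift f z' H U).choose_spec.choose_spec.choose_spec.1

instance (U : X.affineOpens) : Etale (zz f z' H U) :=
  (exists_lift f z' H U).choose_spec.choose_spec.choose_spec.2.1

lemma isPullback_aa (U : X.affineOpens) :
    IsPullback (aa f z' H U) (zU' f z' U) (zz f z' H U) (fU f U) :=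
  (exists_lift f z' H U).choose_spec.choose_spec.choose_spec.2.2

instance (U : X.affineOpens) : IsIntegralHom (aa f z' H U) :=
  MorphismProperty.of_isPullback (P := @IsIntegralHom) (isPullback_aa f z' H U).flip inferInstance

instance (U : X.affineOpens) : UniversallyInjective (aa f z' H U) :=
  MorphismProperty.of_isPullback (P := @UniversallyInjective) (isPullback_aa f z' H U).flip
    inferInstance

instance (U : X.affineOpens) : Surjective (aa f z' H U) :=
  MorphismProperty.of_isPullback (P := @Surjective) (isPullback_aa f z' H U).flip inferInstance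

@[reassoc]
lemma aa_zz (U : X.affineOpens) :
    aa f z' H U ≫ zz f z' H U = pullback.snd (z' ≫ f) U.1.ι := by
  rw [(isPullback_aa f z' H U).w, zU'_snd]

lemma exists_trans {U V : X.affineOpens} (hUV : U ≤ V) :
    ∃ m : ZZ f z' H U ⟶ ZZ f z' H V, m ≫ zz f z' H V = zz f z' H U ≫ X.homOfLE hUV ∧
      aa f z' H U ≫ m = jZ' f z' hUV ≫ aa f z' H V :=
  exists_desc_of_universalHomeo (aa f z' H U) (zz f z' H V) (zz f z' H U ≫ X.homOfLE hUV)
    (jZ' f z' hUV ≫ aa f z' H V) (by
      rw [Category.assoc, aa_zz, jZ'_snd, aa_zz_assoc])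

/-- transition maps between the chosen lifts. -/
noncomputable def trans {U V : X.affineOpens} (hUV : U ≤ V) : ZZ f z' H U ⟶ ZZ f z' H V :=
  (exists_trans f z' H hUV).choose

@[reassoc]
lemma trans_zz {U V : X.affineOpens} (hUV : U ≤ V) :
    trans f z' H hUV ≫ zz f z' H V = zz f z' H U ≫ X.homOfLE hUV :=
  (exists_trans f z' H hUV).choose_spec.1

@[reassoc]
lemma aa_trans {U V : X.affineOpens} (hUV : U ≤ V) :
    aa f z' H U ≫ trans f z' H hUV = jZ' f z' hUV ≫ aa f z' H V :=
  (exists_trans f z' H hUV).choose_spec.2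

lemma trans_unique {U V : X.affineOpens} (hUV : U ≤ V) (m : ZZ f z' H U ⟶ ZZ f z' H V)
    (hm : m ≫ zz f z' H V = zz f z' H U ≫ X.homOfLE hUV)
    (hm' : aa f z' H U ≫ m = jZ' f z' hUV ≫ aa f z' H V) : m = trans f z' H hUV :=
  eq_of_comp_eq_of_denseRange (zz f z' H V) m (trans f z' H hUV)
    (hm.trans (trans_zz f z' H hUV).symm) (aa f z' H U)
    (aa f z' H U).surjective.denseRange (hm'.trans (aa_trans f z' H hUV).symm)

lemma jZ'_rfl (U : X.affineOpens) : jZ' f z' (le_refl U) = 𝟙 _ := by
  apply pullback.hom_ext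
  · rw [jZ'_fst, Category.id_comp]
  · rw [jZ'_snd, Category.id_comp]
    have : X.homOfLE (le_refl U.1) = 𝟙 _ := Scheme.homOfLE_rfl X U.1
    erw [this, Category.comp_id]

lemma jZ'_comp {U V W : X.affineOpens} (hUV : U ≤ V) (hVW : V ≤ W) :
    jZ' f z' hUV ≫ jZ' f z' hVW = jZ' f z' (hUV.trans hVW) := by
  apply pullback.hom_ext
  · rw [Category.assoc, jZ'_fst, jZ'_fst, jZ'_fst]
  · rw [Category.assoc, jZ'_snd, jZ'_snd_assoc, jZ'_snd, Scheme.homOfLE_homOfLE]

/-- The functor of chosen lifts. -/
noncomputable def functor : X.directedAffineCover.I₀ ⥤ Scheme.{u} where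
  obj U := ZZ f z' H U
  map {U V} g := trans f z' H (leOfHom g)
  map_id U := (trans_unique f z' H _ (𝟙 _) (by
    rw [Category.id_comp]
    have : X.homOfLE (leOfHom (𝟙 U)) = 𝟙 _ := Scheme.homOfLE_rfl X U.1
    rw [this, Category.comp_id]) (by
    rw [Category.comp_id]
    have := jZ'_rfl f z' U
    erw [this, Category.id_comp])).symm
  map_comp {U V W} g h := (trans_unique f z' H _ (trans f z' H (leOfHom g) ≫ trans f z' H (leOfHom h))
    (by rw [Category.assoc, trans_zz, trans_zz_assoc, Scheme.homOfLE_homOfLE])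
    (by rw [aa_trans_assoc, aa_trans, ← Category.assoc, jZ'_comp])).symm

/-- The natural transformation to the affine opens. -/
noncomputable def natTrans :
    functor f z' H ⟶ X.directedAffineCover.functorOfLocallyDirected where
  app U := zz f z' H U
  naturality {_ _} g := trans_zz f z' H (leOfHom g)


lemma isPullback_trans {U V : X.affineOpens} (hUV : U ≤ V) :
    IsPullback (trans f z' H hUV) (zz f z' H U) (zz f z' H V) (X.homOfLE hUV) := by
  set j := X.homOfLE hUV with hj
  -- the pullback `P = U ×_V Z_V`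
  have hfin : IsFinite (pullback.fst j (zz f z' H V)) :=
    MorphismProperty.pullback_fst (P := @IsFinite) _ _ inferInstance
  have het : Etale (pullback.fst j (zz f z' H V)) :=
    MorphismProperty.pullback_fst (P := @Etale) _ _ inferInstance
  have hw : (zU' f z' U ≫ fU f U) ≫ j = (jZ' f z' hUV ≫ aa f z' H V) ≫ zz f z' H V := by
    rw [zU'_snd, Category.assoc, aa_zz, jZ'_snd]
  let a' : ZU' f z' U ⟶ pullback j (zz f z' H V) :=
    pullback.lift (zU' f z' U ≫ fU f U) (jZ' f z' hUV ≫ aa f z' H V) hw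
  have ha'1 : a' ≫ pullback.fst j (zz f z' H V) = zU' f z' U ≫ fU f U := pullback.lift_fst _ _ _
  have ha'2 : a' ≫ pullback.snd j (zz f z' H V) = jZ' f z' hUV ≫ aa f z' H V :=
    pullback.lift_snd _ _ _
  have hpb : IsPullback a' (zU' f z' U) (pullback.fst j (zz f z' H V)) (fU f U) := by
    have hout : IsPullback (a' ≫ pullback.snd j (zz f z' H V)) (zU' f z' U) (zz f z' H V)
        (fU f U ≫ j) := by
      rw [ha'2]
      have h2 : fU f U ≫ j = jX' f hUV ≫ fU f V := (jX'_snd f hUV).symm
      rw [h2]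
      exact (isPullback_jZ' f z' hUV).paste_horiz (isPullback_aa f z' H V)
    exact IsPullback.of_right hout ha'1 (IsPullback.of_hasPullback j (zz f z' H V)).flip
  haveI : IsIntegralHom a' :=
    MorphismProperty.of_isPullback (P := @IsIntegralHom) hpb.flip inferInstance
  haveI : UniversallyInjective a' :=
    MorphismProperty.of_isPullback (P := @UniversallyInjective) hpb.flip inferInstance
  haveI : Surjective a' :=
    MorphismProperty.of_isPullback (P := @Surjective) hpb.flip inferInstance
  obtain ⟨ψ, hψ1, hψ2⟩ := exists_desc_of_universalHomeo a' (zz f z' H U)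
    (pullback.fst j (zz f z' H V)) (aa f z' H U) (by rw [ha'1, (isPullback_aa f z' H U).w])
  let θ : ZZ f z' H U ⟶ pullback j (zz f z' H V) :=
    pullback.lift (zz f z' H U) (trans f z' H hUV) (trans_zz f z' H hUV).symm
  have hθ1 : θ ≫ pullback.fst j (zz f z' H V) = zz f z' H U := pullback.lift_fst _ _ _
  have hθ2 : θ ≫ pullback.snd j (zz f z' H V) = trans f z' H hUV := pullback.lift_snd _ _ _
  have haθ : aa f z' H U ≫ θ = a' := by
    apply pullback.hom_ext
    · rw [Category.assoc, hθ1, ha'1, (isPullback_aa f z' H U).w]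
    · rw [Category.assoc, hθ2, ha'2, aa_trans]
  have h1 : θ ≫ ψ = 𝟙 _ :=
    eq_of_comp_eq_of_denseRange (zz f z' H U) (θ ≫ ψ) (𝟙 _)
      (by rw [Category.assoc, hψ1, hθ1, Category.id_comp]) (aa f z' H U)
      (aa f z' H U).surjective.denseRange
      (by rw [← Category.assoc, haθ, hψ2, Category.comp_id])
  have h2 : ψ ≫ θ = 𝟙 _ :=
    eq_of_comp_eq_of_denseRange (pullback.fst j (zz f z' H V)) (ψ ≫ θ) (𝟙 _)
      (by rw [Category.assoc, hθ1, hψ1, Category.id_comp]) a' a'.surjective.denseRange
      (by rw [← Category.assoc, hψ2, haθ, Category.comp_id])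
  exact (IsPullback.of_iso_pullback ⟨(trans_zz f z' H hUV).symm⟩ ⟨θ, ψ, h1, h2⟩ hθ1 hθ2).flip

lemma equifibered : (natTrans f z' H).Equifibered := by
  intro U V g
  exact isPullback_trans f z' H (leOfHom g)

/-- The relative gluing datum. -/
noncomputable def gluingData : Scheme.Cover.RelativeGluingData X.directedAffineCover where
  functor := functor f z' H
  natTrans := natTrans f z' H
  equifibered := equifibered f z' H

/-- The glued scheme. -/
noncomputable def Y : Scheme.{u} := (gluingData f z' H).glued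

/-- Its structure map. -/
noncomputable def p : Y f z' H ⟶ X := (gluingData f z' H).toBase

/-- The inclusions of the pieces. -/
noncomputable def ιU (U : X.affineOpens) : ZZ f z' H U ⟶ Y f z' H :=
  colimit.ι (gluingData f z' H).functor U

instance (U : X.affineOpens) : IsOpenImmersion (ιU f z' H U) :=
  inferInstanceAs (IsOpenImmersion ((gluingData f z' H).cover.f U))

lemma isPullback_ιU (U : X.affineOpens) :
    IsPullback (zz f z' H U) (ιU f z' H U) U.1.ι (p f z' H) :=
  (gluingData f z' H).isPullback_natTrans_ι_toBase U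

@[reassoc]
lemma trans_ιU {U V : X.affineOpens} (hUV : U ≤ V) :
    trans f z' H hUV ≫ ιU f z' H V = ιU f z' H U :=
  colimit.w (gluingData f z' H).functor (homOfLE hUV)

lemma prop_p (P : MorphismProperty Scheme.{u}) [IsZariskiLocalAtTarget P]
    (hP : ∀ U : X.affineOpens, P (zz f z' H U)) : P (p f z' H) := by
  apply IsZariskiLocalAtTarget.of_openCover (P := P) X.directedAffineCover
  intro U
  have hpb := (isPullback_ιU f z' H U).flip
  have h1 : pullback.snd (p f z' H) U.1.ι = hpb.isoPullback.inv ≫ zz f z' H U := by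
    rw [Iso.eq_inv_comp]
    exact hpb.isoPullback_hom_snd
  change P (pullback.snd (p f z' H) U.1.ι)
  rw [h1]
  exact (MorphismProperty.cancel_left_of_respectsIso P _ _).mpr (hP U)

instance : IsFinite (p f z' H) := prop_p f z' H @IsFinite fun _ => inferInstance

instance : Etale (p f z' H) := prop_p f z' H @Etale fun _ => inferInstance

lemma aGlue_compat {U V : (X.directedAffineCover.pullback₁ (z' ≫ f)).I₀} (g : U ⟶ V) :
    Scheme.Cover.trans (X.directedAffineCover.pullback₁ (z' ≫ f)) g ≫ aa f z' H V ≫ ιU f z' H V =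
      aa f z' H U ≫ ιU f z' H U := by
  change jZ' f z' (leOfHom g) ≫ aa f z' H V ≫ ιU f z' H V = aa f z' H U ≫ ιU f z' H U
  rw [← aa_trans_assoc, trans_ιU]

/-- The glued comparison map. -/
noncomputable def aGlue : Z' ⟶ Y f z' H :=
  Scheme.OpenCover.glueMorphismsOfLocallyDirected (X.directedAffineCover.pullback₁ (z' ≫ f))
    (fun U => aa f z' H U ≫ ιU f z' H U) (fun g => aGlue_compat f z' H g)

@[reassoc]
lemma fst_aGlue (U : X.affineOpens) :
    pullback.fst (z' ≫ f) U.1.ι ≫ aGlue f z' H = aa f z' H U ≫ ιU f z' H U :=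
  Scheme.OpenCover.map_glueMorphismsOfLocallyDirected
    (X.directedAffineCover.pullback₁ (z' ≫ f)) (fun U => aa f z' H U ≫ ιU f z' H U)
    (fun g => aGlue_compat f z' H g) U

lemma aGlue_p : aGlue f z' H ≫ p f z' H = z' ≫ f := by
  apply (X.directedAffineCover.pullback₁ (z' ≫ f)).hom_ext
  intro U
  change pullback.fst (z' ≫ f) U.1.ι ≫ aGlue f z' H ≫ p f z' H =
    pullback.fst (z' ≫ f) U.1.ι ≫ z' ≫ f
  rw [fst_aGlue_assoc, ← (isPullback_ιU f z' H U).w, aa_zz_assoc, pullback.condition]

lemma isPullback_aa_aGlue (U : X.affineOpens) :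
    IsPullback (aa f z' H U) (pullback.fst (z' ≫ f) U.1.ι) (ιU f z' H U) (aGlue f z' H) := by
  apply IsOpenImmersion.isPullback
  · exact fst_aGlue f z' H U
  · have h1 : (ιU f z' H U).opensRange = p f z' H ⁻¹ᵁ U.1.ι.opensRange :=
      ((gluingData f z' H).toBase_preimage_eq_opensRange_ι U).symm
    rw [h1, ← Scheme.Hom.comp_preimage, aGlue_p]
    ext x
    simp only [TopologicalSpace.Opens.map_coe, Scheme.Hom.coe_opensRange]
    rw [IsOpenImmersion.range_pullbackFst]
    rfl

theorem isPullback_aGlue : IsPullback (aGlue f z' H) z' (p f z' H) f := by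
  refine Scheme.isPullback_of_openCover (aGlue f z' H) z' (p f z' H) f (gluingData f z' H).cover ?_
  intro U
  change IsPullback (pullback.snd (aGlue f z' H) (ιU f z' H U))
    (pullback.fst (aGlue f z' H) (ιU f z' H U) ≫ z') (ιU f z' H U ≫ p f z' H) f
  have hpb := (isPullback_aa_aGlue f z' H U).flip
  -- the pullback over `U`
  have h2 : IsPullback (aa f z' H U) (zU' f z' U ≫ pullback.fst f U.1.ι)
      (zz f z' H U ≫ U.1.ι) f :=
    (isPullback_aa f z' H U).paste_vert (IsPullback.of_hasPullback f U.1.ι).flip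
  rw [zU'_fst] at h2
  refine h2.of_iso hpb.isoPullback (Iso.refl _) (Iso.refl _) (Iso.refl _) ?_ ?_ ?_ ?_
  · rw [Iso.refl_hom, Category.comp_id, hpb.isoPullback_hom_snd]
  · rw [Iso.refl_hom, Category.comp_id, hpb.isoPullback_hom_fst_assoc]
  · rw [Iso.refl_hom, Category.comp_id, Iso.refl_hom, Category.id_comp,
      (isPullback_ιU f z' H U).w]
  · rw [Iso.refl_hom, Category.comp_id, Iso.refl_hom, Category.id_comp]

end Glue

/-- **Zariski gluing of finite étale lifts** along a universal homeomorphism: if finite étale covers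
lift over all affine opens of the target, they lift globally. -/
theorem liftsFEt_of_affineOpens {X' X : Scheme.{u}} (f : X' ⟶ X) [IsIntegralHom f]
    [UniversallyInjective f] [Surjective f]
    (H : ∀ U : X.affineOpens, LiftsFEt (pullback.snd f U.1.ι)) : LiftsFEt f := by
  intro Z' z' hfin het
  exact ⟨Y f z' H, p f z' H, aGlue f z' H, inferInstance, inferInstance, isPullback_aGlue f z' H⟩

end Groth.Agent.Lib.Helper2.FEtGlue
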