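import Mathlib
import Groth.Prelude.Def_FEt
import Groth.Agent.Lib.Helper3.IdemLift
import Groth.Agent.Lib.Helper3.FiniteEtalePairLift
import Groth.Agent.Lib.Helper2.FEtClopenFull

/-!
# Finite étale covers over a henselian pair (S0239)

* `exists_idempotent_basicOpen_inter_zeroLocus`: clopen subsets of `V(IB)` lift to `Spec B` (`B` finite over a henselian
  pair `(A, I)`; uses helper3's idempotent lifting).
* `clopen_correspondence_of_henselianPair`: for `T` finite over `Spec A`: clopens of `T` containing `T ×_A A/I` are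
  everything, and clopens of `T ×_A A/I` lift to `T`.
* `essSurj_restrict_of_henselianPair` (uses helper3's `exists_finite_etale_lift_of_pair`).
* `isEquivalence_restrict_of_henselianPair` (= S0239).
-/

set_option linter.style.haveILetI false

universe u
open CategoryTheory CategoryTheory.Limits AlgebraicGeometry TopologicalSpace Opposite TensorProduct

namespace Groth.Agent.Lib.Helper2

/-- Clopen subsets of `V(IB)` lift to clopen subsets of `Spec B`, `B` finite over a henselian pair `(A, I)`. -/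
theorem exists_idempotent_basicOpen_inter_zeroLocus {A : Type u} [CommRing A] (I : Ideal A) [HenselianRing A I]
    {B : Type u} [CommRing B] [Algebra A B] [Module.Finite A B] (S : Set (PrimeSpectrum B))
    (hS : S ⊆ PrimeSpectrum.zeroLocus (I.map (algebraMap A B) : Set B))
    (hS1 : IsClosed S) (hS2 : IsClosed (PrimeSpectrum.zeroLocus (I.map (algebraMap A B) : Set B) \ S)) :
    ∃ e : B, IsIdempotentElem e ∧
      (PrimeSpectrum.basicOpen e : Set (PrimeSpectrum B)) ∩
        PrimeSpectrum.zeroLocus (I.map (algebraMap A B) : Set B) = S := by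
  set IB := I.map (algebraMap A B) with hIB
  let π := Ideal.Quotient.mk IB
  let c : PrimeSpectrum (B ⧸ IB) → PrimeSpectrum B := PrimeSpectrum.comap π
  have hc : Continuous c := PrimeSpectrum.continuous_comap π
  have hrange : Set.range c = PrimeSpectrum.zeroLocus (IB : Set B) := by
    have := range_comap_of_surjective _ π Ideal.Quotient.mk_surjective
    rw [Ideal.mk_ker] at this
    exact this
  have hclopen : IsClopen (c ⁻¹' S) := by
    refine ⟨hS1.preimage hc, ?_⟩
    rw [← isClosed_compl_iff]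
    have : (c ⁻¹' S)ᶜ = c ⁻¹' (PrimeSpectrum.zeroLocus (IB : Set B) \ S) := by
      ext x
      simp only [Set.mem_compl_iff, Set.mem_preimage, Set.mem_sdiff]
      constructor
      · intro hx
        exact ⟨hrange ▸ ⟨x, rfl⟩, hx⟩
      · intro hx
        exact hx.2
    rw [this]
    exact hS2.preimage hc
  obtain ⟨eb, heb, hebS⟩ := PrimeSpectrum.isClopen_iff.mp hclopen
  obtain ⟨b, rfl⟩ := Ideal.Quotient.mk_surjective eb
  have hb : b * b - b ∈ IB := by
    rw [← Ideal.Quotient.eq_zero_iff_mem, map_sub, map_mul, sub_eq_zero]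
    exact heb
  obtain ⟨e, he, heb'⟩ := Groth.Agent.Lib.Helper3.exists_idempotent_lift_of_finite I b hb
  have hπ : π e = π b := by
    rw [← sub_eq_zero, ← map_sub, Ideal.Quotient.eq_zero_iff_mem]
    exact heb'
  refine ⟨e, he, ?_⟩
  ext p
  constructor
  · rintro ⟨hpe, hpI⟩
    rw [← hrange] at hpI
    obtain ⟨pb, rfl⟩ := hpI
    have : pb ∈ c ⁻¹' S := by
      rw [hebS]
      change π b ∉ pb.asIdeal
      rw [← hπ]
      exact hpe
    exact this
  · intro hp
    have hpI := hS hp
    refine ⟨?_, hpI⟩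
    rw [← hrange] at hpI
    obtain ⟨pb, rfl⟩ := hpI
    have : pb ∈ c ⁻¹' S := hp
    rw [hebS] at this
    change π e ∉ pb.asIdeal
    rw [hπ]
    exact this

theorem range_SpecMap_quotient_mk {A : Type u} [CommRing A] (I : Ideal A) :
    Set.range (Spec.map (CommRingCat.ofHom (Ideal.Quotient.mk I))) = PrimeSpectrum.zeroLocus (I : Set A) := by
  have := range_comap_of_surjective _ (Ideal.Quotient.mk I) Ideal.Quotient.mk_surjective
  rw [Ideal.mk_ker] at this
  exact this

/-- A nonempty closed subset of `Spec A` meets `V(I)` if `I` is contained in the Jacobson radical. -/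
theorem exists_mem_zeroLocus_of_isClosed_of_le_jacobson {A : Type u} [CommRing A] (I : Ideal A)
    (hI : I ≤ Ideal.jacobson ⊥) (W : Set (PrimeSpectrum A)) (hW : IsClosed W) (w : PrimeSpectrum A) (hw : w ∈ W) :
    ∃ m ∈ W, m ∈ PrimeSpectrum.zeroLocus (I : Set A) := by
  obtain ⟨m, hm, hwm⟩ := Ideal.exists_le_maximal w.asIdeal w.2.ne_top
  let m' : PrimeSpectrum A := ⟨m, hm.isPrime⟩
  have hspec : w ⤳ m' := (PrimeSpectrum.le_iff_specializes _ _).mp hwm
  refine ⟨m', hspec.mem_closed hW hw, ?_⟩
  rw [PrimeSpectrum.mem_zeroLocus, SetLike.coe_subset_coe]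
  refine hI.trans ?_
  exact sInf_le ⟨bot_le, hm⟩

/-- Clopen correspondence for finite schemes over a henselian pair. -/
theorem clopen_correspondence_of_henselianPair (A : Type u) [CommRing A] (I : Ideal A) [HenselianRing A I]
    {T : Scheme.{u}} (q : T ⟶ Spec (CommRingCat.of A)) [IsFinite q] :
    (∀ C : Set T, IsClopen C →
      Set.range (pullback.fst q (Spec.map (CommRingCat.ofHom (Ideal.Quotient.mk I)))) ⊆ C → C = Set.univ) ∧
    (∀ C' : Set ↥(pullback q (Spec.map (CommRingCat.ofHom (Ideal.Quotient.mk I)))), IsClopen C' →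
      ∃ C : Set T, IsClopen C ∧
        (pullback.fst q (Spec.map (CommRingCat.ofHom (Ideal.Quotient.mk I)))) ⁻¹' C = C') := by
  let j := Spec.map (CommRingCat.ofHom (Ideal.Quotient.mk I))
  have hrfst : Set.range (pullback.fst q j) = q ⁻¹' (PrimeSpectrum.zeroLocus (I : Set A)) := by
    rw [Scheme.Pullback.range_fst, range_SpecMap_quotient_mk]
  constructor
  · intro C hC hrange
    rw [Set.eq_univ_iff_forall]
    intro t
    by_contra ht
    obtain ⟨m, ⟨z, hz, hzm⟩, hmI⟩ := exists_mem_zeroLocus_of_isClosed_of_le_jacobson I HenselianRing.jac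
      (q '' Cᶜ) (q.isClosedMap _ hC.compl.1) (q t) ⟨t, ht, rfl⟩
    apply hz
    apply hrange
    rw [hrfst, Set.mem_preimage, hzm]
    exact hmI
  · intro C' hC'
    haveI : IsAffine T := isAffine_of_isAffineHom q
    let φ₀ : CommRingCat.of A ⟶ Γ(T, ⊤) := (Scheme.ΓSpecIso (CommRingCat.of A)).inv ≫ q.appTop
    have hq : q = T.isoSpec.hom ≫ Spec.map φ₀ := by
      have h1 := Scheme.toSpecΓ_naturality q
      have h2 : (Spec (CommRingCat.of A)).toSpecΓ ≫ Spec.map (Scheme.ΓSpecIso (CommRingCat.of A)).inv = 𝟙 _ :=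
        toSpecΓ_SpecMap_ΓSpecIso_inv _
      calc q = q ≫ (Spec (CommRingCat.of A)).toSpecΓ ≫ Spec.map (Scheme.ΓSpecIso (CommRingCat.of A)).inv := by
              rw [h2, Category.comp_id]
        _ = T.isoSpec.hom ≫ Spec.map φ₀ := by
              rw [← Category.assoc, h1, Category.assoc, ← Spec.map_comp]
              rfl
    have hfin : φ₀.hom.Finite := by
      have h1 : q.appTop.hom.Finite := Scheme.Hom.finite_appTop q
      have h2 : (Scheme.ΓSpecIso (CommRingCat.of A)).inv.hom.Finite :=
        RingHom.Finite.of_surjective _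
          (ConcreteCategory.bijective_of_isIso (Scheme.ΓSpecIso (CommRingCat.of A)).inv).2
      exact h1.comp h2
    letI : Algebra A Γ(T, ⊤) := φ₀.hom.toAlgebra
    haveI : Module.Finite A Γ(T, ⊤) := hfin
    set IB : Ideal Γ(T, ⊤) := I.map (algebraMap A Γ(T, ⊤)) with hIB
    let Φ : T → PrimeSpectrum Γ(T, ⊤) := fun t => T.isoSpec.hom t
    have hΦhomeo : IsHomeomorph Φ := (Scheme.homeoOfIso T.isoSpec).isHomeomorph
    have hqΦ : ∀ t : T, (q t : PrimeSpectrum A) = PrimeSpectrum.comap φ₀.hom (Φ t) := by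
      intro t
      have := congrArg (fun g : T ⟶ Spec (CommRingCat.of A) => g t) hq
      simp only [Scheme.Hom.comp_apply] at this
      exact this
    have hΦI : ∀ t : T, Φ t ∈ PrimeSpectrum.zeroLocus (IB : Set Γ(T, ⊤)) ↔
        t ∈ q ⁻¹' (PrimeSpectrum.zeroLocus (I : Set A)) := by
      intro t
      have h1 : (q t : PrimeSpectrum A) = PrimeSpectrum.comap φ₀.hom (Φ t) := hqΦ t
      constructor
      · intro h
        change (q t : PrimeSpectrum A) ∈ PrimeSpectrum.zeroLocus (I : Set A)
        rw [h1]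
        intro a ha
        exact h (Ideal.mem_map_of_mem _ ha)
      · intro h
        change (q t : PrimeSpectrum A) ∈ PrimeSpectrum.zeroLocus (I : Set A) at h
        rw [h1] at h
        rw [PrimeSpectrum.mem_zeroLocus, SetLike.coe_subset_coe, hIB, Ideal.map_le_iff_le_comap]
        exact h
    haveI : IsClosedImmersion j := IsClosedImmersion.spec_of_surjective _ Ideal.Quotient.mk_surjective
    haveI : IsClosedImmersion (pullback.fst q j) := MorphismProperty.pullback_fst _ _ ‹_›
    let ψ : ↥(pullback q j) → PrimeSpectrum Γ(T, ⊤) := fun x => Φ (pullback.fst q j x)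
    have hψcl : IsClosedMap ψ :=
      hΦhomeo.isClosedMap.comp (pullback.fst q j).isClosedEmbedding.isClosedMap
    have hψinj : Function.Injective ψ :=
      hΦhomeo.injective.comp (pullback.fst q j).isClosedEmbedding.injective
    have hψrange : ∀ p : PrimeSpectrum Γ(T, ⊤),
        p ∈ PrimeSpectrum.zeroLocus (IB : Set Γ(T, ⊤)) ↔ ∃ x, ψ x = p := by
      intro p
      obtain ⟨t, rfl⟩ := hΦhomeo.surjective p
      rw [hΦI t]
      constructor
      · intro ht
        have : t ∈ Set.range (pullback.fst q j) := by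
          rw [hrfst]
          exact ht
        obtain ⟨x, rfl⟩ := this
        exact ⟨x, rfl⟩
      · rintro ⟨x, hx⟩
        have hx' : pullback.fst q j x = t := hΦhomeo.injective hx
        have : t ∈ Set.range (pullback.fst q j) := ⟨x, hx'⟩
        rw [hrfst] at this
        exact this
    have hS2 : PrimeSpectrum.zeroLocus (IB : Set Γ(T, ⊤)) \ (ψ '' C') = ψ '' C'ᶜ := by
      ext p
      constructor
      · rintro ⟨hp1, hp2⟩
        obtain ⟨x, rfl⟩ := (hψrange p).mp hp1
        refine ⟨x, ?_, rfl⟩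
        intro hx
        exact hp2 ⟨x, hx, rfl⟩
      · rintro ⟨x, hx, rfl⟩
        refine ⟨(hψrange _).mpr ⟨x, rfl⟩, ?_⟩
        rintro ⟨y, hy, hyx⟩
        exact hx (hψinj hyx ▸ hy)
    obtain ⟨e, he, heS⟩ := exists_idempotent_basicOpen_inter_zeroLocus I (ψ '' C')
      (by
        rintro _ ⟨x, -, rfl⟩
        exact (hψrange _).mpr ⟨x, rfl⟩)
      (hψcl _ hC'.1)
      (by
        rw [hS2]
        exact hψcl _ hC'.compl.1)
    refine ⟨Φ ⁻¹' (PrimeSpectrum.basicOpen e : Set (PrimeSpectrum Γ(T, ⊤))),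
      (PrimeSpectrum.isClopen_iff.mpr ⟨e, he, rfl⟩).preimage hΦhomeo.continuous, ?_⟩
    ext x
    constructor
    · intro hx
      have h1 : ψ x ∈ (PrimeSpectrum.basicOpen e : Set (PrimeSpectrum Γ(T, ⊤))) ∩
          PrimeSpectrum.zeroLocus (IB : Set Γ(T, ⊤)) := ⟨hx, (hψrange _).mpr ⟨x, rfl⟩⟩
      rw [heS] at h1
      obtain ⟨y, hy, hyx⟩ := h1
      exact hψinj hyx ▸ hy
    · intro hx
      have h1 : ψ x ∈ ψ '' C' := ⟨x, hx, rfl⟩
      rw [← heS] at h1
      exact h1.1

/-- Essential surjectivity of restriction of finite étale covers along a henselian pair. -/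
theorem essSurj_restrict_of_henselianPair (A : Type u) [CommRing A] (I : Ideal A) [HenselianRing A I] :
    (FEt.restrict (Spec.map (CommRingCat.ofHom (Ideal.Quotient.mk I)))).EssSurj := by
  constructor
  intro V
  let j := Spec.map (CommRingCat.ofHom (Ideal.Quotient.mk I))
  have hVfin : IsFinite V.hom := V.prop.1
  have hVet : Etale V.hom := V.prop.2
  haveI hAff : IsAffine ((Functor.fromPUnit (Spec (CommRingCat.of (A ⧸ I)))).obj V.right) :=
    inferInstanceAs (IsAffine (Spec (CommRingCat.of (A ⧸ I))))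
  haveI : IsAffine V.left := isAffine_of_isAffineHom V.hom
  haveI : IsAffine ((𝟭 Scheme).obj V.left) := ‹IsAffine V.left›
  let ψ₀ : CommRingCat.of (A ⧸ I) ⟶ Γ(V.left, ⊤) :=
    (Scheme.ΓSpecIso (CommRingCat.of (A ⧸ I))).inv ≫ V.hom.appTop
  have hV : V.hom = V.left.isoSpec.hom ≫ Spec.map ψ₀ := by
    have h1 := Scheme.toSpecΓ_naturality V.hom
    have h2 : (Spec (CommRingCat.of (A ⧸ I))).toSpecΓ ≫
        Spec.map (Scheme.ΓSpecIso (CommRingCat.of (A ⧸ I))).inv = 𝟙 _ :=
      toSpecΓ_SpecMap_ΓSpecIso_inv _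
    calc V.hom = V.hom ≫ (Spec (CommRingCat.of (A ⧸ I))).toSpecΓ ≫
          Spec.map (Scheme.ΓSpecIso (CommRingCat.of (A ⧸ I))).inv := by
            rw [h2]; exact (Category.comp_id _).symm
      _ = V.left.isoSpec.hom ≫ Spec.map ψ₀ := by
            rw [← Category.assoc]
            erw [h1]
            rw [Category.assoc, ← Spec.map_comp]
            rfl
  have hbij0 : Function.Bijective (Scheme.ΓSpecIso (CommRingCat.of (A ⧸ I))).inv.hom :=
    ConcreteCategory.bijective_of_isIso _
  have hfin : ψ₀.hom.Finite := by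
    have h1 : V.hom.appTop.hom.Finite := Scheme.Hom.finite_appTop V.hom
    exact h1.comp (RingHom.Finite.of_surjective _ hbij0.2)
  have het : ψ₀.hom.Etale := by
    have h1 : V.hom.appTop.hom.Etale := HasRingHomProperty.appTop @Etale V.hom hVet
    exact RingHom.Etale.stableUnderComposition _ _ (RingHom.Etale.of_bijective hbij0) h1
  letI : Algebra (A ⧸ I) Γ(V.left, ⊤) := ψ₀.hom.toAlgebra
  haveI : Module.Finite (A ⧸ I) Γ(V.left, ⊤) := hfin
  haveI : Algebra.Etale (A ⧸ I) Γ(V.left, ⊤) := het
  obtain ⟨B, _, _, hBfin, hBet, ⟨e⟩⟩ :=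
    Groth.Agent.Lib.Helper3.exists_finite_etale_lift_of_pair A I Γ(V.left, ⊤)
  -- the pushout square of rings
  have hpo := CommRingCat.isPushout_tensorProduct A (A ⧸ I) B
  let eC : CommRingCat.of ((A ⧸ I) ⊗[A] B) ≅ Γ(V.left, ⊤) := e.toRingEquiv.toCommRingCatIso
  let inr' : CommRingCat.of B ⟶ Γ(V.left, ⊤) :=
    CommRingCat.ofHom ((e : (A ⧸ I) ⊗[A] B →+* Γ(V.left, ⊤)).comp
      (Algebra.TensorProduct.includeRight : B →ₐ[A] (A ⧸ I) ⊗[A] B).toRingHom)
  have hpo' : IsPushout (CommRingCat.ofHom (algebraMap A (A ⧸ I))) (CommRingCat.ofHom (algebraMap A B))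
      ψ₀ inr' := by
    refine hpo.of_iso (Iso.refl _) (Iso.refl _) (Iso.refl _) eC ?_ ?_ ?_ ?_
    · simp
    · simp
    · ext x
      simp only [Iso.refl_hom, Category.id_comp]
      change e (x ⊗ₜ[A] (1 : B)) = algebraMap (A ⧸ I) Γ(V.left, ⊤) x
      rw [← e.commutes x]
      rfl
    · ext x
      rfl
  have hpb := isPullback_SpecMap_of_isPushout _ _ _ _ hpo'
  have hfinU : IsFinite (Spec.map (CommRingCat.ofHom (algebraMap A B))) := by
    rw [IsFinite.SpecMap_iff]
    exact RingHom.finite_algebraMap.mpr hBfin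
  have hetU : Etale (Spec.map (CommRingCat.ofHom (algebraMap A B))) := by
    rw [HasRingHomProperty.Spec_iff (P := @Etale)]
    exact RingHom.etale_algebraMap.mpr hBet
  let U : FEt.Cat (Spec (CommRingCat.of A)) :=
    MorphismProperty.Over.mk ⊤ (Spec.map (CommRingCat.ofHom (algebraMap A B))) ⟨hfinU, hetU⟩
  have hpb' : IsPullback (Spec.map inr') (Spec.map ψ₀) U.hom j := hpb.flip
  let α : V.left ≅ pullback U.hom j := V.left.isoSpec ≪≫ hpb'.isoPullback
  have hα : α.hom ≫ pullback.snd U.hom j = V.hom := by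
    have h2 := hpb'.isoPullback_hom_snd
    calc α.hom ≫ pullback.snd U.hom j
        = V.left.isoSpec.hom ≫ hpb'.isoPullback.hom ≫ pullback.snd U.hom j := Category.assoc _ _ _
      _ = V.left.isoSpec.hom ≫ Spec.map ψ₀ := congrArg (V.left.isoSpec.hom ≫ ·) h2
      _ = V.hom := hV.symm
  refine ⟨U, ⟨MorphismProperty.Over.isoMk α.symm ?_⟩⟩
  change α.inv ≫ V.hom = pullback.snd U.hom j
  rw [Iso.inv_comp_eq, hα]

/-- `S0239`: for a henselian pair `(A, I)`, restriction of finite étale covers from `Spec A` to `Spec (A/I)` is an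
equivalence. -/
theorem isEquivalence_restrict_of_henselianPair (A : Type u) [CommRing A] (I : Ideal A) [HenselianRing A I] :
    (FEt.restrict (Spec.map (CommRingCat.ofHom (Ideal.Quotient.mk I)))).IsEquivalence := by
  have hff : (FEt.restrict (Spec.map (CommRingCat.ofHom (Ideal.Quotient.mk I)))).Full ∧
      (FEt.restrict (Spec.map (CommRingCat.ofHom (Ideal.Quotient.mk I)))).Faithful := by
    apply full_faithful_restrict_of_clopen
    · intro Y
      haveI : IsFinite Y.hom := Y.prop.1
      exact (clopen_correspondence_of_henselianPair A I Y.hom).1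
    · intro T
      haveI : IsFinite T.hom := T.prop.1
      exact (clopen_correspondence_of_henselianPair A I T.hom).2
  haveI := hff.1
  haveI := hff.2
  haveI := essSurj_restrict_of_henselianPair A I
  exact { }

end Groth.Agent.Lib.Helper2
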