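import Mathlib
import Groth.Prelude.Def_FEt
import Groth.Agent.Lib.Helper2.FEtZariskiGlue
import Groth.Agent.Lib.Helper2.HenselianPairFEt
import Groth.Agent.Lib.Helper3.Henselian

/-!
# Topological invariance of finite étale covers for thickenings (helper2)

* `liftsFEt_of_essSurj`, `essSurj_of_liftsFEt`: `LiftsFEt g ↔ (FEt.restrict g).EssSurj`.
* `liftsFEt_of_iso`: invariance under isomorphisms of arrows.
* `liftsFEt_of_isClosedImmersion_of_isAffine`: a surjective closed immersion into an affine scheme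
  is `Spec (A/I) ⟶ Spec A` with `I` nil, hence a henselian pair (helper3 `henselianRing_of_nil`),
  so finite étale covers lift (`essSurj_restrict_of_henselianPair`).
* `essSurj_restrict_of_thickening`: global statement, by Zariski gluing
  (`liftsFEt_of_affineOpens`).
-/

set_option autoImplicit false
set_option linter.style.haveILetI false
set_option linter.unusedSectionVars false
universe u

open CategoryTheory CategoryTheory.Limits AlgebraicGeometry

namespace Groth.Agent.Lib.Helper2.FEtGlue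

/-- `LiftsFEt` from essential surjectivity. -/
theorem liftsFEt_of_essSurj {T' T : Scheme.{u}} (g : T' ⟶ T) (h : (FEt.restrict g).EssSurj) :
    LiftsFEt g := by
  intro Z' z' hfin het
  let V : FEt.Cat T' := MorphismProperty.Over.mk ⊤ z' ⟨hfin, het⟩
  obtain ⟨W, ⟨e⟩⟩ := h.mem_essImage V
  have hWfin : IsFinite W.hom := W.prop.1
  have hWet : Etale W.hom := W.prop.2
  have hpb : IsPullback (pullback.fst W.hom g) (pullback.snd W.hom g) W.hom g :=
    IsPullback.of_hasPullback _ _
  let el : pullback W.hom g ≅ Z' :=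
    (MorphismProperty.Over.forget FEt.prop ⊤ T' ⋙ Over.forget T').mapIso e
  have hw : el.hom ≫ z' = pullback.snd W.hom g := MorphismProperty.Over.w e.hom
  refine ⟨W.left, W.hom, el.inv ≫ pullback.fst W.hom g, hWfin, hWet, ?_⟩
  refine hpb.of_iso el (Iso.refl _) (Iso.refl _) (Iso.refl _) ?_ ?_ ?_ ?_
  · rw [Iso.refl_hom, Category.comp_id, Iso.hom_inv_id_assoc]
  · rw [Iso.refl_hom, Category.comp_id, hw]
  · simp
  · simp

/-- Essential surjectivity from `LiftsFEt`. -/
theorem essSurj_of_liftsFEt {T' T : Scheme.{u}} (g : T' ⟶ T) (h : LiftsFEt g) :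
    (FEt.restrict g).EssSurj := by
  constructor
  intro V
  obtain ⟨Z, z, a, hfin, het, hpb⟩ := h V.left V.hom V.prop.1 V.prop.2
  let W : FEt.Cat T := MorphismProperty.Over.mk ⊤ z ⟨hfin, het⟩
  refine ⟨W, ⟨MorphismProperty.Over.isoMk hpb.isoPullback.symm ?_⟩⟩
  change hpb.isoPullback.inv ≫ V.hom = pullback.snd z g
  rw [Iso.inv_comp_eq, hpb.isoPullback_hom_snd]

/-- `LiftsFEt` is invariant under isomorphisms of arrows. -/
theorem liftsFEt_of_iso {T₁' T₁ T₂' T₂ : Scheme.{u}} (g₁ : T₁' ⟶ T₁) (g₂ : T₂' ⟶ T₂)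
    (e₁ : T₁' ≅ T₂') (e₂ : T₁ ≅ T₂) (hcomm : g₁ ≫ e₂.hom = e₁.hom ≫ g₂) (h : LiftsFEt g₂) :
    LiftsFEt g₁ := by
  intro Z' z' hfin het
  obtain ⟨Z, z, a, hzfin, hzet, hpb⟩ := h Z' (z' ≫ e₁.hom) inferInstance inferInstance
  refine ⟨Z, z ≫ e₂.inv, a, inferInstance, inferInstance, ?_⟩
  refine hpb.of_iso (Iso.refl _) (Iso.refl _) e₁.symm e₂.symm ?_ ?_ ?_ ?_
  · simp
  · simp
  · simp
  · rw [Iso.symm_hom, Iso.symm_hom, Iso.comp_inv_eq, Category.assoc, hcomm, Iso.inv_hom_id_assoc]

/-- A surjective closed immersion into an affine scheme lifts finite étale covers. -/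
theorem liftsFEt_of_isClosedImmersion_of_isAffine {T₀ T : Scheme.{u}} (g : T₀ ⟶ T)
    [IsClosedImmersion g] [Surjective g] [IsAffine T] : LiftsFEt g := by
  have hci : IsClosedImmersion (g ≫ T.isoSpec.hom) := inferInstance
  obtain ⟨I, e, he⟩ := IsClosedImmersion.Spec_iff.mp hci
  have hsurj : Surjective (Spec.map (CommRingCat.ofHom (Ideal.Quotient.mk I))) := by
    have h1 : Spec.map (CommRingCat.ofHom (Ideal.Quotient.mk I)) = e.inv ≫ g ≫ T.isoSpec.hom := by
      rw [he, Iso.inv_hom_id_assoc]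
    rw [h1]
    infer_instance
  have hnil : ∀ x ∈ I, IsNilpotent x := by
    intro x hx
    rw [← mem_nilradical, nilradical_eq_sInf, Ideal.mem_sInf]
    intro P hP
    haveI : P.IsPrime := hP
    obtain ⟨q, hq⟩ := (Spec.map (CommRingCat.ofHom (Ideal.Quotient.mk I))).surjective
      (⟨P, hP⟩ : PrimeSpectrum _)
    have h2 : P = Ideal.comap (Ideal.Quotient.mk I) q.asIdeal := by
      have := congrArg PrimeSpectrum.asIdeal hq
      exact this.symm
    rw [h2, Ideal.mem_comap, Ideal.Quotient.eq_zero_iff_mem.mpr hx]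
    exact Ideal.zero_mem _
  haveI : HenselianRing Γ(T, ⊤) I := Groth.Agent.Lib.Helper3.henselianRing_of_nil I hnil
  have h3 := liftsFEt_of_essSurj _
    (Groth.Agent.Lib.Helper2.essSurj_restrict_of_henselianPair Γ(T, ⊤) I)
  exact liftsFEt_of_iso g _ e T.isoSpec he h3

/-- **Topological invariance of finite étale covers** for thickenings: essential surjectivity. -/
theorem essSurj_restrict_of_thickening {X₀ X : Scheme.{u}} (i : X₀ ⟶ X) [IsClosedImmersion i]
    [Surjective i] : (FEt.restrict i).EssSurj := by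
  apply essSurj_of_liftsFEt
  apply liftsFEt_of_affineOpens
  intro U
  haveI : IsAffine (U.1 : Scheme.{u}) := U.2
  haveI : IsClosedImmersion (pullback.snd i U.1.ι) :=
    MorphismProperty.pullback_snd (P := @IsClosedImmersion) _ _ inferInstance
  haveI : Surjective (pullback.snd i U.1.ι) :=
    MorphismProperty.pullback_snd (P := @Surjective) _ _ inferInstance
  exact liftsFEt_of_isClosedImmersion_of_isAffine _

end Groth.Agent.Lib.Helper2.FEtGlue
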