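import Groth.Agent.Lib.Helper2.PurityRing
import Groth.Agent.Lib.Helper2.FEtDepthGlue
import Groth.Agent.Lib.Helper2.FEtThickening
import Mathlib.AlgebraicGeometry.QuasiAffine

/-!
# Purity for the punctured spectrum of a regular local ring of dimension ≥ 2 (scheme level)

Every finite étale cover `Z'` of the punctured spectrum `U` of a regular local ring `A` of dimension at least two
extends to a finite étale cover of `Spec A`, namely `Spec Γ(Z', ⊤)` (`liftsFEt_punctured`).  The square
`Z' = U ×_{Spec A} Spec Γ(Z', ⊤)` comes from Mathlib's `isPullback_toSpecΓ_toSpecΓ` and Hartogs for `A`; the ring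
`Γ(Z', ⊤)` is finite étale over `A` by `PurityRing.finite_etale_of_punctured`.
-/

set_option autoImplicit false
set_option linter.style.haveILetI false
set_option linter.unusedSectionVars false
universe u

open AlgebraicGeometry CategoryTheory CategoryTheory.Limits TopologicalSpace Opposite

namespace Groth.Agent.Lib.Helper2.PurityScheme

open Groth.Agent.Lib.Helper2 TensorProduct


/-- Hartogs for the punctured spectrum itself. -/
lemma appTop_ι_punctured_bijective (A : Type u) [CommRing A] [IsLocalRing A]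
    (hA : 2 ≤ LocCoh.depth A A) :
    Function.Bijective (FEt.puncturedSpec A).ι.appTop.hom := by
  have h := res_bijective_preimage_punctured A hA (𝟙 (Spec (CommRingCat.of A)))
  exact res_bijective_congr (FEt.puncturedSpec A).ι_image_top
    (res_bijective_congr (by simp) h)

/-- A finite étale (or just affine) cover `Z'` of the punctured spectrum of a Noetherian local ring of depth at
least two is the restriction of `Spec Γ(Z', ⊤) ⟶ Spec A`. -/
theorem isPullback_toSpecΓ (A : Type u) [CommRing A] [IsLocalRing A] [IsNoetherianRing A]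
    (hA : 2 ≤ LocCoh.depth A A) {Z' : Scheme.{u}}
    (z' : Z' ⟶ (FEt.puncturedSpec A : Scheme.{u})) [IsAffineHom z'] :
    IsPullback Z'.toSpecΓ z'
      (Spec.map ((Scheme.ΓSpecIso (CommRingCat.of A)).inv ≫ (z' ≫ (FEt.puncturedSpec A).ι).appTop))
      (FEt.puncturedSpec A).ι := by
  let U := FEt.puncturedSpec A
  haveI : CompactSpace (U : Scheme.{u}) := by
    have : TopologicalSpace.NoetherianSpace (PrimeSpectrum A) := inferInstance
    exact isCompact_iff_compactSpace.mp (TopologicalSpace.NoetherianSpace.isCompact U.1)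
  haveI : (U : Scheme.{u}).IsQuasiAffine := Scheme.IsQuasiAffine.of_isImmersion U.ι
  have h0 := Scheme.isPullback_toSpecΓ_toSpecΓ z'
  let ρ : CommRingCat.of A ⟶ Γ((U : Scheme.{u}), ⊤) :=
    (Scheme.ΓSpecIso (CommRingCat.of A)).inv ≫ U.ι.appTop
  haveI : IsIso U.ι.appTop :=
    (ConcreteCategory.isIso_iff_bijective _).mpr (appTop_ι_punctured_bijective A hA)
  haveI : IsIso ρ := inferInstance
  have hθ : (U : Scheme.{u}).toSpecΓ ≫ Spec.map ρ = U.ι := by
    have h1 := Scheme.toSpecΓ_naturality U.ι
    rw [Spec.map_comp, ← Category.assoc, ← h1, Category.assoc]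
    have h2 : (Spec (CommRingCat.of A)).toSpecΓ ≫
        Spec.map (Scheme.ΓSpecIso (CommRingCat.of A)).inv = 𝟙 _ :=
      toSpecΓ_SpecMap_ΓSpecIso_inv _
    rw [h2, Category.comp_id]
  refine (h0.flip.of_iso (Iso.refl _) (Iso.refl _) (Iso.refl _) (asIso (Spec.map ρ)) ?_ ?_ ?_ ?_)
  · simp
  · simp
  · rw [Iso.refl_hom, Category.id_comp, asIso_hom, ← Spec.map_comp]
    congr 1
  · rw [Iso.refl_hom, Category.id_comp, asIso_hom, hθ]


open TensorProduct in
/-- If `Spec B ⟶ Spec A` restricts over the punctured spectrum to `z'` and `P z'` for a property `P` stable under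
base change, then `P` holds for `Spec (A_f ⊗ B) ⟶ Spec A_f` for `f` in the maximal ideal. -/
lemma prop_SpecMap_tensor (P : MorphismProperty Scheme.{u}) [P.IsStableUnderBaseChange]
    [P.RespectsIso] (A : Type u) [CommRing A] [IsLocalRing A] (B : Type u) [CommRing B] [Algebra A B]
    {Z' : Scheme.{u}} (z' : Z' ⟶ (FEt.puncturedSpec A : Scheme.{u}))
    (a : Z' ⟶ Spec (CommRingCat.of B))
    (hpb : IsPullback a z' (Spec.map (CommRingCat.ofHom (algebraMap A B))) (FEt.puncturedSpec A).ι)
    (hz' : P z') (f : A) (hf : f ∈ IsLocalRing.maximalIdeal A) :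
    P (Spec.map (CommRingCat.ofHom
      (algebraMap (Localization.Away f) (Localization.Away f ⊗[A] B)))) := by
  let U := FEt.puncturedSpec A
  let jf : Spec (CommRingCat.of (Localization.Away f)) ⟶ Spec (CommRingCat.of A) :=
    Spec.map (CommRingCat.ofHom (algebraMap A (Localization.Away f)))
  haveI : IsOpenImmersion jf := IsOpenImmersion.of_isLocalization f
  have hrange : Set.range jf ⊆ Set.range U.ι := by
    rintro _ ⟨y, rfl⟩
    rw [Scheme.Opens.range_ι]
    have hy : jf y ∈ ((PrimeSpectrum.basicOpen f : TopologicalSpace.Opens (PrimeSpectrum A)) :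
        Set (PrimeSpectrum A)) := by
      have := PrimeSpectrum.localization_away_comap_range (Localization.Away f) f
      rw [← this]
      exact ⟨y, rfl⟩
    have h1 := basicOpen_le_puncturedSpec A f hf
    rw [basicOpen_eq_of_affine] at h1
    exact h1 hy
  let kf : Spec (CommRingCat.of (Localization.Away f)) ⟶ (U : Scheme.{u}) :=
    IsOpenImmersion.lift U.ι jf hrange
  have hkf : kf ≫ U.ι = jf := IsOpenImmersion.lift_fac _ _ _
  have h1 : IsPullback (pullback.fst kf z') (pullback.snd kf z' ≫ a) jf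
      (Spec.map (CommRingCat.ofHom (algebraMap A B))) := by
    rw [← hkf]
    exact ((IsPullback.of_hasPullback kf z').flip.paste_horiz hpb).flip
  have h2 : P (pullback.fst kf z') := P.pullback_fst _ _ hz'
  have h3 : (h1.isoPullback ≪≫ pullbackSpecIso A (Localization.Away f) B).inv ≫
      pullback.fst kf z' = Spec.map (CommRingCat.ofHom
        (algebraMap (Localization.Away f) (Localization.Away f ⊗[A] B))) := by
    rw [Iso.trans_inv, Category.assoc, h1.isoPullback_inv_fst, pullbackSpecIso_inv_fst']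
  rw [← h3]
  exact (P.cancel_left_of_respectsIso _ _).mpr h2



section
variable (A B : Type u) [CommRing A] [CommRing B] [Algebra A B] (f : A)

attribute [local instance] Algebra.TensorProduct.rightAlgebra in
lemma isLocalization_away_tensor :
    IsLocalization.Away (algebraMap A B f) (Localization.Away f ⊗[A] B) := by
  have h : IsLocalization (Algebra.algebraMapSubmonoid B (Submonoid.powers f))
      (Localization.Away f ⊗[A] B) := inferInstance
  rwa [Algebra.algebraMapSubmonoid_powers] at h

attribute [local instance] Algebra.TensorProduct.rightAlgebra in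
/-- Finite generation after inverting `f`, in elementwise form. -/
lemma exists_finset_of_finite_tensor
    [Module.Finite (Localization.Away f) (Localization.Away f ⊗[A] B)] :
    ∃ t : Finset B, ∀ b : B, ∃ k : ℕ, f ^ k • b ∈ Submodule.span A (t : Set B) := by
  classical
  obtain ⟨s', hs'⟩ := (Module.Finite.fg_top :
    (⊤ : Submodule (Localization.Away f) (Localization.Away f ⊗[A] B)).FG)
  have hloc : IsLocalization ((Submonoid.powers f).map (algebraMap A B))
      (Localization.Away f ⊗[A] B) :=
    (inferInstance : IsLocalization (Algebra.algebraMapSubmonoid B (Submonoid.powers f))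
      (Localization.Away f ⊗[A] B))
  refine ⟨IsLocalization.finsetIntegerMultiple ((Submonoid.powers f).map (algebraMap A B)) s', ?_⟩
  intro b
  have hb : algebraMap B (Localization.Away f ⊗[A] B) b ∈
      Submodule.span (Localization.Away f) (s' : Set (Localization.Away f ⊗[A] B)) := by
    rw [hs']
    trivial
  obtain ⟨⟨_, k, rfl⟩, hk⟩ := multiple_mem_span_of_mem_localization_span (Submonoid.powers f)
    (Localization.Away f) (s' : Set (Localization.Away f ⊗[A] B)) _ hb
  have hk' : algebraMap B (Localization.Away f ⊗[A] B) (f ^ k • b) ∈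
      Submodule.span A (s' : Set (Localization.Away f ⊗[A] B)) := by
    have e : algebraMap B (Localization.Away f ⊗[A] B) (f ^ k • b) =
        f ^ k • algebraMap B (Localization.Away f ⊗[A] B) b :=
      (IsScalarTower.toAlgHom A B (Localization.Away f ⊗[A] B)).toLinearMap.map_smul (f ^ k) b
    rw [e]
    exact hk
  obtain ⟨⟨_, l, rfl⟩, hl⟩ := IsLocalization.smul_mem_finsetIntegerMultiple_span
    (Submonoid.powers f) (Localization.Away f ⊗[A] B) (f ^ k • b) s' hk'
  refine ⟨l + k, ?_⟩
  rw [pow_add, mul_smul]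
  exact hl

attribute [local instance] Algebra.TensorProduct.rightAlgebra in
/-- Étaleness after inverting `f`, for the standard localization. -/
lemma formallyEtale_away_of_etale_tensor
    [Algebra.Etale (Localization.Away f) (Localization.Away f ⊗[A] B)] :
    Algebra.FormallyEtale A (Localization.Away (algebraMap A B f)) := by
  haveI : Algebra.Etale A (Localization.Away f) := Algebra.Etale.of_isLocalizationAway f
  haveI : Algebra.Etale A (Localization.Away f ⊗[A] B) :=
    Algebra.Etale.comp A (Localization.Away f) (Localization.Away f ⊗[A] B)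
  haveI := isLocalization_away_tensor A B f
  let e : (Localization.Away f ⊗[A] B) ≃ₐ[B] Localization.Away (algebraMap A B f) :=
    IsLocalization.algEquiv (Submonoid.powers (algebraMap A B f)) _ _
  exact Algebra.FormallyEtale.of_equiv (e.restrictScalars A)

end



/-- The structure map `A → Γ(Z, ⊤)` of a scheme over `Spec A`. -/
noncomputable def strMap (A : Type u) [CommRing A] {Z : Scheme.{u}}
    (w : Z ⟶ Spec (CommRingCat.of A)) : A →+* Γ(Z, ⊤) :=
  (w.appTop.hom).comp (Scheme.ΓSpecIso (CommRingCat.of A)).inv.hom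

lemma basicOpen_strMap (A : Type u) [CommRing A] {Z : Scheme.{u}}
    (w : Z ⟶ Spec (CommRingCat.of A)) (a : A) :
    Z.basicOpen (strMap A w a) =
      w ⁻¹ᵁ (Spec (CommRingCat.of A)).basicOpen ((Scheme.ΓSpecIso (CommRingCat.of A)).inv a) := by
  rw [Scheme.preimage_basicOpen_top]
  rfl

/-- Nonzero elements of a domain act regularly on the global sections of a flat scheme. -/
theorem eq_zero_of_strMap_mul_eq_zero (A : Type u) [CommRing A] [IsDomain A] {Z : Scheme.{u}}
    (w : Z ⟶ Spec (CommRingCat.of A)) [Flat w] (a : A) (ha : a ≠ 0) (b : Γ(Z, ⊤))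
    (hb : strMap A w a * b = 0) : b = 0 := by
  apply Scheme.zero_of_zero_cover b Z.affineCover
  intro i
  let g := Z.affineCover.f i ≫ w
  haveI : IsAffine (Z.affineCover.X i) := inferInstanceAs (IsAffine (Spec _))
  haveI : Flat g := inferInstance
  let φ : A →+* Γ(Z.affineCover.X i, ⊤) := strMap A g
  have hφ : φ.Flat := by
    refine RingHom.Flat.comp (RingHom.Flat.of_bijective ?_) (Scheme.Hom.flat_appTop g)
    exact (ConcreteCategory.bijective_of_isIso (Scheme.ΓSpecIso (CommRingCat.of A)).inv)
  let _ : Algebra A Γ(Z.affineCover.X i, ⊤) := φ.toAlgebra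
  have : Module.Flat A Γ(Z.affineCover.X i, ⊤) := hφ
  have hreg : IsSMulRegular A a := fun x y hxy => mul_left_cancel₀ ha hxy
  have hreg' : IsSMulRegular Γ(Z.affineCover.X i, ⊤) (φ a) := hreg.of_flat
  have h1 : φ a = (Z.affineCover.f i).appTop.hom (strMap A w a) := by
    change (g.appTop.hom) _ = _
    rw [Scheme.Hom.comp_appTop]
    rfl
  have h2 : φ a * (Z.affineCover.f i).appTop.hom b = 0 := by
    rw [h1, ← map_mul, hb, map_zero]
  exact hreg' (h2.trans (mul_zero _).symm)

/-- The basic opens of the elements of the maximal ideal cover a scheme over the punctured spectrum. -/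
lemma iSup_basicOpen_strMap (A : Type u) [CommRing A] [IsLocalRing A] {Z : Scheme.{u}}
    (z : Z ⟶ (FEt.puncturedSpec A : Scheme.{u})) :
    (⊤ : Z.Opens) ≤ ⨆ f : IsLocalRing.maximalIdeal A,
      Z.basicOpen (strMap A (z ≫ (FEt.puncturedSpec A).ι) (f : A)) := by
  intro x _
  let w := z ≫ (FEt.puncturedSpec A).ι
  have hp : w x ∈ FEt.puncturedSpec A := by
    have : w x ∈ Set.range (FEt.puncturedSpec A).ι := ⟨z x, rfl⟩
    rwa [Scheme.Opens.range_ι] at this
  have hne : (w x : PrimeSpectrum A) ≠ IsLocalRing.closedPoint A := hp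
  have hlt : (w x : PrimeSpectrum A).asIdeal < IsLocalRing.maximalIdeal A := by
    refine lt_of_le_of_ne (IsLocalRing.le_maximalIdeal (w x : PrimeSpectrum A).2.ne_top) ?_
    intro h
    exact hne (PrimeSpectrum.ext h)
  obtain ⟨f, hfm, hfx⟩ := Set.exists_of_ssubset hlt
  rw [Opens.mem_iSup]
  refine ⟨⟨f, hfm⟩, ?_⟩
  rw [basicOpen_strMap, basicOpen_eq_of_affine]
  exact hfx



/-- Gluing of fractions `c i / (g i) ^ (e i)` over a cover by basic opens of global functions. -/
theorem exists_glue_basicOpen {Z : Scheme.{u}} {ι : Type u} (g : ι → Γ(Z, ⊤))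
    (hcov : (⊤ : Z.Opens) ≤ ⨆ i, Z.basicOpen (g i))
    (c : ι → Γ(Z, ⊤)) (e : ι → ℕ) (hc : ∀ i j, g j ^ e j * c i = g i ^ e i * c j) :
    ∃ b : Γ(Z, ⊤), ∀ i, g i ^ e i * b = c i := by
  let D : ι → Z.Opens := fun i => Z.basicOpen (g i)
  have hu : ∀ i, IsUnit (res (le_top : D i ≤ ⊤) (g i)) := fun i => isUnit_res_basicOpen (g i)
  -- the local sections
  let s : ∀ i, Γ(Z, D i) := fun i => ↑((hu i).unit ^ e i)⁻¹ * res (le_top : D i ≤ ⊤) (c i)
  have hs : ∀ i, res (le_top : D i ≤ ⊤) (g i) ^ e i * s i = res (le_top : D i ≤ ⊤) (c i) := by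
    intro i
    change res (le_top : D i ≤ ⊤) (g i) ^ e i * (↑((hu i).unit ^ e i)⁻¹ * _) = _
    rw [← mul_assoc]
    have : res (le_top : D i ≤ ⊤) (g i) ^ e i = ↑((hu i).unit ^ e i) := by
      rw [Units.val_pow_eq_pow_val, IsUnit.unit_spec]
    rw [this, Units.mul_inv, one_mul]
  -- key: for any open `W` inside `D i`, the restriction of `s i` to `W` is determined
  have key : ∀ (i : ι) (W : Z.Opens) (hW : W ≤ D i) (t : Γ(Z, W)),
      res (le_top : W ≤ ⊤) (g i) ^ e i * t = res (le_top : W ≤ ⊤) (c i) → t = res hW (s i) := by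
    intro i W hW t ht
    have hu' : IsUnit (res (le_top : W ≤ ⊤) (g i) ^ e i) := by
      have : res (le_top : W ≤ ⊤) (g i) = res hW (res (le_top : D i ≤ ⊤) (g i)) :=
        (res_res _ _ _).symm
      rw [this]
      exact ((hu i).map (res hW)).pow _
    apply hu'.mul_left_cancel
    rw [ht]
    have h1 := congrArg (res hW) (hs i)
    rw [map_mul, map_pow, res_res, res_res] at h1
    exact h1.symm
  have hcompat : TopCat.Presheaf.IsCompatible Z.sheaf.1 D s := by
    intro i j
    change res (inf_le_left : D i ⊓ D j ≤ D i) (s i) = res (inf_le_right : D i ⊓ D j ≤ D j) (s j)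
    apply key j (D i ⊓ D j) inf_le_right
    -- `g j ^ e j * s i = c j` on the overlap
    have hui : IsUnit (res (le_top : D i ⊓ D j ≤ ⊤) (g i) ^ e i) := by
      have : res (le_top : D i ⊓ D j ≤ ⊤) (g i) =
          res (inf_le_left : D i ⊓ D j ≤ D i) (res (le_top : D i ≤ ⊤) (g i)) :=
        (res_res _ _ _).symm
      rw [this]
      exact ((hu i).map (res _)).pow _
    apply hui.mul_left_cancel
    have h1 := congrArg (res (inf_le_left : D i ⊓ D j ≤ D i)) (hs i)
    rw [map_mul, map_pow, res_res, res_res] at h1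
    rw [mul_left_comm, h1, ← map_pow, ← map_pow, ← map_mul, ← map_mul, hc i j]
  obtain ⟨b₀, hb, -⟩ := Z.sheaf.existsUnique_gluing' D ⊤ (fun i => homOfLE le_top) hcov s hcompat
  let b : Γ(Z, ⊤) := b₀
  have hb' : ∀ i, res (le_top : D i ≤ ⊤) b = s i := hb
  refine ⟨b, fun i => ?_⟩
  refine Z.sheaf.eq_of_locally_eq' D ⊤ (fun j => homOfLE le_top) hcov _ _ (fun j => ?_)
  change res (le_top : D j ≤ ⊤) (g i ^ e i * b) = res (le_top : D j ≤ ⊤) (c i)
  rw [map_mul, map_pow, hb']
  have huj : IsUnit (res (le_top : D j ≤ ⊤) (g j) ^ e j) := (hu j).pow _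
  apply huj.mul_left_cancel
  rw [mul_left_comm, hs j, ← map_pow, ← map_pow, ← map_mul, ← map_mul, hc i j]


open Groth.Agent.Lib.Helper2.FEtGlue Groth.Agent.Lib.Helper2.PurityRing in
/-- **Purity for regular local rings of dimension at least two**, concrete form. -/
theorem liftsFEt_punctured (A : Type u) [CommRing A] [IsRegularLocalRing A]
    (hA : (2 : WithBot ℕ∞) ≤ ringKrullDim A) : LiftsFEt (FEt.puncturedSpec A).ι := by
  intro Z' z' hfin het
  haveI := Groth.Agent.Lib.Helper85.isDomain_of_isRegularLocalRing A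
  have hspan : 2 ≤ (IsLocalRing.maximalIdeal A).spanFinrank := by
    rw [← IsRegularLocalRing.spanFinrank_maximalIdeal (R := A)] at hA
    exact_mod_cast hA
  have hdA : (2 : ℕ∞) ≤ LocCoh.depth A A := by
    rw [Groth.Agent.Lib.Helper29.Purity.depth_self_eq]
    exact_mod_cast hspan
  let w₀ : Z' ⟶ Spec (CommRingCat.of A) := z' ≫ (FEt.puncturedSpec A).ι
  haveI : Flat w₀ := inferInstance
  let φ : A →+* Γ(Z', ⊤) := strMap A w₀
  letI : Algebra A Γ(Z', ⊤) := φ.toAlgebra
  have hpb0 := isPullback_toSpecΓ A hdA z'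
  have hpb : IsPullback Z'.toSpecΓ z' (Spec.map (CommRingCat.ofHom (algebraMap A Γ(Z', ⊤))))
      (FEt.puncturedSpec A).ι := hpb0
  have hsmul : ∀ (a : A) (b : Γ(Z', ⊤)), a • b = φ a * b := fun a b => Algebra.smul_def a b
  -- hypotheses of the ring-level theorem
  have h1 : ∀ f ∈ IsLocalRing.maximalIdeal A,
      Algebra.FormallyEtale A (Localization.Away (algebraMap A Γ(Z', ⊤) f)) := by
    intro f hf
    have h := prop_SpecMap_tensor @Etale A Γ(Z', ⊤) z' Z'.toSpecΓ hpb het f hf
    rw [HasRingHomProperty.Spec_iff (P := @Etale), CommRingCat.hom_ofHom,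
      RingHom.etale_algebraMap] at h
    exact formallyEtale_away_of_etale_tensor A Γ(Z', ⊤) f
  have h2 : ∀ f ∈ IsLocalRing.maximalIdeal A, ∃ t : Finset Γ(Z', ⊤), ∀ b : Γ(Z', ⊤), ∃ k : ℕ,
      f ^ k • b ∈ Submodule.span A (t : Set Γ(Z', ⊤)) := by
    intro f hf
    have h := prop_SpecMap_tensor @IsFinite A Γ(Z', ⊤) z' Z'.toSpecΓ hpb hfin f hf
    rw [IsFinite.SpecMap_iff, CommRingCat.hom_ofHom, RingHom.finite_algebraMap] at h
    exact exists_finset_of_finite_tensor A Γ(Z', ⊤) f
  have h3 : ∀ a : A, a ≠ 0 → IsSMulRegular Γ(Z', ⊤) a := by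
    intro a ha
    rw [isSMulRegular_iff_right_eq_zero_of_smul]
    intro b hb
    rw [hsmul] at hb
    exact eq_zero_of_strMap_mul_eq_zero A w₀ a ha b hb
  have h4 : ∀ (c : IsLocalRing.maximalIdeal A → Γ(Z', ⊤)) (e : IsLocalRing.maximalIdeal A → ℕ),
      (∀ f g : IsLocalRing.maximalIdeal A, (g : A) ^ e g • c f = (f : A) ^ e f • c g) →
      ∃ b : Γ(Z', ⊤), ∀ f : IsLocalRing.maximalIdeal A, (f : A) ^ e f • b = c f := by
    intro c e hc
    obtain ⟨b, hb⟩ := exists_glue_basicOpen (fun f : IsLocalRing.maximalIdeal A => φ (f : A))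
      (iSup_basicOpen_strMap A z') c e (by
        intro f g
        have := hc f g
        rw [hsmul, hsmul, map_pow, map_pow] at this
        exact this)
    refine ⟨b, fun f => ?_⟩
    rw [hsmul, map_pow]
    exact hb f
  obtain ⟨hBfin, hBet⟩ := finite_etale_of_punctured A hA Γ(Z', ⊤) h1 h2 h3 h4
  refine ⟨Spec (CommRingCat.of Γ(Z', ⊤)), Spec.map (CommRingCat.ofHom (algebraMap A Γ(Z', ⊤))),
    Z'.toSpecΓ, ?_, ?_, hpb⟩
  · rw [IsFinite.SpecMap_iff, CommRingCat.hom_ofHom, RingHom.finite_algebraMap]
    exact hBfin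
  · rw [HasRingHomProperty.Spec_iff (P := @Etale), CommRingCat.hom_ofHom, RingHom.etale_algebraMap]
    exact hBet

open Groth.Agent.Lib.Helper2.FEtGlue in
/-- **S0247**: purity holds for regular local rings of dimension at least two. -/
theorem purityHolds_of_isRegularLocalRing (A : Type u) [CommRing A] [IsRegularLocalRing A]
    (hA : (2 : WithBot ℕ∞) ≤ ringKrullDim A) : FEt.PurityHolds A :=
  essSurj_of_liftsFEt _ (liftsFEt_punctured A hA)

end Groth.Agent.Lib.Helper2.PurityScheme
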