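import Groth.Agent.Lib.Helper2.PurityExtend

/-!
# Per-cover extension step over a locally Noetherian base (helper2)

`extend_step'`: the one-step extension of `PurityExtend.extend_step`, for a locally Noetherian base
and with the purity hypothesis replaced by the extendability of the one cover at hand.
-/

set_option autoImplicit false
set_option linter.style.haveILetI false
set_option linter.unusedSectionVars false
universe u

open CategoryTheory CategoryTheory.Limits AlgebraicGeometry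
open Groth.Agent.Lib.Helper13.LimDescent
open Groth.Agent.Lib.Helper2

namespace Groth.Agent.Lib.Helper2.PurityExtend

open FEtGlue StalkLimit LimIsoDescent GlueTwo

/-- **One step of the extension** (per-cover form, locally Noetherian base).  If the open `U'`
contains all proper generizations of `x` (expressed by `hP`) and the restriction of the given cover
of `U'` to the punctured spectrum of `𝒪_{X,x}` extends over `Spec 𝒪_{X,x}`, then the cover extends
over an open `U'' ⊇ U'` containing `x`. -/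
theorem extend_step' {X : Scheme.{u}} [IsLocallyNoetherian X] (x : X) (U' : X.Opens)
    {T' : Scheme.{u}} (t' : T' ⟶ (U' : Scheme.{u})) [IsFinite t'] [Etale t']
    (hP : (X.fromSpecStalk x) ⁻¹ᵁ U' = FEt.puncturedSpec (X.presheaf.stalk x))
    (hpur : ∀ (ρ : ((FEt.puncturedSpec (X.presheaf.stalk x) : (Spec (CommRingCat.of (X.presheaf.stalk x))).Opens) :
        Scheme.{u}) ⟶ (U' : Scheme.{u})),
      ρ ≫ U'.ι = (FEt.puncturedSpec (X.presheaf.stalk x)).ι ≫ X.fromSpecStalk x →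
      ∃ (Wx : Scheme.{u}) (wx : Wx ⟶ Spec (CommRingCat.of (X.presheaf.stalk x))) (ax : pullback t' ρ ⟶ Wx),
        IsFinite wx ∧ Etale wx ∧
          IsPullback ax (pullback.snd t' ρ) wx (FEt.puncturedSpec (X.presheaf.stalk x)).ι) :
    ∃ (U'' : X.Opens) (hle : U' ≤ U'') (_ : x ∈ U'') (T'' : Scheme.{u})
      (t'' : T'' ⟶ (U'' : Scheme.{u})) (a' : T' ⟶ T''),
      IsFinite t'' ∧ Etale t'' ∧ IsPullback a' t' t'' (X.homOfLE hle) := by
  let A := X.presheaf.stalk x
  let Sx : Scheme.{u} := Spec (CommRingCat.of A)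
  let σ : Sx ⟶ X := X.fromSpecStalk x
  let P₀ : Sx.Opens := FEt.puncturedSpec A
  have hrange : Set.range (P₀.ι ≫ σ) ⊆ Set.range U'.ι := by
    rintro _ ⟨p, rfl⟩
    rw [Scheme.Opens.range_ι]
    have : p.1 ∈ (X.fromSpecStalk x) ⁻¹ᵁ U' := by rw [hP]; exact p.2
    exact this
  let ρ : (P₀ : Scheme.{u}) ⟶ (U' : Scheme.{u}) := IsOpenImmersion.lift U'.ι (P₀.ι ≫ σ) hrange
  have hρ : ρ ≫ U'.ι = P₀.ι ≫ σ := IsOpenImmersion.lift_fac _ _ _
  have hρpb : IsPullback ρ P₀.ι U'.ι σ := by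
    refine IsOpenImmersion.isPullback _ _ _ _ hρ.symm ?_
    rw [Scheme.Opens.opensRange_ι, Scheme.Opens.opensRange_ι]
    exact hP
  -- purity
  obtain ⟨Wx, wx, ax, hwxfin, hwxet, hV⟩ := hpur ρ hρ
  -- descend to a neighbourhood
  let wx' : Wx ⟶ (StalkLimit.cone X x).pt := wx
  have hwx'fin : IsFinite wx' := hwxfin
  have hwx'et : Etale wx' := hwxet
  obtain ⟨N₁, Z₁, z₁, a₁, hz₁fin, hz₁et, hA⟩ :=
    FEtLimit.exists_fet_descend (StalkLimit.D X x) (StalkLimit.cone X x) (StalkLimit.isLimitCone X x)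
      wx'
  let B₁ : Scheme.{u} := (StalkLimit.D X x).obj N₁
  let j₁ : B₁ ⟶ X := toX X x N₁
  let π₁ : Sx ⟶ B₁ := (StalkLimit.cone X x).π.app N₁
  have hσ : σ = π₁ ≫ j₁ := (cone_π_toX X x N₁).symm
  have hA' : IsPullback a₁ wx z₁ π₁ := hA
  -- the two restricted covers over the stage `N₁`
  let Xi : Scheme.{u} := pullback (z₁ ≫ j₁) U'.ι
  let f₁ : Xi ⟶ Z₁ := pullback.fst (z₁ ≫ j₁) U'.ι
  let f₂ : Xi ⟶ (U' : Scheme.{u}) := pullback.snd (z₁ ≫ j₁) U'.ι
  have hXi : IsPullback f₁ f₂ (z₁ ≫ j₁) U'.ι := IsPullback.of_hasPullback _ _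
  let xi : Xi ⟶ B₁ := f₁ ≫ z₁
  let Yi : Scheme.{u} := pullback (t' ≫ U'.ι) j₁
  let g₁ : Yi ⟶ T' := pullback.fst (t' ≫ U'.ι) j₁
  let yi : Yi ⟶ B₁ := pullback.snd (t' ≫ U'.ι) j₁
  have hYi : IsPullback g₁ yi (t' ≫ U'.ι) j₁ := IsPullback.of_hasPullback _ _
  obtain ⟨qX, hqX1, hqX2, hX⟩ := paste_X hA' hV hρpb hσ hXi
  obtain ⟨qY, hqY1, hY⟩ := paste_Y (IsPullback.of_hasPullback t' ρ) hρpb hσ hYi
  let isoX : pullback t' ρ ≅ (sysCone (StalkLimit.D X x) (StalkLimit.cone X x) N₁ xi).pt :=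
    hX.flip.isoPullback
  let isoY : pullback t' ρ ≅ (sysCone (StalkLimit.D X x) (StalkLimit.cone X x) N₁ yi).pt :=
    hY.flip.isoPullback
  have hisoX : isoX.hom ≫ cpf (StalkLimit.D X x) (StalkLimit.cone X x) xi = ax ≫ wx :=
    hX.flip.isoPullback_hom_fst
  have hisoY : isoY.hom ≫ cpf (StalkLimit.D X x) (StalkLimit.cone X x) yi =
      pullback.snd t' ρ ≫ P₀.ι := hY.flip.isoPullback_hom_fst
  have he : (isoX.symm ≪≫ isoY).hom ≫ cpf (StalkLimit.D X x) (StalkLimit.cone X x) yi =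
      cpf (StalkLimit.D X x) (StalkLimit.cone X x) xi := by
    rw [Iso.trans_hom, Iso.symm_hom, Category.assoc, hisoY, Iso.inv_comp_eq, hisoX, hV.w]
  -- instances
  haveI : IsFinite z₁ := hz₁fin
  haveI : Etale z₁ := hz₁et
  haveI : IsAffine B₁ := inferInstanceAs (IsAffine ((StalkLimit.D X x).obj N₁))
  haveI : IsAffine Z₁ := isAffine_of_isAffineHom z₁
  haveI : QuasiCompact f₁ := MorphismProperty.pullback_fst _ _ inferInstance
  haveI : CompactSpace Xi := QuasiCompact.compactSpace_of_compactSpace f₁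
  haveI : QuasiSeparatedSpace Xi := quasiSeparatedSpace_of_quasiSeparated f₁
  haveI : LocallyOfFinitePresentation xi := inferInstanceAs (LocallyOfFinitePresentation (f₁ ≫ z₁))
  haveI : QuasiCompact yi := MorphismProperty.pullback_snd _ _ inferInstance
  haveI : QuasiSeparated yi := MorphismProperty.pullback_snd _ _ inferInstance
  haveI : LocallyOfFinitePresentation yi := MorphismProperty.pullback_snd _ _ inferInstance
  haveI : CompactSpace Yi := QuasiCompact.compactSpace_of_compactSpace yi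
  haveI : QuasiSeparatedSpace Yi := quasiSeparatedSpace_of_quasiSeparated yi
  obtain ⟨m, em, hem⟩ := exists_stage_iso (StalkLimit.D X x) (StalkLimit.cone X x)
    (StalkLimit.isLimitCone X x) xi yi (isoX.symm ≪≫ isoY) he
  -- the smaller neighbourhood
  let N₂ : AffNhd X x := m.left
  let B₂ : Scheme.{u} := (StalkLimit.D X x).obj N₂
  let dφ : B₂ ⟶ B₁ := (StalkLimit.D X x).map m.hom
  let j₂ : B₂ ⟶ X := toX X x N₂
  have hj : dφ ≫ j₁ = j₂ := D_map_toX X x m.hom
  let A : Scheme.{u} := pullback dφ z₁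
  let α₀ : A ⟶ B₂ := pullback.fst dφ z₁
  let sA : A ⟶ Z₁ := pullback.snd dφ z₁
  have hA2 : IsPullback α₀ sA dφ z₁ := IsPullback.of_hasPullback _ _
  let Z : Scheme.{u} := (sys (StalkLimit.D X x) N₁ xi).obj m
  let pfZ : Z ⟶ B₂ := pf (StalkLimit.D X x) xi m
  let psZ : Z ⟶ Xi := ps (StalkLimit.D X x) xi m
  have hZ : IsPullback pfZ psZ dφ (f₁ ≫ z₁) := IsPullback.of_hasPullback dφ xi
  obtain ⟨a, ha1, ha2, ha3⟩ := paste_a hZ hA2 hXi
  have hYm : IsPullback (pf (StalkLimit.D X x) yi m) (ps (StalkLimit.D X x) yi m) dφ yi :=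
    IsPullback.of_hasPullback dφ yi
  have hb₀ := paste_b hYm hYi
  let b : Z ⟶ T' := em.hom ≫ ps (StalkLimit.D X x) yi m ≫ g₁
  have hb : IsPullback b pfZ (t' ≫ U'.ι) j₂ := by
    rw [← hj]
    refine IsPullback.of_iso hb₀ em.symm (Iso.refl _) (Iso.refl _) (Iso.refl _) ?_ ?_ ?_ ?_
    · rw [Iso.refl_hom, Category.comp_id, Iso.symm_hom, Iso.inv_hom_id_assoc]
    · rw [Iso.refl_hom, Category.comp_id, Iso.symm_hom, Iso.eq_inv_comp]; exact hem
    · simp
    · simp
  haveI : IsOpenImmersion a := MorphismProperty.of_isPullback ha2.flip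
    (inferInstanceAs (IsOpenImmersion f₁))
  haveI : IsOpenImmersion b := MorphismProperty.of_isPullback hb.flip
    (inferInstanceAs (IsOpenImmersion j₂))
  -- the base
  let U'' : X.Opens := U' ⊔ N₂.1
  have hle : U' ≤ U'' := le_sup_left
  have hj₂range : Set.range j₂ ⊆ Set.range U''.ι := by
    rw [range_toX, Scheme.Opens.range_ι]
    exact (le_sup_right : N₂.1 ≤ U'')
  let iV₁ : B₂ ⟶ (U'' : Scheme.{u}) := IsOpenImmersion.lift U''.ι j₂ hj₂range
  have hiV₁ : iV₁ ≫ U''.ι = j₂ := IsOpenImmersion.lift_fac _ _ _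
  haveI : IsOpenImmersion (iV₁ ≫ U''.ι) := by rw [hiV₁]; infer_instance
  haveI : IsOpenImmersion iV₁ := IsOpenImmersion.of_comp iV₁ U''.ι
  let iV₂ : (U' : Scheme.{u}) ⟶ (U'' : Scheme.{u}) := X.homOfLE hle
  have hiV₂ : iV₂ ≫ U''.ι = U'.ι := X.homOfLE_ι hle
  let α : A ⟶ (U'' : Scheme.{u}) := α₀ ≫ iV₁
  let β : T' ⟶ (U'' : Scheme.{u}) := t' ≫ iV₂
  have hαβ : a ≫ α = b ≫ β := by
    rw [← cancel_mono U''.ι]
    simp only [α, β, Category.assoc, hiV₁, hiV₂]
    rw [reassoc_of% ha1]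
    exact hb.w.symm
  have hα : ∀ p : A, α p ∈ Set.range iV₂ → p ∈ Set.range a := by
    rintro p ⟨v, hv⟩
    have h1 : (α₀ ≫ dφ ≫ j₁) p = U'.ι v := by
      have h2 := congrArg U''.ι hv
      rw [← Scheme.Hom.comp_apply, ← Scheme.Hom.comp_apply, hiV₂] at h2
      have hα' : α ≫ U''.ι = α₀ ≫ dφ ≫ j₁ := by simp only [α, Category.assoc, hiV₁, hj]
      rw [hα'] at h2
      exact h2.symm
    obtain ⟨z, hz, -⟩ := Scheme.exists_preimage_of_isPullback ha3 p v h1
    exact ⟨z, hz⟩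
  have hβ : ∀ y : T', β y ∈ Set.range iV₁ → y ∈ Set.range b := by
    rintro y ⟨q, hq⟩
    have h1 : (t' ≫ U'.ι) y = j₂ q := by
      have h2 := congrArg U''.ι hq
      rw [← Scheme.Hom.comp_apply, ← Scheme.Hom.comp_apply, hiV₁] at h2
      have hβ' : β ≫ U''.ι = t' ≫ U'.ι := by simp only [β, Category.assoc, hiV₂]
      rw [hβ'] at h2
      exact h2.symm
    obtain ⟨z, hz, -⟩ := Scheme.exists_preimage_of_isPullback hb y q h1
    exact ⟨z, hz⟩
  have hinr := isPullback_inr a b α β hαβ iV₂ t' rfl hα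
  have hinl := isPullback_inl a b α β hαβ iV₁ α₀ rfl hβ
  have hcov : ∀ s : (U'' : Scheme.{u}), s ∈ Set.range iV₁ ∨ s ∈ Set.range iV₂ := by
    intro s
    rcases (TopologicalSpace.Opens.mem_sup.mp s.2 : s.1 ∈ U' ∨ s.1 ∈ N₂.1) with h | h
    · right
      refine ⟨⟨s.1, h⟩, ?_⟩
      apply U''.ι.isOpenEmbedding.injective
      rw [← Scheme.Hom.comp_apply, hiV₂]
      rfl
    · left
      have h' : s.1 ∈ Set.range j₂ := by rw [range_toX]; exact h
      obtain ⟨q, hq⟩ := h'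
      refine ⟨q, ?_⟩
      apply U''.ι.isOpenEmbedding.injective
      rw [← Scheme.Hom.comp_apply, hiV₁]
      exact hq
  have hα₀fin : IsFinite α₀ := MorphismProperty.pullback_fst _ _ hz₁fin
  have hα₀et : Etale α₀ := MorphismProperty.pullback_fst _ _ hz₁et
  have hfin : IsFinite (glueHom a b α β hαβ) :=
    prop_of_two_opens @IsFinite _ iV₁ iV₂ hcov α₀ _ hinl hα₀fin t' _ hinr inferInstance
  have het : Etale (glueHom a b α β hαβ) :=
    prop_of_two_opens @Etale _ iV₁ iV₂ hcov α₀ _ hinl hα₀et t' _ hinr inferInstance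
  exact ⟨U'', hle, (le_sup_right : N₂.1 ≤ U'') N₂.2.2, pushout a b, glueHom a b α β hαβ,
    pushout.inr a b, hfin, het, hinr.flip⟩


end Groth.Agent.Lib.Helper2.PurityExtend
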