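import Mathlib
import Groth.Prelude.Def_FEt
import Groth.Agent.Lib.Helper2.PurityExtendStep
import Groth.Agent.Lib.Helper2.DenseOpenGen

/-!
# Extension of a finite étale cover over Noetherian opens, one point at a time (helper2)

* `StepHyp U t`: the per-point extendability hypothesis for a finite étale cover `t` of an open `U`
  of a locally Noetherian scheme.
* `exists_extension_over_noetherian_open`: under `StepHyp`, the cover extends over an open
  containing `U` and any given open with Noetherian underlying space (ACC on the opens of `V`,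
  `PurityExtend.exists_minimal_point`, `PurityExtend.extend_step'`).
-/

set_option autoImplicit false
set_option linter.style.haveILetI false
set_option linter.unusedSectionVars false
universe u

open CategoryTheory CategoryTheory.Limits AlgebraicGeometry TopologicalSpace

namespace Groth.Agent.Lib.Helper2.RegularExtend

open Groth.Agent.Lib.Helper2.PurityExtend Groth.Agent.Lib.Helper2.FEtGlue

/-- The per-point extendability hypothesis: whenever the cover `t` of `U` has been extended to a
cover `t'` of an open `U' ⊇ U` containing all proper generizations of `x ∉ U`, the restriction of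
`t'` to the punctured spectrum of `𝒪_{X,x}` extends over `Spec 𝒪_{X,x}`. -/
def StepHyp {X : Scheme.{u}} (U : X.Opens) {T : Scheme.{u}} (t : T ⟶ (U : Scheme.{u})) : Prop :=
  ∀ (x : X), x ∉ U → ∀ (U' : X.Opens) (hU : U ≤ U') (T' : Scheme.{u})
    (t' : T' ⟶ (U' : Scheme.{u})) (a : T ⟶ T'), IsFinite t' → Etale t' →
    IsPullback a t t' (X.homOfLE hU) →
    (X.fromSpecStalk x) ⁻¹ᵁ U' = FEt.puncturedSpec (X.presheaf.stalk x) →
    ∀ (ρ : ((FEt.puncturedSpec (X.presheaf.stalk x) :
        (Spec (CommRingCat.of (X.presheaf.stalk x))).Opens) : Scheme.{u}) ⟶ (U' : Scheme.{u})),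
      ρ ≫ U'.ι = (FEt.puncturedSpec (X.presheaf.stalk x)).ι ≫ X.fromSpecStalk x →
      ∃ (Wx : Scheme.{u}) (wx : Wx ⟶ Spec (CommRingCat.of (X.presheaf.stalk x)))
        (ax : pullback t' ρ ⟶ Wx), IsFinite wx ∧ Etale wx ∧
          IsPullback ax (pullback.snd t' ρ) wx (FEt.puncturedSpec (X.presheaf.stalk x)).ι

/-- Restriction of an open of `X` to an open `V`, as an open of the space `V`. -/
def resOpen {X : Scheme.{u}} (V : X.Opens) (U' : X.Opens) : Opens V :=
  ⟨Subtype.val ⁻¹' (U' : Set X), U'.isOpen.preimage continuous_subtype_val⟩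

/-- **Extension over a Noetherian open.**  Under the per-point extendability hypothesis, a finite
étale cover of `U` extends over an open containing `U` and a given open `V` with Noetherian
underlying space. -/
theorem exists_extension_over_noetherian_open {X : Scheme.{u}} [IsLocallyNoetherian X]
    (U : X.Opens) {T : Scheme.{u}} (t : T ⟶ (U : Scheme.{u})) [IsFinite t] [Etale t]
    (hstep : StepHyp U t) (V : X.Opens) (hV : NoetherianSpace V) :
    ∃ (U' : X.Opens) (hU : U ≤ U') (_ : V ≤ U') (T' : Scheme.{u}) (t' : T' ⟶ (U' : Scheme.{u}))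
      (a : T ⟶ T'), IsFinite t' ∧ Etale t' ∧ IsPullback a t t' (X.homOfLE hU) := by
  let 𝒮 : Set (Opens V) := {W | ∃ (U' : X.Opens) (hU : U ≤ U') (T' : Scheme.{u})
      (t' : T' ⟶ (U' : Scheme.{u})) (a : T ⟶ T'), IsFinite t' ∧ Etale t' ∧
        IsPullback a t t' (X.homOfLE hU) ∧ W = resOpen V U'}
  have hne : 𝒮.Nonempty := by
    refine ⟨resOpen V U, U, le_rfl, T, t, 𝟙 _, inferInstance, inferInstance, ?_, rfl⟩
    rw [X.homOfLE_rfl]
    exact IsPullback.of_horiz_isIso ⟨by simp⟩
  obtain ⟨W, hWmem, hmax⟩ := (wellFounded_gt (α := Opens V)).has_min 𝒮 hne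
  obtain ⟨U', hU, T', t', a, hfin, het, hpb, rfl⟩ := hWmem
  by_cases hVU' : V ≤ U'
  · exact ⟨U', hU, hVU', T', t', a, hfin, het, hpb⟩
  · exfalso
    have hQS : QuasiSober V := V.isOpen.isOpenEmbedding_subtypeVal.quasiSober
    have hZne : ((resOpen V U' : Set V)ᶜ).Nonempty := by
      obtain ⟨v, hvV, hvU'⟩ := Set.not_subset.mp hVU'
      exact ⟨⟨v, hvV⟩, hvU'⟩
    obtain ⟨x', hx'Z, hx'min⟩ := exists_minimal_point ((resOpen V U' : Set V)ᶜ)
      (resOpen V U').isOpen.isClosed_compl hZne
    obtain ⟨x, hxV⟩ := x'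
    have hxU' : x ∉ U' := hx'Z
    have hgen : ∀ y : X, y ⤳ x → y ∉ U' → y = x := by
      intro y hy hyU'
      have hyV : y ∈ V := hy.mem_open V.isOpen hxV
      have hspec : (⟨y, hyV⟩ : V) ⤳ ⟨x, hxV⟩ := Topology.IsInducing.subtypeVal.specializes_iff.mp hy
      exact congrArg Subtype.val (hx'min ⟨y, hyV⟩ hspec hyU')
    have hP := preimage_fromSpecStalk_eq_punctured x U' hxU' hgen
    have hxU : x ∉ U := fun hx => hxU' (hU hx)
    haveI := hfin
    haveI := het
    obtain ⟨U'', hle, hxU'', T'', t'', a', hfin'', het'', hpb''⟩ :=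
      extend_step' x U' t' hP (hstep x hxU U' hU T' t' a hfin het hpb hP)
    refine hmax (resOpen V U'') ⟨U'', hU.trans hle, T'', t'', a ≫ a', hfin'', het'', ?_, rfl⟩ ?_
    · have := hpb.paste_horiz hpb''
      rwa [X.homOfLE_homOfLE] at this
    · refine lt_of_le_of_ne (fun v hv => hle hv) (fun heq => ?_)
      have : (⟨x, hxV⟩ : V) ∈ resOpen V U' := by rw [heq]; exact hxU''
      exact hxU' this

end Groth.Agent.Lib.Helper2.RegularExtend
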