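import Mathlib
import Groth.Prelude.Def_FEt
import Groth.Agent.Lib.Helper2.RegularExtendNoeth
import Groth.Agent.Lib.Helper2.PurityScheme

/-!
# The per-point extendability hypothesis from regularity (helper2)

* `exists_prime_mem_of_dense`, `mem_of_dense_of_ringKrullDim_eq_zero`,
  `preimage_eq_punctured_of_dim_one`: dense opens and the spectra of the local rings.
* `stepHyp_of_regular`: `RegularExtend.StepHyp` for a dense open `U` of a locally Noetherian scheme
  whose local rings off `U` are regular, for a cover which extends at the points of codimension one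
  (purity for regular local rings of dimension `≥ 2`, `PurityScheme.liftsFEt_punctured`).
-/

set_option autoImplicit false
set_option linter.style.haveILetI false
set_option linter.unusedSectionVars false
universe u

open CategoryTheory CategoryTheory.Limits AlgebraicGeometry TopologicalSpace

namespace Groth.Agent.Lib.Helper2.RegularExtend

open Groth.Agent.Lib.Helper2.PurityExtend Groth.Agent.Lib.Helper2.FEtGlue
  Groth.Agent.Lib.Helper2.DenseOpenGen

/-- Every generization of `x` in a dense open comes from a prime of `𝒪_{X,x}`. -/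
lemma exists_prime_mem_of_dense {X : Scheme.{u}} [IsLocallyNoetherian X] (U : X.Opens)
    (hU : Dense (U : Set X)) (x : X) (p : Spec (X.presheaf.stalk x)) :
    ∃ p' : Spec (X.presheaf.stalk x), p'.asIdeal ≤ p.asIdeal ∧ X.fromSpecStalk x p' ∈ U := by
  obtain ⟨y, hyU, hys⟩ := exists_specializes_mem_of_dense U hU (X.fromSpecStalk x p)
  have hpx : X.fromSpecStalk x p ⤳ x := by
    have : X.fromSpecStalk x p ∈ Set.range (X.fromSpecStalk x) := ⟨p, rfl⟩
    rwa [Scheme.range_fromSpecStalk] at this
  have hy' : y ∈ Set.range (X.fromSpecStalk x) := by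
    rw [Scheme.range_fromSpecStalk]
    exact hys.trans hpx
  obtain ⟨p', rfl⟩ := hy'
  refine ⟨p', ?_, hyU⟩
  have : p' ⤳ p := (X.fromSpecStalk x).isEmbedding.isInducing.specializes_iff.mp hys
  exact (PrimeSpectrum.le_iff_specializes p' p).mpr this

/-- A point with zero-dimensional local ring lies in every dense open. -/
lemma mem_of_dense_of_ringKrullDim_eq_zero {X : Scheme.{u}} [IsLocallyNoetherian X] (U : X.Opens)
    (hU : Dense (U : Set X)) (x : X) (h0 : ringKrullDim (X.presheaf.stalk x) = 0) : x ∈ U := by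
  obtain ⟨p', -, hp'U⟩ := exists_prime_mem_of_dense U hU x (IsLocalRing.closedPoint _)
  haveI : Ring.KrullDimLE 0 (X.presheaf.stalk x) := ringKrullDimZero_iff_ringKrullDim_eq_zero.mpr h0
  have hmax : p'.asIdeal.IsMaximal := Ideal.IsPrime.isMaximal' p'.2
  have : p' = IsLocalRing.closedPoint (X.presheaf.stalk x) :=
    PrimeSpectrum.ext (IsLocalRing.eq_maximalIdeal hmax)
  rw [this, Scheme.fromSpecStalk_closedPoint] at hp'U
  exact hp'U

/-- At a point off a dense open with one-dimensional local ring, the preimage of the open in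
`Spec 𝒪_{X,x}` is the punctured spectrum. -/
lemma preimage_eq_punctured_of_dim_one {X : Scheme.{u}} [IsLocallyNoetherian X] (U : X.Opens)
    (hU : Dense (U : Set X)) (x : X) (hx : x ∉ U) (h1 : ringKrullDim (X.presheaf.stalk x) = 1) :
    (X.fromSpecStalk x) ⁻¹ᵁ U = FEt.puncturedSpec (X.presheaf.stalk x) := by
  ext p
  have hiff : p ∈ FEt.puncturedSpec (X.presheaf.stalk x) ↔
      p ≠ IsLocalRing.closedPoint (X.presheaf.stalk x) := Iff.rfl
  refine Iff.trans ?_ hiff.symm
  change X.fromSpecStalk x p ∈ U ↔ _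
  constructor
  · intro h hp
    rw [hp, Scheme.fromSpecStalk_closedPoint] at h
    exact hx h
  · intro hp
    obtain ⟨p', hle, hp'U⟩ := exists_prime_mem_of_dense U hU x p
    haveI : Ring.KrullDimLE 1 (X.presheaf.stalk x) := Ring.krullDimLE_iff.mpr (by rw [h1]; rfl)
    have hnm : ¬ p.asIdeal.IsMaximal := by
      intro hm
      exact hp (PrimeSpectrum.ext (IsLocalRing.eq_maximalIdeal hm))
    have hmin : p.asIdeal ∈ minimalPrimes (X.presheaf.stalk x) :=
      (Ring.krullDimLE_one_iff.mp inferInstance p.asIdeal p.2).resolve_right hnm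
    have hle' : p.asIdeal ≤ p'.asIdeal := hmin.2 ⟨p'.2, bot_le⟩ hle
    have : p' = p := PrimeSpectrum.ext (le_antisymm hle hle')
    rwa [this] at hp'U

/-- **The per-point extendability hypothesis from regularity.**  If `U` is dense, the local rings
off `U` are regular and the cover extends at the points of codimension one, then `StepHyp` holds
(purity for regular local rings of dimension at least two). -/
theorem stepHyp_of_regular {X : Scheme.{u}} [IsLocallyNoetherian X] (U : X.Opens)
    (hU : Dense (U : Set X)) {T : Scheme.{u}} (t : T ⟶ (U : Scheme.{u})) [IsFinite t] [Etale t]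
    (hreg : ∀ x : X, x ∉ U → IsRegularLocalRing (X.presheaf.stalk x))
    (hunr : ∀ ξ : X, ξ ∉ U → ringKrullDim (X.presheaf.stalk ξ) = 1 →
      ∀ {P Q : Scheme.{u}} (p₁ : P ⟶ (U : Scheme.{u}))
        (p₂ : P ⟶ Spec (CommRingCat.of (X.presheaf.stalk ξ))),
        IsPullback p₁ p₂ U.ι (X.fromSpecStalk ξ) → ∀ (q₁ : Q ⟶ T) (q₂ : Q ⟶ P),
        IsPullback q₁ q₂ t p₁ →
        ∃ (W : Scheme.{u}) (w : W ⟶ Spec (CommRingCat.of (X.presheaf.stalk ξ))) (b : Q ⟶ W),
          IsFinite w ∧ Etale w ∧ IsPullback b q₂ w p₂) :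
    StepHyp U t := by
  intro x hxU U' hUU' T' t' a hfin het hpb hP ρ hρ
  haveI := hreg x hxU
  haveI := hfin
  haveI := het
  by_cases h2 : (2 : WithBot ℕ∞) ≤ ringKrullDim (X.presheaf.stalk x)
  · exact Groth.Agent.Lib.Helper2.PurityScheme.liftsFEt_punctured (X.presheaf.stalk x) h2
      (pullback t' ρ) (pullback.snd t' ρ) inferInstance inferInstance
  · have h0 : ringKrullDim (X.presheaf.stalk x) ≠ 0 :=
      fun h0 => hxU (mem_of_dense_of_ringKrullDim_eq_zero U hU x h0)
    have h1 : ringKrullDim (X.presheaf.stalk x) = 1 := by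
      have hnn : (0 : WithBot ℕ∞) ≤ ringKrullDim (X.presheaf.stalk x) :=
        ringKrullDim_nonneg_of_nontrivial
      obtain ⟨n, hn⟩ : ∃ n : ℕ∞, ringKrullDim (X.presheaf.stalk x) = n :=
        ⟨(ringKrullDim (X.presheaf.stalk x)).unbot (fun h => by rw [h] at hnn; simp at hnn),
          (WithBot.coe_unbot _ _).symm⟩
      rw [hn] at h2 h0 ⊢
      have h2' : n < 2 := by
        by_contra h
        exact h2 (show ((2 : ℕ∞) : WithBot ℕ∞) ≤ ↑n from WithBot.coe_le_coe.mpr (not_lt.mp h))
      have hnt : n ≠ ⊤ := ne_top_of_lt h2'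
      lift n to ℕ using hnt
      have h2'' : n < 2 := by exact_mod_cast h2'
      have h0' : n ≠ 0 := by
        rintro rfl
        exact h0 rfl
      have : n = 1 := by omega
      subst this
      rfl
    let P₀ : (Spec (CommRingCat.of (X.presheaf.stalk x))).Opens :=
      FEt.puncturedSpec (X.presheaf.stalk x)
    let σ : Spec (CommRingCat.of (X.presheaf.stalk x)) ⟶ X := X.fromSpecStalk x
    have hPU : σ ⁻¹ᵁ U = P₀ := preimage_eq_punctured_of_dim_one U hU x hxU h1
    have hrange : Set.range (P₀.ι ≫ σ) ⊆ Set.range U.ι := by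
      rintro _ ⟨p, rfl⟩
      rw [Scheme.Opens.range_ι]
      have : p.1 ∈ σ ⁻¹ᵁ U := by rw [hPU]; exact p.2
      exact this
    let ρU : (P₀ : Scheme.{u}) ⟶ (U : Scheme.{u}) := IsOpenImmersion.lift U.ι (P₀.ι ≫ σ) hrange
    have hρU : ρU ≫ U.ι = P₀.ι ≫ σ := IsOpenImmersion.lift_fac _ _ _
    have hρUpb : IsPullback ρU P₀.ι U.ι σ := by
      refine IsOpenImmersion.isPullback _ _ _ _ hρU.symm ?_
      rw [Scheme.Opens.opensRange_ι, Scheme.Opens.opensRange_ι]
      exact hPU
    have hρρ : ρU ≫ X.homOfLE hUU' = ρ := by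
      rw [← cancel_mono U'.ι, Category.assoc, X.homOfLE_ι, hρU, hρ]
    let q₁ : pullback t' ρ ⟶ T := hpb.lift (pullback.fst t' ρ) (pullback.snd t' ρ ≫ ρU) (by
      rw [pullback.condition, Category.assoc, hρρ])
    have hq₁a : q₁ ≫ a = pullback.fst t' ρ := hpb.lift_fst _ _ _
    have hq₁t : q₁ ≫ t = pullback.snd t' ρ ≫ ρU := hpb.lift_snd _ _ _
    have hbig : IsPullback (q₁ ≫ a) (pullback.snd t' ρ) t' (ρU ≫ X.homOfLE hUU') := by
      rw [hq₁a, hρρ]
      exact IsPullback.of_hasPullback t' ρ
    have hQ : IsPullback q₁ (pullback.snd t' ρ) t ρU := IsPullback.of_right hbig hq₁t hpb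
    exact hunr x hxU h1 ρU P₀.ι hρUpb q₁ (pullback.snd t' ρ) hQ

end Groth.Agent.Lib.Helper2.RegularExtend
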