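import Mathlib
import Groth.Prelude.Def_FEt
import Groth.Agent.Lib.Helper2.RegularExtendStep
import Groth.Agent.Lib.Helper2.FEtGlueDense
import Groth.Agent.Lib.Helper2.FEtDenseFull
import Groth.Agent.Lib.Helper73.RegularNormal

/-!
# Extension of finite étale covers over a regular complement, concrete form (helper2)

* `denseRange_fU`, `normal_stalk_off_fU`, `glueHyp_of_regular`: the hypotheses of the Zariski gluing
  `FEtGlueDense.exists_lift_of_glueHyp` (lifts over affine opens from
  `exists_extension_over_noetherian_open`, fullness from `FEtDenseFull`).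
* `exists_extension_of_regular`: `X` locally Noetherian, `U` dense open with regular local rings off
  `U`; a finite étale cover of `U` extending at the points of codimension one extends to `X`.
-/

set_option autoImplicit false
set_option linter.style.haveILetI false
set_option linter.unusedSectionVars false
universe u

open CategoryTheory CategoryTheory.Limits AlgebraicGeometry TopologicalSpace

namespace Groth.Agent.Lib.Helper2.RegularExtend

open Groth.Agent.Lib.Helper2.FEtGlueDense Groth.Agent.Lib.Helper2.FEtDenseFull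

/-- The base change of a dense open to an affine open is dense. -/
lemma denseRange_fU {X : Scheme.{u}} (U : X.Opens) (hU : Dense (U : Set X)) (V : X.affineOpens) :
    DenseRange (fU U.ι V) := by
  have h1 : Set.range (pullback.snd U.ι V.1.ι) = V.1.ι ⁻¹' Set.range U.ι :=
    Scheme.Pullback.range_snd U.ι V.1.ι
  change Dense (Set.range (pullback.snd U.ι V.1.ι))
  rw [h1, Scheme.Opens.range_ι]
  exact hU.preimage V.1.ι.isOpenEmbedding.isOpenMap

/-- The local rings of an affine open off the base change of `U` are normal domains. -/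
lemma normal_stalk_off_fU {X : Scheme.{u}} (U : X.Opens)
    (hreg : ∀ x : X, x ∉ U → IsRegularLocalRing (X.presheaf.stalk x)) (V : X.affineOpens)
    (s : (V.1 : Scheme.{u})) (hs : s ∉ Set.range (fU U.ι V)) :
    IsDomain ((V.1 : Scheme.{u}).presheaf.stalk s) ∧
      IsIntegrallyClosed ((V.1 : Scheme.{u}).presheaf.stalk s) := by
  have h1 : Set.range (pullback.snd U.ι V.1.ι) = V.1.ι ⁻¹' Set.range U.ι :=
    Scheme.Pullback.range_snd U.ι V.1.ι
  have hsU : V.1.ι s ∉ U := by
    intro h
    apply hs
    change s ∈ Set.range (pullback.snd U.ι V.1.ι)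
    rw [h1, Scheme.Opens.range_ι]
    exact h
  haveI := hreg _ hsU
  let e : X.presheaf.stalk (V.1.ι s) ≃+* (V.1 : Scheme.{u}).presheaf.stalk s :=
    (asIso (V.1.ι.stalkMap s)).commRingCatIsoToRingEquiv
  haveI : IsRegularLocalRing ((V.1 : Scheme.{u}).presheaf.stalk s) :=
    IsRegularLocalRing.of_ringEquiv e
  exact Groth.Agent.Lib.Helper73.RegularNormal.isIntegrallyClosed_of_isRegularLocalRing _

/-- The hypotheses of the Zariski gluing for a dense open with regular complement. -/
theorem glueHyp_of_regular {X : Scheme.{u}} [IsLocallyNoetherian X] (U : X.Opens)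
    (hU : Dense (U : Set X)) {T : Scheme.{u}} (t : T ⟶ (U : Scheme.{u})) [IsFinite t] [Etale t]
    (hreg : ∀ x : X, x ∉ U → IsRegularLocalRing (X.presheaf.stalk x)) (hstep : StepHyp U t) :
    GlueHyp U.ι t where
  lift V := by
    haveI : IsNoetherianRing Γ(X, V.1) := IsLocallyNoetherian.component_noetherian V
    obtain ⟨U', hUU', hVU', T', t', a, hfin, het, hpb⟩ :=
      exists_extension_over_noetherian_open U t hstep V.1 (noetherianSpace_of_isAffineOpen V.1 V.2)
    let j : (V.1 : Scheme.{u}) ⟶ (U' : Scheme.{u}) := X.homOfLE hVU'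
    have hj : j ≫ U'.ι = V.1.ι := X.homOfLE_ι hVU'
    have hjU : X.homOfLE hUU' ≫ U'.ι = U.ι := X.homOfLE_ι hUU'
    have hcomm : (pullback.fst (t ≫ U.ι) V.1.ι ≫ a) ≫ t' = pullback.snd (t ≫ U.ι) V.1.ι ≫ j := by
      rw [← cancel_mono U'.ι]
      simp only [Category.assoc]
      rw [hj, reassoc_of% hpb.w, hjU]
      exact pullback.condition
    let aV : ZU' U.ι t V ⟶ pullback t' j :=
      pullback.lift (pullback.fst (t ≫ U.ι) V.1.ι ≫ a) (pullback.snd (t ≫ U.ι) V.1.ι) hcomm
    have haV1 : aV ≫ pullback.fst t' j = pullback.fst (t ≫ U.ι) V.1.ι ≫ a := pullback.lift_fst _ _ _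
    have haV2 : aV ≫ pullback.snd t' j = pullback.snd (t ≫ U.ι) V.1.ι := pullback.lift_snd _ _ _
    have hbot : fU U.ι V ≫ j = pullback.fst U.ι V.1.ι ≫ X.homOfLE hUU' := by
      rw [← cancel_mono U'.ι]
      simp only [Category.assoc]
      rw [hj, hjU]
      exact pullback.condition.symm
    have hbig : IsPullback (aV ≫ pullback.fst t' j) (zU' U.ι t V) t' (fU U.ι V ≫ j) := by
      rw [haV1, hbot]
      exact (isPullback_zU' U.ι t V).paste_horiz hpb
    refine ⟨pullback t' j, pullback.snd t' j, aV,
      MorphismProperty.pullback_snd (P := @IsFinite) _ _ hfin,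
      MorphismProperty.pullback_snd (P := @Etale) _ _ het, ?_⟩
    exact IsPullback.of_right hbig (by rw [haV2, zU'_snd]) (IsPullback.of_hasPullback t' j)
  ext V := by
    intro Y Z Y' y z hyf hye hzf hze a y' hpb k hk
    exact exists_extension_of_isPullback (fU U.ι V) (denseRange_fU U hU V)
      (normal_stalk_off_fU U hreg V) y z a y' hpb k hk
  dense V := by
    intro Y Y' y hye a y' hpb
    exact denseRange_of_isPullback (fU U.ι V) (denseRange_fU U hU V) y a y' hpb

/-- **Extension of finite étale covers over a regular complement** (concrete form): `X` locally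
Noetherian, `U` a dense open such that the local rings of `X` off `U` are regular; a finite étale
cover of `U` which extends at the points of codimension one off `U` extends to `X`. -/
theorem exists_extension_of_regular {X : Scheme.{u}} [IsLocallyNoetherian X] (U : X.Opens)
    (hU : Dense (U : Set X)) {T : Scheme.{u}} (t : T ⟶ (U : Scheme.{u})) [IsFinite t] [Etale t]
    (hreg : ∀ x : X, x ∉ U → IsRegularLocalRing (X.presheaf.stalk x))
    (hunr : ∀ ξ : X, ξ ∉ U → ringKrullDim (X.presheaf.stalk ξ) = 1 →
      ∀ {P Q : Scheme.{u}} (p₁ : P ⟶ (U : Scheme.{u}))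
        (p₂ : P ⟶ Spec (CommRingCat.of (X.presheaf.stalk ξ))),
        IsPullback p₁ p₂ U.ι (X.fromSpecStalk ξ) → ∀ (q₁ : Q ⟶ T) (q₂ : Q ⟶ P),
        IsPullback q₁ q₂ t p₁ →
        ∃ (W : Scheme.{u}) (w : W ⟶ Spec (CommRingCat.of (X.presheaf.stalk ξ))) (b : Q ⟶ W),
          IsFinite w ∧ Etale w ∧ IsPullback b q₂ w p₂) :
    ∃ (Z : Scheme.{u}) (z : Z ⟶ X) (a : T ⟶ Z), IsFinite z ∧ Etale z ∧ IsPullback a t z U.ι :=
  exists_lift_of_glueHyp U.ι t
    (glueHyp_of_regular U hU t hreg (stepHyp_of_regular U hU t hreg hunr))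

end Groth.Agent.Lib.Helper2.RegularExtend
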