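import Mathlib
import Groth.Prelude.Def_FEt
import Groth.Agent.Lib.Helper2.RegularExtendStep
import Groth.Agent.Lib.Helper73.RegularNormal

/-!
# Extension of finite étale covers at points of codimension one by the valuative criterion (helper2)

* `valuationRing_of_isRegularLocalRing_of_dim_one`.
* `exists_extension_at_codim_one`: `Y` locally Noetherian, `V` dense open, `ξ ∉ V` with `𝒪_{Y,ξ}`
  regular of dimension one, `X'` universally closed and separated over `B`, `φ : V ⟶ X'` over `B`;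
  the pullback to `V` of a finite étale cover of `X'` extends over `Spec 𝒪_{Y,ξ}` (in the form
  required by `RegularExtend.exists_extension_of_regular`).
-/

set_option autoImplicit false
set_option linter.style.haveILetI false
set_option linter.unusedSectionVars false
universe u

open CategoryTheory CategoryTheory.Limits AlgebraicGeometry TopologicalSpace

namespace Groth.Agent.Lib.Helper2.ValCritExtend

open Groth.Agent.Lib.Helper2.RegularExtend

/-- A regular local ring of Krull dimension one is a valuation ring. -/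
theorem valuationRing_of_isRegularLocalRing_of_dim_one (R : Type u) [CommRing R] [IsDomain R]
    [IsRegularLocalRing R] (h1 : ringKrullDim R = 1) : ValuationRing R := by
  obtain ⟨-, hic⟩ :=
    Groth.Agent.Lib.Helper73.RegularNormal.isIntegrallyClosed_of_isRegularLocalRing R
  haveI : Ring.KrullDimLE 1 R := Ring.krullDimLE_iff.mpr (by rw [h1]; rfl)
  have h4 : IsIntegrallyClosed R ∧
      ∀ P : Ideal R, P ≠ ⊥ → P.IsPrime → P = IsLocalRing.maximalIdeal R :=
    ⟨hic, fun P hP hP' => IsLocalRing.eq_maximalIdeal (hP'.isMaximal_of_ne_bot hP)⟩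
  have := (tfae_of_isNoetherianRing_of_isLocalRing_of_isDomain R).out 3 1
  exact this.mp h4

/-- **Extension at a point of codimension one by the valuative criterion.**  `Y` locally
Noetherian, `V` a dense open, `ξ ∉ V` with `𝒪_{Y,ξ}` regular of dimension one; `X'` universally
closed and separated over `B`, and `φ : V ⟶ X'` a `B`-morphism.  Then the pullback to `V` of any
finite étale cover of `X'` extends over `Spec 𝒪_{Y,ξ}`. -/
theorem exists_extension_at_codim_one {Y X' B : Scheme.{u}} [IsLocallyNoetherian Y] (V : Y.Opens)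
    (hV : Dense (V : Set Y)) (ξ : Y) [IsRegularLocalRing (Y.presheaf.stalk ξ)]
    (h1 : ringKrullDim (Y.presheaf.stalk ξ) = 1)
    (h : X' ⟶ B) [UniversallyClosed h] [IsSeparated h] (β : Y ⟶ B)
    (φ : (V : Scheme.{u}) ⟶ X') (hφ : φ ≫ h = V.ι ≫ β)
    {W T : Scheme.{u}} (wX : W ⟶ X') [IsFinite wX] [Etale wX] (τ : T ⟶ W)
    (t : T ⟶ (V : Scheme.{u})) (hT : IsPullback τ t wX φ)
    {P Q : Scheme.{u}} (p₁ : P ⟶ (V : Scheme.{u}))
    (p₂ : P ⟶ Spec (CommRingCat.of (Y.presheaf.stalk ξ)))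
    (hP : IsPullback p₁ p₂ V.ι (Y.fromSpecStalk ξ)) (q₁ : Q ⟶ T) (q₂ : Q ⟶ P)
    (hQ : IsPullback q₁ q₂ t p₁) :
    ∃ (W' : Scheme.{u}) (w : W' ⟶ Spec (CommRingCat.of (Y.presheaf.stalk ξ))) (b : Q ⟶ W'),
      IsFinite w ∧ Etale w ∧ IsPullback b q₂ w p₂ := by
  haveI hdom : IsDomain (Y.presheaf.stalk ξ) :=
    (Groth.Agent.Lib.Helper73.RegularNormal.isIntegrallyClosed_of_isRegularLocalRing _).1
  haveI hval : ValuationRing (Y.presheaf.stalk ξ) :=
    valuationRing_of_isRegularLocalRing_of_dim_one (Y.presheaf.stalk ξ) h1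
  let K := FractionRing (Y.presheaf.stalk ξ)
  let σ : Spec (CommRingCat.of (Y.presheaf.stalk ξ)) ⟶ Y := Y.fromSpecStalk ξ
  let g : Spec (CommRingCat.of K) ⟶ Spec (CommRingCat.of (Y.presheaf.stalk ξ)) :=
    Spec.map (CommRingCat.ofHom (algebraMap (Y.presheaf.stalk ξ) K))
  let b₀ : Spec (CommRingCat.of (Y.presheaf.stalk ξ)) := ⟨⊥, Ideal.isPrime_bot⟩
  have hg : ∀ x : Spec (CommRingCat.of K), g x = b₀ := by
    intro x
    apply PrimeSpectrum.ext
    change Ideal.comap (algebraMap (Y.presheaf.stalk ξ) K) x.asIdeal = ⊥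
    have hx : x.asIdeal = ⊥ := Ideal.eq_bot_of_prime x.asIdeal
    rw [hx, Ideal.comap_bot_of_injective _ (IsFractionRing.injective (Y.presheaf.stalk ξ) K)]
  have hb₀V : σ b₀ ∈ V := by
    obtain ⟨p', hle, hp'V⟩ := exists_prime_mem_of_dense V hV ξ b₀
    have : p' = b₀ := PrimeSpectrum.ext (le_bot_iff.mp hle)
    rwa [this] at hp'V
  haveI : IsOpenImmersion p₂ :=
    MorphismProperty.of_isPullback (P := @IsOpenImmersion) hP inferInstance
  obtain ⟨pt₀, -, hpt₀⟩ := Scheme.exists_preimage_of_isPullback hP ⟨σ b₀, hb₀V⟩ b₀ rfl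
  have hrange : Set.range g ⊆ Set.range p₂ := by
    rintro _ ⟨x, rfl⟩
    exact ⟨pt₀, hpt₀.trans (hg x).symm⟩
  let κ : Spec (CommRingCat.of K) ⟶ P := IsOpenImmersion.lift p₂ g hrange
  have hκ : κ ≫ p₂ = g := IsOpenImmersion.lift_fac _ _ _
  have hκd : DenseRange κ := by
    rw [DenseRange, dense_iff_inter_open]
    rintro O hO ⟨o, ho⟩
    have hOo : IsOpen (p₂ '' O) := p₂.isOpenEmbedding.isOpenMap O hO
    have hb₀q : b₀ ⤳ p₂ o := (PrimeSpectrum.le_iff_specializes b₀ (p₂ o)).mp bot_le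
    obtain ⟨o', ho', ho'b⟩ := hb₀q.mem_open hOo ⟨o, ho, rfl⟩
    obtain ⟨x₀⟩ : Nonempty (Spec (CommRingCat.of K)) := inferInstanceAs (Nonempty (PrimeSpectrum K))
    refine ⟨κ x₀, ?_, ⟨x₀, rfl⟩⟩
    have : p₂ (κ x₀) = p₂ o' := by
      rw [← Scheme.Hom.comp_apply, hκ, hg, ho'b]
    rw [p₂.isOpenEmbedding.injective this]
    exact ho'
  haveI : IsDominant κ := ⟨hκd⟩
  haveI : IsReduced P := isReduced_of_isOpenImmersion p₂
  -- the valuative square
  have hex : ValuativeCriterion.Existence h := by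
    have h0 : UniversallyClosed h := inferInstance
    rw [UniversallyClosed.eq_valuativeCriterion] at h0
    exact h0.1
  let S : ValuativeCommSq h :=
    { R := Y.presheaf.stalk ξ
      K := K
      i₁ := κ ≫ p₁ ≫ φ
      i₂ := σ ≫ β
      commSq := ⟨by
        rw [Category.assoc, Category.assoc, hφ, reassoc_of% hP.w, reassoc_of% hκ]⟩ }
  obtain ⟨⟨l, hl1, hl2⟩⟩ := (hex S).exists_lift
  have hl1' : g ≫ l = κ ≫ p₁ ≫ φ := hl1
  have hl2' : l ≫ h = σ ≫ β := hl2
  have key : p₂ ≫ l = p₁ ≫ φ := by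
    refine ext_of_isDominant_of_isSeparated h ?_ κ ?_
    · rw [Category.assoc, hl2', Category.assoc, hφ, reassoc_of% hP.w]
    · rw [reassoc_of% hκ, hl1']
  -- the cover
  have hcomm : (q₁ ≫ τ) ≫ wX = (q₂ ≫ p₂) ≫ l := by
    rw [Category.assoc, hT.w, reassoc_of% hQ.w, Category.assoc, key]
  let b : Q ⟶ pullback wX l := pullback.lift (q₁ ≫ τ) (q₂ ≫ p₂) hcomm
  have hb1 : b ≫ pullback.fst wX l = q₁ ≫ τ := pullback.lift_fst _ _ _
  have hb2 : b ≫ pullback.snd wX l = q₂ ≫ p₂ := pullback.lift_snd _ _ _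
  have hbig : IsPullback (b ≫ pullback.fst wX l) q₂ wX (p₂ ≫ l) := by
    rw [hb1, key]
    exact hQ.paste_horiz hT
  refine ⟨pullback wX l, pullback.snd wX l, b, inferInstance, inferInstance, ?_⟩
  exact IsPullback.of_right hbig hb2 (IsPullback.of_hasPullback wX l)

end Groth.Agent.Lib.Helper2.ValCritExtend
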