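import Mathlib
import Groth.Prelude.Def_FEt
import Groth.Agent.Lib.Helper2.RegularExtendMain
import Groth.Agent.Lib.Helper2.ValCritExtend
import Groth.Agent.Lib.Helper2.FEtDenseFull

/-!
# Tools for the birational invariance of finite étale covers (helper2)

* `exists_extension_of_pullback`: `Y` locally Noetherian, `V` dense open with regular local rings
  off `V`, `X'` proper over `B`, `φ : V ⟶ X'` over `B`; the pullback to `V` of a finite étale cover
  of `X'` extends to `Y` (valuative criterion in codimension one + purity in codimension `≥ 2`).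
* `full_faithful_restrict_of_dense_of_normal`: full faithfulness of restriction to a dense open with
  normal complement.
* `exists_iso_of_iso_restrict`: isomorphisms of finite étale covers extend from such an open.
-/

set_option autoImplicit false
set_option linter.style.haveILetI false
set_option linter.unusedSectionVars false
universe u

open CategoryTheory CategoryTheory.Limits AlgebraicGeometry TopologicalSpace

namespace Groth.Agent.Lib.Helper2.BirationalFEt

open Groth.Agent.Lib.Helper2.RegularExtend Groth.Agent.Lib.Helper2.ValCritExtend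
  Groth.Agent.Lib.Helper2.FEtDenseFull Groth.Agent.Lib.Helper69

/-- **Extension of pulled back covers.**  `Y` locally Noetherian, `V` a dense open with regular
local rings off `V`; `X'` proper over `B` and `φ : V ⟶ X'` a `B`-morphism.  Then the pullback to
`V` of any finite étale cover of `X'` extends to a finite étale cover of `Y`. -/
theorem exists_extension_of_pullback {Y X' B : Scheme.{u}} [IsLocallyNoetherian Y] (V : Y.Opens)
    (hV : Dense (V : Set Y))
    (hreg : ∀ y : Y, y ∉ V → IsRegularLocalRing (Y.presheaf.stalk y))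
    (h : X' ⟶ B) [UniversallyClosed h] [IsSeparated h] (β : Y ⟶ B)
    (φ : (V : Scheme.{u}) ⟶ X') (hφ : φ ≫ h = V.ι ≫ β)
    {W T : Scheme.{u}} (wX : W ⟶ X') [IsFinite wX] [Etale wX] (τ : T ⟶ W)
    (t : T ⟶ (V : Scheme.{u})) (hT : IsPullback τ t wX φ) :
    ∃ (Z : Scheme.{u}) (z : Z ⟶ Y) (a : T ⟶ Z), IsFinite z ∧ Etale z ∧ IsPullback a t z V.ι := by
  haveI : IsFinite t := MorphismProperty.of_isPullback (P := @IsFinite) hT inferInstance
  haveI : Etale t := MorphismProperty.of_isPullback (P := @Etale) hT inferInstance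
  refine exists_extension_of_regular V hV t hreg ?_
  intro ξ hξ h1 P Q p₁ p₂ hP q₁ q₂ hQ
  haveI := hreg ξ hξ
  exact exists_extension_at_codim_one V hV ξ h1 h β φ hφ wX τ t hT p₁ p₂ hP q₁ q₂ hQ

/-- Full faithfulness of restriction of finite étale covers to a dense open with normal complement. -/
theorem full_faithful_restrict_of_dense_of_normal {S' S : Scheme.{u}} [IsLocallyNoetherian S]
    (i : S' ⟶ S) [IsOpenImmersion i] (hi : DenseRange i)
    (hn : ∀ s : S, s ∉ Set.range i →
      IsDomain (S.presheaf.stalk s) ∧ IsIntegrallyClosed (S.presheaf.stalk s)) :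
    (FEt.restrict i).Full ∧ (FEt.restrict i).Faithful := by
  refine ⟨full_restrict_of_exists_extension i
    (fun Y Z k hk => exists_extension_of_dense_of_normal i hi hn Y Z k hk), ?_⟩
  refine faithful_restrict_of_clopen i ?_
  intro Y C hC hsub
  have hYet : Etale Y.hom := Y.prop.2
  have hd : DenseRange (pullback.fst Y.hom i) :=
    denseRange_of_isPullback i hi Y.hom _ _ (IsPullback.of_hasPullback Y.hom i)
  have : Dense C := hd.mono hsub
  rw [← hC.1.closure_eq]
  exact this.closure_eq

/-- **Isomorphisms of finite étale covers extend from a dense open with normal complement.** -/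
theorem exists_iso_of_iso_restrict {S' S : Scheme.{u}} [IsLocallyNoetherian S]
    (i : S' ⟶ S) [IsOpenImmersion i] (hi : DenseRange i)
    (hn : ∀ s : S, s ∉ Set.range i →
      IsDomain (S.presheaf.stalk s) ∧ IsIntegrallyClosed (S.presheaf.stalk s))
    {A B A' B' : Scheme.{u}} (a : A ⟶ S) (b : B ⟶ S) [IsFinite a] [Etale a] [IsFinite b] [Etale b]
    (αA : A' ⟶ A) (a' : A' ⟶ S') (hA : IsPullback αA a' a i)
    (αB : B' ⟶ B) (b' : B' ⟶ S') (hB : IsPullback αB b' b i)
    (θ : A' ≅ B') (hθ : θ.hom ≫ b' = a') :
    ∃ Θ : A ≅ B, Θ.hom ≫ b = a ∧ αA ≫ Θ.hom = θ.hom ≫ αB := by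
  have hθ' : θ.inv ≫ a' = b' := by rw [← hθ, Iso.inv_hom_id_assoc]
  obtain ⟨F, hF1, hF2⟩ := exists_extension_of_isPullback i hi hn a b αA a' hA (θ.hom ≫ αB) (by
    rw [Category.assoc, hB.w, reassoc_of% hθ, hA.w])
  obtain ⟨G, hG1, hG2⟩ := exists_extension_of_isPullback i hi hn b a αB b' hB (θ.inv ≫ αA) (by
    rw [Category.assoc, hA.w, reassoc_of% hθ', hB.w])
  have hdA : DenseRange αA := denseRange_of_isPullback i hi a αA a' hA
  have hdB : DenseRange αB := denseRange_of_isPullback i hi b αB b' hB
  have h1 : F ≫ G = 𝟙 A :=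
    eq_of_comp_eq_of_denseRange a (F ≫ G) (𝟙 A)
      (by rw [Category.assoc, hG1, hF1, Category.id_comp]) αA hdA
      (by rw [reassoc_of% hF2, hG2, Iso.hom_inv_id_assoc, Category.comp_id])
  have h2 : G ≫ F = 𝟙 B :=
    eq_of_comp_eq_of_denseRange b (G ≫ F) (𝟙 B)
      (by rw [Category.assoc, hF1, hG1, Category.id_comp]) αB hdB
      (by rw [reassoc_of% hG2, hF2, Iso.inv_hom_id_assoc, Category.comp_id])
  exact ⟨⟨F, G, h1, h2⟩, hF1, hF2⟩

end Groth.Agent.Lib.Helper2.BirationalFEt
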