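import Mathlib
import Groth.Prelude.Def_FEt
import Groth.Agent.Lib.Helper2.BirationalFEt

/-!
# Birational invariance of finite étale covers of regular proper schemes (helper2)

* `exists_equivalence_of_essImage`: two fully faithful functors with the same essential image
  differ by an equivalence of their sources (Mathlib's `Functor.essImage.liftFunctor`).
* `essImage_restrict_of_pullback`: the restriction of a finite étale cover of a proper `X` along a
  map factoring through a rational map `V ⟶ X` from a dense open of a regular `Y` comes from `Y`.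
* `exists_equivalence_of_birational` (= S2918).
-/

set_option autoImplicit false
set_option linter.style.haveILetI false
set_option linter.unusedSectionVars false
universe u v₁ v₂ v₃ u₁ u₂ u₃

open CategoryTheory CategoryTheory.Limits AlgebraicGeometry TopologicalSpace

namespace Groth.Agent.Lib.Helper2.BirationalFEt

/-- Two fully faithful functors with the same essential image differ by an equivalence of their
sources. -/
theorem exists_equivalence_of_essImage {𝒜 : Type u₁} {ℬ : Type u₂} {𝒞 : Type u₃} [Category.{v₁} 𝒜]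
    [Category.{v₂} ℬ] [Category.{v₃} 𝒞] (F : 𝒜 ⥤ 𝒞) (G : ℬ ⥤ 𝒞) [F.Full] [F.Faithful] [G.Full]
    [G.Faithful] (h1 : ∀ A : 𝒜, G.essImage (F.obj A)) (h2 : ∀ B : ℬ, F.essImage (G.obj B)) :
    ∃ Φ : 𝒜 ≌ ℬ, Nonempty (F ≅ Φ.functor ⋙ G) := by
  let H : 𝒜 ⥤ ℬ := Functor.essImage.liftFunctor F G h1
  let ε : H ⋙ G ≅ F := Functor.essImage.liftFunctorCompIso F G h1
  haveI : H.Faithful := Functor.Faithful.of_comp_iso ε
  haveI : H.Full := Functor.Full.of_comp_faithful_iso ε
  haveI : H.EssSurj := by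
    constructor
    intro B
    obtain ⟨A, ⟨i⟩⟩ := h2 B
    exact ⟨A, ⟨G.preimageIso (ε.app A ≪≫ i)⟩⟩
  haveI : H.IsEquivalence := {}
  exact ⟨H.asEquivalence, ⟨ε.symm⟩⟩

open Groth.Agent.Lib.Helper2.RegularExtend Groth.Agent.Lib.Helper2.FEtDenseFull in
/-- The essential image of restriction along `φ ≫ U.ι`-type maps: key step of birational
invariance.  `X` proper over `B`, `Y` locally Noetherian over `B` with regular local rings off the
dense open `V`, `φ : V ⟶ X` over `B`, and `i : U' ⟶ X`, `ψ : U' ⟶ V` with `ψ ≫ φ = i`.  Then the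
restriction along `i` of a finite étale cover of `X` is the restriction along `ψ ≫ V.ι` of a finite
étale cover of `Y`. -/
theorem essImage_restrict_of_pullback {X Y B U' : Scheme.{u}} [IsLocallyNoetherian Y]
    (V : Y.Opens) (hV : Dense (V : Set Y))
    (hreg : ∀ y : Y, y ∉ V → IsRegularLocalRing (Y.presheaf.stalk y))
    (h : X ⟶ B) [UniversallyClosed h] [IsSeparated h] (β : Y ⟶ B)
    (φ : (V : Scheme.{u}) ⟶ X) (hφ : φ ≫ h = V.ι ≫ β)
    (i : U' ⟶ X) (ψ : U' ⟶ (V : Scheme.{u})) (hψ : ψ ≫ φ = i) (A : FEt.Cat X) :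
    (FEt.restrict (ψ ≫ V.ι)).essImage ((FEt.restrict i).obj A) := by
  have hAfin : IsFinite A.hom := A.prop.1
  have hAet : Etale A.hom := A.prop.2
  let wX : A.left ⟶ X := A.hom
  haveI : IsFinite wX := hAfin
  haveI : Etale wX := hAet
  let τ : pullback wX φ ⟶ A.left := pullback.fst wX φ
  let t : pullback wX φ ⟶ (V : Scheme.{u}) := pullback.snd wX φ
  obtain ⟨Z, z, a, hzf, hze, hpb⟩ := exists_extension_of_pullback V hV hreg h β φ hφ wX τ t
    (IsPullback.of_hasPullback wX φ)
  let Zc : FEt.Cat Y := MorphismProperty.Over.mk ⊤ z ⟨hzf, hze⟩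
  let c : pullback wX i ⟶ pullback wX φ :=
    pullback.lift (pullback.fst wX i) (pullback.snd wX i ≫ ψ) (by
      rw [pullback.condition, Category.assoc, hψ])
  have hc1 : c ≫ τ = pullback.fst wX i := pullback.lift_fst _ _ _
  have hc2 : c ≫ t = pullback.snd wX i ≫ ψ := pullback.lift_snd _ _ _
  have hcbig : IsPullback (c ≫ τ) (pullback.snd wX i) wX (ψ ≫ φ) := by
    rw [hc1, hψ]
    exact IsPullback.of_hasPullback wX i
  have hcpb : IsPullback c (pullback.snd wX i) t ψ :=
    IsPullback.of_right hcbig hc2 (IsPullback.of_hasPullback wX φ)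
  have hpaste : IsPullback (c ≫ a) (pullback.snd wX i) z (ψ ≫ V.ι) := hcpb.paste_horiz hpb
  refine ⟨Zc, ⟨MorphismProperty.Over.isoMk hpaste.isoPullback.symm ?_⟩⟩
  change hpaste.isoPullback.inv ≫ pullback.snd wX i = pullback.snd z (ψ ≫ V.ι)
  rw [Iso.inv_comp_eq, hpaste.isoPullback_hom_snd]

end Groth.Agent.Lib.Helper2.BirationalFEt

namespace Groth.Agent.Lib.Helper2.BirationalFEt

open Groth.Agent.Lib.Helper2.RegularExtend Groth.Agent.Lib.Helper2.FEtDenseFull in
/-- **Birational invariance of the category of finite étale covers** for regular proper schemes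
over a common base (S2918). -/
theorem exists_equivalence_of_birational {B X Y : Scheme.{u}}
    (f : X ⟶ B) (g : Y ⟶ B) [IsProper f] [IsProper g]
    [IsLocallyNoetherian X] [IsLocallyNoetherian Y]
    (hX : ∀ x : X, IsRegularLocalRing (X.presheaf.stalk x))
    (hY : ∀ y : Y, IsRegularLocalRing (Y.presheaf.stalk y))
    (U : X.Opens) (V : Y.Opens) (hU : Dense (U : Set X)) (hV : Dense (V : Set Y))
    (e : (U : Scheme.{u}) ≅ (V : Scheme.{u})) (he : e.hom ≫ V.ι ≫ g = U.ι ≫ f) :
    ∃ Φ : FEt.Cat X ≌ FEt.Cat Y,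
      Nonempty (FEt.restrict U.ι ≅ Φ.functor ⋙ FEt.restrict V.ι ⋙ FEt.restrict e.hom) := by
  have hXn : ∀ x : X, x ∉ Set.range U.ι →
      IsDomain (X.presheaf.stalk x) ∧ IsIntegrallyClosed (X.presheaf.stalk x) := fun x _ => by
    haveI := hX x
    exact Groth.Agent.Lib.Helper73.RegularNormal.isIntegrallyClosed_of_isRegularLocalRing _
  have hYn : ∀ y : Y, y ∉ Set.range (e.hom ≫ V.ι) →
      IsDomain (Y.presheaf.stalk y) ∧ IsIntegrallyClosed (Y.presheaf.stalk y) := fun y _ => by
    haveI := hY y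
    exact Groth.Agent.Lib.Helper73.RegularNormal.isIntegrallyClosed_of_isRegularLocalRing _
  have hUd : DenseRange U.ι := by
    change Dense (Set.range U.ι)
    rw [Scheme.Opens.range_ι]
    exact hU
  have hVd : DenseRange V.ι := by
    change Dense (Set.range V.ι)
    rw [Scheme.Opens.range_ι]
    exact hV
  have hGd : DenseRange (e.hom ≫ V.ι) := by
    refine hVd.mono ?_
    rintro _ ⟨v, rfl⟩
    refine ⟨e.inv v, ?_⟩
    rw [← Scheme.Hom.comp_apply, Iso.inv_hom_id_assoc]
  obtain ⟨hFfull, hFfaith⟩ := full_faithful_restrict_of_dense_of_normal U.ι hUd hXn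
  obtain ⟨hGfull, hGfaith⟩ := full_faithful_restrict_of_dense_of_normal (e.hom ≫ V.ι) hGd hYn
  have hφ : (e.inv ≫ U.ι) ≫ f = V.ι ≫ g := by
    rw [Category.assoc, ← he, Iso.inv_hom_id_assoc]
  have hφ' : (e.hom ≫ V.ι) ≫ g = U.ι ≫ f := by rw [Category.assoc, he]
  have h1 : ∀ A : FEt.Cat X, (FEt.restrict (e.hom ≫ V.ι)).essImage ((FEt.restrict U.ι).obj A) :=
    fun A => essImage_restrict_of_pullback V hV (fun y _ => hY y) f g (e.inv ≫ U.ι) hφ U.ι e.hom
      (by rw [Iso.hom_inv_id_assoc]) A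
  have h2 : ∀ A : FEt.Cat Y, (FEt.restrict U.ι).essImage ((FEt.restrict (e.hom ≫ V.ι)).obj A) := by
    intro A
    have := essImage_restrict_of_pullback U hU (fun x _ => hX x) g f (e.hom ≫ V.ι) hφ'
      (e.hom ≫ V.ι) (𝟙 _) (Category.id_comp _) A
    rwa [Category.id_comp] at this
  obtain ⟨Φ, ⟨ε⟩⟩ := exists_equivalence_of_essImage (FEt.restrict U.ι) (FEt.restrict (e.hom ≫ V.ι))
    h1 h2
  exact ⟨Φ, ⟨ε ≪≫ Functor.isoWhiskerLeft Φ.functor
    (MorphismProperty.Over.pullbackComp (P := FEt.prop.{u}) (Q := ⊤) e.hom V.ι)⟩⟩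

end Groth.Agent.Lib.Helper2.BirationalFEt
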