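import Mathlib.AlgebraicGeometry.Morphisms.Integral
import Mathlib.AlgebraicGeometry.Morphisms.Affine
import Mathlib.AlgebraicGeometry.Morphisms.ClosedImmersion
import Mathlib.AlgebraicGeometry.Morphisms.Flat
import Mathlib.AlgebraicGeometry.Morphisms.FiniteType
import Mathlib.AlgebraicGeometry.PullbackCarrier
import Mathlib.RingTheory.Nakayama

/-!
# Closed immersions can be detected after a bijective closed base change (helper2)

* `isAffineHom_of_isClosedEmbedding`: a morphism that is topologically a closed embedding is affine.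
* `surjective_of_finiteType_of_le_nilradical`: nilpotent Nakayama for finite type ring maps.
* `surjective_of_isPushout`: the pushout form.
* `ker_app_le_nilradical_of_surjective`
* `isClosedImmersion_of_bijective_closed_base_change`
-/

set_option autoImplicit false
universe u
open AlgebraicGeometry CategoryTheory Limits

namespace Groth.Agent.Lib.Helper2

/-- A morphism of schemes that is a closed embedding on underlying spaces is affine. -/
theorem isAffineHom_of_isClosedEmbedding {X Y : Scheme.{u}} (f : X ⟶ Y)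
    (hf : Topology.IsClosedEmbedding f) : IsAffineHom f := by
  apply isAffineHom_of_forall_exists_isAffineOpen
  intro y
  by_cases hy : y ∈ Set.range f
  · obtain ⟨x, rfl⟩ := hy
    -- affine open nbhd V of f x
    obtain ⟨_, ⟨V, hV : IsAffineOpen V, rfl⟩, hyV, -⟩ :=
      (Y.isBasis_affineOpens).exists_subset_of_mem_open (Set.mem_univ (f x)) isOpen_univ
    -- affine open nbhd U of x inside f⁻¹ V
    obtain ⟨_, ⟨U, hU : IsAffineOpen U, rfl⟩, hxU, hUV⟩ :=
      (X.isBasis_affineOpens).exists_subset_of_mem_open (show x ∈ (f ⁻¹ᵁ V : Set X) from hyV)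
        (f ⁻¹ᵁ V).isOpen
    -- U = f⁻¹ W₀
    obtain ⟨W₀, hW₀, hW₀U⟩ := hf.isInducing.isOpen_iff.mp U.isOpen
    let W : Y.Opens := ⟨W₀, hW₀⟩
    have hxW : f x ∈ W := by
      have : x ∈ f ⁻¹' W₀ := by rw [hW₀U]; exact hxU
      exact this
    obtain ⟨h, hhW, hxh⟩ := hV.exists_basicOpen_le (V := W) ⟨f x, hxW⟩ hyV
    refine ⟨Y.basicOpen h, hxh, hV.basicOpen h, ?_⟩
    have hle : f ⁻¹ᵁ Y.basicOpen h ≤ U := by
      intro z hz
      have : z ∈ f ⁻¹' W₀ := hhW hz
      rw [hW₀U] at this
      exact this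
    have key : f ⁻¹ᵁ Y.basicOpen h =
        X.basicOpen (X.presheaf.map (homOfLE hUV).op (f.app V h)) := by
      rw [Scheme.basicOpen_res, ← Scheme.preimage_basicOpen]
      exact (inf_eq_right.mpr hle).symm
    rw [key]
    exact hU.basicOpen _
  · -- y outside the closed range
    have hopen : IsOpen (Set.range f)ᶜ := hf.isClosed_range.isOpen_compl
    obtain ⟨_, ⟨V, hV : IsAffineOpen V, rfl⟩, hyV, hVsub⟩ :=
      (Y.isBasis_affineOpens).exists_subset_of_mem_open (show y ∈ (Set.range f)ᶜ from hy) hopen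
    refine ⟨V, hyV, hV, ?_⟩
    have : f ⁻¹ᵁ V = ⊥ := by
      ext z
      simp only [TopologicalSpace.Opens.coe_bot, Set.mem_empty_iff_false, iff_false]
      intro hz
      exact hVsub hz ⟨z, rfl⟩
    rw [this]
    exact isAffineOpen_bot X

/-- If `φ : A → B` is of finite type, `I` is a nil ideal of `A` and `B = φ(A) + I B`, then `φ` is
surjective. -/
lemma surjective_of_finiteType_of_le_nilradical {A B : Type u} [CommRing A] [CommRing B]
    (φ : A →+* B) (hφ : φ.FiniteType) (I : Ideal A) (hI : I ≤ nilradical A)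
    (h : ∀ b : B, ∃ a : A, b - φ a ∈ I.map φ) : Function.Surjective φ := by
  have hIB : I.map φ ≤ nilradical B := by
    rw [Ideal.map_le_iff_le_comap]
    intro x hx
    have : IsNilpotent x := hI hx
    exact this.map φ
  have hint : φ.IsIntegral := by
    intro b
    obtain ⟨a, ha⟩ := h b
    obtain ⟨N, hN⟩ : IsNilpotent (b - φ a) := hIB ha
    refine ⟨(Polynomial.X - Polynomial.C a) ^ N, (Polynomial.monic_X_sub_C a).pow N, ?_⟩
    simp [Polynomial.eval₂_pow, hN]
  have hfin : φ.Finite := RingHom.IsIntegral.to_finite hint hφ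
  let _ := φ.toAlgebra
  have hfin' : Module.Finite A B := hfin
  have hle : (⊤ : Submodule A B) ≤ LinearMap.range (Algebra.linearMap A B) := by
    refine Submodule.le_of_le_smul_of_le_jacobson_bot (I := I) Module.Finite.fg_top
      (hI.trans (Ideal.radical_le_jacobson)) ?_
    intro b _
    obtain ⟨a, ha⟩ := h b
    have h1 : b - φ a ∈ (I • ⊤ : Submodule A B) := by
      rw [Ideal.smul_top_eq_map]
      exact ha
    have h2 : b = φ a + (b - φ a) := by ring
    rw [h2]
    exact Submodule.add_mem_sup ⟨a, rfl⟩ h1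
  intro b
  obtain ⟨a, ha⟩ := hle (Submodule.mem_top (x := b))
  exact ⟨a, ha⟩

/-- Pushout form: in a pushout square of commutative rings with `π`, `σ` surjective, `ker π` nil
and `φ` of finite type, `φ` is surjective. -/
lemma surjective_of_isPushout {A B A' B' : CommRingCat.{u}} {φ : A ⟶ B} {π : A ⟶ A'}
    {β : B ⟶ B'} {σ : A' ⟶ B'} (H : IsPushout φ π β σ)
    (hπ : Function.Surjective π.hom) (hσ : Function.Surjective σ.hom)
    (hker : RingHom.ker π.hom ≤ nilradical A) (hφ : φ.hom.FiniteType) :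
    Function.Surjective φ.hom := by
  refine surjective_of_finiteType_of_le_nilradical φ.hom hφ (RingHom.ker π.hom) hker ?_
  intro b
  let J : Ideal B := (RingHom.ker π.hom).map φ.hom
  let q : B ⟶ CommRingCat.of (B ⧸ J) := CommRingCat.ofHom (Ideal.Quotient.mk J)
  have hqφ : RingHom.ker π.hom ≤ RingHom.ker ((Ideal.Quotient.mk J).comp φ.hom) := by
    intro x hx
    rw [RingHom.mem_ker, RingHom.comp_apply, Ideal.Quotient.eq_zero_iff_mem]
    exact Ideal.mem_map_of_mem _ hx
  let r : A' ⟶ CommRingCat.of (B ⧸ J) :=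
    CommRingCat.ofHom (RingHom.liftOfSurjective π.hom hπ ⟨(Ideal.Quotient.mk J).comp φ.hom, hqφ⟩)
  have hcomm : φ ≫ q = π ≫ r := by
    ext x
    simp only [CommRingCat.hom_comp, RingHom.comp_apply, q, r, CommRingCat.hom_ofHom]
    rw [RingHom.liftOfRightInverse_comp_apply]
    rfl
  obtain ⟨a', ha'⟩ := hσ (β.hom b)
  obtain ⟨a, rfl⟩ := hπ a'
  refine ⟨a, ?_⟩
  have h1 : β.hom (b - φ.hom a) = 0 := by
    rw [map_sub, ← ha', sub_eq_zero]
    have := congrArg (fun k => k.hom a) H.w
    simpa using this.symm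
  have h2 : q.hom (b - φ.hom a) = 0 := by
    have := congrArg (fun k => k.hom (b - φ.hom a)) (H.inl_desc q r hcomm)
    simp only [CommRingCat.hom_comp, RingHom.comp_apply] at this
    rw [← this, h1, map_zero]
  have h3 : (Ideal.Quotient.mk J) (b - φ.hom a) = 0 := h2
  exact Ideal.Quotient.eq_zero_iff_mem.mp h3

/-- Kernel of sections of a surjective morphism over a compact open is nil. -/
lemma ker_app_le_nilradical_of_surjective {S S' : Scheme.{u}} (i : S' ⟶ S)
    (hi : Function.Surjective i) (U : S.Opens) (hU : IsCompact (U : Set S)) :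
    RingHom.ker (i.app U).hom ≤ nilradical Γ(S, U) := by
  intro s hs
  rw [mem_nilradical, Scheme.isNilpotent_iff_basicOpen_eq_bot_of_isCompact hU]
  have h1 : i ⁻¹ᵁ (S.basicOpen s) = ⊥ := by
    rw [Scheme.preimage_basicOpen]
    have : (i.app U).hom s = 0 := hs
    rw [show (i.app U) s = 0 from this]
    exact Scheme.basicOpen_zero _ _
  ext y
  simp only [TopologicalSpace.Opens.coe_bot, Set.mem_empty_iff_false, iff_false]
  intro hy
  obtain ⟨y', rfl⟩ := hi y
  have : y' ∈ i ⁻¹ᵁ (S.basicOpen s) := hy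
  rw [h1] at this
  exact this

theorem isClosedImmersion_of_bijective_closed_base_change {X S S' : Scheme.{u}} (f : X ⟶ S)
    (i : S' ⟶ S) [IsClosedImmersion i] (hi : Function.Bijective i)
    [LocallyOfFiniteType f] [IsClosedImmersion (pullback.snd f i)] : IsClosedImmersion f := by
  have : Surjective i := ⟨hi.surjective⟩
  have hfst : Function.Surjective (pullback.fst f i) := (pullback.fst f i).surjective
  -- f is a closed embedding
  have hcomp : Topology.IsClosedEmbedding (pullback.fst f i ≫ f) := by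
    rw [pullback.condition]
    exact (pullback.snd f i ≫ i).isClosedEmbedding
  have hfemb : Topology.IsClosedEmbedding f := by
    refine Topology.IsClosedEmbedding.of_continuous_injective_isClosedMap f.continuous ?_ ?_
    · intro x x' hxx'
      obtain ⟨p, rfl⟩ := hfst x
      obtain ⟨p', rfl⟩ := hfst x'
      have : (pullback.fst f i ≫ f) p = (pullback.fst f i ≫ f) p' := by
        simpa using hxx'
      rw [hcomp.injective this]
    · intro Z hZ
      have : f '' Z = (pullback.fst f i ≫ f) '' ((pullback.fst f i) ⁻¹' Z) := by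
        ext y
        constructor
        · rintro ⟨x, hx, rfl⟩
          obtain ⟨p, rfl⟩ := hfst x
          exact ⟨p, hx, by simp⟩
        · rintro ⟨p, hp, rfl⟩
          exact ⟨pullback.fst f i p, hp, by simp⟩
      rw [this]
      exact hcomp.isClosedMap _ (hZ.preimage (pullback.fst f i).continuous)
  have haff : IsAffineHom f := isAffineHom_of_isClosedEmbedding f hfemb
  rw [isClosedImmersion_iff_isAffineHom]
  refine ⟨haff, fun U hU => ?_⟩
  have H := IsPullback.of_hasPullback f i
  have hV : IsAffineOpen (f ⁻¹ᵁ U) := hU.preimage f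
  have hT : IsAffineOpen (i ⁻¹ᵁ U) := hU.preimage i
  have hUY : (pullback.snd f i) ⁻¹ᵁ (i ⁻¹ᵁ U) =
      (pullback.fst f i) ⁻¹ᵁ (f ⁻¹ᵁ U) ⊓ (pullback.snd f i) ⁻¹ᵁ (i ⁻¹ᵁ U) := by
    have : (pullback.fst f i) ⁻¹ᵁ (f ⁻¹ᵁ U) = (pullback.snd f i) ⁻¹ᵁ (i ⁻¹ᵁ U) := by
      rw [← Scheme.Hom.comp_preimage, ← Scheme.Hom.comp_preimage, pullback.condition]
    rw [this, inf_idem]
  have hiso := isIso_pushoutSection_of_isAffineOpen H (US := U) (UT := i ⁻¹ᵁ U) (UX := f ⁻¹ᵁ U)
    le_rfl le_rfl hUY hU hT hV
  have hpo := (isIso_pushoutSection_iff H le_rfl le_rfl hUY).mp hiso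
  have key := surjective_of_isPushout hpo ?_ ?_ ?_ ?_
  · rw [Scheme.Hom.app_eq_appLE]
    exact key
  · rw [← Scheme.Hom.app_eq_appLE]
    exact Scheme.Hom.app_surjective i U hU
  · have := Scheme.Hom.app_surjective (pullback.snd f i) (i ⁻¹ᵁ U) hT
    rw [Scheme.Hom.app_eq_appLE] at this
    exact this
  · rw [← Scheme.Hom.app_eq_appLE]
    exact ker_app_le_nilradical_of_surjective i hi.surjective U hU.isCompact
  · exact HasRingHomProperty.appLE @LocallyOfFiniteType f inferInstance ⟨U, hU⟩ ⟨_, hV⟩ le_rfl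

end Groth.Agent.Lib.Helper2
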