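import Groth.Agent.Lib.Helper2.InjHull
import Mathlib.RingTheory.Filtration
import Mathlib.RingTheory.Finiteness.Basic
import Mathlib.Order.CompactlyGenerated.Basic

/-!
# Power torsion of injective modules over Noetherian rings (helper2)
-/

set_option autoImplicit false
universe u v

namespace Groth.Agent.Lib.Helper2

section
variable {R : Type u} [CommRing R] {I : Type v} [AddCommGroup I] [Module R I] (J : Ideal R)

/-- The `J`-power torsion submodule `⨆ n, I[J^n]`. -/
abbrev powTorsion : Submodule R I :=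
  ⨆ n : ℕ, Submodule.torsionBySet R I ((J ^ n : Ideal R) : Set R)

lemma torsionBySet_pow_mono :
    Monotone fun n : ℕ => Submodule.torsionBySet R I ((J ^ n : Ideal R) : Set R) := by
  intro m n hmn x hx
  rw [Submodule.mem_torsionBySet_iff] at hx ⊢
  rintro ⟨a, ha⟩
  exact hx ⟨a, Ideal.pow_le_pow_right hmn ha⟩

lemma mem_powTorsion_iff {x : I} :
    x ∈ powTorsion (I := I) J ↔ ∃ n : ℕ, ∀ a ∈ J ^ n, a • x = 0 := by
  rw [powTorsion, Submodule.mem_iSup_of_directed _ (torsionBySet_pow_mono J).directed_le]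
  simp only [Submodule.mem_torsionBySet_iff, Subtype.forall, SetLike.mem_coe]

/-- A finitely generated submodule of the power torsion is killed by a single power. -/
lemma exists_pow_le_torsionBySet {N : Submodule R I} (hN : N.FG) (h : N ≤ powTorsion J) :
    ∃ n : ℕ, N ≤ Submodule.torsionBySet R I ((J ^ n : Ideal R) : Set R) := by
  have hc := (Submodule.fg_iff_compact N).mp hN
  rw [CompleteLattice.isCompactElement_iff_le_of_directed_sSup_le] at hc
  obtain ⟨_, ⟨n, rfl⟩, hn⟩ := hc (Set.range fun n : ℕ =>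
      Submodule.torsionBySet R I ((J ^ n : Ideal R) : Set R)) (Set.range_nonempty _)
    (torsionBySet_pow_mono J).directed_le.directedOn_range (by rwa [sSup_range])
  exact ⟨n, hn⟩

end

/-- Over a Noetherian ring, the `J`-power torsion of an injective module is injective. -/
theorem injective_powTorsion {R : Type u} [CommRing R] [IsNoetherianRing R] {I : Type u}
    [AddCommGroup I] [Module R I] (hI : Module.Injective R I) (J : Ideal R) :
    Module.Injective R (powTorsion (I := I) J) := by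
  apply Module.Baer.injective
  intro 𝔞 g
  -- the image of `g` is killed by some `J ^ n`
  let g' : 𝔞 →ₗ[R] I := (powTorsion (I := I) J).subtype ∘ₗ g
  have hfg : (LinearMap.range g').FG := by
    rw [LinearMap.range_eq_map]
    exact Submodule.FG.map _ (Module.Finite.fg_top)
  obtain ⟨n, hn⟩ := exists_pow_le_torsionBySet J hfg (by
    rintro _ ⟨a, rfl⟩
    exact (g a).2)
  have hn' : ∀ a : 𝔞, ∀ j ∈ J ^ n, j • g' a = 0 := by
    intro a j hj
    have := hn ⟨a, rfl⟩
    rw [Submodule.mem_torsionBySet_iff] at this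
    exact this ⟨j, hj⟩
  -- Artin–Rees
  obtain ⟨k, hk⟩ := Ideal.exists_pow_inf_eq_pow_smul J (𝔞 : Submodule R R)
  set m := n + k with hm
  have hvan : ∀ a : 𝔞, (a : R) ∈ J ^ m → g' a = 0 := by
    intro a ha
    have h1 : (a : R) ∈ J ^ m • (⊤ : Submodule R R) ⊓ 𝔞 := by
      refine ⟨?_, a.2⟩
      simpa using ha
    rw [hk m (by omega)] at h1
    have hmk : m - k = n := by omega
    rw [hmk] at h1
    have key : J ^ n • (J ^ k • (⊤ : Submodule R R) ⊓ 𝔞) ≤ (LinearMap.ker g').map 𝔞.subtype := by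
      rw [Submodule.smul_le]
      intro j hj b hb
      refine ⟨j • ⟨b, hb.2⟩, ?_, rfl⟩
      rw [SetLike.mem_coe, LinearMap.mem_ker, map_smul]
      exact hn' _ j hj
    obtain ⟨a', ha', haa'⟩ := key h1
    have : a' = a := Subtype.ext haa'
    rw [← this]
    exact ha'
  -- factor through `𝔞 ⧸ ker ρ ↪ R ⧸ J ^ m`
  let ρ : 𝔞 →ₗ[R] (R ⧸ J ^ m) := (Submodule.mkQ (J ^ m)) ∘ₗ 𝔞.subtype
  have hρker : LinearMap.ker ρ ≤ LinearMap.ker g' := by
    intro a ha
    rw [LinearMap.mem_ker] at ha ⊢
    apply hvan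
    have : Submodule.Quotient.mk (p := J ^ m) (a : R) = 0 := ha
    rwa [Submodule.Quotient.mk_eq_zero] at this
  let gbar : (𝔞 ⧸ LinearMap.ker ρ) →ₗ[R] I := (LinearMap.ker ρ).liftQ g' hρker
  let ρbar : (𝔞 ⧸ LinearMap.ker ρ) →ₗ[R] (R ⧸ J ^ m) := (LinearMap.ker ρ).liftQ ρ le_rfl
  have hρbar : Function.Injective ρbar := by
    rw [← LinearMap.ker_eq_bot]
    exact Submodule.ker_liftQ_eq_bot _ _ _ le_rfl
  obtain ⟨h, hh⟩ := Module.Injective.extension_property R I _ _ ρbar hρbar gbar
  let G : R →ₗ[R] I := h ∘ₗ Submodule.mkQ (J ^ m)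
  have hG : ∀ r : R, G r ∈ powTorsion (I := I) J := by
    intro r
    rw [mem_powTorsion_iff]
    refine ⟨m, fun a ha => ?_⟩
    rw [← map_smul]
    have : (Submodule.mkQ (J ^ m)) (a • r) = 0 := by
      rw [Submodule.mkQ_apply, Submodule.Quotient.mk_eq_zero]
      exact Ideal.mul_mem_right _ _ ha
    rw [LinearMap.comp_apply, this, map_zero]
  refine ⟨G.codRestrict (powTorsion (I := I) J) hG, fun x hx => ?_⟩
  ext
  rw [LinearMap.codRestrict_apply]
  have h1 : G x = h (ρbar (Submodule.Quotient.mk ⟨x, hx⟩)) := rfl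
  rw [h1, ← LinearMap.comp_apply, hh]
  rfl

end Groth.Agent.Lib.Helper2

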