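import Groth.Agent.Lib.Helper2.InjHull
import Groth.Agent.Lib.Helper2.InjHullLocal
import Groth.Agent.Lib.Helper2.InjTorsion
import Mathlib.Algebra.Category.ModuleCat.ChangeOfRings
import Mathlib.Algebra.Category.ModuleCat.Injective
import Mathlib.RingTheory.SimpleModule.InjectiveProjective
import Mathlib.LinearAlgebra.Dual.Lemmas
import Mathlib.RingTheory.LocalRing.ResidueField.Basic

/-!
# Coextension of scalars and injective hulls of residue fields (helper2)

* `injective_coextendScalars`: coextension of scalars preserves injective modules.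
* `isInjectiveHull_of_injective_of_powerTorsion_of_socle`: injective + power torsion + socle = image
  of the residue field implies injective hull of the residue field.
* `coextFunctional`, `coextFunctionalₗ`: `c ↦ (a ↦ l (c * residue a))`, `κ → Hom_{k₀}(A, k₀)`.
* `exists_isInjectiveHull_torsion_linearDual`: the topological dual of a Noetherian local
  `k₀`-algebra with finite residue field extension is an injective hull of the residue field.
-/

set_option autoImplicit false
universe u v
open InjHull CategoryTheory

namespace Groth.Agent.Lib.Helper2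

/-- Coextension of scalars preserves injective modules. -/
theorem injective_coextendScalars {R S : Type u} [CommRing R] [CommRing S] (f : R →+* S)
    (M : Type u) [AddCommGroup M] [Module R M] (hM : Module.Injective R M) :
    Module.Injective S ((ModuleCat.coextendScalars f).obj (ModuleCat.of R M)) := by
  have : Injective (ModuleCat.of R M) := Module.injective_object_of_injective_module R M
  have : Injective ((ModuleCat.coextendScalars f).obj (ModuleCat.of R M)) :=
    Injective.injective_of_adjoint (ModuleCat.restrictCoextendScalarsAdj f) (ModuleCat.of R M)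
  exact Module.injective_module_of_injective_object S _

/-- An injective power-torsion module whose socle is the image of an injective map from the
residue field is an injective hull of the residue field. -/
theorem isInjectiveHull_of_injective_of_powerTorsion_of_socle {A : Type u} [CommRing A]
    [IsLocalRing A] {T : Type u} [AddCommGroup T] [Module A T] (hinj : Module.Injective A T)
    (hpow : LocCoh.IsPowerTorsion (IsLocalRing.maximalIdeal A) T)
    (f : IsLocalRing.ResidueField A →ₗ[A] T) (hf : Function.Injective f)
    (hsoc : ∀ y : T, (∀ r ∈ IsLocalRing.maximalIdeal A, r • y = 0) → y ∈ LinearMap.range f) :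
    IsInjectiveHull f := by
  refine ⟨(isEssentialInj_iff f).mpr ⟨hf, fun x hx => ?_⟩, hinj⟩
  obtain ⟨r, hr0, hr⟩ := exists_smul_mem_torsionBy_of_isPowerTorsion _ hpow x hx
  exact ⟨r, hr0, hsoc _ (fun s hs => (Submodule.mem_torsionBySet_iff _ _).mp hr ⟨s, hs⟩)⟩

section

variable (k₀ : Type u) [Field k₀] (A : Type u) [CommRing A] [IsLocalRing A] [Algebra k₀ A]

/-- `a ↦ l (c * residue a)` -/
noncomputable def coextFun (l : IsLocalRing.ResidueField A →ₗ[k₀] k₀)
    (c : IsLocalRing.ResidueField A) (a : A) : k₀ := l (c * IsLocalRing.residue A a)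

lemma coextFun_add (l : IsLocalRing.ResidueField A →ₗ[k₀] k₀)
    (c : IsLocalRing.ResidueField A) (a b : A) :
    coextFun k₀ A l c (a + b) = coextFun k₀ A l c a + coextFun k₀ A l c b := by
  unfold coextFun
  rw [map_add, mul_add, map_add]

lemma coextFun_smul (l : IsLocalRing.ResidueField A →ₗ[k₀] k₀)
    (c : IsLocalRing.ResidueField A) (r : k₀) (a : A) :
    coextFun k₀ A l c (algebraMap k₀ A r * a) = r * coextFun k₀ A l c a := by
  unfold coextFun
  have h1 : IsLocalRing.residue A (algebraMap k₀ A r * a) =
      algebraMap k₀ (IsLocalRing.ResidueField A) r * IsLocalRing.residue A a := by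
    rw [map_mul]
    rfl
  rw [h1, ← mul_assoc, mul_comm c, mul_assoc, ← Algebra.smul_def, map_smul, smul_eq_mul]

/-- The element of the coextension `Hom_{k₀}(A, k₀)` attached to a functional `l` on the residue
field and `c` in the residue field: `a ↦ l (c * residue a)`. -/
noncomputable def coextFunctional (l : IsLocalRing.ResidueField A →ₗ[k₀] k₀)
    (c : IsLocalRing.ResidueField A) :
    (ModuleCat.coextendScalars (algebraMap k₀ A)).obj (ModuleCat.of k₀ k₀) :=
  (ModuleCat.CoextendScalars.equiv (algebraMap k₀ A) (ModuleCat.of k₀ k₀)).symm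
    { toFun := fun a => coextFun k₀ A l c a
      map_add' := fun a b => coextFun_add k₀ A l c a b
      map_smul' := fun r a => coextFun_smul k₀ A l c r a }

lemma coextFunctional_apply (l : IsLocalRing.ResidueField A →ₗ[k₀] k₀)
    (c : IsLocalRing.ResidueField A) (a : A) :
    ModuleCat.CoextendScalars.equiv (algebraMap k₀ A) (ModuleCat.of k₀ k₀)
      (coextFunctional k₀ A l c) a = l (c * IsLocalRing.residue A a) := rfl

/-- `c ↦ (a ↦ l (c * residue a))` as an `A`-linear map into the coextension. -/
noncomputable def coextFunctionalₗ (l : IsLocalRing.ResidueField A →ₗ[k₀] k₀) :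
    IsLocalRing.ResidueField A →ₗ[A]
      (ModuleCat.coextendScalars (algebraMap k₀ A)).obj (ModuleCat.of k₀ k₀) where
  toFun := coextFunctional k₀ A l
  map_add' := by
    intro c c'
    apply ModuleCat.CoextendScalars.ext
    apply LinearMap.ext
    intro a
    change l ((c + c') * IsLocalRing.residue A a) =
      l (c * IsLocalRing.residue A a) + l (c' * IsLocalRing.residue A a)
    rw [add_mul, map_add]
  map_smul' := by
    intro b c
    apply ModuleCat.CoextendScalars.ext
    apply LinearMap.ext
    intro a
    let a' : A := a
    change l ((b • c) * IsLocalRing.residue A a') = l (c * IsLocalRing.residue A (a' * b))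
    have h1 : IsLocalRing.residue A (a' * b) =
        IsLocalRing.residue A a' * IsLocalRing.residue A b := map_mul _ _ _
    rw [h1, Algebra.smul_def, IsLocalRing.ResidueField.algebraMap_eq]
    congr 1
    ring

lemma coextFunctionalₗ_apply (l : IsLocalRing.ResidueField A →ₗ[k₀] k₀)
    (c : IsLocalRing.ResidueField A) (a : A) :
    ModuleCat.CoextendScalars.equiv (algebraMap k₀ A) (ModuleCat.of k₀ k₀)
      (coextFunctionalₗ k₀ A l c) a = l (c * IsLocalRing.residue A a) := rfl

variable [IsNoetherianRing A] [Module.Finite k₀ (A ⧸ IsLocalRing.maximalIdeal A)]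

theorem exists_isInjectiveHull_torsion_linearDual :
    ∃ f : IsLocalRing.ResidueField A →ₗ[A]
      ↥(powTorsion (I := ((ModuleCat.coextendScalars (algebraMap k₀ A)).obj (ModuleCat.of k₀ k₀)))
        (IsLocalRing.maximalIdeal A)), IsInjectiveHull f := by
  have hfin : Module.Finite k₀ (IsLocalRing.ResidueField A) :=
    ‹Module.Finite k₀ (A ⧸ IsLocalRing.maximalIdeal A)›
  -- a functional with l 1 ≠ 0
  obtain ⟨l, hl⟩ : ∃ l : IsLocalRing.ResidueField A →ₗ[k₀] k₀, l 1 ≠ 0 := by
    by_contra hcon
    push Not at hcon
    exact one_ne_zero ((Module.forall_dual_apply_eq_zero_iff k₀ (1 : IsLocalRing.ResidueField A)).mp hcon)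
  have hJ : Module.Injective A
      ((ModuleCat.coextendScalars (algebraMap k₀ A)).obj (ModuleCat.of k₀ k₀)) :=
    injective_coextendScalars (algebraMap k₀ A) k₀ (Module.injective_of_isSemisimpleRing k₀ k₀)
  have hT := injective_powTorsion hJ (IsLocalRing.maximalIdeal A)
  -- the map into the torsion part
  have hmem : ∀ c, coextFunctionalₗ k₀ A l c ∈
      powTorsion (I := ((ModuleCat.coextendScalars (algebraMap k₀ A)).obj (ModuleCat.of k₀ k₀)))
        (IsLocalRing.maximalIdeal A) := by
    intro c
    rw [mem_powTorsion_iff]
    refine ⟨1, fun m hm => ?_⟩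
    rw [pow_one] at hm
    apply ModuleCat.CoextendScalars.ext
    apply LinearMap.ext
    intro a
    let a' : A := a
    change l (c * IsLocalRing.residue A (a' * m)) = 0
    have h1 : IsLocalRing.residue A (a' * m) = 0 := by
      rw [IsLocalRing.residue_eq_zero_iff]
      exact Ideal.mul_mem_left _ _ hm
    rw [h1, mul_zero, map_zero]
  let f : IsLocalRing.ResidueField A →ₗ[A]
      ↥(powTorsion (I := ((ModuleCat.coextendScalars (algebraMap k₀ A)).obj (ModuleCat.of k₀ k₀)))
        (IsLocalRing.maximalIdeal A)) :=
    (coextFunctionalₗ k₀ A l).codRestrict _ hmem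
  -- the k₀-linear map κ → κ^*
  let ψ : IsLocalRing.ResidueField A →ₗ[k₀] Module.Dual k₀ (IsLocalRing.ResidueField A) :=
    (LinearMap.llcomp k₀ _ _ k₀ l) ∘ₗ (LinearMap.mul k₀ (IsLocalRing.ResidueField A))
  have hψ : ∀ c x, ψ c x = l (c * x) := fun c x => rfl
  have hψinj : Function.Injective ψ := by
    rw [← LinearMap.ker_eq_bot, LinearMap.ker_eq_bot']
    intro c hc
    by_contra hc0
    apply hl
    have := LinearMap.congr_fun hc c⁻¹
    rwa [hψ, mul_inv_cancel₀ hc0] at this
  have hψsurj : Function.Surjective ψ :=
    (LinearMap.injective_iff_surjective_of_finrank_eq_finrank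
      (Subspace.dual_finrank_eq (K := k₀) (V := IsLocalRing.ResidueField A)).symm).mp hψinj
  refine ⟨f, isInjectiveHull_of_injective_of_powerTorsion_of_socle hT ?_ f ?_ ?_⟩
  · -- power torsion
    intro x
    obtain ⟨n, hn⟩ := (mem_powTorsion_iff _).mp x.2
    exact ⟨n, fun a ha => Subtype.ext (hn a ha)⟩
  · -- injective
    intro c c' hcc'
    have h1 : coextFunctionalₗ k₀ A l c = coextFunctionalₗ k₀ A l c' := congrArg Subtype.val hcc'
    apply hψinj
    apply LinearMap.ext
    intro x
    obtain ⟨a, rfl⟩ := IsLocalRing.residue_surjective x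
    rw [hψ, hψ, ← coextFunctionalₗ_apply, ← coextFunctionalₗ_apply, h1]
  · -- socle
    intro y hy
    let g := ModuleCat.CoextendScalars.equiv (algebraMap k₀ A) (ModuleCat.of k₀ k₀) y.1
    have hgm : ∀ m : A, m ∈ IsLocalRing.maximalIdeal A → g m = 0 := by
      intro m hm
      have h1 : m • y.1 = 0 := congrArg Subtype.val (hy m hm)
      have h2 : ModuleCat.CoextendScalars.equiv (algebraMap k₀ A) (ModuleCat.of k₀ k₀) (m • y.1)
          (1 : A) = g ((1 : A) * m) := rfl
      rw [h1, one_mul] at h2
      rw [← h2]
      rfl
    have hgeq : ∀ a a' : A, IsLocalRing.residue A a = IsLocalRing.residue A a' → g a = g a' := by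
      intro a a' h
      have h1 : a - a' ∈ IsLocalRing.maximalIdeal A := by
        rw [← IsLocalRing.residue_eq_zero_iff, map_sub, h, sub_self]
      have h2 := hgm _ h1
      have h3 : g (a - a') = g a - g a' := map_sub g a a'
      rw [h3, sub_eq_zero] at h2
      exact h2
    let σ : IsLocalRing.ResidueField A → A := Function.surjInv IsLocalRing.residue_surjective
    have hσ : ∀ x, IsLocalRing.residue A (σ x) = x := Function.surjInv_eq _
    let gbar : IsLocalRing.ResidueField A →ₗ[k₀] k₀ :=
      { toFun := fun x => g (σ x)
        map_add' := by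
          intro x x'
          have h1 : g (σ x + σ x') = g (σ x) + g (σ x') := map_add g _ _
          rw [← h1]
          apply hgeq
          rw [map_add, hσ, hσ, hσ]
        map_smul' := by
          intro r x
          have h1 : g (algebraMap k₀ A r * σ x) = r • g (σ x) := g.map_smul r (σ x)
          rw [RingHom.id_apply, ← h1]
          apply hgeq
          rw [map_mul, hσ, hσ, Algebra.smul_def]
          rfl }
    obtain ⟨c, hc⟩ := hψsurj gbar
    refine ⟨c, Subtype.ext ?_⟩
    apply ModuleCat.CoextendScalars.ext
    apply LinearMap.ext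
    intro a
    let a' : A := a
    change l (c * IsLocalRing.residue A a') = g a'
    rw [← hψ, hc]
    exact hgeq _ _ (hσ _)

end

end Groth.Agent.Lib.Helper2
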