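import Groth.Agent.Lib.Helper2.CoextendFinite
import Mathlib.RingTheory.Ideal.MinimalPrime.Noetherian
import Mathlib.RingTheory.Ideal.MinimalPrime.Basic
import Mathlib.RingTheory.Spectrum.Maximal.Basic

set_option autoImplicit false
universe u v
open InjHull CategoryTheory

/-!
# `Hom_A(B, E)` as a direct sum of injective hulls, `B` finite over local `A` (helper2)

* `disjoint_powTorsion_of_sup_eq_top`, `iSupIndep_powTorsion_maximalSpectrum`
* `mem_iSup_powTorsion_of_map_pow_smul_eq_zero`
* `exists_iSupIndep_isInjectiveHull_coext`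
-/

namespace Groth.Agent.Lib.Helper2

section Disjoint

variable {R : Type u} [CommRing R] {M : Type v} [AddCommGroup M] [Module R M]

lemma powTorsion_mono {I K : Ideal R} (h : I ≤ K) :
    powTorsion (I := M) K ≤ powTorsion (I := M) I := by
  intro x hx
  rw [mem_powTorsion_iff] at hx ⊢
  obtain ⟨n, hn⟩ := hx
  exact ⟨n, fun a ha => hn a (Ideal.pow_right_mono h n ha)⟩

lemma disjoint_powTorsion_of_sup_eq_top {I K : Ideal R} (h : I ⊔ K = ⊤) :
    Disjoint (powTorsion (I := M) I) (powTorsion (I := M) K) := by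
  rw [Submodule.disjoint_def]
  intro x hxI hxK
  obtain ⟨m, hm⟩ := (mem_powTorsion_iff I).mp hxI
  obtain ⟨n, hn⟩ := (mem_powTorsion_iff K).mp hxK
  have h1 : I ^ m ⊔ K ^ n = ⊤ := Ideal.pow_sup_pow_eq_top h
  obtain ⟨u, hu, v, hv, huv⟩ := Submodule.mem_sup.mp (h1 ▸ Submodule.mem_top : (1 : R) ∈ I ^ m ⊔ K ^ n)
  rw [← one_smul R x, ← huv, add_smul, hm u hu, hn v hv, add_zero]

/-- elements killed by a power of an ideal comaximal with `n`. -/
def coprimeTorsion (n : Ideal R) : Submodule R M where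
  carrier := {y | ∃ K : Ideal R, K ⊔ n = ⊤ ∧ y ∈ powTorsion (I := M) K}
  zero_mem' := ⟨⊤, by simp, Submodule.zero_mem _⟩
  add_mem' := by
    rintro y y' ⟨K, hK, hy⟩ ⟨K', hK', hy'⟩
    refine ⟨K * K', ?_, Submodule.add_mem _ (powTorsion_mono Ideal.mul_le_left hy)
      (powTorsion_mono Ideal.mul_le_right hy')⟩
    rw [sup_comm] at hK hK' ⊢
    rw [Ideal.sup_mul_eq_of_coprime_left hK, hK']
  smul_mem' := by
    rintro c y ⟨K, hK, hy⟩
    exact ⟨K, hK, Submodule.smul_mem _ c hy⟩

/-- The power-torsion submodules at distinct maximal ideals are independent. -/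
lemma iSupIndep_powTorsion_maximalSpectrum :
    iSupIndep (fun n : MaximalSpectrum R => powTorsion (I := M) n.asIdeal) := by
  rw [iSupIndep_def]
  intro n
  have hle : (⨆ (j : MaximalSpectrum R) (_ : j ≠ n), powTorsion (I := M) j.asIdeal) ≤
      coprimeTorsion (M := M) n.asIdeal := by
    refine iSup_le fun j => iSup_le fun hj => ?_
    intro y hy
    refine ⟨j.asIdeal, ?_, hy⟩
    exact j.isMaximal.coprime_of_ne n.isMaximal (fun h => hj (MaximalSpectrum.ext h))
  rw [Submodule.disjoint_def]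
  intro x hxn hx
  obtain ⟨K, hK, hxK⟩ := hle hx
  rw [sup_comm] at hK
  exact Submodule.disjoint_def.mp (disjoint_powTorsion_of_sup_eq_top hK) x hxn hxK

end Disjoint

section Top

variable {A : Type u} [CommRing A] [IsLocalRing A]
  {B : Type u} [CommRing B] [Algebra A B] [Module.Finite A B] [IsNoetherianRing B]
  {M : Type v} [AddCommGroup M] [Module B M]

omit [IsNoetherianRing B] in
lemma isMaximal_of_mem_minimalPrimes_map_pow (k : ℕ) (P : Ideal B)
    (hP : P ∈ ((IsLocalRing.maximalIdeal A ^ k).map (algebraMap A B)).minimalPrimes) :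
    P.IsMaximal := by
  have : Algebra.IsIntegral A B := Algebra.IsIntegral.of_finite A B
  have hPprime : P.IsPrime := hP.1.1
  have h1 : IsLocalRing.maximalIdeal A ^ k ≤ P.comap (algebraMap A B) :=
    Ideal.map_le_iff_le_comap.mp hP.1.2
  have h1' : IsLocalRing.maximalIdeal A ≤ P.comap (algebraMap A B) :=
    Ideal.IsPrime.le_of_pow_le h1
  have h2 : P.comap (algebraMap A B) = IsLocalRing.maximalIdeal A :=
    ((IsLocalRing.maximalIdeal.isMaximal A).eq_of_le (Ideal.IsPrime.ne_top inferInstance) h1').symm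
  exact Ideal.isMaximal_of_isIntegral_of_isMaximal_comap (R := A) P (by rw [h2]; infer_instance)

lemma mem_iSup_powTorsion_of_map_pow_smul_eq_zero (x : M) (k : ℕ)
    (hk : ∀ a ∈ IsLocalRing.maximalIdeal A ^ k, algebraMap A B a • x = 0) :
    x ∈ ⨆ n : MaximalSpectrum B, powTorsion (I := M) n.asIdeal := by
  classical
  set I : Ideal B := (IsLocalRing.maximalIdeal A ^ k).map (algebraMap A B) with hI
  let ann : Ideal B := LinearMap.ker (LinearMap.toSpanSingleton B M x)
  have hIann : I ≤ ann := by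
    rw [hI, Ideal.map_le_iff_le_comap]
    intro a ha
    exact hk a ha
  have hfin := Ideal.finite_minimalPrimes_of_isNoetherianRing B I
  let S : Finset (Ideal B) := hfin.toFinset
  have hSmax : ∀ P ∈ S, P.IsMaximal := fun P hP =>
    isMaximal_of_mem_minimalPrimes_map_pow k P (hfin.mem_toFinset.mp hP)
  obtain ⟨N, hN⟩ := Ideal.exists_radical_pow_le_of_fg I (IsNoetherian.noetherian _)
  have hrad : I.radical = ⨅ P ∈ S, P := by
    rw [← Ideal.sInf_minimalPrimes, sInf_eq_iInf]
    simp only [S, Set.Finite.mem_toFinset]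
  have hcop : (S : Set (Ideal B)).Pairwise fun P Q => P ^ N ⊔ Q ^ N = ⊤ := by
    intro P hP Q hQ hPQ
    exact Ideal.pow_sup_pow_eq_top ((hSmax P hP).coprime_of_ne (hSmax Q hQ) hPQ)
  have hle : (⨅ P ∈ S, P ^ N) ≤ I := by
    have h1 : (⨅ P ∈ S, P ^ N) = ∏ P ∈ S, P ^ N := by
      rw [Ideal.prod_eq_iInf_of_pairwise_isCoprime]
      intro P hP Q hQ hPQ
      exact (Ideal.isCoprime_iff_sup_eq).mpr (hcop hP hQ hPQ)
    rw [h1, Finset.prod_pow]
    refine le_trans (Ideal.pow_right_mono ?_ N) hN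
    rw [hrad]
    refine le_trans Ideal.prod_le_inf ?_
    rw [Finset.inf_eq_iInf]
  have hx : x ∈ Submodule.torsionBySet B M ((⨅ P ∈ S, P ^ N : Ideal B) : Set B) := by
    rw [Submodule.mem_torsionBySet_iff]
    rintro ⟨b, hb⟩
    exact hIann (hle hb)
  rw [← Submodule.iSup_torsionBySet_ideal_eq_torsionBySet_iInf hcop] at hx
  have hfinal : (⨆ P ∈ S, Submodule.torsionBySet B M ((P ^ N : Ideal B) : Set B)) ≤
      ⨆ n : MaximalSpectrum B, powTorsion (I := M) n.asIdeal := by
    refine iSup_le fun P => iSup_le fun hP => ?_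
    refine le_trans ?_ (le_iSup (fun n : MaximalSpectrum B => powTorsion (I := M) n.asIdeal)
      ⟨P, hSmax P hP⟩)
    exact le_iSup (fun n : ℕ => Submodule.torsionBySet B M ((P ^ n : Ideal B) : Set B)) N
  exact hfinal hx

end Top

/-- `Hom_A(B, E)` is the internal direct sum of injective hulls of the residue fields of `B`. -/
theorem exists_iSupIndep_isInjectiveHull_coext (A B : Type u) [CommRing A] [IsLocalRing A]
    [IsNoetherianRing A] [CommRing B] [Algebra A B] [Module.Finite A B] (E : Type u)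
    [AddCommGroup E] [Module A E] (f : IsLocalRing.ResidueField A →ₗ[A] E)
    (hf : InjHull.IsInjectiveHull f) :
    ∃ J : MaximalSpectrum B →
        Submodule B ((ModuleCat.coextendScalars (algebraMap A B)).obj (ModuleCat.of A E)),
      iSupIndep J ∧ iSup J = ⊤ ∧
        ∀ n : MaximalSpectrum B, ∃ g : (B ⧸ n.asIdeal) →ₗ[B] J n, InjHull.IsInjectiveHull g := by
  have : IsNoetherianRing B := IsNoetherianRing.of_finite A B
  refine ⟨fun n => powTorsion n.asIdeal, iSupIndep_powTorsion_maximalSpectrum, ?_, fun n => ?_⟩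
  · rw [eq_top_iff]
    intro x _
    obtain ⟨k, hk⟩ := exists_pow_algebraMap_smul_eq_zero hf x
    exact mem_iSup_powTorsion_of_map_pow_smul_eq_zero x k hk
  · have := n.isMaximal
    exact exists_isInjectiveHull_powTorsion_coext n.asIdeal hf

end Groth.Agent.Lib.Helper2
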