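import Mathlib.Topology.NoetherianSpace
import Mathlib.Topology.KrullDimension
import Mathlib.Topology.Irreducible
import Mathlib.Topology.Connected.Basic

/-!
# Connectedness dimension of Noetherian spaces (helper2)

Closed subsets with non-connected complement versus intersections of unions of irreducible components.
-/

set_option autoImplicit false
universe u
open TopologicalSpace Set

namespace Groth.Agent.Lib.Helper2

variable {T : Type*} [TopologicalSpace T]

lemma topologicalKrullDim_mono {s t : Set T} (h : s ⊆ t) :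
    topologicalKrullDim s ≤ topologicalKrullDim t :=
  (Topology.IsEmbedding.inclusion h).isInducing.topologicalKrullDim_le

/-- Two closed sets covering the space: if the complement of the intersection is connected, one of them is
everything. -/
lemma eq_univ_or_eq_univ_of_isConnected_compl_inter {P Q : Set T} (hP : IsClosed P) (hQ : IsClosed Q)
    (hPQ : P ∪ Q = univ) (hc : IsConnected (P ∩ Q)ᶜ) : P = univ ∨ Q = univ := by
  have hdisj : Disjoint Pᶜ Qᶜ := by
    rw [Set.disjoint_iff_inter_eq_empty, ← Set.compl_union, hPQ, Set.compl_univ]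
  have hcov : (P ∩ Q)ᶜ ⊆ Pᶜ ∪ Qᶜ := by rw [Set.compl_inter]
  rcases hc.isPreconnected.subset_or_subset hP.isOpen_compl hQ.isOpen_compl hdisj hcov with h | h
  · -- Qᶜ ⊆ Pᶜ and Qᶜ ⊆ P
    right
    rw [← Set.compl_empty_iff]
    apply Set.eq_empty_of_forall_notMem
    intro x hx
    have h1 : x ∈ Pᶜ := h (by rw [Set.compl_inter]; exact Or.inr hx)
    have h2 : x ∈ P ∪ Q := hPQ ▸ Set.mem_univ x
    exact h2.elim h1 hx
  · left
    rw [← Set.compl_empty_iff]
    apply Set.eq_empty_of_forall_notMem
    intro x hx
    have h1 : x ∈ Qᶜ := h (by rw [Set.compl_inter]; exact Or.inl hx)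
    have h2 : x ∈ P ∪ Q := hPQ ▸ Set.mem_univ x
    exact h2.elim hx h1

lemma isClosed_sUnion_of_finite {S : Set (Set T)} (hS : S.Finite) (h : ∀ s ∈ S, IsClosed s) :
    IsClosed (⋃₀ S) := by
  rw [Set.sUnion_eq_biUnion]; exact hS.isClosed_biUnion h

/-- In a Noetherian space, every irreducible component `C` dominates (in dimension) a closed set with
non-connected complement. -/
theorem exists_isClosed_not_isConnected_compl_dim_le [NoetherianSpace T] {C : Set T}
    (hC : C ∈ irreducibleComponents T) :
    ∃ Z : Set T, IsClosed Z ∧ ¬ IsConnected Zᶜ ∧ topologicalKrullDim Z ≤ topologicalKrullDim C := by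
  by_cases hCu : C = univ
  · refine ⟨univ, isClosed_univ, ?_, ?_⟩
    · rw [Set.compl_univ]
      exact fun h => h.nonempty.ne_empty rfl
    · rw [hCu]
  · set S : Set (Set T) := irreducibleComponents T \ {C} with hS
    have hSfin : S.Finite := NoetherianSpace.finite_irreducibleComponents.subset Set.sdiff_subset
    have hD : IsClosed (⋃₀ S) :=
      isClosed_sUnion_of_finite hSfin fun t ht => isClosed_of_mem_irreducibleComponents t ht.1
    have hCcl : IsClosed C := isClosed_of_mem_irreducibleComponents C hC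
    have hCD : C ∪ ⋃₀ S = univ := by
      apply Set.eq_univ_of_forall
      intro x
      have hx : x ∈ ⋃₀ irreducibleComponents T := sUnion_irreducibleComponents (X := T) ▸ Set.mem_univ x
      obtain ⟨C', hC', hxC'⟩ := hx
      by_cases h : C' = C
      · left; rwa [← h]
      · right; exact ⟨C', ⟨hC', h⟩, hxC'⟩
    refine ⟨C ∩ ⋃₀ S, hCcl.inter hD, ?_, topologicalKrullDim_mono Set.inter_subset_left⟩
    intro hconn
    rcases eq_univ_or_eq_univ_of_isConnected_compl_inter hCcl hD hCD hconn with h | h
    · exact hCu h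
    · have := mem_of_subset_sUnion_irreducibleComponents C hC S hSfin Set.sdiff_subset
        (h ▸ Set.subset_univ C)
      exact this.2 rfl

/-- A closed set with non-connected complement contains the intersection of the unions of two families of
irreducible components which together exhaust the components. -/
theorem exists_cover_components_inter_subset [Nonempty T] {Z : Set T} (hZ : IsClosed Z)
    (hc : ¬ IsConnected Zᶜ) :
    ∃ A B : Set (Set T), A ⊆ irreducibleComponents T ∧ B ⊆ irreducibleComponents T ∧ A.Nonempty ∧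
      B.Nonempty ∧ A ∪ B = irreducibleComponents T ∧ ⋃₀ A ∩ ⋃₀ B ⊆ Z := by
  by_cases hne : (Zᶜ).Nonempty
  · have hnp : ¬ IsPreconnected Zᶜ := fun h => hc ⟨hne, h⟩
    rw [IsPreconnected] at hnp
    push Not at hnp
    obtain ⟨u, v, hu, hv, hcov, hnu, hnv, hempty⟩ := hnp
    have hZo : IsOpen Zᶜ := hZ.isOpen_compl
    set A : Set (Set T) := {C | C ∈ irreducibleComponents T ∧ Disjoint C (Zᶜ ∩ v)} with hA
    set B : Set (Set T) := {C | C ∈ irreducibleComponents T ∧ Disjoint C (Zᶜ ∩ u)} with hB
    have hAB : A ∪ B = irreducibleComponents T := by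
      apply Set.Subset.antisymm
      · rintro C (h | h)
        · exact h.1
        · exact h.1
      · intro C hC
        by_contra hcon
        rw [Set.mem_union, not_or] at hcon
        have h1 : (C ∩ (Zᶜ ∩ v)).Nonempty := by
          rw [← Set.not_disjoint_iff_nonempty_inter]
          exact fun hd => hcon.1 ⟨hC, hd⟩
        have h2 : (C ∩ (Zᶜ ∩ u)).Nonempty := by
          rw [← Set.not_disjoint_iff_nonempty_inter]
          exact fun hd => hcon.2 ⟨hC, hd⟩
        obtain ⟨x, -, ⟨hxZ, hxu⟩, ⟨-, hxv⟩⟩ :=
          hC.1.isPreirreducible (Zᶜ ∩ u) (Zᶜ ∩ v) (hZo.inter hu) (hZo.inter hv) h2 h1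
        exact (Set.eq_empty_iff_forall_notMem.mp hempty x) ⟨hxZ, hxu, hxv⟩
    have hmem : ∀ x : T, irreducibleComponent x ∈ A ∪ B := fun x =>
      hAB ▸ irreducibleComponent_mem_irreducibleComponents x
    refine ⟨A, B, fun C h => h.1, fun C h => h.1, ?_, ?_, hAB, ?_⟩
    · obtain ⟨x, hxZ, hxu⟩ := hnu
      rcases hmem x with h | h
      · exact ⟨_, h⟩
      · exact (Set.disjoint_iff.mp h.2 ⟨mem_irreducibleComponent, hxZ, hxu⟩).elim
    · obtain ⟨x, hxZ, hxv⟩ := hnv
      rcases hmem x with h | h
      · exact (Set.disjoint_iff.mp h.2 ⟨mem_irreducibleComponent, hxZ, hxv⟩).elim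
      · exact ⟨_, h⟩
    · rintro x ⟨⟨C, hCA, hxC⟩, ⟨C', hCB, hxC'⟩⟩
      by_contra hxZ
      rcases hcov hxZ with hxu | hxv
      · exact Set.disjoint_iff.mp hCB.2 ⟨hxC', hxZ, hxu⟩
      · exact Set.disjoint_iff.mp hCA.2 ⟨hxC, hxZ, hxv⟩
  · have hZu : Z = univ := by
      rw [Set.not_nonempty_iff_eq_empty, Set.compl_empty_iff] at hne
      exact hne
    refine ⟨irreducibleComponents T, irreducibleComponents T, subset_rfl, subset_rfl, ?_, ?_,
      Set.union_self _, ?_⟩
    · exact ⟨_, irreducibleComponent_mem_irreducibleComponents (Classical.arbitrary T)⟩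
    · exact ⟨_, irreducibleComponent_mem_irreducibleComponents (Classical.arbitrary T)⟩
    · rw [hZu]; exact Set.subset_univ _

/-- In a Noetherian space, the intersection of the unions of two exhausting nonempty families of irreducible
components dominates (in dimension) a closed set with non-connected complement. -/
theorem exists_isClosed_not_isConnected_compl_dim_le_inter [NoetherianSpace T] {A B : Set (Set T)}
    (hA : A ⊆ irreducibleComponents T) (hB : B ⊆ irreducibleComponents T) (hAne : A.Nonempty)
    (hBne : B.Nonempty) (hAB : A ∪ B = irreducibleComponents T) :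
    ∃ Z : Set T, IsClosed Z ∧ ¬ IsConnected Zᶜ ∧
      topologicalKrullDim Z ≤ topologicalKrullDim ↥(⋃₀ A ∩ ⋃₀ B) := by
  have hfin := NoetherianSpace.finite_irreducibleComponents (α := T)
  have hAcl : IsClosed (⋃₀ A) := isClosed_sUnion_of_finite (hfin.subset hA)
    fun t ht => isClosed_of_mem_irreducibleComponents t (hA ht)
  have hBcl : IsClosed (⋃₀ B) := isClosed_sUnion_of_finite (hfin.subset hB)
    fun t ht => isClosed_of_mem_irreducibleComponents t (hB ht)
  have hcov : ⋃₀ A ∪ ⋃₀ B = univ := by
    rw [← Set.sUnion_union, hAB, sUnion_irreducibleComponents]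
  by_cases hconn : IsConnected (⋃₀ A ∩ ⋃₀ B)ᶜ
  · rcases eq_univ_or_eq_univ_of_isConnected_compl_inter hAcl hBcl hcov hconn with h | h
    · obtain ⟨C, hCB⟩ := hBne
      obtain ⟨Z, hZ, hZc, hle⟩ := exists_isClosed_not_isConnected_compl_dim_le (hB hCB)
      refine ⟨Z, hZ, hZc, hle.trans (topologicalKrullDim_mono ?_)⟩
      rw [h, Set.univ_inter]
      exact Set.subset_sUnion_of_mem hCB
    · obtain ⟨C, hCA⟩ := hAne
      obtain ⟨Z, hZ, hZc, hle⟩ := exists_isClosed_not_isConnected_compl_dim_le (hA hCA)
      refine ⟨Z, hZ, hZc, hle.trans (topologicalKrullDim_mono ?_)⟩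
      rw [h, Set.inter_univ]
      exact Set.subset_sUnion_of_mem hCA
  · exact ⟨_, hAcl.inter hBcl, hconn, le_rfl⟩

end Groth.Agent.Lib.Helper2
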