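import Mathlib

/-!
# Generic fibre of a flat scheme over a discrete valuation ring

* `exists_idempotent_lift_of_away`: idempotents of `C[1/t]` come from `C` when `t` is a nonzerodivisor and `C/t` reduced.
* `mem_map_ker_of_isPushout`: kernel of `C → C ⊗_R K` for `R → K` surjective.
* `fromSpecResidueField_appTop`: `Γ(Spec R) → Γ(Spec κ(x))` for `x` maximal: surjective with kernel `x`.
* `mem_map_of_sq_mem_of_isReduced_fiber`: reducedness of a closed fibre read on an affine open.
* `exists_idempotent_of_disjoint_cover`: idempotent section attached to a decomposition `U = A ⊔ B`.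
* `connectedSpace_generic_fiber_of_dvr`: flat `X → Spec R` (`R` a DVR), `X` connected, closed fibre reduced ⇒ generic
  fibre connected.
-/

set_option linter.style.haveILetI false

universe u
open CategoryTheory CategoryTheory.Limits AlgebraicGeometry TopologicalSpace Opposite

namespace Groth.Agent.Lib.Helper2

/-- Idempotents of `C[1/t]` come from `C` when `t` is a nonzerodivisor and `C/t` is reduced. -/
theorem exists_idempotent_lift_of_away {C L : Type*} [CommRing C] [CommRing L] [Algebra C L] (t : C)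
    [IsLocalization.Away t L] (ht : t ∈ nonZeroDivisors C) (hred : ∀ c : C, t ∣ c ^ 2 → t ∣ c)
    (ε : L) (hε : IsIdempotentElem ε) :
    ∃ c : C, IsIdempotentElem c ∧ algebraMap C L c = ε := by
  have hinj : Function.Injective (algebraMap C L) :=
    IsLocalization.injective L (Submonoid.powers_le.mpr ht)
  have htu : IsUnit (algebraMap C L t) := IsLocalization.Away.algebraMap_isUnit t
  have key : ∀ (n : ℕ) (a : C), ε * algebraMap C L t ^ n = algebraMap C L a →
      ∃ c : C, algebraMap C L c = ε := by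
    intro n
    induction n with
    | zero =>
      intro a ha
      exact ⟨a, by rw [← ha, pow_zero, mul_one]⟩
    | succ n ih =>
      intro a ha
      -- a^2 = a * t^(n+1)
      have h1 : a ^ 2 = a * t ^ (n + 1) := by
        apply hinj
        rw [map_pow, map_mul, map_pow, ← ha]
        have : ε * ε = ε := hε
        calc (ε * algebraMap C L t ^ (n + 1)) ^ 2
            = (ε * ε) * algebraMap C L t ^ (n + 1) * algebraMap C L t ^ (n + 1) := by ring
          _ = ε * algebraMap C L t ^ (n + 1) * algebraMap C L t ^ (n + 1) := by rw [this]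
      have h2 : t ∣ a ^ 2 := by
        rw [h1, pow_succ]
        exact ⟨a * t ^ n, by ring⟩
      obtain ⟨a', rfl⟩ := hred a h2
      apply ih a'
      apply htu.mul_left_injective
      change ε * algebraMap C L t ^ n * algebraMap C L t = algebraMap C L a' * algebraMap C L t
      rw [mul_assoc, ← pow_succ, ha, map_mul, mul_comm]
  obtain ⟨n, a, ha⟩ := IsLocalization.Away.surj t ε
  obtain ⟨c, hc⟩ := key n a ha
  refine ⟨c, ?_, hc⟩
  apply hinj
  rw [map_mul, hc]
  exact hε

/-- In a pushout square of commutative rings with one leg surjective, the kernel of the opposite map is generated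
by the kernel of that leg. -/
theorem mem_map_ker_of_isPushout {R C K P : CommRingCat.{u}} {f : R ⟶ C} {g : R ⟶ K} {inl : C ⟶ P}
    {inr : K ⟶ P} (h : IsPushout f g inl inr) (hg : Function.Surjective g.hom) (c : C)
    (hc : inl.hom c = 0) : c ∈ (RingHom.ker g.hom).map f.hom := by
  let I : Ideal C := (RingHom.ker g.hom).map f.hom
  let mk : C →+* C ⧸ I := Ideal.Quotient.mk I
  have hker : RingHom.ker g.hom ≤ RingHom.ker (mk.comp f.hom) := by
    intro r hr
    rw [RingHom.mem_ker, RingHom.comp_apply, Ideal.Quotient.eq_zero_iff_mem]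
    exact Ideal.mem_map_of_mem _ hr
  let rbar : K →+* C ⧸ I := RingHom.liftOfSurjective g.hom hg ⟨mk.comp f.hom, hker⟩
  have hrbar : rbar.comp g.hom = mk.comp f.hom :=
    RingHom.liftOfRightInverse_comp _ _ _ _
  let ψ : P ⟶ CommRingCat.of (C ⧸ I) := h.desc (CommRingCat.ofHom mk) (CommRingCat.ofHom rbar) (by
    ext r
    exact (congrArg (fun φ => φ r) hrbar).symm)
  have hψ : inl ≫ ψ = CommRingCat.ofHom mk := h.inl_desc _ _ _
  have : mk c = 0 := by
    have h1 := congrArg (fun φ => φ.hom c) hψ
    simp only [CommRingCat.hom_comp, RingHom.coe_comp, Function.comp_apply, CommRingCat.hom_ofHom] at h1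
    rw [← h1, hc, map_zero]
  exact Ideal.Quotient.eq_zero_iff_mem.mp this

/-- Global sections of the residue field inclusion into an affine scheme, at a maximal ideal: surjective with
kernel the ideal. -/
theorem fromSpecResidueField_appTop (R : CommRingCat.{u}) (x : Spec R) [hx : x.asIdeal.IsMaximal] :
    Function.Surjective ((Spec R).fromSpecResidueField x).appTop.hom ∧
    ∀ r : Γ(Spec R, ⊤), ((Spec R).fromSpecResidueField x).appTop.hom r = 0 ↔
      (Scheme.ΓSpecIso R).hom.hom r ∈ x.asIdeal := by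
  let κ := x.asIdeal.ResidueField
  let φ : R ⟶ (Spec R).residueField x :=
    CommRingCat.ofHom (algebraMap R κ) ≫ (Scheme.Spec.residueFieldIso R x).inv
  have hσ : (Spec R).fromSpecResidueField x = Spec.map φ := by
    rw [← Scheme.Spec.map_residueFieldIso_inv_eq_fromSpecResidueField, ← Spec.map_comp]
  have hnat : (Spec.map φ).appTop ≫ (Scheme.ΓSpecIso _).hom = (Scheme.ΓSpecIso R).hom ≫ φ :=
    Scheme.ΓSpecIso_naturality φ
  have hnat' : ∀ r, (Scheme.ΓSpecIso ((Spec R).residueField x)).hom.hom ((Spec.map φ).appTop.hom r) =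
      (Scheme.Spec.residueFieldIso R x).inv.hom (algebraMap R κ ((Scheme.ΓSpecIso R).hom.hom r)) :=
    fun r => by
      exact congrArg (fun f => f.hom r) hnat
  have hb1 : Function.Bijective (Scheme.ΓSpecIso ((Spec R).residueField x)).hom.hom :=
    ConcreteCategory.bijective_of_isIso (Scheme.ΓSpecIso ((Spec R).residueField x)).hom
  have hb2 : Function.Bijective (Scheme.Spec.residueFieldIso R x).inv.hom :=
    ConcreteCategory.bijective_of_isIso (Scheme.Spec.residueFieldIso R x).inv
  have hb3 : Function.Bijective (Scheme.ΓSpecIso R).hom.hom :=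
    ConcreteCategory.bijective_of_isIso (Scheme.ΓSpecIso R).hom
  rw [hσ]
  constructor
  · intro y
    obtain ⟨k, hk⟩ := hb2.2 ((Scheme.ΓSpecIso ((Spec R).residueField x)).hom.hom y)
    obtain ⟨r₀, hr₀⟩ := Ideal.algebraMap_residueField_surjective x.asIdeal k
    obtain ⟨r, hr⟩ := hb3.2 r₀
    refine ⟨r, hb1.1 ?_⟩
    rw [hnat', hr, hr₀, hk]
  · intro r
    constructor
    · intro h0
      have := hnat' r
      rw [h0, map_zero] at this
      have h1 : algebraMap R κ ((Scheme.ΓSpecIso R).hom.hom r) = 0 :=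
        hb2.1 (by rw [← this, map_zero])
      exact Ideal.algebraMap_residueField_eq_zero.mp h1
    · intro hmem
      apply hb1.1
      rw [hnat', Ideal.algebraMap_residueField_eq_zero.mpr hmem, map_zero, map_zero]

/-- Reducedness of a closed fibre, read on an affine open of the source: the ideal generated by the maximal ideal
is radical (for squares). -/
theorem mem_map_of_sq_mem_of_isReduced_fiber {R : CommRingCat.{u}} {X : Scheme.{u}} (f : X ⟶ Spec R)
    (x : Spec R) [hx : x.asIdeal.IsMaximal] (hred : IsReduced (f.fiber x))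
    (V : X.Opens) (hV : IsAffineOpen V) (c : Γ(X, V))
    (hc : c ^ 2 ∈ (RingHom.ker ((Spec R).fromSpecResidueField x).appTop.hom).map
      (f.appLE ⊤ V le_top).hom) :
    c ∈ (RingHom.ker ((Spec R).fromSpecResidueField x).appTop.hom).map (f.appLE ⊤ V le_top).hom := by
  let σ := (Spec R).fromSpecResidueField x
  have H : IsPullback (pullback.fst f σ) (pullback.snd f σ) f σ := IsPullback.of_hasPullback f σ
  let UY : (pullback f σ).Opens := (pullback.fst f σ) ⁻¹ᵁ V ⊓ (pullback.snd f σ) ⁻¹ᵁ ⊤
  have hiso := isIso_pushoutSection_of_isAffineOpen H (US := ⊤) (UT := ⊤) (UX := V) (UY := UY)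
    le_top le_top rfl (isAffineOpen_top _) (isAffineOpen_top _) hV
  have hpo := (isIso_pushoutSection_iff H (US := ⊤) (UT := ⊤) (UX := V) (UY := UY)
    le_top le_top rfl).mp hiso
  have hσ : σ.appLE ⊤ ⊤ le_top = σ.appTop := by
    simp [Scheme.Hom.appLE]
  rw [hσ] at hpo
  have hredZ : _root_.IsReduced Γ(pullback f σ, UY) := by
    haveI : IsReduced (pullback f σ) := hred
    infer_instance
  set inl := (pullback.fst f σ).appLE V UY (by simp [UY]) with hinl
  -- the ideal is killed by `inl`
  have hJ : (RingHom.ker σ.appTop.hom).map (f.appLE ⊤ V le_top).hom ≤ RingHom.ker inl.hom := by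
    rw [Ideal.map_le_iff_le_comap]
    intro r hr
    rw [Ideal.mem_comap, RingHom.mem_ker]
    have hw := congrArg (fun φ => φ.hom r) hpo.1.1
    simp only [CommRingCat.hom_comp, RingHom.coe_comp, Function.comp_apply] at hw
    rw [hw, RingHom.mem_ker.mp hr, map_zero]
  have h0 : inl.hom c = 0 := by
    have h1 : inl.hom c ^ 2 = 0 := by
      rw [← map_pow]
      exact hJ hc
    exact pow_eq_zero_iff (two_ne_zero) |>.mp h1
  exact mem_map_ker_of_isPushout hpo (fromSpecResidueField_appTop R x).1 c h0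

section DVR

variable {R : CommRingCat.{u}} [IsDomain R] [IsDiscreteValuationRing R]

/-- Over a discrete valuation ring with uniformizer `ϖ`: idempotents on the generic fibre of an affine open of a flat
scheme with reduced closed fibre extend to the affine open. -/
theorem exists_idempotent_extension_of_dvr {X : Scheme.{u}} (f : X ⟶ Spec R) [Flat f]
    (hred : IsReduced (f.fiber (IsLocalRing.closedPoint R)))
    (ϖ : R) (hϖ : Irreducible ϖ) (V : X.Opens) (hV : IsAffineOpen V) (tV : Γ(X, V))
    (htV : tV = (f.appLE ⊤ V le_top).hom ((Scheme.ΓSpecIso R).inv.hom ϖ))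
    (ε : Γ(X, X.basicOpen tV)) (hε : IsIdempotentElem ε) :
    ∃ eV : Γ(X, V), IsIdempotentElem eV ∧
      (X.presheaf.map (homOfLE (X.basicOpen_le tV)).op).hom eV = ε := by
  let ϖ' : Γ(Spec R, ⊤) := (Scheme.ΓSpecIso R).inv.hom ϖ
  have hϖ' : ϖ' = (Scheme.ΓSpecIso R).inv.hom ϖ := rfl
  let s : Spec R := IsLocalRing.closedPoint R
  haveI hs : s.asIdeal.IsMaximal := IsLocalRing.maximalIdeal.isMaximal R
  have hhominv : ∀ a : R, (Scheme.ΓSpecIso R).hom.hom ((Scheme.ΓSpecIso R).inv.hom a) = a := fun a => by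
    have := congrArg (fun φ => φ.hom a) (Scheme.ΓSpecIso R).inv_hom_id
    exact this
  have hinvhom : ∀ a : Γ(Spec R, ⊤), (Scheme.ΓSpecIso R).inv.hom ((Scheme.ΓSpecIso R).hom.hom a) = a :=
    fun a => by
      have := congrArg (fun φ => φ.hom a) (Scheme.ΓSpecIso R).hom_inv_id
      exact this
  -- the kernel of the residue map
  have hker : RingHom.ker ((Spec R).fromSpecResidueField s).appTop.hom = Ideal.span {ϖ'} := by
    ext r
    rw [RingHom.mem_ker, (fromSpecResidueField_appTop R s).2 r, Ideal.mem_span_singleton']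
    have hm : s.asIdeal = Ideal.span {ϖ} := hϖ.maximalIdeal_eq
    rw [hm, Ideal.mem_span_singleton']
    constructor
    · rintro ⟨a, ha⟩
      refine ⟨(Scheme.ΓSpecIso R).inv.hom a, ?_⟩
      rw [hϖ', ← map_mul, ha, hinvhom]
    · rintro ⟨a, ha⟩
      refine ⟨(Scheme.ΓSpecIso R).hom.hom a, ?_⟩
      rw [← ha, map_mul, hϖ', hhominv]
  have hJ : (RingHom.ker ((Spec R).fromSpecResidueField s).appTop.hom).map (f.appLE ⊤ V le_top).hom =
      Ideal.span {tV} := by
    rw [hker, Ideal.map_span, Set.image_singleton, htV]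
  -- regularity
  have hreg0 : IsSMulRegular Γ(Spec R, ⊤) ϖ' := by
    intro a b hab
    have h1 : ϖ * (Scheme.ΓSpecIso R).hom.hom a = ϖ * (Scheme.ΓSpecIso R).hom.hom b := by
      have := congrArg (Scheme.ΓSpecIso R).hom.hom hab
      simpa only [smul_eq_mul, map_mul, hϖ', hhominv] using this
    have h2 := mul_left_cancel₀ hϖ.ne_zero h1
    have := congrArg (Scheme.ΓSpecIso R).inv.hom h2
    simpa only [hinvhom] using this
  have hflat : (f.appLE ⊤ V le_top).hom.Flat :=
    Scheme.Hom.flat_appLE f (isAffineOpen_top _) hV le_top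
  have hreg : IsSMulRegular Γ(X, V) tV := by
    algebraize [(f.appLE ⊤ V le_top).hom]
    rw [htV]
    exact IsSMulRegular.of_flat hreg0
  have ht : tV ∈ nonZeroDivisors Γ(X, V) := by
    rw [mem_nonZeroDivisors_iff_right]
    intro z hz
    exact hreg (by simpa [mul_comm] using hz)
  have hred' : ∀ c : Γ(X, V), tV ∣ c ^ 2 → tV ∣ c := by
    intro c hc
    rw [← Ideal.mem_span_singleton, ← hJ] at hc ⊢
    exact mem_map_of_sq_mem_of_isReduced_fiber f s hred V hV c hc
  haveI := hV.isLocalization_basicOpen tV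
  obtain ⟨c, hc1, hc2⟩ := exists_idempotent_lift_of_away tV ht hred' ε hε
  exact ⟨c, hc1, hc2⟩

end DVR

/-- An idempotent section cutting out a clopen decomposition. -/
theorem exists_idempotent_of_disjoint_cover {X : Scheme.{u}} (U A B : X.Opens) (hAB : A ⊔ B = U)
    (hdisj : A ⊓ B = ⊥) :
    ∃ e : Γ(X, U), IsIdempotentElem e ∧
      (X.presheaf.map (homOfLE (hAB ▸ le_sup_left : A ≤ U)).op).hom e = 1 ∧
      (X.presheaf.map (homOfLE (hAB ▸ le_sup_right : B ≤ U)).op).hom e = 0 := by
  have hA : A ≤ U := hAB ▸ le_sup_left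
  have hB : B ≤ U := hAB ▸ le_sup_right
  let 𝒲 : Bool → X.Opens := fun b => cond b A B
  let sf : ∀ b : Bool, Γ(X, 𝒲 b) := fun b => Bool.rec (0 : Γ(X, B)) (1 : Γ(X, A)) b
  have hle : ∀ b, 𝒲 b ≤ U := fun b => by cases b <;> assumption
  have hcover : U ≤ iSup 𝒲 := by
    rw [← hAB]
    refine sup_le (le_iSup 𝒲 true) (le_iSup 𝒲 false)
  have hsub : Subsingleton Γ(X, A ⊓ B) := by
    rw [hdisj]
    infer_instance
  have hsub' : Subsingleton Γ(X, B ⊓ A) := by
    rw [inf_comm, hdisj]
    infer_instance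
  have hcompat : TopCat.Presheaf.IsCompatible X.sheaf.1 𝒲 sf := by
    intro b b'
    cases b <;> cases b'
    · rfl
    · exact @Subsingleton.elim _ hsub' _ _
    · exact @Subsingleton.elim _ hsub _ _
    · rfl
  have key : ∃ e : Γ(X, U), ∀ b, (X.presheaf.map (homOfLE (hle b)).op).hom e = sf b := by
    obtain ⟨e, he, -⟩ := X.sheaf.existsUnique_gluing' 𝒲 U (fun b => homOfLE (hle b)) hcover sf hcompat
    exact ⟨e, he⟩
  obtain ⟨e, he⟩ := key
  refine ⟨e, ?_, he true, he false⟩
  have hloc : ∀ (a a' : Γ(X, U)), (∀ b, (X.presheaf.map (homOfLE (hle b)).op).hom a =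
      (X.presheaf.map (homOfLE (hle b)).op).hom a') → a = a' := fun a a' h =>
    X.sheaf.eq_of_locally_eq' 𝒲 U (fun b => homOfLE (hle b)) hcover a a' h
  apply hloc
  intro b
  rw [map_mul, he b]
  cases b
  · exact mul_zero _
  · exact mul_one _

/-- Key step: a decomposition of the generic fibre into two disjoint opens has one empty piece. -/
theorem eq_bot_or_eq_bot_of_dvr {R : CommRingCat.{u}} [IsDomain R] [IsDiscreteValuationRing R]
    {X : Scheme.{u}} (f : X ⟶ Spec R) [Flat f] [ConnectedSpace X]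
    (hred : IsReduced (f.fiber (IsLocalRing.closedPoint R)))
    (ϖ : R) (hϖ : Irreducible ϖ)
    (hdense : Dense ((X.basicOpen (f.appTop.hom ((Scheme.ΓSpecIso R).inv.hom ϖ)) : X.Opens) : Set X))
    (A B : X.Opens) (hAB : A ⊔ B = X.basicOpen (f.appTop.hom ((Scheme.ΓSpecIso R).inv.hom ϖ)))
    (hdisj : A ⊓ B = ⊥) : A = ⊥ ∨ B = ⊥ := by
  set t₀ : Γ(X, ⊤) := f.appTop.hom ((Scheme.ΓSpecIso R).inv.hom ϖ) with ht₀
  set U : X.Opens := X.basicOpen t₀ with hU
  have hA : A ≤ U := hAB ▸ le_sup_left
  have hB : B ≤ U := hAB ▸ le_sup_right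
  obtain ⟨e, he, heA, heB⟩ := exists_idempotent_of_disjoint_cover U A B hAB hdisj
  -- local separation
  have hsep : ∀ x : X, ∃ N : X.Opens, x ∈ N ∧ (N ⊓ B = ⊥ ∨ N ⊓ A = ⊥) := by
    intro x
    obtain ⟨V, hV, hxV, -⟩ := exists_isAffineOpen_mem_and_subset (x := x) (U := ⊤) trivial
    let tV : Γ(X, V) := (f.appLE ⊤ V le_top).hom ((Scheme.ΓSpecIso R).inv.hom ϖ)
    have htV : tV = (X.presheaf.map (homOfLE (le_top : V ≤ ⊤)).op).hom t₀ := rfl
    have hbo : X.basicOpen tV = V ⊓ U := by
      rw [htV]
      exact Scheme.basicOpen_res _ _ _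
    have hboU : X.basicOpen tV ≤ U := hbo ▸ inf_le_right
    let ε : Γ(X, X.basicOpen tV) := (X.presheaf.map (homOfLE hboU).op).hom e
    have hε : IsIdempotentElem ε := he.map _
    obtain ⟨eV, heV, heVε⟩ := exists_idempotent_extension_of_dvr f hred ϖ hϖ V hV tV rfl ε hε
    -- germs of eV on V ⊓ U agree with those of e
    have hgerm : ∀ (y : X) (hyV : y ∈ V) (hyU : y ∈ U),
        X.presheaf.germ V y hyV eV = X.presheaf.germ U y hyU e := by
      intro y hyV hyU
      have hy : y ∈ X.basicOpen tV := hbo ▸ ⟨hyV, hyU⟩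
      have e1 : X.presheaf.germ (X.basicOpen tV) y hy
          ((X.presheaf.map (homOfLE (X.basicOpen_le tV)).op).hom eV) = X.presheaf.germ V y hyV eV :=
        TopCat.Presheaf.germ_res_apply _ _ _ _ _
      have e2 : X.presheaf.germ (X.basicOpen tV) y hy ε = X.presheaf.germ U y hyU e :=
        TopCat.Presheaf.germ_res_apply _ _ _ _ _
      rw [← e1, heVε, e2]
    have hgermA : ∀ (y : X) (hyA : y ∈ A), X.presheaf.germ U y (hA hyA) e = 1 := by
      intro y hyA
      have e1 : X.presheaf.germ A y hyA ((X.presheaf.map (homOfLE hA).op).hom e) =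
          X.presheaf.germ U y (hA hyA) e := TopCat.Presheaf.germ_res_apply _ _ _ _ _
      rw [← e1, heA, map_one]
    have hgermB : ∀ (y : X) (hyB : y ∈ B), X.presheaf.germ U y (hB hyB) e = 0 := by
      intro y hyB
      have e1 : X.presheaf.germ B y hyB ((X.presheaf.map (homOfLE hB).op).hom e) =
          X.presheaf.germ U y (hB hyB) e := TopCat.Presheaf.germ_res_apply _ _ _ _ _
      rw [← e1, heB, map_zero]
    -- x lies in D(eV) or D(1 - eV)
    have hor : IsUnit (X.presheaf.germ V x hxV eV) ∨ IsUnit (X.presheaf.germ V x hxV (1 - eV)) := by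
      have h1 : X.presheaf.germ V x hxV eV + X.presheaf.germ V x hxV (1 - eV) = 1 := by
        rw [← map_add, add_sub_cancel, map_one]
      exact IsLocalRing.isUnit_or_isUnit_of_add_one h1
    rcases hor with hu | hu
    · refine ⟨X.basicOpen eV, (Scheme.mem_basicOpen _ _ _ hxV).mpr hu, Or.inl ?_⟩
      rw [eq_bot_iff]
      rintro y ⟨hyP, hyB⟩
      have hyV : y ∈ V := X.basicOpen_le eV hyP
      have hunit := (Scheme.mem_basicOpen _ _ _ hyV).mp hyP
      rw [hgerm y hyV (hB hyB), hgermB y hyB] at hunit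
      exact absurd hunit not_isUnit_zero
    · refine ⟨X.basicOpen (1 - eV), (Scheme.mem_basicOpen _ _ _ hxV).mpr hu, Or.inr ?_⟩
      rw [eq_bot_iff]
      rintro y ⟨hyP, hyA⟩
      have hyV : y ∈ V := X.basicOpen_le (1 - eV) hyP
      have hunit := (Scheme.mem_basicOpen _ _ _ hyV).mp hyP
      rw [map_sub, map_one, hgerm y hyV (hA hyA), hgermA y hyA, sub_self] at hunit
      exact absurd hunit not_isUnit_zero
  -- closures are disjoint
  have hcl : Disjoint (closure (A : Set X)) (closure (B : Set X)) := by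
    rw [Set.disjoint_left]
    intro x hxA hxB
    obtain ⟨N, hxN, hN | hN⟩ := hsep x
    · obtain ⟨y, hyN, hyB⟩ := mem_closure_iff.mp hxB N N.2 hxN
      have : y ∈ N ⊓ B := ⟨hyN, hyB⟩
      rw [hN] at this
      exact this
    · obtain ⟨y, hyN, hyA⟩ := mem_closure_iff.mp hxA N N.2 hxN
      have : y ∈ N ⊓ A := ⟨hyN, hyA⟩
      rw [hN] at this
      exact this
  have hcov : closure (A : Set X) ∪ closure (B : Set X) = Set.univ := by
    rw [← closure_union]
    have : (A : Set X) ∪ (B : Set X) = (U : Set X) := by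
      rw [← hAB]
      rfl
    rw [this]
    exact hdense.closure_eq
  have hclopen : IsClopen (closure (A : Set X)) := by
    refine ⟨isClosed_closure, ?_⟩
    have : closure (A : Set X) = (closure (B : Set X))ᶜ := by
      ext x
      constructor
      · intro hx hx'
        exact Set.disjoint_left.mp hcl hx hx'
      · intro hx
        have : x ∈ closure (A : Set X) ∪ closure (B : Set X) := hcov ▸ Set.mem_univ x
        exact this.resolve_right hx
    rw [this]
    exact isClosed_closure.isOpen_compl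
  rcases isClopen_iff.mp hclopen with h0 | h1
  · left
    rw [eq_bot_iff]
    intro x hx
    have : x ∈ closure (A : Set X) := subset_closure hx
    rw [h0] at this
    exact this
  · right
    rw [eq_bot_iff]
    intro x hx
    have hxA : x ∈ closure (A : Set X) := h1 ▸ Set.mem_univ x
    exact Set.disjoint_left.mp hcl hxA (subset_closure hx)

/-- For a flat morphism from a connected scheme to the spectrum of a discrete valuation ring with reduced closed
fibre, the generic fibre is connected. -/
theorem connectedSpace_generic_fiber_of_dvr {R : CommRingCat.{u}} [IsDomain R] [IsDiscreteValuationRing R]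
    {X : Scheme.{u}} (f : X ⟶ Spec R) [Flat f] [ConnectedSpace X]
    (hred : IsReduced (f.fiber (IsLocalRing.closedPoint R))) :
    ConnectedSpace ↑(f.fiber (⟨⊥, Ideal.isPrime_bot⟩ : PrimeSpectrum R)) := by
  obtain ⟨ϖ, hϖ⟩ := IsDiscreteValuationRing.exists_irreducible R
  let η : Spec R := (⟨⊥, Ideal.isPrime_bot⟩ : PrimeSpectrum R)
  set t₀ : Γ(X, ⊤) := f.appTop.hom ((Scheme.ΓSpecIso R).inv.hom ϖ) with ht₀
  set U : X.Opens := X.basicOpen t₀ with hU
  -- the generic fibre is `U`
  have hpt : ∀ y : Spec R, y ∈ (PrimeSpectrum.basicOpen ϖ : Set (PrimeSpectrum R)) ↔ y = η := by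
    intro y
    change ϖ ∉ y.asIdeal ↔ y = η
    constructor
    · intro hy
      by_contra hne
      have hne' : y.asIdeal ≠ ⊥ := fun h => hne (PrimeSpectrum.ext h)
      have hmax : y.asIdeal.IsMaximal := y.isPrime.isMaximal hne'
      have : y.asIdeal = IsLocalRing.maximalIdeal R := IsLocalRing.eq_maximalIdeal hmax
      apply hy
      rw [this, hϖ.maximalIdeal_eq]
      exact Ideal.mem_span_singleton_self ϖ
    · rintro rfl
      change ϖ ∉ (⊥ : Ideal R)
      rw [Ideal.mem_bot]
      exact hϖ.ne_zero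
  have hUset : (U : Set X) = f ⁻¹' {η} := by
    have h1 : U = f ⁻¹ᵁ ((Spec R).basicOpen ((Scheme.ΓSpecIso R).inv.hom ϖ)) := by
      rw [Scheme.preimage_basicOpen]
      rfl
    have h2 : (Spec R).basicOpen ((Scheme.ΓSpecIso R).inv.hom ϖ) = PrimeSpectrum.basicOpen ϖ :=
      basicOpen_eq_of_affine ϖ
    ext x
    rw [h1, h2]
    exact hpt (f x)
  -- density and nonemptiness
  have hgen : ∀ x : X, ∃ x' : X, x' ⤳ x ∧ x' ∈ U := by
    intro x
    have hsp : η ⤳ f x :=
      (PrimeSpectrum.le_iff_specializes (R := R) η (f x)).mp (bot_le (a := (f x).asIdeal))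
    obtain ⟨x', hx'x, hx'⟩ := Flat.generalizingMap f hsp
    refine ⟨x', hx'x, ?_⟩
    change x' ∈ (U : Set X)
    rw [hUset]
    exact hx'
  have hdense : Dense (U : Set X) := by
    intro x
    obtain ⟨x', hx'x, hx'U⟩ := hgen x
    exact closure_mono (Set.singleton_subset_iff.mpr hx'U) (specializes_iff_mem_closure.mp hx'x)
  have hne : (U : Set X).Nonempty := by
    obtain ⟨x⟩ := (inferInstance : Nonempty X)
    obtain ⟨x', -, hx'U⟩ := hgen x
    exact ⟨x', hx'U⟩
  -- preconnectedness
  have hpre : _root_.IsPreconnected (U : Set X) := by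
    rw [isPreconnected_iff_subset_of_disjoint]
    intro u v hu hv hUuv huv
    let A : X.Opens := ⟨u, hu⟩ ⊓ U
    let B : X.Opens := ⟨v, hv⟩ ⊓ U
    have hAB : A ⊔ B = U := by
      ext x
      constructor
      · rintro (⟨-, hx⟩ | ⟨-, hx⟩) <;> exact hx
      · intro hx
        rcases hUuv hx with h | h
        · exact Or.inl ⟨h, hx⟩
        · exact Or.inr ⟨h, hx⟩
    have hdisj : A ⊓ B = ⊥ := by
      rw [eq_bot_iff]
      rintro x ⟨⟨hxu, hxU⟩, ⟨hxv, -⟩⟩
      have : x ∈ (U : Set X) ∩ (u ∩ v) := ⟨hxU, hxu, hxv⟩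
      rw [huv] at this
      exact this
    rcases eq_bot_or_eq_bot_of_dvr f hred ϖ hϖ hdense A B hAB hdisj with h | h
    · right
      intro x hx
      rcases hUuv hx with hxu | hxv
      · have : x ∈ A := ⟨hxu, hx⟩
        rw [h] at this
        exact absurd this (by simp)
      · exact hxv
    · left
      intro x hx
      rcases hUuv hx with hxu | hxv
      · exact hxu
      · have : x ∈ B := ⟨hxv, hx⟩
        rw [h] at this
        exact absurd this (by simp)
  have hconn : _root_.IsConnected (f ⁻¹' {η}) := hUset ▸ ⟨hne, hpre⟩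
  haveI : ConnectedSpace ↥(f ⁻¹' {η}) := isConnected_iff_connectedSpace.mp hconn
  exact (f.fiberHomeo η).symm.surjective.connectedSpace (f.fiberHomeo η).symm.continuous

end Groth.Agent.Lib.Helper2
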