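import Mathlib
import Groth.Prelude.Def_FEt
import Groth.Prelude.Def_AlgSpDec
import Groth.Agent.Lib.Helper3.FiniteEtaleHom
import Groth.Agent.Lib.Helper9.HensK.StrictUnique
import Groth.Agent.Lib.Helper2.FEtClopenFull

/-!
# Full faithfulness of restriction to a dense open via strict henselizations (S1145)

* `exists_algHom_comap_maximalIdeal_eq`: over a strictly henselian local ring, every point of the closed fibre of a finite
  étale algebra is hit by a section (uses helper3's lifting of algebra maps over henselian pairs).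
* `flat_fromSpecStalk`.
* `exists_flat_lift_of_isStrictHenselization`: core lemma: for `T` finite étale over `X`, `t` over `x` and `R` a strict
  henselization of `𝒪_{X,x}`, a flat `c : Spec R ⟶ T` over `X` with `c(closed point) = t`.
* `exists_specializes_of_mem_closure_range`: closure of the image of a quasi-compact morphism = specializations.
* `eq_closedPoint_of_apply_eq`, `not_mem_closure_inter_closure`: local step.
* `full_faithful_restrict_of_dense_of_local`: reduction of full faithfulness for a dense open to the local statement.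
* `full_faithful_restrict_of_dense_retrocompact` (= S1145).
-/

set_option linter.style.haveILetI false

universe u
open CategoryTheory CategoryTheory.Limits AlgebraicGeometry TopologicalSpace Opposite IsLocalRing

namespace Groth.Agent.Lib.Helper2

/-- Over a strictly henselian local ring `R`, every prime of a finite étale `R`-algebra `E` lying over the maximal ideal
is the preimage of the maximal ideal under an `R`-algebra map `E → R`. -/
theorem exists_algHom_comap_maximalIdeal_eq (R : Type u) [CommRing R] [HenselianLocalRing R]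
    [IsSepClosed (ResidueField R)] (E : Type u) [CommRing E] [Algebra R E] [Module.Finite R E] [Algebra.Etale R E]
    (𝔮 : Ideal E) [𝔮.IsPrime] (h𝔮 : 𝔮.comap (algebraMap R E) = maximalIdeal R) :
    ∃ φ : E →ₐ[R] R, (maximalIdeal R).comap φ.toRingHom = 𝔮 := by
  haveI : Algebra.IsIntegral R E := Algebra.IsIntegral.of_finite R E
  haveI h𝔮max : 𝔮.IsMaximal := by
    apply Ideal.isMaximal_of_isIntegral_of_isMaximal_comap (R := R) 𝔮
    rw [h𝔮]
    infer_instance
  letI : Field (E ⧸ 𝔮) := Ideal.Quotient.field 𝔮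
  let K := ResidueField R
  -- the map `K → E/𝔮`
  let ψ : R →+* E ⧸ 𝔮 := (Ideal.Quotient.mk 𝔮).comp (algebraMap R E)
  have hψker : RingHom.ker ψ = maximalIdeal R := by
    rw [← h𝔮]
    ext r
    rw [RingHom.mem_ker, Ideal.mem_comap]
    exact Ideal.Quotient.eq_zero_iff_mem
  let ι : K →+* E ⧸ 𝔮 := Ideal.Quotient.lift (maximalIdeal R) ψ (fun r hr => by
    rw [← hψker] at hr
    exact hr)
  letI : Algebra K (E ⧸ 𝔮) := ι.toAlgebra
  haveI : IsScalarTower R K (E ⧸ 𝔮) := IsScalarTower.of_algebraMap_eq (fun r => rfl)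
  haveI : Algebra.FormallyUnramified R (E ⧸ 𝔮) :=
    Algebra.FormallyUnramified.of_surjective (Ideal.Quotient.mkₐ R 𝔮) (Ideal.Quotient.mkₐ_surjective R 𝔮)
  haveI : Algebra.FormallyUnramified K (E ⧸ 𝔮) := Algebra.FormallyUnramified.of_restrictScalars R K (E ⧸ 𝔮)
  haveI : Module.Finite R (E ⧸ 𝔮) := Module.Finite.of_surjective (Ideal.Quotient.mkₐ R 𝔮).toLinearMap
    (Ideal.Quotient.mkₐ_surjective R 𝔮)
  haveI : Module.Finite K (E ⧸ 𝔮) := Module.Finite.of_restrictScalars_finite R K (E ⧸ 𝔮)
  haveI : Algebra.IsSeparable K (E ⧸ 𝔮) := Algebra.FormallyUnramified.isSeparable K (E ⧸ 𝔮)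
  have hιsurj : Function.Surjective ι := IsSepClosed.algebraMap_surjective K (E ⧸ 𝔮)
  have hψsurj : Function.Surjective ψ := by
    intro l
    obtain ⟨k, rfl⟩ := hιsurj l
    obtain ⟨r, rfl⟩ := Ideal.Quotient.mk_surjective k
    exact ⟨r, rfl⟩
  haveI : HenselianRing R (maximalIdeal R) := inferInstance
  set J : Ideal R := (maximalIdeal R).map (algebraMap R R) with hJdef
  have hJ : J = maximalIdeal R := by
    rw [hJdef, Algebra.algebraMap_self, Ideal.map_id]
  let e₁ : (R ⧸ RingHom.ker ψ) ≃+* E ⧸ 𝔮 := RingHom.quotientKerEquivOfSurjective hψsurj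
  let e₂ : (R ⧸ RingHom.ker ψ) ≃+* R ⧸ J := Ideal.quotEquivOfEq (hψker.trans hJ.symm)
  let χ₀ : E →+* R ⧸ J := (e₂.toRingHom.comp e₁.symm.toRingHom).comp (Ideal.Quotient.mk 𝔮)
  have hχ₀ : ∀ r : R, χ₀ (algebraMap R E r) = Ideal.Quotient.mk J r := by
    intro r
    have h1 : e₁.symm (ψ r) = Ideal.Quotient.mk (RingHom.ker ψ) r := by
      rw [RingEquiv.symm_apply_eq]
      rfl
    change e₂ (e₁.symm (ψ r)) = _
    rw [h1]
    rfl
  let χ : E →ₐ[R] R ⧸ J := { χ₀ with commutes' := hχ₀ }
  obtain ⟨φ, hφ⟩ := Groth.Agent.Lib.Helper3.exists_algHom_lift_of_finite_etale (maximalIdeal R) χ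
  refine ⟨φ, ?_⟩
  ext x
  rw [Ideal.mem_comap]
  change φ x ∈ maximalIdeal R ↔ x ∈ 𝔮
  rw [← hJ, ← Ideal.Quotient.eq_zero_iff_mem, hφ x]
  change e₂ (e₁.symm (Ideal.Quotient.mk 𝔮 x)) = 0 ↔ _
  rw [map_eq_zero_iff _ e₂.injective, map_eq_zero_iff _ e₁.symm.injective, Ideal.Quotient.eq_zero_iff_mem]

/-- `Spec 𝒪_{X,x} ⟶ X` is flat. -/
theorem flat_fromSpecStalk (X : Scheme.{u}) (x : X) : Flat (X.fromSpecStalk x) := by
  obtain ⟨U, hU, hxU, -⟩ := exists_isAffineOpen_mem_and_subset (x := x) (U := ⊤) trivial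
  rw [← hU.fromSpecStalk_eq_fromSpecStalk hxU, IsAffineOpen.fromSpecStalk]
  haveI : Flat (Spec.map (X.presheaf.germ U x hxU)) := by
    rw [HasRingHomProperty.Spec_iff (P := @Flat)]
    have hloc := hU.isLocalization_stalk ⟨x, hxU⟩
    letI : Algebra Γ(X, U) (X.presheaf.stalk x) := TopCat.Presheaf.algebra_section_stalk X.presheaf ⟨x, hxU⟩
    have : Module.Flat Γ(X, U) (X.presheaf.stalk x) :=
      IsLocalization.flat _ (hU.primeIdealOf ⟨x, hxU⟩).asIdeal.primeCompl
    exact this
  infer_instance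

/-- Core lemma: a flat lift `Spec R ⟶ T` through a given point, `R` a strict henselization of `𝒪_{X,x}` and `T` finite
étale over `X`. -/
theorem exists_flat_lift_of_isStrictHenselization {X : Scheme.{u}} (x : X) (R : Type u) [CommRing R] [IsLocalRing R]
    [Algebra (X.presheaf.stalk x) R] [IsLocalHom (algebraMap (X.presheaf.stalk x) R)]
    [Hensel.IsStrictHenselization (X.presheaf.stalk x) R]
    (T : FEt.Cat X) (t : T.left) (ht : T.hom t = x) :
    ∃ c : Spec (CommRingCat.of R) ⟶ T.left,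
      c ≫ T.hom = Spec.map (CommRingCat.ofHom (algebraMap (X.presheaf.stalk x) R)) ≫ X.fromSpecStalk x ∧
      c (closedPoint R) = t ∧ Flat c := by
  have hTfin : IsFinite T.hom := T.prop.1
  have hTet : Etale T.hom := T.prop.2
  let ρ : Spec (CommRingCat.of R) ⟶ X :=
    Spec.map (CommRingCat.ofHom (algebraMap (X.presheaf.stalk x) R)) ≫ X.fromSpecStalk x
  haveI hflatρ : Flat ρ := by
    haveI : Flat (Spec.map (CommRingCat.ofHom (algebraMap (X.presheaf.stalk x) R))) := by
      rw [HasRingHomProperty.Spec_iff (P := @Flat)]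
      have : Module.Flat (X.presheaf.stalk x) R :=
        Groth.Agent.Lib.Helper9.HensK.flat_of_isStrictHenselization (X.presheaf.stalk x) R
      exact RingHom.flat_algebraMap_iff.mpr this
    haveI := flat_fromSpecStalk X x
    infer_instance
  have hρcl : ρ (closedPoint R) = x := by
    change (X.fromSpecStalk x) (PrimeSpectrum.comap (algebraMap (X.presheaf.stalk x) R) (closedPoint R)) = x
    rw [IsLocalRing.comap_closedPoint]
    exact Scheme.fromSpecStalk_closedPoint
  -- the base change to `Spec R`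
  let pr := pullback.snd T.hom ρ
  haveI hprfin : IsFinite pr := MorphismProperty.pullback_snd _ _ hTfin
  haveI hpret : Etale pr := MorphismProperty.pullback_snd _ _ hTet
  obtain ⟨tR, htR1, htR2⟩ := Scheme.Pullback.exists_preimage_pullback (f := T.hom) (g := ρ) t (closedPoint R)
    (ht.trans hρcl.symm)
  haveI : IsAffine (pullback T.hom ρ) := isAffine_of_isAffineHom pr
  let φ₀ : CommRingCat.of R ⟶ Γ(pullback T.hom ρ, ⊤) := (Scheme.ΓSpecIso (CommRingCat.of R)).inv ≫ pr.appTop
  have hpr : pr = (pullback T.hom ρ).isoSpec.hom ≫ Spec.map φ₀ := by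
    have h1 := Scheme.toSpecΓ_naturality pr
    have h2 : (Spec (CommRingCat.of R)).toSpecΓ ≫ Spec.map (Scheme.ΓSpecIso (CommRingCat.of R)).inv = 𝟙 _ :=
      toSpecΓ_SpecMap_ΓSpecIso_inv _
    calc pr = pr ≫ (Spec (CommRingCat.of R)).toSpecΓ ≫ Spec.map (Scheme.ΓSpecIso (CommRingCat.of R)).inv := by
            rw [h2, Category.comp_id]
      _ = (pullback T.hom ρ).isoSpec.hom ≫ Spec.map φ₀ := by
            rw [← Category.assoc, h1, Category.assoc, ← Spec.map_comp]
            rfl
  have hbij0 : Function.Bijective (Scheme.ΓSpecIso (CommRingCat.of R)).inv.hom :=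
    ConcreteCategory.bijective_of_isIso _
  have hfin : φ₀.hom.Finite := by
    have h1 : pr.appTop.hom.Finite := Scheme.Hom.finite_appTop pr
    exact h1.comp (RingHom.Finite.of_surjective _ hbij0.2)
  have het : φ₀.hom.Etale := by
    have h1 : pr.appTop.hom.Etale := HasRingHomProperty.appTop @Etale pr hpret
    exact RingHom.Etale.stableUnderComposition _ _ (RingHom.Etale.of_bijective hbij0) h1
  letI : Algebra R Γ(pullback T.hom ρ, ⊤) := φ₀.hom.toAlgebra
  haveI : Module.Finite R Γ(pullback T.hom ρ, ⊤) := hfin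
  haveI : Algebra.Etale R Γ(pullback T.hom ρ, ⊤) := het
  let 𝔮 : Ideal Γ(pullback T.hom ρ, ⊤) := ((pullback T.hom ρ).isoSpec.hom tR : PrimeSpectrum _).asIdeal
  haveI : 𝔮.IsPrime := ((pullback T.hom ρ).isoSpec.hom tR : PrimeSpectrum _).2
  have h𝔮 : 𝔮.comap (algebraMap R Γ(pullback T.hom ρ, ⊤)) = maximalIdeal R := by
    have h1 := congrArg (fun g : pullback T.hom ρ ⟶ Spec (CommRingCat.of R) => g tR) hpr
    simp only [Scheme.Hom.comp_apply] at h1
    have h2 : (PrimeSpectrum.comap φ₀.hom ((pullback T.hom ρ).isoSpec.hom tR) : PrimeSpectrum R) =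
        closedPoint R := h1.symm.trans htR2
    exact congrArg PrimeSpectrum.asIdeal h2
  haveI : HenselianLocalRing R := Hensel.IsStrictHenselization.henselian (X.presheaf.stalk x)
  haveI : IsSepClosed (ResidueField R) :=
    (Hensel.IsStrictHenselization.isSepClosure (R := X.presheaf.stalk x) (S := R)).sep_closed
  obtain ⟨φ, hφ⟩ := exists_algHom_comap_maximalIdeal_eq R Γ(pullback T.hom ρ, ⊤) 𝔮 h𝔮
  let σ : Spec (CommRingCat.of R) ⟶ pullback T.hom ρ :=
    Spec.map (CommRingCat.ofHom φ.toRingHom) ≫ (pullback T.hom ρ).isoSpec.inv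
  have hσ : σ ≫ pr = 𝟙 _ := by
    rw [hpr, Category.assoc, Iso.inv_hom_id_assoc, ← Spec.map_comp]
    have : φ₀ ≫ CommRingCat.ofHom φ.toRingHom = 𝟙 _ := by
      ext r
      exact φ.commutes r
    rw [this, Spec.map_id]
  have hσcl : σ (closedPoint R) = tR := by
    have h1 : (Spec.map (CommRingCat.ofHom φ.toRingHom)) (closedPoint R) =
        (pullback T.hom ρ).isoSpec.hom tR := by
      apply PrimeSpectrum.ext
      exact hφ
    rw [Scheme.Hom.comp_apply, h1, ← Scheme.Hom.comp_apply, Iso.hom_inv_id]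
    rfl
  haveI hσopen : IsOpenImmersion σ := (isOpenImmersion_and_isClosedImmersion_of_section pr σ hσ).1
  haveI : Flat (pullback.fst T.hom ρ) := MorphismProperty.pullback_fst _ _ hflatρ
  refine ⟨σ ≫ pullback.fst T.hom ρ, ?_, ?_, inferInstance⟩
  · rw [Category.assoc, pullback.condition, ← Category.assoc]
    change (σ ≫ pr) ≫ ρ = ρ
    rw [hσ, Category.id_comp]
  · rw [Scheme.Hom.comp_apply, hσcl, htR1]

theorem exists_comap_specializes_of_mem_closure_range {A B : Type*} [CommRing A] [CommRing B] (g : A →+* B)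
    (𝔭 : PrimeSpectrum A) (h : 𝔭 ∈ closure (Set.range (PrimeSpectrum.comap g))) :
    ∃ 𝔮 : PrimeSpectrum B, PrimeSpectrum.comap g 𝔮 ⤳ 𝔭 := by
  rw [PrimeSpectrum.closure_range_comap (f := g), PrimeSpectrum.mem_zeroLocus, SetLike.coe_subset_coe] at h
  obtain ⟨Q, -, hQ, hle⟩ := Ideal.exists_ideal_comap_le_prime (f := g) 𝔭.asIdeal (⊥ : Ideal B)
    (by rwa [← RingHom.ker_eq_comap_bot])
  exact ⟨⟨Q, hQ⟩, (PrimeSpectrum.le_iff_specializes _ _).mp hle⟩

/-- Affine case of `exists_specializes_of_mem_closure_range`. -/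
theorem exists_specializes_of_mem_closure_range_Spec {A B : CommRingCat.{u}} (h : Spec B ⟶ Spec A) (t : Spec A)
    (ht : t ∈ closure (Set.range h)) : ∃ q : Spec B, h q ⤳ t := by
  obtain ⟨ψ, rfl⟩ := Spec.homEquiv.symm.surjective h
  exact exists_comap_specializes_of_mem_closure_range ψ.hom t ht

/-- For a quasi-compact morphism, the closure of the image consists of specializations of points of the image. -/
theorem exists_specializes_of_mem_closure_range {Q T : Scheme.{u}} (φ : Q ⟶ T) [QuasiCompact φ] (t : T)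
    (ht : t ∈ closure (Set.range φ)) : ∃ q : Q, φ q ⤳ t := by
  obtain ⟨V, hV, htV, -⟩ := exists_isAffineOpen_mem_and_subset (x := t) (U := ⊤) trivial
  have hcomp : IsCompact ((φ ⁻¹ᵁ V : Q.Opens) : Set Q) :=
    QuasiCompact.isCompact_preimage (f := φ) _ V.2 hV.isCompact
  obtain ⟨B, g, hg⟩ := isCompact_iff_exists.mp hcomp
  -- `h : Spec B ⟶ V`
  have hrange : Set.range (g ≫ φ) ⊆ Set.range V.ι := by
    rintro _ ⟨b, rfl⟩
    have : g b ∈ ((φ ⁻¹ᵁ V : Q.Opens) : Set Q) := hg ▸ ⟨b, rfl⟩
    rw [Scheme.Opens.range_ι]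
    exact this
  let h' : Spec B ⟶ V := IsOpenImmersion.lift V.ι (g ≫ φ) hrange
  have hh' : h' ≫ V.ι = g ≫ φ := IsOpenImmersion.lift_fac _ _ _
  let e := hV.isoSpec
  let t' : ↥(V : Scheme.{u}) := ⟨t, htV⟩
  -- `t'` is in the closure of the range of `h'`
  have ht' : t' ∈ closure (Set.range h') := by
    rw [V.ι.isOpenEmbedding.isEmbedding.closure_eq_preimage_closure_image, Set.mem_preimage]
    have h1 : V.ι '' Set.range h' = (V : Set T) ∩ Set.range φ := by
      ext y
      constructor
      · rintro ⟨_, ⟨b, rfl⟩, rfl⟩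
        rw [← Scheme.Hom.comp_apply, hh']
        have hb : (g ≫ φ) b ∈ (V : Set T) := by
          have := hrange ⟨b, rfl⟩
          rwa [Scheme.Opens.range_ι] at this
        exact ⟨hb, g b, rfl⟩
      · rintro ⟨hyV, q, rfl⟩
        have hq : q ∈ ((φ ⁻¹ᵁ V : Q.Opens) : Set Q) := hyV
        rw [← hg] at hq
        obtain ⟨b, rfl⟩ := hq
        refine ⟨h' b, ⟨b, rfl⟩, ?_⟩
        rw [← Scheme.Hom.comp_apply, hh']
        rfl
    rw [h1]
    exact V.2.inter_closure ⟨htV, ht⟩
  have ht'' : e.hom t' ∈ closure (Set.range (h' ≫ e.hom)) := by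
    have h2 : Set.range (h' ≫ e.hom) = e.hom '' Set.range h' := by
      rw [← Set.range_comp]
      rfl
    rw [h2]
    exact image_closure_subset_closure_image e.hom.continuous ⟨t', ht', rfl⟩
  obtain ⟨q, hq⟩ := exists_specializes_of_mem_closure_range_Spec (h' ≫ e.hom) (e.hom t') ht''
  refine ⟨g q, ?_⟩
  have h3 : h' q ⤳ t' := by
    have := hq.map e.inv.continuous
    simpa using this
  have h4 := h3.map V.ι.continuous
  rw [← Scheme.Hom.comp_apply, hh'] at h4
  exact h4

/-- Only the closed point of a strict henselization of `𝒪_{X,x}` maps to `x`. -/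
theorem eq_closedPoint_of_apply_eq {X : Scheme.{u}} (x : X) (R : Type u) [CommRing R] [IsLocalRing R]
    [Algebra (X.presheaf.stalk x) R] [IsLocalHom (algebraMap (X.presheaf.stalk x) R)]
    [Hensel.IsStrictHenselization (X.presheaf.stalk x) R] (p : Spec (CommRingCat.of R))
    (hp : (Spec.map (CommRingCat.ofHom (algebraMap (X.presheaf.stalk x) R)) ≫ X.fromSpecStalk x) p = x) :
    p = closedPoint R := by
  have h1 : (X.fromSpecStalk x) (PrimeSpectrum.comap (algebraMap (X.presheaf.stalk x) R) p) =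
      (X.fromSpecStalk x) (closedPoint (X.presheaf.stalk x)) := by
    rw [Scheme.fromSpecStalk_closedPoint]
    exact hp
  have h2 : PrimeSpectrum.comap (algebraMap (X.presheaf.stalk x) R) p = closedPoint (X.presheaf.stalk x) :=
    (X.fromSpecStalk x).isEmbedding.injective h1
  have h3 : maximalIdeal (X.presheaf.stalk x) = Ideal.comap (algebraMap (X.presheaf.stalk x) R) p.asIdeal :=
    (congrArg PrimeSpectrum.asIdeal h2).symm
  have h4 : maximalIdeal R ≤ p.asIdeal := by
    rw [← Groth.Agent.Lib.Helper9.HensK.map_maximalIdeal_of_isStrictHenselization (X.presheaf.stalk x) R,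
      Ideal.map_le_iff_le_comap, h3]
  apply PrimeSpectrum.ext
  exact ((maximalIdeal.isMaximal R).eq_of_le p.2.ne_top h4).symm

/-- Local step: a point `t` over `x ∉ U` cannot be in the closure of both halves of a clopen partition of `T_U`. -/
theorem not_mem_closure_inter_closure {X : Scheme.{u}} (U : X.Opens)
    (hcl : ∀ x : X, x ∉ U → IsClosed ({x} : Set X)) (T : FEt.Cat X) (t : T.left) (x : X) (hxt : T.hom t = x)
    (hx : x ∉ U)
    (R : Type u) [CommRing R] [IsLocalRing R] [Algebra (X.presheaf.stalk x) R]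
    [IsLocalHom (algebraMap (X.presheaf.stalk x) R)]
    [Hensel.IsStrictHenselization (X.presheaf.stalk x) R]
    (hconn : ConnectedSpace (FEt.puncturedSpec R : Scheme.{u}))
    (C₁ D₁ : Set T.left) (hC₁ : IsOpen C₁) (hD₁ : IsOpen D₁) (hdisj : Disjoint C₁ D₁)
    (hcover : T.hom ⁻¹' (U : Set X) ⊆ C₁ ∪ D₁) (hsub : C₁ ∪ D₁ ⊆ T.hom ⁻¹' (U : Set X))
    (hCspec : t ∈ closure C₁ → ∃ c ∈ C₁, c ⤳ t) (hDspec : t ∈ closure D₁ → ∃ d ∈ D₁, d ⤳ t) :
    ¬ (t ∈ closure C₁ ∧ t ∈ closure D₁) := by
  rintro ⟨htC, htD⟩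
  obtain ⟨c, hcρ, hccl, hcflat⟩ := exists_flat_lift_of_isStrictHenselization x R T t hxt
  let ρ := Spec.map (CommRingCat.ofHom (algebraMap (X.presheaf.stalk x) R)) ≫ X.fromSpecStalk x
  -- punctured points map into `T_U`
  have hpunct : ∀ p : Spec (CommRingCat.of R), p ≠ closedPoint R → T.hom (c p) ∈ U := by
    intro p hp
    have h1 : T.hom (c p) = ρ p := by
      rw [← Scheme.Hom.comp_apply, hcρ]
    by_contra hy
    have hspec : T.hom (c p) ⤳ x := by
      have h2 : c p ⤳ c (closedPoint R) := (specializes_closedPoint p).map c.continuous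
      rw [hccl] at h2
      exact hxt ▸ h2.map T.hom.continuous
    have h3 : x ∈ ({T.hom (c p)} : Set X) := hspec.mem_closed (hcl _ hy) rfl
    rw [Set.mem_singleton_iff] at h3
    exact hp (eq_closedPoint_of_apply_eq x R p (h1.symm.trans h3.symm))
  -- lifting generizations
  have hlift : ∀ d : T.left, d ⤳ t → T.hom d ∈ U → ∃ p : Spec (CommRingCat.of R), p ≠ closedPoint R ∧ c p = d := by
    intro d hd hdU
    obtain ⟨p, -, hp⟩ := (Flat.generalizingMap c) (hccl ▸ hd)
    refine ⟨p, ?_, hp⟩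
    rintro rfl
    rw [hccl] at hp
    rw [← hp, hxt] at hdU
    exact hx hdU
  -- the clopen subset `A` of the punctured spectrum
  let ι := (FEt.puncturedSpec R).ι
  let A : Set ↥(FEt.puncturedSpec R : Scheme.{u}) := (fun p => c (ι p)) ⁻¹' C₁
  have hcont : Continuous (fun p : ↥(FEt.puncturedSpec R : Scheme.{u}) => c (ι p)) :=
    c.continuous.comp ι.continuous
  have hAcompl : Aᶜ = (fun p : ↥(FEt.puncturedSpec R : Scheme.{u}) => c (ι p)) ⁻¹' D₁ := by
    ext p
    have hpne : ι p ≠ closedPoint R := p.2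
    have hpU : c (ι p) ∈ C₁ ∪ D₁ := hcover (hpunct _ hpne)
    constructor
    · intro hpA
      exact hpU.resolve_left hpA
    · intro hpD hpA
      exact Set.disjoint_left.mp hdisj hpA hpD
  have hAclopen : IsClopen A := by
    refine ⟨?_, hC₁.preimage hcont⟩
    rw [← isOpen_compl_iff, hAcompl]
    exact hD₁.preimage hcont
  rcases isClopen_iff.mp hAclopen with hA | hA
  · -- all punctured points map to `D₁`
    obtain ⟨c', hc'C, hc't⟩ := hCspec htC
    obtain ⟨p, hpne, hp⟩ := hlift c' hc't (hsub (Or.inl hc'C))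
    have : (⟨p, hpne⟩ : ↥(FEt.puncturedSpec R : Scheme.{u})) ∈ A := by
      change c p ∈ C₁
      rw [hp]
      exact hc'C
    rw [hA] at this
    exact this
  · obtain ⟨d, hdD, hdt⟩ := hDspec htD
    obtain ⟨p, hpne, hp⟩ := hlift d hdt (hsub (Or.inr hdD))
    have : (⟨p, hpne⟩ : ↥(FEt.puncturedSpec R : Scheme.{u})) ∈ A := hA ▸ Set.mem_univ _
    have h1 : c p ∈ C₁ := this
    rw [hp] at h1
    exact Set.disjoint_left.mp hdisj h1 hdD

/-- From a local obstruction-freeness statement to the clopen correspondence along a dense open immersion. -/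
theorem full_faithful_restrict_of_dense_of_local {X : Scheme.{u}} (U : X.Opens) (hU : Dense (U : Set X))
    (hloc : ∀ (T : FEt.Cat X) (C' : Set ↥(pullback T.hom U.ι)), IsClopen C' → ∀ t : T.left, T.hom t ∉ U →
      ¬ (t ∈ closure (pullback.fst T.hom U.ι '' C') ∧ t ∈ closure (pullback.fst T.hom U.ι '' C'ᶜ))) :
    (FEt.restrict U.ι).Full ∧ (FEt.restrict U.ι).Faithful := by
  apply full_faithful_restrict_of_clopen U.ι
  · intro Y C hC hrange
    have hYet : Etale Y.hom := Y.prop.2
    have hdense : Dense (Y.hom ⁻¹' (U : Set X)) := hU.preimage Y.hom.isOpenMap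
    have hr : Set.range (pullback.fst Y.hom U.ι) = Y.hom ⁻¹' (U : Set X) := by
      rw [Scheme.Pullback.range_fst, Scheme.Opens.range_ι]
    rw [hr] at hrange
    have : closure (Y.hom ⁻¹' (U : Set X)) ⊆ C := hC.1.closure_subset_iff.mpr hrange
    rw [hdense.closure_eq] at this
    exact Set.univ_subset_iff.mp this
  · intro T C' hC'
    have hTet : Etale T.hom := T.prop.2
    let j := pullback.fst T.hom U.ι
    haveI : IsOpenImmersion j := inferInstance
    have hr : Set.range j = T.hom ⁻¹' (U : Set X) := by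
      rw [Scheme.Pullback.range_fst, Scheme.Opens.range_ι]
    have hC₁ : IsOpen (j '' C') := j.isOpenEmbedding.isOpenMap _ hC'.2
    have hD₁ : IsOpen (j '' C'ᶜ) := j.isOpenEmbedding.isOpenMap _ hC'.compl.2
    have hdisj : Disjoint (j '' C') (j '' C'ᶜ) :=
      (Set.disjoint_image_iff j.isOpenEmbedding.injective).mpr disjoint_compl_right
    have hunion : j '' C' ∪ j '' C'ᶜ = T.hom ⁻¹' (U : Set X) := by
      rw [← Set.image_union, Set.union_compl_self, Set.image_univ, hr]
    have hdenseT : Dense (T.hom ⁻¹' (U : Set X)) := hU.preimage T.hom.isOpenMap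
    have hK : ∀ t, ¬ (t ∈ closure (j '' C') ∧ t ∈ closure (j '' C'ᶜ)) := by
      intro t
      by_cases htU : T.hom t ∈ U
      · rintro ⟨h1, h2⟩
        have : t ∈ j '' C' ∪ j '' C'ᶜ := hunion ▸ htU
        rcases this with h | h
        · exact Set.disjoint_left.mp (hdisj.closure_right hC₁) h h2
        · exact Set.disjoint_left.mp (hdisj.symm.closure_right hD₁) h h1
      · exact hloc T C' hC' t htU
    refine ⟨closure (j '' C'), ⟨isClosed_closure, ?_⟩, ?_⟩
    · have : (closure (j '' C'))ᶜ = closure (j '' C'ᶜ) := by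
        ext t
        constructor
        · intro ht
          have h1 : t ∈ closure (j '' C' ∪ j '' C'ᶜ) := by
            rw [hunion, hdenseT.closure_eq]
            trivial
          rw [closure_union] at h1
          exact h1.resolve_left ht
        · intro ht ht'
          exact hK t ⟨ht', ht⟩
      rw [← isClosed_compl_iff, this]
      exact isClosed_closure
    · ext p
      constructor
      · intro hp
        by_contra hpC'
        have : j p ∈ j '' C'ᶜ := ⟨p, hpC', rfl⟩
        exact hK (j p) ⟨hp, subset_closure this⟩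
      · intro hp
        exact subset_closure ⟨p, hp, rfl⟩

/-- `S1145`. -/
theorem full_faithful_restrict_of_dense_retrocompact {X : Scheme.{u}} (U : X.Opens)
    (hU : Dense (U : Set X)) [QuasiCompact U.ι] (hcl : ∀ x : X, x ∉ U → IsClosed ({x} : Set X))
    (hsh : ∀ x : X, x ∉ U → ∀ (R : Type u) [CommRing R] [IsLocalRing R] [Algebra (X.presheaf.stalk x) R]
      [IsLocalHom (algebraMap (X.presheaf.stalk x) R)] [Hensel.IsStrictHenselization (X.presheaf.stalk x) R],
      ConnectedSpace (FEt.puncturedSpec R : Scheme.{u})) :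
    (FEt.restrict U.ι).Full ∧ (FEt.restrict U.ι).Faithful := by
  apply full_faithful_restrict_of_dense_of_local U hU
  intro T C' hC' t htU
  let j := pullback.fst T.hom U.ι
  haveI : QuasiCompact j := MorphismProperty.pullback_fst _ _ ‹QuasiCompact U.ι›
  have hr : Set.range j = T.hom ⁻¹' (U : Set X) := by
    rw [Scheme.Pullback.range_fst, Scheme.Opens.range_ι]
  have hspec : ∀ D' : Set ↥(pullback T.hom U.ι), IsClopen D' →
      t ∈ closure (j '' D') → ∃ d ∈ j '' D', d ⤳ t := by
    intro D' hD' ht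
    let W : (pullback T.hom U.ι).Opens := ⟨D', hD'.2⟩
    have hW : IsFinite W.ι := (prop_ι_of_isClosed W hD'.1).1
    haveI : QuasiCompact (W.ι ≫ j) := inferInstance
    have hrW : Set.range (W.ι ≫ j) = j '' D' := by
      rw [Scheme.Hom.comp_base, TopCat.coe_comp, Set.range_comp, Scheme.Opens.range_ι]
      rfl
    obtain ⟨q, hq⟩ := exists_specializes_of_mem_closure_range (W.ι ≫ j) t (hrW ▸ ht)
    exact ⟨(W.ι ≫ j) q, hrW ▸ ⟨q, rfl⟩, hq⟩
  have hunion : j '' C' ∪ j '' C'ᶜ = T.hom ⁻¹' (U : Set X) := by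
    rw [← Set.image_union, Set.union_compl_self, Set.image_univ, hr]
  exact not_mem_closure_inter_closure U hcl T t (T.hom t) rfl htU
    (Groth.Agent.Lib.Helper9.HensK.StrictHenselization (X.presheaf.stalk (T.hom t)))
    (hsh _ htU _) (j '' C') (j '' C'ᶜ) (j.isOpenEmbedding.isOpenMap _ hC'.2)
    (j.isOpenEmbedding.isOpenMap _ hC'.compl.2)
    ((Set.disjoint_image_iff j.isOpenEmbedding.injective).mpr disjoint_compl_right)
    hunion.ge hunion.le (hspec C' hC') (hspec C'ᶜ hC'.compl)

end Groth.Agent.Lib.Helper2
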