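import Mathlib
import Groth.Prelude.Def_FEt
import Groth.Prelude.Def_AlgSpDec
import Groth.Agent.Lib.Helper2.DenseOpenStrictHensel

/-!
# Full faithfulness of restriction to a dense open, locally finitely many irreducible components (S7283)

* `exists_specializes_of_mem_closure_of_finite`: closure of an open = specializations, when locally all points specialize
  from a finite set.
* `exists_finite_generic_nhd`, `exists_finite_generic_nhd_of_finite_flat`, `exists_specializes_of_mem_closure_of_isOpen`.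
* `exists_maximal_generization_of_isClosed`: a nonempty closed subset of a sober space has a point with no proper
  generization inside it.
* `false_of_maximal_of_specializes`: local step using a strict henselization with connected punctured spectrum.
* `full_faithful_restrict_of_dense_of_finite_irreducibleComponents` (= S7283).
-/

set_option linter.style.haveILetI false

universe u
open CategoryTheory CategoryTheory.Limits AlgebraicGeometry TopologicalSpace Opposite IsLocalRing

namespace Groth.Agent.Lib.Helper2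

/-- Lemma A: closure = specializations, for an open set inside an open `W` all of whose points specialize from a finite
set. -/
theorem exists_specializes_of_mem_closure_of_finite {T : Type*} [TopologicalSpace T] (W : Set T) (hW : IsOpen W)
    (F : Set T) (hF : F.Finite) (hFW : ∀ s ∈ W, ∃ ξ ∈ F, ξ ⤳ s) (O : Set T) (hO : IsOpen O) (t : T) (htW : t ∈ W)
    (ht : t ∈ closure O) : ∃ c ∈ O, c ⤳ t := by
  have h1 : t ∈ closure (O ∩ W) := by
    rw [mem_closure_iff] at ht ⊢
    intro o ho hto
    obtain ⟨z, hz1, hz2⟩ := ht (o ∩ W) (ho.inter hW) ⟨hto, htW⟩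
    exact ⟨z, hz1.1, hz2, hz1.2⟩
  have h2 : O ∩ W ⊆ ⋃ ξ ∈ F ∩ O, closure {ξ} := by
    rintro s ⟨hsO, hsW⟩
    obtain ⟨ξ, hξF, hξs⟩ := hFW s hsW
    have : ξ ∈ O := hξs.mem_open hO hsO
    exact Set.mem_biUnion ⟨hξF, this⟩ (specializes_iff_mem_closure.mp hξs)
  have h3 : IsClosed (⋃ ξ ∈ F ∩ O, closure {ξ}) :=
    (hF.inter_of_left O).isClosed_biUnion (fun _ _ => isClosed_closure)
  have h4 := (h3.closure_subset_iff.mpr h2) h1
  obtain ⟨ξ, hξ, hξt⟩ := Set.mem_iUnion₂.mp h4
  exact ⟨ξ, hξ.2, specializes_iff_mem_closure.mpr hξt⟩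

/-- Lemma B: if quasi-compact opens of `X` have finitely many irreducible components, every point has an open
neighbourhood all of whose points specialize from a finite set. -/
theorem exists_finite_generic_nhd {X : Scheme.{u}}
    (hirr : ∀ V : X.Opens, IsCompact (V : Set X) → (irreducibleComponents ↥V).Finite) (x : X) :
    ∃ V : X.Opens, x ∈ V ∧ ∃ G : Set X, G.Finite ∧ ∀ y ∈ V, ∃ η ∈ G, η ⤳ y := by
  obtain ⟨V, hVaff, hxV, -⟩ := exists_isAffineOpen_mem_and_subset (X := X) (x := x) (U := ⊤) trivial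
  have hfin := hirr V hVaff.isCompact
  haveI : QuasiSober ↥V := V.isOpenEmbedding'.quasiSober
  have hGfin : (genericPoints ↥V).Finite := genericPoints.finite hfin
  refine ⟨V, hxV, Subtype.val '' (genericPoints ↥V), hGfin.image _, ?_⟩
  intro y hy
  let y' : ↥V := ⟨y, hy⟩
  let Z : irreducibleComponents ↥V := ⟨irreducibleComponent y', irreducibleComponent_mem_irreducibleComponents y'⟩
  have hgen := genericPoints.isGenericPoint_ofComponent Z
  have hspec : (genericPoints.ofComponent Z).1 ⤳ y' := hgen.specializes mem_irreducibleComponent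
  exact ⟨_, ⟨_, (genericPoints.ofComponent Z).2, rfl⟩, hspec.map continuous_subtype_val⟩

/-- Lemma C: the same for the source of a finite flat morphism. -/
theorem exists_finite_generic_nhd_of_finite_flat {T X : Scheme.{u}} (f : T ⟶ X) [IsFinite f] [Flat f]
    (hirr : ∀ V : X.Opens, IsCompact (V : Set X) → (irreducibleComponents ↥V).Finite) (t : T) :
    ∃ W : T.Opens, t ∈ W ∧ ∃ F : Set T, F.Finite ∧ ∀ s ∈ W, ∃ ξ ∈ F, ξ ⤳ s := by
  obtain ⟨V, hxV, G, hG, hGV⟩ := exists_finite_generic_nhd hirr (f t)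
  refine ⟨f ⁻¹ᵁ V, hxV, f ⁻¹' G, f.finite_preimage hG, ?_⟩
  intro s hs
  obtain ⟨η, hηG, hηs⟩ := hGV (f s) hs
  obtain ⟨ξ, hξs, hξη⟩ := (Flat.generalizingMap f) hηs
  exact ⟨ξ, by rw [Set.mem_preimage, hξη]; exact hηG, hξs⟩

/-- Lemma D. -/
theorem exists_specializes_of_mem_closure_of_isOpen {T X : Scheme.{u}} (f : T ⟶ X) [IsFinite f] [Flat f]
    (hirr : ∀ V : X.Opens, IsCompact (V : Set X) → (irreducibleComponents ↥V).Finite) (O : Set T) (hO : IsOpen O)
    (t : T) (ht : t ∈ closure O) : ∃ c ∈ O, c ⤳ t := by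
  obtain ⟨W, htW, F, hF, hFW⟩ := exists_finite_generic_nhd_of_finite_flat f hirr t
  exact exists_specializes_of_mem_closure_of_finite (W : Set T) W.2 F hF hFW O hO t htW ht

/-- Lemma E: a nonempty closed subset of a sober space has a point with no proper generization inside it. -/
theorem exists_maximal_generization_of_isClosed {T : Type*} [TopologicalSpace T] [QuasiSober T] [T0Space T]
    (K : Set T) (hK : IsClosed K) (t₀ : T) (ht₀ : t₀ ∈ K) : ∃ t ∈ K, ∀ t' ∈ K, t' ⤳ t → t' = t := by
  let k₀ : K := ⟨t₀, ht₀⟩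
  let Z : Set K := irreducibleComponent k₀
  have hZirr : IsIrreducible Z := isIrreducible_irreducibleComponent
  have hZcl : IsClosed Z := isClosed_irreducibleComponent
  have hZ'irr : IsIrreducible (Subtype.val '' Z) := hZirr.image _ continuous_subtype_val.continuousOn
  have hZ'cl : IsClosed (Subtype.val '' Z) := hK.isClosedEmbedding_subtypeVal.isClosedMap _ hZcl
  obtain ⟨t, ht⟩ := QuasiSober.sober hZ'irr hZ'cl
  obtain ⟨k, hkZ, hkt⟩ := ht.mem
  refine ⟨t, hkt ▸ k.2, ?_⟩
  intro t' ht'K ht't
  let k' : K := ⟨t', ht'K⟩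
  have hsub : Z ⊆ closure {k'} := by
    intro z hz
    have h1 : t ⤳ z.1 := ht.specializes ⟨z, hz, rfl⟩
    have h2 : t' ⤳ z.1 := ht't.trans h1
    have h3 : k' ⤳ z := Topology.IsInducing.subtypeVal.specializes_iff.mp h2
    exact specializes_iff_mem_closure.mp h3
  have heq : closure {k'} = Z := eq_irreducibleComponent isIrreducible_singleton.closure.isPreirreducible hsub
  have hk'Z : k' ∈ Z := heq ▸ subset_closure rfl
  have h4 : t ⤳ t' := ht.specializes ⟨k', hk'Z, rfl⟩
  exact (ht't.antisymm h4).eq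

/-- Local step (maximal point version): if `t` over `x ∉ U` has no proper generization in
`closure C₁ ∩ closure D₁`, then it cannot be a specialization of points of both halves. -/
theorem false_of_maximal_of_specializes {X : Scheme.{u}} (U : X.Opens)
    (T : FEt.Cat X) (t : T.left) (x : X) (hxt : T.hom t = x) (hx : x ∉ U)
    (R : Type u) [CommRing R] [IsLocalRing R] [Algebra (X.presheaf.stalk x) R]
    [IsLocalHom (algebraMap (X.presheaf.stalk x) R)]
    [Hensel.IsStrictHenselization (X.presheaf.stalk x) R]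
    (hconn : ConnectedSpace (FEt.puncturedSpec R : Scheme.{u}))
    (C₁ D₁ : Set T.left)
    (hcover : ∀ s : T.left, s ∈ closure C₁ ∨ s ∈ closure D₁) (hsub : C₁ ∪ D₁ ⊆ T.hom ⁻¹' (U : Set X))
    (hmax : ∀ t' : T.left, t' ∈ closure C₁ → t' ∈ closure D₁ → t' ⤳ t → t' = t)
    (hCspec : ∃ c ∈ C₁, c ⤳ t) (hDspec : ∃ d ∈ D₁, d ⤳ t) : False := by
  obtain ⟨c, hcρ, hccl, hcflat⟩ := exists_flat_lift_of_isStrictHenselization x R T t hxt
  let ρ := Spec.map (CommRingCat.ofHom (algebraMap (X.presheaf.stalk x) R)) ≫ X.fromSpecStalk x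
  -- punctured points do not map to `t`
  have hne : ∀ p : Spec (CommRingCat.of R), p ≠ closedPoint R → c p ≠ t := by
    intro p hp hcp
    have h1 : T.hom (c p) = ρ p := by
      rw [← Scheme.Hom.comp_apply, hcρ]
    rw [hcp, hxt] at h1
    exact hp (eq_closedPoint_of_apply_eq x R p h1.symm)
  have hspec : ∀ p : Spec (CommRingCat.of R), c p ⤳ t := by
    intro p
    have h2 : c p ⤳ c (closedPoint R) := (specializes_closedPoint p).map c.continuous
    rwa [hccl] at h2
  -- lifting generizations
  have hlift : ∀ d : T.left, d ⤳ t → T.hom d ∈ U → ∃ p : Spec (CommRingCat.of R), p ≠ closedPoint R ∧ c p = d := by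
    intro d hd hdU
    obtain ⟨p, -, hp⟩ := (Flat.generalizingMap c) (hccl ▸ hd)
    refine ⟨p, ?_, hp⟩
    rintro rfl
    rw [hccl] at hp
    rw [← hp, hxt] at hdU
    exact hx hdU
  let ι := (FEt.puncturedSpec R).ι
  let A : Set ↥(FEt.puncturedSpec R : Scheme.{u}) := (fun p => c (ι p)) ⁻¹' closure C₁
  let B : Set ↥(FEt.puncturedSpec R : Scheme.{u}) := (fun p => c (ι p)) ⁻¹' closure D₁
  have hcont : Continuous (fun p : ↥(FEt.puncturedSpec R : Scheme.{u}) => c (ι p)) :=
    c.continuous.comp ι.continuous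
  have hAcl : IsClosed A := isClosed_closure.preimage hcont
  have hBcl : IsClosed B := isClosed_closure.preimage hcont
  have hAcompl : Aᶜ = B := by
    ext p
    have hpne : ι p ≠ closedPoint R := p.2
    constructor
    · intro hpA
      exact (hcover (c (ι p))).resolve_left hpA
    · intro hpB hpA
      exact hne _ hpne (hmax _ hpA hpB (hspec _))
  have hAclopen : IsClopen A := by
    refine ⟨hAcl, ?_⟩
    rw [← isClosed_compl_iff, hAcompl]
    exact hBcl
  rcases isClopen_iff.mp hAclopen with hA | hA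
  · obtain ⟨c', hc'C, hc't⟩ := hCspec
    obtain ⟨p, hpne, hp⟩ := hlift c' hc't (hsub (Or.inl hc'C))
    have : (⟨p, hpne⟩ : ↥(FEt.puncturedSpec R : Scheme.{u})) ∈ A := by
      change c p ∈ closure C₁
      rw [hp]
      exact subset_closure hc'C
    rw [hA] at this
    exact this
  · obtain ⟨d, hdD, hdt⟩ := hDspec
    obtain ⟨p, hpne, hp⟩ := hlift d hdt (hsub (Or.inr hdD))
    have hpB : (⟨p, hpne⟩ : ↥(FEt.puncturedSpec R : Scheme.{u})) ∈ B := by
      change c p ∈ closure D₁
      rw [hp]
      exact subset_closure hdD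
    rw [← hAcompl, hA] at hpB
    exact hpB (Set.mem_univ _)

/-- `S7283`. -/
theorem full_faithful_restrict_of_dense_of_finite_irreducibleComponents {X : Scheme.{u}} (U : X.Opens)
    (hU : Dense (U : Set X))
    (hirr : ∀ V : X.Opens, IsCompact (V : Set X) → (irreducibleComponents ↥V).Finite)
    (hsh : ∀ x : X, x ∉ U → ∀ (R : Type u) [CommRing R] [IsLocalRing R] [Algebra (X.presheaf.stalk x) R]
      [IsLocalHom (algebraMap (X.presheaf.stalk x) R)] [Hensel.IsStrictHenselization (X.presheaf.stalk x) R],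
      ConnectedSpace (FEt.puncturedSpec R : Scheme.{u})) :
    (FEt.restrict U.ι).Full ∧ (FEt.restrict U.ι).Faithful := by
  apply full_faithful_restrict_of_dense_of_local U hU
  intro T C' hC' t₀ _ ht₀
  have hTfin : IsFinite T.hom := T.prop.1
  have hTet : Etale T.hom := T.prop.2
  let j := pullback.fst T.hom U.ι
  have hr : Set.range j = T.hom ⁻¹' (U : Set X) := by
    rw [Scheme.Pullback.range_fst, Scheme.Opens.range_ι]
  have hC₁ : IsOpen (j '' C') := j.isOpenEmbedding.isOpenMap _ hC'.2
  have hD₁ : IsOpen (j '' C'ᶜ) := j.isOpenEmbedding.isOpenMap _ hC'.compl.2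
  have hdisj : Disjoint (j '' C') (j '' C'ᶜ) :=
    (Set.disjoint_image_iff j.isOpenEmbedding.injective).mpr disjoint_compl_right
  have hunion : j '' C' ∪ j '' C'ᶜ = T.hom ⁻¹' (U : Set X) := by
    rw [← Set.image_union, Set.union_compl_self, Set.image_univ, hr]
  have hdenseT : Dense (T.hom ⁻¹' (U : Set X)) := hU.preimage T.hom.isOpenMap
  have hcover : ∀ s : T.left, s ∈ closure (j '' C') ∨ s ∈ closure (j '' C'ᶜ) := by
    intro s
    have h1 : s ∈ closure (j '' C' ∪ j '' C'ᶜ) := by
      rw [hunion, hdenseT.closure_eq]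
      trivial
    rwa [closure_union] at h1
  -- a maximal point of `K`
  obtain ⟨t, ⟨htC, htD⟩, hmax⟩ := exists_maximal_generization_of_isClosed
    (closure (j '' C') ∩ closure (j '' C'ᶜ)) (isClosed_closure.inter isClosed_closure) t₀ ht₀
  have htU : T.hom t ∉ U := by
    intro htU
    have : t ∈ j '' C' ∪ j '' C'ᶜ := hunion ▸ htU
    rcases this with h | h
    · exact Set.disjoint_left.mp (hdisj.closure_right hC₁) h htD
    · exact Set.disjoint_left.mp (hdisj.symm.closure_right hD₁) h htC
  exact false_of_maximal_of_specializes U T t (T.hom t) rfl htU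
    (Groth.Agent.Lib.Helper9.HensK.StrictHenselization (X.presheaf.stalk (T.hom t)))
    (hsh _ htU _) (j '' C') (j '' C'ᶜ) hcover hunion.le
    (fun t' h1 h2 h3 => hmax t' ⟨h1, h2⟩ h3)
    (exists_specializes_of_mem_closure_of_isOpen T.hom hirr _ hC₁ t htC)
    (exists_specializes_of_mem_closure_of_isOpen T.hom hirr _ hD₁ t htD)

end Groth.Agent.Lib.Helper2
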