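import Mathlib
import Groth.Agent.S2195

/-!
# Finite flat algebras étale off the closed point (S18423)

* `isUnit_algebraMap_discr_of_isEtaleAt`: a finite free algebra étale at all primes not containing `f` has discriminant
  invertible after inverting `f` (uses `Groth.Agent.S2195`: étale ⇔ discriminant is a unit).
* `isUnit_of_isUnit_algebraMap_away`: Krull's Hauptidealsatz: in a Noetherian local ring of dimension `≥ 2`, an element
  which becomes a unit in `A_f` for all `f ∈ 𝔪` is a unit.
* `etale_of_finite_flat_of_isEtaleAt_off_closedPoint` (= S18423).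
-/

set_option linter.style.haveILetI false

universe u v
open IsLocalRing

namespace Groth.Agent.Lib.Helper2

/-- Lemma G: if a finite free algebra `B` is étale at all primes not containing `f`, its discriminant becomes a unit
after inverting `f`. -/
theorem isUnit_algebraMap_discr_of_isEtaleAt {A : Type u} {B : Type v} [CommRing A] [CommRing B] [Algebra A B]
    {ι : Type} [Fintype ι] [DecidableEq ι] (b : Module.Basis ι A B) (f : A)
    (h : ∀ q : PrimeSpectrum B, algebraMap A B f ∉ q.asIdeal → Algebra.IsEtaleAt A q.asIdeal) :
    IsUnit (algebraMap A (Localization.Away f) (Algebra.discr A b)) := by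
  let M : Submonoid A := Submonoid.powers f
  let Af := Localization M
  let Bf := Localization (Algebra.algebraMapSubmonoid B M)
  let g : B := algebraMap A B f
  have h1 : (PrimeSpectrum.basicOpen g : Set (PrimeSpectrum B)) ⊆ Algebra.etaleLocus A B := by
    intro q hq
    exact h q hq
  have h2 : Algebra.FormallyEtale A (Localization.Away g) := Algebra.basicOpen_subset_etaleLocus_iff.mp h1
  haveI : IsLocalization.Away g Bf := by
    change IsLocalization (Submonoid.powers (algebraMap A B f)) Bf
    rw [← Algebra.algebraMapSubmonoid_powers]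
    infer_instance
  let e : Localization.Away g ≃ₐ[A] Bf :=
    (IsLocalization.algEquiv (Submonoid.powers g) (Localization.Away g) Bf).restrictScalars A
  haveI h3 : Algebra.FormallyEtale A Bf := Algebra.FormallyEtale.of_equiv e
  haveI h4 : Algebra.FormallyEtale Af Bf := Algebra.FormallyEtale.localization_base M
  let b' : Module.Basis ι Af Bf := b.localizationLocalization Af M Bf
  haveI : Module.Finite Af Bf := Module.Finite.of_basis b'
  haveI : Module.Free Af Bf := Module.Free.of_basis b'
  haveI : Module.FinitePresentation Af Bf := Module.finitePresentation_of_projective _ _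
  haveI : Algebra.FinitePresentation Af Bf := inferInstance
  haveI : Algebra.Etale Af Bf := ⟨h4, inferInstance⟩
  have h5 : IsUnit (Algebra.discr Af b') := (Groth.Agent.S2195.result b').mp inferInstance
  rwa [Algebra.discr_localizationLocalization A M Bf b] at h5

/-- Lemma H. -/
theorem isUnit_of_isUnit_algebraMap_away {A : Type u} [CommRing A] [IsNoetherianRing A] [IsLocalRing A]
    (hdim : (2 : WithBot ℕ∞) ≤ ringKrullDim A) (d : A)
    (h : ∀ f ∈ maximalIdeal A, IsUnit (algebraMap A (Localization.Away f) d)) : IsUnit d := by
  by_contra hd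
  have hne : Ideal.span {d} ≠ ⊤ := by
    rwa [Ne, Ideal.span_singleton_eq_top]
  obtain ⟨p, hp⟩ := Ideal.nonempty_minimalPrimes hne
  haveI hpprime : p.IsPrime := hp.1.1
  have hht : p.height ≤ 1 := Ideal.height_le_one_of_isPrincipal_of_mem_minimalPrimes _ p hp
  have hm : (maximalIdeal A).height = ringKrullDim A := IsLocalRing.maximalIdeal_height_eq_ringKrullDim
  have hpm : p ≠ maximalIdeal A := by
    rintro rfl
    have h2 : (2 : WithBot ℕ∞) ≤ ((maximalIdeal A).height : WithBot ℕ∞) := hm ▸ hdim
    have h3 : (2 : ℕ∞) ≤ (maximalIdeal A).height := by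
      have : ((2 : ℕ∞) : WithBot ℕ∞) ≤ ((maximalIdeal A).height : WithBot ℕ∞) := h2
      exact WithBot.coe_le_coe.mp this
    have := h3.trans hht
    norm_num at this
  have hlt : p < maximalIdeal A := lt_of_le_of_ne (IsLocalRing.le_maximalIdeal hpprime.ne_top) hpm
  obtain ⟨f, hfm, hfp⟩ := SetLike.exists_of_lt hlt
  have hu := h f hfm
  have hdisj : Disjoint (Submonoid.powers f : Set A) (p : Set A) := by
    rw [Set.disjoint_left]
    rintro _ ⟨n, rfl⟩ hn
    exact hfp (hpprime.mem_of_pow_mem n hn)
  have h6 := IsLocalization.under_map_of_isPrime_disjoint (Submonoid.powers f) (Localization.Away f) hpprime hdisj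
  have h7 : Ideal.map (algebraMap A (Localization.Away f)) p = ⊤ := by
    apply Ideal.eq_top_of_isUnit_mem _ _ hu
    exact Ideal.mem_map_of_mem _ (hp.1.2 (Ideal.mem_span_singleton_self d))
  rw [h7] at h6
  exact hpprime.ne_top (h6.symm.trans Ideal.comap_top)

/-- `S18423`. -/
theorem etale_of_finite_flat_of_isEtaleAt_off_closedPoint (A : Type u) (B : Type v) [CommRing A] [CommRing B]
    [Algebra A B] [IsNoetherianRing A] [IsLocalRing A] (hdim : (2 : WithBot ℕ∞) ≤ ringKrullDim A)
    [Module.Finite A B] [Module.Flat A B]
    (h : ∀ q : PrimeSpectrum B, q.asIdeal.comap (algebraMap A B) ≠ IsLocalRing.maximalIdeal A →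
      Algebra.IsEtaleAt A q.asIdeal) :
    Algebra.Etale A B := by
  classical
  haveI : Module.Free A B := Module.free_of_flat_of_isLocalRing
  let b := Module.finBasis A B
  rw [Groth.Agent.S2195.result b]
  apply isUnit_of_isUnit_algebraMap_away hdim
  intro f hf
  apply isUnit_algebraMap_discr_of_isEtaleAt b f
  intro q hq
  apply h q
  intro hcomap
  apply hq
  have : f ∈ q.asIdeal.comap (algebraMap A B) := hcomap ▸ hf
  exact this

end Groth.Agent.Lib.Helper2
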