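import Mathlib
import Groth.Agent.Lib.Helper2.DiscrEtale2

/-!
# Finite flat morphisms étale in codimension one are étale (S14462)

* `formallyEtale_respectsIso`, `formallyEtale_stalkMap_iff` (étale analogue of Mathlib's `formallySmooth_stalkMap_iff`),
  `formallyEtale_stalkMap_of_etale`.
* `etale_of_finite_flat_of_etale_off_codim_two` (= S14462).
-/

set_option linter.style.haveILetI false

universe u
open CategoryTheory CategoryTheory.Limits AlgebraicGeometry TopologicalSpace Opposite IsLocalRing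

namespace Groth.Agent.Lib.Helper2

theorem formallyEtale_respectsIso : RingHom.RespectsIso RingHom.FormallyEtale := by
  apply RingHom.StableUnderComposition.respectsIso
  · intro R S T _ _ _ f g hf hg
    exact hf.comp hg
  · intro R S _ _ e
    letI := e.toRingHom.toAlgebra
    change Algebra.FormallyEtale R S
    exact Algebra.FormallyEtale.of_equiv (AlgEquiv.ofRingEquiv (f := e) (fun x => rfl))

/-- Étale analogue of `AlgebraicGeometry.formallySmooth_stalkMap_iff`. -/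
lemma formallyEtale_stalkMap_iff {X Y : Scheme.{u}} {f : X ⟶ Y} {x : X} (U : Y.Opens)
      (hU : IsAffineOpen U) (V : X.Opens) (hV : IsAffineOpen V) (hVU : V ≤ f ⁻¹ᵁ U)
      (hx : x ∈ V) :
    letI := (f.appLE U V hVU).hom.toAlgebra
    (f.stalkMap x).hom.FormallyEtale ↔
      hV.primeIdealOf ⟨x, hx⟩ ∈ Algebra.etaleLocus Γ(Y, U) Γ(X, V) := by
  let := (f.appLE U V hVU).hom.toAlgebra
  let p := (hU.primeIdealOf ⟨f x, hVU hx⟩).asIdeal
  let q := (hV.primeIdealOf ⟨x, hx⟩).asIdeal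
  have : q.LiesOver p :=
    ⟨congr($(IsAffineOpen.comap_primeIdealOf_appLE U hU V hV hVU hx).1).symm⟩
  let := Localization.AtPrime.algebraOfLiesOver p q
  trans Algebra.FormallyEtale (Localization.AtPrime p) (Localization.AtPrime q)
  · rw [← RingHom.formallyEtale_algebraMap]
    exact formallyEtale_respectsIso.arrow_mk_iso_iff
      (IsAffineOpen.arrowStalkMapIso f U hU V hV hVU hx)
  · exact Algebra.FormallyEtale.iff_restrictScalars.symm

/-- Stalk maps of an étale morphism are formally étale. -/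
lemma formallyEtale_stalkMap_of_etale {X Y : Scheme.{u}} (g : X ⟶ Y) [Etale g] (x : X) :
    (g.stalkMap x).hom.FormallyEtale := by
  obtain ⟨_, ⟨U, hU, rfl⟩, hxU, -⟩ :=
    Y.isBasis_affineOpens.exists_subset_of_mem_open (Set.mem_univ (g x)) isOpen_univ
  obtain ⟨_, ⟨V, hV, rfl⟩, hxV, hVU⟩ :=
    X.isBasis_affineOpens.exists_subset_of_mem_open hxU (U.2.preimage g.continuous)
  have h1 : (g.appLE U V hVU).hom.Etale := HasRingHomProperty.appLE (P := @Etale) g inferInstance ⟨U, hU⟩ ⟨V, hV⟩ hVU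
  rw [formallyEtale_stalkMap_iff U hU V hV hVU hxV]
  letI := (g.appLE U V hVU).hom.toAlgebra
  have h2 : Algebra.Etale Γ(Y, U) Γ(X, V) := RingHom.etale_algebraMap.mp h1
  have h3 : Algebra.etaleLocus Γ(Y, U) Γ(X, V) = Set.univ := Algebra.etaleLocus_eq_univ_iff_etale.mpr h2
  rw [h3]
  trivial

/-- `S14462`. -/
theorem etale_of_finite_flat_of_etale_off_codim_two {X Y : Scheme.{u}} [IsLocallyNoetherian Y]
    (f : X ⟶ Y) [IsFinite f] [Flat f] (U : Y.Opens)
    (hU : ∀ y : Y, y ∉ U → (2 : WithBot ℕ∞) ≤ ringKrullDim (Y.presheaf.stalk y))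
    [Etale (f ∣_ U)] : Etale f := by
  -- stalk maps over `U` are formally étale
  have hstalk : ∀ x : X, f x ∈ U → (f.stalkMap x).hom.FormallyEtale := by
    intro x hx
    have h1 := formallyEtale_stalkMap_of_etale (f ∣_ U) ⟨x, hx⟩
    exact (formallyEtale_respectsIso.arrow_mk_iso_iff (morphismRestrictStalkMap f U ⟨x, hx⟩)).mp h1
  rw [HasRingHomProperty.iff_appLE (P := @Etale)]
  intro V W e
  have hW₀ : IsAffineOpen (f ⁻¹ᵁ V.1) := V.2.preimage f
  -- reduce to `W = f⁻¹ V`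
  suffices H : (f.appLE V.1 (f ⁻¹ᵁ V.1) le_rfl).hom.Etale by
    have h2 : ((𝟙 X : X ⟶ X).appLE (f ⁻¹ᵁ V.1) W.1 e).hom.Etale :=
      HasRingHomProperty.appLE (P := @Etale) (𝟙 X) inferInstance ⟨f ⁻¹ᵁ V.1, hW₀⟩ W e
    have h3 : f.appLE V.1 W.1 e = f.appLE V.1 (f ⁻¹ᵁ V.1) le_rfl ≫ (𝟙 X : X ⟶ X).appLE (f ⁻¹ᵁ V.1) W.1 e := by
      simp [Scheme.Hom.appLE]
      erw [Category.id_comp]
      rfl
    rw [h3, CommRingCat.hom_comp]
    exact RingHom.Etale.stableUnderComposition _ _ H h2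
  haveI : IsNoetherianRing Γ(Y, V.1) := IsLocallyNoetherian.component_noetherian V
  have hfin : (f.appLE V.1 (f ⁻¹ᵁ V.1) le_rfl).hom.Finite := by
    rw [Scheme.Hom.appLE_eq_app]
    exact IsFinite.finite_app f V.1 V.2
  have hflat : (f.appLE V.1 (f ⁻¹ᵁ V.1) le_rfl).hom.Flat :=
    HasRingHomProperty.appLE (P := @Flat) f inferInstance V ⟨f ⁻¹ᵁ V.1, hW₀⟩ le_rfl
  letI := (f.appLE V.1 (f ⁻¹ᵁ V.1) le_rfl).hom.toAlgebra
  haveI : Module.Finite Γ(Y, V.1) Γ(X, f ⁻¹ᵁ V.1) := hfin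
  haveI : Module.Flat Γ(Y, V.1) Γ(X, f ⁻¹ᵁ V.1) := hflat
  rw [← RingHom.algebraMap_toAlgebra (f.appLE V.1 (f ⁻¹ᵁ V.1) le_rfl).hom, RingHom.etale_algebraMap]
  apply etale_of_finite_flat_of_isEtaleAt_of_height_le_one
  intro q _ hq
  let z : PrimeSpectrum Γ(X, f ⁻¹ᵁ V.1) := ⟨q, inferInstance⟩
  let x : X := hW₀.fromSpec z
  have hxW : x ∈ f ⁻¹ᵁ V.1 := by
    have : x ∈ Set.range hW₀.fromSpec := ⟨z, rfl⟩
    rwa [hW₀.range_fromSpec] at this
  have hz : hW₀.primeIdealOf ⟨x, hxW⟩ = z := by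
    apply hW₀.fromSpec.isOpenEmbedding.injective
    rw [hW₀.fromSpec_primeIdealOf]
  have hcomap := IsAffineOpen.comap_primeIdealOf_appLE V.1 V.2 (f ⁻¹ᵁ V.1) hW₀ le_rfl hxW
  rw [hz] at hcomap
  -- the dimension of the stalk at `f x`
  have hloc := V.2.isLocalization_stalk ⟨f x, hxW⟩
  have hdim : ringKrullDim (Y.presheaf.stalk (f x)) = (q.comap (algebraMap Γ(Y, V.1) Γ(X, f ⁻¹ᵁ V.1))).height := by
    letI := Y.presheaf.algebra_section_stalk ⟨f x, hxW⟩
    rw [IsLocalization.AtPrime.ringKrullDim_eq_height (V.2.primeIdealOf ⟨f x, hxW⟩).asIdeal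
      (Y.presheaf.stalk (f x)), ← hcomap]
    rfl
  have hfxU : f x ∈ U := by
    by_contra hnot
    have h2 := hU (f x) hnot
    rw [hdim] at h2
    have h3 : (2 : ℕ∞) ≤ (q.comap (algebraMap Γ(Y, V.1) Γ(X, f ⁻¹ᵁ V.1))).height := WithBot.coe_le_coe.mp h2
    have := h3.trans hq
    norm_num at this
  have h4 := (formallyEtale_stalkMap_iff V.1 V.2 (f ⁻¹ᵁ V.1) hW₀ le_rfl hxW).mp (hstalk x hfxU)
  rw [hz] at h4
  exact h4

end Groth.Agent.Lib.Helper2
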