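import Mathlib
import Groth.Prelude.Def_Pi1
import Groth.Agent.Lib.Helper2.FiniteFlatEtaleCodimTwo
import Groth.Agent.Lib.Helper29.DepthRees

/-!
# A finite morphism étale off a closed set of depth ≥ 2 is étale iff flat (S0293)

Combines `etale_of_finite_flat_of_etale_off_codim_two` (S14462) with helper29's `depth ≤ dim`.
-/

set_option linter.style.haveILetI false
set_option autoImplicit false

universe u
open CategoryTheory CategoryTheory.Limits AlgebraicGeometry TopologicalSpace Opposite

namespace Groth.Agent.Lib.Helper2

/-- `S0293`. -/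
theorem etale_iff_flat_of_finite_of_etale_off_depth_two {X : Scheme.{u}} [IsLocallyNoetherian X]
    (U : X.Opens)
    (hU : ∀ x : X, x ∉ U → (2 : ℕ∞) ≤ LocCoh.depth (X.presheaf.stalk x) (X.presheaf.stalk x))
    {Y : Scheme.{u}} (π : Y ⟶ X) [IsFinite π] [Etale (pullback.snd π U.ι)] :
    Etale π ↔ Flat π := by
  constructor
  · intro h
    infer_instance
  · intro hflat
    haveI : Etale (π ∣_ U) := by
      have h1 : π ∣_ U = (pullbackRestrictIsoRestrict π U).inv ≫ pullback.snd π U.ι := rfl
      rw [h1]
      infer_instance
    apply etale_of_finite_flat_of_etale_off_codim_two π U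
    intro x hx
    have h2 := hU x hx
    have h3 := Groth.Agent.Lib.Helper29.depth_le_supportDim (X.presheaf.stalk x) (X.presheaf.stalk x)
    have h4 : Module.supportDim (X.presheaf.stalk x) (X.presheaf.stalk x) =
        ringKrullDim (X.presheaf.stalk x) := Module.supportDim_self_eq_ringKrullDim _
    rw [h4] at h3
    refine le_trans ?_ h3
    exact WithBot.coe_le_coe.mpr h2

end Groth.Agent.Lib.Helper2
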