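import Mathlib
import Groth.Prelude.Def_FEt
import Groth.Agent.Lib.Helper2.FibCoeq

/-!
# The fundamental group of the spectrum of a field

For a field `K` with algebraic closure `K̄`:
* `specObj`, `pt`, `specMap`: finite étale `K`-algebras as finite étale covers of `Spec K` and their
  geometric points;
* `toAutHom`: the action of the absolute Galois group on the fibre functor at `Spec K̄ ⟶ Spec K`;
* `toAutHom_injective` (an automorphism of `K̄` fixing all separable elements is trivial);
* `exists_factor`: every geometric point of a cover factors through `Spec L` for a finite separable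
  subextension `L` of `K̄`;
* `toAutHom_surjective`, `mulEquiv`: `Gal(K̄/K) ≃* π₁(Spec K)`.
-/

set_option autoImplicit false
set_option linter.style.haveILetI false
set_option linter.unusedSectionVars false
universe u
open CategoryTheory CategoryTheory.Limits AlgebraicGeometry IntermediateField

namespace Groth.Agent.Lib.Helper2.FEtField

variable (K : Type u) [Field K]

/-- The geometric point `Spec K̄ ⟶ Spec K`. -/
noncomputable abbrev geomPt :
    Spec (CommRingCat.of (AlgebraicClosure K)) ⟶ Spec (CommRingCat.of K) :=
  Spec.map (CommRingCat.ofHom (algebraMap K (AlgebraicClosure K)))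

section SpecObj

variable (A : Type u) [CommRing A] [Algebra K A] [Module.Finite K A] [Algebra.Etale K A]

/-- The finite étale cover of `Spec K` attached to a finite étale `K`-algebra. -/
noncomputable def specObj : FEt.Cat (Spec (CommRingCat.of K)) :=
  MorphismProperty.Over.mk ⊤ (Spec.map (CommRingCat.ofHom (algebraMap K A)))
    ⟨(IsFinite.SpecMap_iff _).mpr (RingHom.finite_algebraMap.mpr inferInstance),
      (HasRingHomProperty.Spec_iff (P := @Etale)).mpr (RingHom.etale_algebraMap.mpr inferInstance)⟩

variable {A}

/-- The geometric point of `specObj A` attached to an algebra homomorphism `A → K̄`. -/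
noncomputable def pt (f : A →ₐ[K] AlgebraicClosure K) : FEt.fiberObj (geomPt K) (specObj K A) :=
  ⟨Spec.map (CommRingCat.ofHom f.toRingHom), by
    show Spec.map _ ≫ Spec.map _ = Spec.map _
    rw [← Spec.map_comp]
    congr 1
    ext x
    exact f.commutes x⟩

lemma pt_injective : Function.Injective (pt K (A := A)) := by
  intro f f' h
  have h1 : Spec.map (CommRingCat.ofHom f.toRingHom) = Spec.map (CommRingCat.ofHom f'.toRingHom) :=
    congrArg Subtype.val h
  have h2 := Spec.map_injective h1
  ext x
  exact congrArg (fun k => k.hom x) h2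

lemma pt_surjective : Function.Surjective (pt K (A := A)) := by
  intro s
  obtain ⟨φ, hφ⟩ := Spec.map_surjective s.1
  have hs : s.1 ≫ Spec.map (CommRingCat.ofHom (algebraMap K A)) = geomPt K := s.2
  have hs' : Spec.map (CommRingCat.ofHom (algebraMap K A) ≫ φ) = geomPt K := by
    rw [Spec.map_comp, hφ]
    exact hs
  have h2 := Spec.map_injective hs' 
  let f : A →ₐ[K] AlgebraicClosure K :=
    { φ.hom with commutes' := fun x => congrArg (fun k => k.hom x) h2 }
  exact ⟨f, Subtype.ext hφ⟩

end SpecObj

section SpecMap

variable {A B : Type u} [CommRing A] [Algebra K A] [Module.Finite K A] [Algebra.Etale K A]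
  [CommRing B] [Algebra K B] [Module.Finite K B] [Algebra.Etale K B]

/-- The morphism of covers attached to an algebra homomorphism. -/
noncomputable def specMap (h : A →ₐ[K] B) : specObj K B ⟶ specObj K A :=
  MorphismProperty.Over.homMk (Spec.map (CommRingCat.ofHom h.toRingHom)) (by
    show Spec.map _ ≫ Spec.map _ = Spec.map _
    rw [← Spec.map_comp]
    congr 1
    ext x
    exact h.commutes x)

lemma fiber_specMap_pt (h : A →ₐ[K] B) (f : B →ₐ[K] AlgebraicClosure K) :
    (FEt.fiber (geomPt K)).map (specMap K h) (pt K f) = pt K (f.comp h) := by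
  apply Subtype.ext
  show Spec.map _ ≫ Spec.map _ = Spec.map _
  rw [← Spec.map_comp]
  rfl

end SpecMap


section Action

/-- An element of the absolute Galois group as an algebra homomorphism. -/
noncomputable def gHom (g : Field.absoluteGaloisGroup K) : AlgebraicClosure K →ₐ[K] AlgebraicClosure K :=
  ((show AlgebraicClosure K ≃ₐ[K] AlgebraicClosure K from g) :
    AlgebraicClosure K →ₐ[K] AlgebraicClosure K)

lemma gHom_one : gHom K 1 = AlgHom.id K _ := rfl

lemma gHom_mul (g h : Field.absoluteGaloisGroup K) : gHom K (g * h) = (gHom K g).comp (gHom K h) :=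
  rfl

/-- The automorphism of `Spec K̄` attached to an element of the absolute Galois group. -/
noncomputable def γ (g : Field.absoluteGaloisGroup K) :
    Spec (CommRingCat.of (AlgebraicClosure K)) ⟶ Spec (CommRingCat.of (AlgebraicClosure K)) :=
  Spec.map (CommRingCat.ofHom (gHom K g).toRingHom)

lemma γ_comp_geomPt (g : Field.absoluteGaloisGroup K) : γ K g ≫ geomPt K = geomPt K := by
  show Spec.map _ ≫ Spec.map _ = Spec.map _
  rw [← Spec.map_comp]
  congr 1
  ext x
  exact (gHom K g).commutes x

lemma γ_one : γ K 1 = 𝟙 _ := by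
  show Spec.map (CommRingCat.ofHom (RingHom.id (AlgebraicClosure K))) = 𝟙 _
  exact Spec.map_id _

lemma γ_mul (g h : Field.absoluteGaloisGroup K) : γ K (g * h) = γ K g ≫ γ K h := by
  show Spec.map _ = Spec.map _ ≫ Spec.map _
  rw [← Spec.map_comp]
  rfl

/-- The action of the absolute Galois group on geometric fibres. -/
noncomputable def act (g : Field.absoluteGaloisGroup K) (Y : FEt.Cat (Spec (CommRingCat.of K)))
    (s : FEt.fiberObj (geomPt K) Y) : FEt.fiberObj (geomPt K) Y :=
  ⟨γ K g ≫ s.1, by rw [Category.assoc, s.2, γ_comp_geomPt]⟩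

lemma act_one (Y : FEt.Cat (Spec (CommRingCat.of K))) (s : FEt.fiberObj (geomPt K) Y) :
    act K 1 Y s = s := by
  apply Subtype.ext
  show γ K 1 ≫ s.1 = s.1
  rw [γ_one, Category.id_comp]

lemma act_mul (g h : Field.absoluteGaloisGroup K) (Y : FEt.Cat (Spec (CommRingCat.of K)))
    (s : FEt.fiberObj (geomPt K) Y) : act K (g * h) Y s = act K g Y (act K h Y s) := by
  apply Subtype.ext
  show γ K (g * h) ≫ s.1 = γ K g ≫ γ K h ≫ s.1
  rw [γ_mul, Category.assoc]

/-- The automorphism of the fibre functor attached to an element of the absolute Galois group. -/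
noncomputable def toAut (g : Field.absoluteGaloisGroup K) : Aut (FEt.fiber (geomPt K)) :=
  NatIso.ofComponents (fun Y => Equiv.toIso
    { toFun := act K g Y
      invFun := act K g⁻¹ Y
      left_inv := fun s => by rw [← act_mul, inv_mul_cancel, act_one]
      right_inv := fun s => by rw [← act_mul, mul_inv_cancel, act_one] })
    (fun {Y Y'} φ => by
      ext s
      apply Subtype.ext
      show γ K g ≫ s.1 ≫ φ.left = (γ K g ≫ s.1) ≫ φ.left
      rw [Category.assoc])

lemma toAut_hom_app (g : Field.absoluteGaloisGroup K) (Y : FEt.Cat (Spec (CommRingCat.of K)))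
    (s : FEt.fiberObj (geomPt K) Y) : (toAut K g).hom.app Y s = act K g Y s := rfl

/-- The homomorphism from the absolute Galois group to the fundamental group. -/
noncomputable def toAutHom : Field.absoluteGaloisGroup K →* Aut (FEt.fiber (geomPt K)) where
  toFun := toAut K
  map_one' := by
    ext Y s
    exact act_one K Y s
  map_mul' g h := by
    ext Y s
    exact act_mul K g h Y s

lemma act_pt {A : Type u} [CommRing A] [Algebra K A] [Module.Finite K A] [Algebra.Etale K A]
    (g : Field.absoluteGaloisGroup K) (f : A →ₐ[K] AlgebraicClosure K) :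
    act K g (specObj K A) (pt K f) = pt K ((gHom K g).comp f) := by
  apply Subtype.ext
  show Spec.map _ ≫ Spec.map _ = Spec.map _
  rw [← Spec.map_comp]
  rfl

end Action


section Injective

/-- A finite separable field extension is finite étale. -/
lemma etale_of_finite_separable (L : Type u) [Field L] [Algebra K L] [FiniteDimensional K L]
    [Algebra.IsSeparable K L] : Algebra.Etale K L :=
  { formallyEtale := Algebra.FormallyEtale.of_isSeparable K L
    finitePresentation := Algebra.FinitePresentation.of_finiteType.mp inferInstance }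

/-- If `g` acts trivially on the fibre of `Spec L` for a finite separable subextension `L`, then
`g` fixes `L`. -/
lemma gHom_apply_eq_of_act_eq (g : Field.absoluteGaloisGroup K)
    (L : IntermediateField K (AlgebraicClosure K)) [FiniteDimensional K L] [Algebra.IsSeparable K L]
    (h : haveI := etale_of_finite_separable K L
      act K g (specObj K L) (pt K L.val) = pt K L.val) (x : L) : gHom K g x = x := by
  haveI := etale_of_finite_separable K L
  rw [act_pt] at h
  have := pt_injective K h
  exact congrArg (fun k => k x) this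

theorem toAutHom_injective : Function.Injective (toAutHom K) := by
  rw [injective_iff_map_eq_one]
  intro g hg
  have hact : ∀ (Y : FEt.Cat (Spec (CommRingCat.of K))) (s : FEt.fiberObj (geomPt K) Y),
      act K g Y s = s := by
    intro Y s
    have := congrArg (fun a : Aut (FEt.fiber (geomPt K)) => a.hom.app Y s) hg
    exact this
  -- `g` fixes every separable element
  have hsep : ∀ x : AlgebraicClosure K, IsSeparable K x → gHom K g x = x := by
    intro x hx
    haveI : FiniteDimensional K K⟮x⟯ :=
      IntermediateField.adjoin.finiteDimensional (Algebra.IsIntegral.isIntegral x)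
    haveI : Algebra.IsSeparable K K⟮x⟯ :=
      (IntermediateField.isSeparable_adjoin_simple_iff_isSeparable K (AlgebraicClosure K)).mpr hx
    haveI := etale_of_finite_separable K K⟮x⟯
    exact gHom_apply_eq_of_act_eq K g K⟮x⟯ (hact _ _)
      ⟨x, IntermediateField.mem_adjoin_simple_self K x⟩
  -- hence `g` is the identity, `K̄` being purely inseparable over the separable closure
  let Ks := separableClosure K (AlgebraicClosure K)
  haveI : IsPurelyInseparable Ks (AlgebraicClosure K) := inferInstance
  let g' : AlgebraicClosure K →ₐ[Ks] AlgebraicClosure K :=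
    { (gHom K g).toRingHom with commutes' := fun x => hsep x.1 x.2 }
  have hg' : g' = AlgHom.id Ks _ := Subsingleton.elim _ _
  apply AlgEquiv.ext
  intro x
  exact congrArg (fun k => k x) hg'

end Injective


section FinSep

/-- Finite separable subextensions of `K̄ / K`. -/
structure FinSep where
  /-- the underlying intermediate field -/
  L : IntermediateField K (AlgebraicClosure K)
  fin : FiniteDimensional K L
  sep : Algebra.IsSeparable K L

attribute [instance] FinSep.fin FinSep.sep

instance (E : FinSep K) : Algebra.Etale K E.L := etale_of_finite_separable K E.L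

/-- The cover attached to a finite separable subextension. -/
noncomputable abbrev FinSep.obj (E : FinSep K) : FEt.Cat (Spec (CommRingCat.of K)) := specObj K E.L

/-- The tautological geometric point of the cover attached to a finite separable subextension. -/
noncomputable abbrev FinSep.point (E : FinSep K) : FEt.fiberObj (geomPt K) E.obj :=
  Groth.Agent.Lib.Helper2.FEtField.pt K E.L.val

open Groth.Agent.Lib.Helper2.AffCoeq in
lemma ptHom_SpecMap {R : CommRingCat.{u}} {Ω : Type u} [Field Ω] (ψ : R ⟶ CommRingCat.of Ω) :
    ptHom (Spec.map ψ) = ψ.hom.comp (Scheme.ΓSpecIso R).hom.hom := by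
  unfold ptHom
  rw [Scheme.ΓSpecIso_naturality]
  rfl

end FinSep


section Factor

open Groth.Agent.Lib.Helper2.AffCoeq

/-- Every geometric point of a finite étale cover of `Spec K` factors through the cover attached to a
finite separable subextension of `K̄`. -/
theorem exists_factor (Y : FEt.Cat (Spec (CommRingCat.of K))) (s : FEt.fiberObj (geomPt K) Y) :
    ∃ (E : FinSep K) (t : E.obj ⟶ Y), (FEt.fiber (geomPt K)).map t E.point = s := by
  let yh : Y.left ⟶ Spec (CommRingCat.of K) := Y.hom
  haveI : IsFinite yh := Y.prop.1
  haveI : Etale yh := Y.prop.2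
  haveI : IsAffine Y.left := isAffine_of_isAffineHom yh
  let eK := Scheme.ΓSpecIso (CommRingCat.of K)
  let eΩ := Scheme.ΓSpecIso (CommRingCat.of (AlgebraicClosure K))
  let φ : CommRingCat.of K ⟶ Γ(Y.left, ⊤) := eK.inv ≫ yh.appTop
  have hfin0 : yh.appTop.hom.Finite := (HasAffineProperty.iff_of_isAffine (P := @IsFinite).mp ‹_›).2
  have het0 : yh.appTop.hom.Etale := (HasRingHomProperty.iff_of_isAffine (P := @Etale)).mp ‹_›
  have hfin : φ.hom.Finite :=
    RingHom.finite_respectsIso.2 yh.appTop.hom eK.symm.commRingCatIsoToRingEquiv hfin0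
  have het : φ.hom.Etale :=
    RingHom.Etale.respectsIso.2 yh.appTop.hom eK.symm.commRingCatIsoToRingEquiv het0
  letI : Algebra K Γ(Y.left, ⊤) := φ.hom.toAlgebra
  haveI : Module.Finite K Γ(Y.left, ⊤) := hfin
  haveI : Algebra.Etale K Γ(Y.left, ⊤) := het
  -- the algebra homomorphism attached to `s`
  have hcomm : (ptHom s.1).comp φ.hom = algebraMap K (AlgebraicClosure K) := by
    have h1 : ptHom (s.1 ≫ yh) = ptHom (geomPt K) := congrArg ptHom s.2
    rw [ptHom_comp, ptHom_SpecMap] at h1
    have h2 : ((ptHom s.1).comp yh.appTop.hom).comp eK.inv.hom =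
        ((CommRingCat.ofHom (algebraMap K (AlgebraicClosure K))).hom.comp eK.hom.hom).comp
          eK.inv.hom := congrArg (fun k => k.comp eK.inv.hom) h1
    rw [RingHom.comp_assoc, RingHom.comp_assoc] at h2
    have h3 : eK.hom.hom.comp eK.inv.hom = RingHom.id _ := by
      have := eK.inv_hom_id
      exact congrArg CommRingCat.Hom.hom this
    rw [h3, RingHom.comp_id] at h2
    exact h2
  let f₀ : Γ(Y.left, ⊤) →ₐ[K] AlgebraicClosure K :=
    { ptHom s.1 with commutes' := fun x => RingHom.congr_fun hcomm x }
  -- its image is a finite separable subextension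
  let L : IntermediateField K (AlgebraicClosure K) := IntermediateField.adjoin K (Set.range f₀)
  have hL : L.toSubalgebra = f₀.range := by
    rw [IntermediateField.adjoin_toSubalgebra, ← AlgHom.coe_range, Algebra.adjoin_eq]
  let f₁ : Γ(Y.left, ⊤) →ₐ[K] L :=
    f₀.codRestrict L.toSubalgebra (fun a => IntermediateField.subset_adjoin K _ ⟨a, rfl⟩)
  have hf₁ : Function.Surjective f₁ := by
    rintro ⟨x, hx⟩
    have hx' : x ∈ L.toSubalgebra := hx
    rw [hL] at hx'
    obtain ⟨a, rfl⟩ := hx'
    exact ⟨a, rfl⟩
  haveI : FiniteDimensional K L := Module.Finite.of_surjective f₁.toLinearMap hf₁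
  haveI : Algebra.FormallyUnramified K L := Algebra.FormallyUnramified.of_surjective f₁ hf₁
  haveI : Algebra.IsSeparable K L := Algebra.FormallyUnramified.isSeparable K L
  let E : FinSep K := ⟨L, inferInstance, inferInstance⟩
  let eL := Scheme.ΓSpecIso (CommRingCat.of L)
  -- the morphism `Spec L ⟶ Y`
  let tl : Spec (CommRingCat.of L) ⟶ Y.left :=
    homOfAppTop (CommRingCat.ofHom f₁.toRingHom ≫ eL.inv)
  have htl : tl.appTop = CommRingCat.ofHom f₁.toRingHom ≫ eL.inv := homOfAppTop_appTop _
  have hw : tl ≫ yh = Spec.map (CommRingCat.ofHom (algebraMap K L)) := by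
    apply ext_of_isAffine
    rw [Scheme.Hom.comp_appTop, htl]
    have h1 : (Spec.map (CommRingCat.ofHom (algebraMap K L))).appTop =
        eK.hom ≫ CommRingCat.ofHom (algebraMap K L) ≫ eL.inv := by
      rw [← Category.assoc, ← Scheme.ΓSpecIso_naturality, Category.assoc, Iso.hom_inv_id,
        Category.comp_id]
    rw [h1, ← Category.assoc, ← Category.assoc]
    congr 1
    rw [← cancel_epi eK.inv, ← Category.assoc, Iso.inv_hom_id_assoc]
    ext x
    exact congrArg Subtype.val (f₁.commutes x)
  let t : E.obj ⟶ Y := MorphismProperty.Over.homMk tl hw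
  refine ⟨E, t, ?_⟩
  apply Subtype.ext
  show Spec.map (CommRingCat.ofHom L.val.toRingHom) ≫ tl = s.1
  apply ptHom_injective
  rw [ptHom_comp, ptHom_SpecMap, htl]
  ext a
  show L.val (eL.hom.hom (eL.inv.hom (f₁ a))) = ptHom s.1 a
  have h3 : eL.hom.hom (eL.inv.hom (f₁ a)) = f₁ a := by
    have := eL.inv_hom_id
    exact congrArg (fun k => k.hom (f₁ a)) this
  rw [h3]
  rfl

end Factor


section Surjective

variable (α : Aut (FEt.fiber (geomPt K)))

/-- The embedding of a finite separable subextension determined by an automorphism of the fibre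
functor. -/
noncomputable def σ (E : FinSep K) : E.L →ₐ[K] AlgebraicClosure K :=
  (pt_surjective K (α.hom.app E.obj E.point)).choose

lemma pt_σ (E : FinSep K) : pt K (σ K α E) = α.hom.app E.obj E.point :=
  (pt_surjective K (α.hom.app E.obj E.point)).choose_spec

lemma σ_comp_inclusion {E E' : FinSep K} (h : E.L ≤ E'.L) :
    (σ K α E').comp (IntermediateField.inclusion h) = σ K α E := by
  apply pt_injective K
  rw [pt_σ, ← fiber_specMap_pt, pt_σ]
  have hnat := α.hom.naturality (specMap K (IntermediateField.inclusion h))
  have h1 := ConcreteCategory.congr_hom hnat E'.point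
  have h2 : (FEt.fiber (geomPt K)).map (specMap K (IntermediateField.inclusion h)) E'.point =
      E.point := fiber_specMap_pt K _ _
  have h1' : α.hom.app E.obj ((FEt.fiber (geomPt K)).map
      (specMap K (IntermediateField.inclusion h)) E'.point) =
      (FEt.fiber (geomPt K)).map (specMap K (IntermediateField.inclusion h))
        (α.hom.app E'.obj E'.point) := h1
  rw [h2] at h1'
  exact h1'.symm

/-- The finite separable subextension generated by a separable element. -/
noncomputable def simpleFS (x : AlgebraicClosure K) (hx : IsSeparable K x) : FinSep K :=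
  ⟨K⟮x⟯, IntermediateField.adjoin.finiteDimensional (Algebra.IsIntegral.isIntegral x),
    (IntermediateField.isSeparable_adjoin_simple_iff_isSeparable K (AlgebraicClosure K)).mpr hx⟩

/-- The compositum of two finite separable subextensions. -/
noncomputable def supFS (E E' : FinSep K) : FinSep K :=
  ⟨E.L ⊔ E'.L, inferInstance, inferInstance⟩

/-- The embedding of the separable closure determined by `α`, as a function. -/
noncomputable def g₀fun (x : separableClosure K (AlgebraicClosure K)) : AlgebraicClosure K :=
  σ K α (simpleFS K x.1 x.2) ⟨x.1, IntermediateField.mem_adjoin_simple_self K x.1⟩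

lemma σ_apply_eq (E : FinSep K) (x : AlgebraicClosure K) (hx : x ∈ E.L) :
    σ K α E ⟨x, hx⟩ =
      g₀fun K α ⟨x, _root_.le_separableClosure K (AlgebraicClosure K) E.L hx⟩ := by
  have hsep : IsSeparable K x := _root_.le_separableClosure K (AlgebraicClosure K) E.L hx
  have hle : (simpleFS K x hsep).L ≤ E.L := IntermediateField.adjoin_simple_le_iff.mpr hx
  unfold g₀fun
  rw [← σ_comp_inclusion K α hle]
  rfl

/-- The embedding of the separable closure determined by `α`. -/
noncomputable def g₀ : separableClosure K (AlgebraicClosure K) →ₐ[K] AlgebraicClosure K where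
  toFun := g₀fun K α
  map_one' := by
    let E := simpleFS K (1 : separableClosure K (AlgebraicClosure K)).1
      (1 : separableClosure K (AlgebraicClosure K)).2
    have h := σ_apply_eq K α E 1 (one_mem _)
    have h' : σ K α E ⟨1, one_mem _⟩ = 1 := map_one (σ K α E)
    exact h.symm.trans h'
  map_mul' x y := by
    let E := supFS K (simpleFS K x.1 x.2) (simpleFS K y.1 y.2)
    have hx : x.1 ∈ E.L :=
      (le_sup_left : (simpleFS K x.1 x.2).L ≤ E.L) (IntermediateField.mem_adjoin_simple_self K x.1)
    have hy : y.1 ∈ E.L :=
      (le_sup_right : (simpleFS K y.1 y.2).L ≤ E.L) (IntermediateField.mem_adjoin_simple_self K y.1)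
    have h1 := σ_apply_eq K α E (x.1 * y.1) (mul_mem hx hy)
    have h2 := σ_apply_eq K α E x.1 hx
    have h3 := σ_apply_eq K α E y.1 hy
    have h4 : σ K α E ⟨x.1 * y.1, mul_mem hx hy⟩ = σ K α E ⟨x.1, hx⟩ * σ K α E ⟨y.1, hy⟩ :=
      map_mul (σ K α E) ⟨x.1, hx⟩ ⟨y.1, hy⟩
    exact h1.symm.trans (h4.trans (by rw [h2, h3]))
  map_zero' := by
    let E := simpleFS K (0 : separableClosure K (AlgebraicClosure K)).1
      (0 : separableClosure K (AlgebraicClosure K)).2
    have h := σ_apply_eq K α E 0 (zero_mem _)
    have h' : σ K α E ⟨0, zero_mem _⟩ = 0 := map_zero (σ K α E)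
    exact h.symm.trans h'
  map_add' x y := by
    let E := supFS K (simpleFS K x.1 x.2) (simpleFS K y.1 y.2)
    have hx : x.1 ∈ E.L :=
      (le_sup_left : (simpleFS K x.1 x.2).L ≤ E.L) (IntermediateField.mem_adjoin_simple_self K x.1)
    have hy : y.1 ∈ E.L :=
      (le_sup_right : (simpleFS K y.1 y.2).L ≤ E.L) (IntermediateField.mem_adjoin_simple_self K y.1)
    have h1 := σ_apply_eq K α E (x.1 + y.1) (add_mem hx hy)
    have h2 := σ_apply_eq K α E x.1 hx
    have h3 := σ_apply_eq K α E y.1 hy
    have h4 : σ K α E ⟨x.1 + y.1, add_mem hx hy⟩ = σ K α E ⟨x.1, hx⟩ + σ K α E ⟨y.1, hy⟩ :=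
      map_add (σ K α E) ⟨x.1, hx⟩ ⟨y.1, hy⟩
    exact h1.symm.trans (h4.trans (by rw [h2, h3]))
  commutes' r := by
    let x : separableClosure K (AlgebraicClosure K) := algebraMap K _ r
    let E := simpleFS K x.1 x.2
    have h := σ_apply_eq K α E x.1 (IntermediateField.mem_adjoin_simple_self K x.1)
    have h' : σ K α E ⟨x.1, IntermediateField.mem_adjoin_simple_self K x.1⟩ =
        algebraMap K (AlgebraicClosure K) r := (σ K α E).commutes r
    exact h.symm.trans h'

theorem toAutHom_surjective : Function.Surjective (toAutHom K) := by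
  intro α
  obtain ⟨g₁, hg₁⟩ := IsAlgClosed.surjective_domRestrict_of_isAlgebraic (K := K)
    (L := separableClosure K (AlgebraicClosure K)) (M := AlgebraicClosure K)
    (E := AlgebraicClosure K) (g₀ K α)
  let g : Field.absoluteGaloisGroup K :=
    AlgEquiv.ofBijective g₁ (Algebra.IsAlgebraic.algHom_bijective g₁)
  have hg : ∀ (E : FinSep K) (x : E.L), gHom K g x = σ K α E x := by
    intro E x
    have h1 := σ_apply_eq K α E x.1 x.2
    have h2 : g₁ x.1 = g₀ K α ⟨x.1, _root_.le_separableClosure K (AlgebraicClosure K) E.L x.2⟩ :=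
      congrArg (fun k => k ⟨x.1, _root_.le_separableClosure K (AlgebraicClosure K) E.L x.2⟩) hg₁
    exact h2.trans h1.symm
  refine ⟨g, ?_⟩
  ext Y s
  obtain ⟨E, t, rfl⟩ := exists_factor K Y s
  show act K g Y ((FEt.fiber (geomPt K)).map t E.point) = _
  have h1 : act K g Y ((FEt.fiber (geomPt K)).map t E.point) =
      (FEt.fiber (geomPt K)).map t (act K g E.obj E.point) := by
    apply Subtype.ext
    show γ K g ≫ E.point.1 ≫ t.left = (γ K g ≫ E.point.1) ≫ t.left
    rw [Category.assoc]
  have h2 : act K g E.obj E.point = α.hom.app E.obj E.point := by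
    rw [act_pt, ← pt_σ]
    congr 1
    ext x
    exact hg E x
  rw [h1, h2]
  exact (ConcreteCategory.congr_hom (α.hom.naturality t) E.point).symm

/-- The absolute Galois group of `K` is the fundamental group of `Spec K`. -/
noncomputable def mulEquiv : Field.absoluteGaloisGroup K ≃* Aut (FEt.fiber (geomPt K)) :=
  MulEquiv.ofBijective (toAutHom K) ⟨toAutHom_injective K, toAutHom_surjective K⟩

end Surjective

end Groth.Agent.Lib.Helper2.FEtField
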