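import Mathlib
import Groth.Prelude.Def_FEt
import Groth.Prelude.Def_Frob
import Groth.Agent.S14930
import Groth.Agent.H72.Perfection
import Groth.Agent.Lib.Helper2.FEtZariskiGlue

/-!
# Frobenius and finite étale covers (helper2)

* `isIso_of_etale_of_universallyInjective_of_surjective`.
* `isIso_relFrob_of_etale`: relative Frobenius of an étale morphism is an isomorphism
  (helper72's S14930: `relFrob` is a universal homeomorphism; cancellation for étale).
* `isPullback_frob_of_etale`, `liftsFEt_frob`: finite étale covers are their own Frobenius pullbacks.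
* `liftsFEt_comp`, `liftsFEt_of_comp`, `liftsFEt_id`; `frobIter`, `liftsFEt_frobIter`,
  `frobIter_comp`, `frobIter_Spec`.
-/

set_option autoImplicit false
set_option linter.style.haveILetI false
set_option linter.unusedSectionVars false
universe u

open CategoryTheory CategoryTheory.Limits AlgebraicGeometry FrobSch

namespace Groth.Agent.Lib.Helper2.FrobFEt

open Groth.Agent.Lib.Helper2.FEtGlue

/-- An étale, universally injective, surjective morphism is an isomorphism. -/
theorem isIso_of_etale_of_universallyInjective_of_surjective {X Y : Scheme.{u}} (f : X ⟶ Y)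
    [Etale f] [UniversallyInjective f] [Surjective f] : IsIso f := by
  have h1 : Surjective (pullback.diagonal f) := (UniversallyInjective.iff_diagonal f).mp inferInstance
  have h2 : IsIso (pullback.diagonal f) :=
    (isIso_iff_isOpenImmersion_and_surjective _).mpr ⟨inferInstance, h1⟩
  have h3 : Mono f := (pullback.isIso_diagonal_iff f).mp h2
  have h4 : IsOpenImmersion f := IsOpenImmersion.of_flat_of_mono f
  exact (isIso_iff_isOpenImmersion_and_surjective f).mpr ⟨h4, inferInstance⟩

variable (p : ℕ) [Fact p.Prime]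

/-- The relative Frobenius of an étale morphism is an isomorphism. -/
theorem isIso_relFrob_of_etale {V S : Scheme.{u}} [IsCharP S p] (f : V ⟶ S) [Etale f] :
    IsIso (relFrob f p) := by
  obtain ⟨huh, -, -⟩ := Groth.Agent.S14930.result p f
  obtain ⟨h1, -, h3⟩ := (Groth.Agent.H72.Perf.isUnivHomeo_iff (relFrob f p)).mp huh
  have h4 : Etale (pullback.snd f (frob S p)) := MorphismProperty.pullback_snd _ _ inferInstance
  have h5 : Etale (relFrob f p ≫ pullback.snd f (frob S p)) := by
    rw [relFrob_snd]; infer_instance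
  have h6 : Etale (relFrob f p) := Etale.of_comp (relFrob f p) (pullback.snd f (frob S p))
  exact isIso_of_etale_of_universallyInjective_of_surjective _

/-- For `f` étale, the Frobenius square is cartesian. -/
theorem isPullback_frob_of_etale {V S : Scheme.{u}} [IsCharP S p] [IsCharP V p] (f : V ⟶ S)
    [Etale f] : IsPullback (frob V p) f f (frob S p) := by
  haveI := isIso_relFrob_of_etale p f
  exact IsPullback.of_iso_pullback ⟨frob_comp p f⟩ (asIso (relFrob f p)) (relFrob_fst f p)
    (relFrob_snd f p)

/-- Finite étale covers lift along the absolute Frobenius (to themselves). -/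
theorem liftsFEt_frob (S : Scheme.{u}) [IsCharP S p] : LiftsFEt (frob S p) := by
  intro Z' z' hfin het
  haveI : IsCharP Z' p := IsCharP.of_hom z' p
  exact ⟨Z', z', frob Z' p, hfin, het, isPullback_frob_of_etale p z'⟩

/-- `LiftsFEt` is stable under composition. -/
theorem liftsFEt_comp {T₁ T₂ T₃ : Scheme.{u}} (g : T₁ ⟶ T₂) (h : T₂ ⟶ T₃) (hg : LiftsFEt g)
    (hh : LiftsFEt h) : LiftsFEt (g ≫ h) := by
  intro Z' z' hfin het
  obtain ⟨Z₂, z₂, a₂, h1, h2, hpb₂⟩ := hg Z' z' hfin het
  obtain ⟨Z₃, z₃, a₃, h3, h4, hpb₃⟩ := hh Z₂ z₂ h1 h2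
  exact ⟨Z₃, z₃, a₂ ≫ a₃, h3, h4, hpb₂.paste_horiz hpb₃⟩

/-- If finite étale covers lift along `g ≫ h`, they lift along `g`. -/
theorem liftsFEt_of_comp {T₁ T₂ T₃ : Scheme.{u}} (g : T₁ ⟶ T₂) (h : T₂ ⟶ T₃)
    (H : LiftsFEt (g ≫ h)) : LiftsFEt g := by
  intro Z' z' hfin het
  obtain ⟨Z₃, z₃, a₃, h3, h4, hpb₃⟩ := H Z' z' hfin het
  have hw : a₃ ≫ z₃ = (z' ≫ g) ≫ h := by rw [hpb₃.w, Category.assoc]
  refine ⟨pullback z₃ h, pullback.snd z₃ h, pullback.lift a₃ (z' ≫ g) hw,
    MorphismProperty.pullback_snd _ _ h3, MorphismProperty.pullback_snd _ _ h4, ?_⟩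
  exact IsPullback.of_right (by rw [pullback.lift_fst]; exact hpb₃) (pullback.lift_snd _ _ _)
    (IsPullback.of_hasPullback z₃ h)

/-- Iterated absolute Frobenius. -/
noncomputable def frobIter (S : Scheme.{u}) [IsCharP S p] : ℕ → (S ⟶ S)
  | 0 => 𝟙 S
  | n + 1 => frobIter S n ≫ frob S p

theorem liftsFEt_id (S : Scheme.{u}) : LiftsFEt (𝟙 S) := by
  intro Z' z' hfin het
  exact ⟨Z', z', 𝟙 Z', hfin, het, IsPullback.of_id_fst⟩

theorem liftsFEt_frobIter (S : Scheme.{u}) [IsCharP S p] (n : ℕ) : LiftsFEt (frobIter p S n) := by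
  induction n with
  | zero => exact liftsFEt_id S
  | succ n ih => exact liftsFEt_comp _ _ ih (liftsFEt_frob p S)

/-- Naturality of the iterated Frobenius. -/
theorem frobIter_comp {X Y : Scheme.{u}} [IsCharP X p] [IsCharP Y p] (f : X ⟶ Y) (n : ℕ) :
    frobIter p X n ≫ f = f ≫ frobIter p Y n := by
  induction n with
  | zero => simp [frobIter]
  | succ n ih =>
    simp only [frobIter, Category.assoc]
    rw [frob_comp p f, ← Category.assoc, ih, Category.assoc]

/-- On an affine scheme the iterated Frobenius is `Spec` of the iterated ring Frobenius. -/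
theorem frobIter_Spec (B : CommRingCat.{u}) [CharP B p] (n : ℕ) :
    frobIter p (Spec B) n = Spec.map (CommRingCat.ofHom (iterateFrobenius B p n)) := by
  induction n with
  | zero =>
    simp only [frobIter]
    have : iterateFrobenius B p 0 = RingHom.id B := by
      ext x; simp
    rw [this]
    exact (Spec.map_id B).symm
  | succ n ih =>
    simp only [frobIter]
    rw [ih, Groth.Agent.H72.Perf.frob_Spec p B, ← Spec.map_comp]
    congr 2
    ext x
    simp only [CommRingCat.hom_comp, CommRingCat.hom_ofHom, RingHom.coe_comp, Function.comp_apply,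
      iterateFrobenius_def, frobenius_def]
    rw [← pow_mul, pow_succ, mul_comm]

end Groth.Agent.Lib.Helper2.FrobFEt
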