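import Mathlib
import Groth.Prelude.Def_FEt
import Groth.Agent.Lib.Helper2.FEtField
import Groth.Agent.Lib.Helper2.FEtGalois2

/-!
# Finite étale covers of the spectrum of a field and the absolute Galois group

The isomorphism `Ψ : Gal(K̄/K) ≃* Aut (fiberFin ξ)` is a homeomorphism for the Krull topology
(`Ψt`; the inverse is continuous because the fixing subgroup of a finite subextension contains that
of its separable part, and `Aut F` is compact), and hence
`FEt.Cat (Spec K) ≌ ContAction FintypeCat (Gal(K̄/K))` by Mathlib's Galois equivalence.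
-/

set_option autoImplicit false
set_option linter.style.haveILetI false
set_option linter.unusedSectionVars false
universe u
open CategoryTheory CategoryTheory.Limits AlgebraicGeometry IntermediateField

namespace Groth.Agent.Lib.Helper2.FEtField

open Groth.Agent.Lib.Helper2.FEtGalois

variable (K : Type u) [Field K]

instance : ConnectedSpace (Spec (CommRingCat.of K)) := by
  haveI : Unique (Spec (CommRingCat.of K)) :=
    inferInstanceAs (Unique (PrimeSpectrum K))
  infer_instance

/-- The finite-set valued fibre functor at `Spec K̄ ⟶ Spec K`. -/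
noncomputable abbrev FF : FEt.Cat (Spec (CommRingCat.of K)) ⥤ FintypeCat.{u} := fiberFin (geomPt K)

instance : GaloisCategory (FEt.Cat (Spec (CommRingCat.of K))) := galoisCategory (geomPt K)

instance : PreGaloisCategory.FiberFunctor (FF K) := fiberFunctor_fiberFin (geomPt K)

/-- Automorphisms of the `FintypeCat`-valued and of the `Type`-valued fibre functor. -/
noncomputable def autFinEquiv : Aut (FF K) ≃* Aut (FEt.fiber (geomPt K)) :=
  ((Functor.FullyFaithful.ofFullyFaithful FintypeCat.incl).whiskeringRight
    (FEt.Cat (Spec (CommRingCat.of K)))).autMulEquivOfFullyFaithful (FF K)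

/-- The absolute Galois group is the automorphism group of the fibre functor. -/
noncomputable def Ψ : Field.absoluteGaloisGroup K ≃* Aut (FF K) :=
  (mulEquiv K).trans (autFinEquiv K).symm

lemma Ψ_hom_app (g : Field.absoluteGaloisGroup K) (Y : FEt.Cat (Spec (CommRingCat.of K)))
    (s : FEt.fiberObj (geomPt K) Y) : (Ψ K g).hom.app Y s = act K g Y s := by
  have h : autFinEquiv K (Ψ K g) = toAut K g := by
    show autFinEquiv K ((autFinEquiv K).symm (mulEquiv K g)) = _
    rw [MulEquiv.apply_symm_apply]
    rfl
  have h2 := congrArg (fun a : Aut (FEt.fiber (geomPt K)) => a.hom.app Y s) h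
  exact h2


section Topology

/-- The fixing subgroup of a finite subextension contains the fixing subgroup of a finite separable
subextension. -/
lemma exists_finSep_fixingSubgroup_le (E : IntermediateField K (AlgebraicClosure K))
    [FiniteDimensional K E] :
    ∃ F : FinSep K, ∀ g : Field.absoluteGaloisGroup K, (∀ x : F.L, gHom K g x = x) →
      ∀ x : E, gHom K g x = x := by
  let Ks := separableClosure K (AlgebraicClosure K)
  let L : IntermediateField K (AlgebraicClosure K) := E ⊓ Ks
  haveI : FiniteDimensional K L := FiniteDimensional.of_injective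
    (IntermediateField.inclusion (inf_le_left : L ≤ E)).toLinearMap
    (IntermediateField.inclusion_injective (inf_le_left : L ≤ E))
  haveI : Algebra.IsSeparable K L :=
    (le_separableClosure_iff K (AlgebraicClosure K) L).mp inf_le_right
  refine ⟨⟨L, inferInstance, inferInstance⟩, ?_⟩
  intro g hg x
  haveI : IsPurelyInseparable Ks (AlgebraicClosure K) := inferInstance
  let q := ringExpChar K
  haveI : ExpChar K q := ringExpChar.expChar K
  haveI : ExpChar (AlgebraicClosure K) q := expChar_of_injective_algebraMap
    (algebraMap K (AlgebraicClosure K)).injective q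
  haveI : ExpChar Ks q := expChar_of_injective_algebraMap (algebraMap K Ks).injective q
  obtain ⟨n, y, hy⟩ := (isPurelyInseparable_iff_pow_mem Ks q).mp inferInstance (x : AlgebraicClosure K)
  have hmem : (x : AlgebraicClosure K) ^ q ^ n ∈ L := by
    refine ⟨pow_mem x.2 _, ?_⟩
    rw [← hy]
    exact y.2
  have h1 : gHom K g ((x : AlgebraicClosure K) ^ q ^ n) = (x : AlgebraicClosure K) ^ q ^ n :=
    hg ⟨_, hmem⟩
  rw [map_pow] at h1
  have h2 : (gHom K g x - x) ^ q ^ n = 0 := by
    rw [sub_pow_expChar_pow, h1, sub_self]
  exact sub_eq_zero.mp (pow_eq_zero_iff (expChar_pow_pos K q n).ne' |>.mp h2)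

open CategoryTheory.PreGaloisCategory in
lemma continuous_Ψ_symm : Continuous (Ψ K).symm := by
  apply continuous_of_continuousAt_one
  rw [ContinuousAt, map_one]
  intro A hA
  have hA' : A ∈ nhds (1 : AlgebraicClosure K ≃ₐ[K] AlgebraicClosure K) := hA
  obtain ⟨E, hfin, hE⟩ := (krullTopology_mem_nhds_one_iff K (AlgebraicClosure K) A).mp hA'
  obtain ⟨F, hF⟩ := exists_finSep_fixingSubgroup_le K E
  let p : (FF K).obj F.obj := F.point
  have hopen : IsOpen (MulAction.stabilizer (Aut (FF K)) p : Set (Aut (FF K))) :=
    stabilizer_isOpen (Aut (FF K)) p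
  rw [Filter.mem_map]
  refine Filter.mem_of_superset (hopen.mem_nhds (one_mem _)) ?_
  intro a ha
  show (Ψ K).symm a ∈ A
  apply hE
  set g := (Ψ K).symm a with hg
  have ha' : a.hom.app F.obj F.point = F.point := ha
  have hact : act K g F.obj F.point = F.point := by
    rw [← Ψ_hom_app, hg, MulEquiv.apply_symm_apply]
    exact ha'
  have hfix := gHom_apply_eq_of_act_eq K g F.L hact
  have hmem : (show AlgebraicClosure K ≃ₐ[K] AlgebraicClosure K from g) ∈ E.fixingSubgroup := by
    rw [IntermediateField.mem_fixingSubgroup_iff]
    intro x hx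
    exact hF g hfix ⟨x, hx⟩
  exact hmem

/-- The absolute Galois group is topologically isomorphic to the automorphism group of the fibre
functor. -/
noncomputable def Ψt : Field.absoluteGaloisGroup K ≃ₜ* Aut (FF K) :=
  haveI : T2Space (Field.absoluteGaloisGroup K) :=
    inferInstanceAs (T2Space (AlgebraicClosure K ≃ₐ[K] AlgebraicClosure K))
  { Ψ K with
    continuous_toFun := Continuous.continuous_symm_of_equiv_compact_to_t2
      (f := (Ψ K).symm.toEquiv) (continuous_Ψ_symm K)
    continuous_invFun := continuous_Ψ_symm K }

open scoped FintypeCatDiscrete in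
/-- Finite étale covers of `Spec K` are finite sets with a continuous action of the absolute Galois
group. -/
theorem nonempty_equivalence : Nonempty (FEt.Cat (Spec (CommRingCat.of K)) ≌
    ContAction FintypeCat.{u} (Field.absoluteGaloisGroup K)) :=
  ⟨(PreGaloisCategory.functorToContAction (FF K)).asEquivalence.trans
    (ContAction.resEquiv FintypeCat (Ψt K))⟩

end Topology

end Groth.Agent.Lib.Helper2.FEtField
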