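import Mathlib
import Groth.Agent.Lib.Helper24.SmoothNormal
import Groth.Agent.H72.NormalBir
import Groth.Prelude.Def_FEt

/-!
# Schemes étale over normal integral schemes

* `isNormalScheme_of_etale`: étale over a normal integral scheme is normal (`Pi1.IsNormalScheme`).
* `irreducibleSpace_of_connected_of_finite_fibre`: topological criterion for irreducibility.
* `isIntegral_of_connected_of_finite_etale`: connected finite étale over normal integral is integral.
-/

set_option linter.style.haveILetI false
set_option autoImplicit false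

universe u
open AlgebraicGeometry CategoryTheory CategoryTheory.Limits TensorProduct

namespace Groth.Agent.Lib.Helper2

/-- A scheme étale over a normal integral scheme is normal. -/
theorem isNormalScheme_of_etale {X Y : Scheme.{u}} [IsIntegral X] (hX : Pi1.IsNormalScheme X)
    (f : Y ⟶ X) [Etale f] : Pi1.IsNormalScheme Y := by
  intro y
  obtain ⟨V, hV, hxV, -⟩ := exists_isAffineOpen_mem_and_subset (x := f y) (U := ⊤) trivial
  obtain ⟨W, hW, hyW, hWV⟩ := exists_isAffineOpen_mem_and_subset (x := y) (U := f ⁻¹ᵁ V) hxV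
  haveI : Nonempty V := ⟨⟨f y, hxV⟩⟩
  have hic : IsIntegrallyClosed Γ(X, V) :=
    Groth.Agent.H72.NormalBir.isIntegrallyClosed_of_isNormal hX V hV
  have hdom : IsDomain Γ(X, V) := inferInstance
  let φ := f.appLE V W hWV
  have hφ : φ.hom.Etale := HasRingHomProperty.appLE @Etale f inferInstance ⟨V, hV⟩ ⟨W, hW⟩ hWV
  algebraize [φ.hom]
  have hB : EGA4.IsNormalRing Γ(Y, W) := Groth.Agent.Lib.Helper24.isNormalRing_of_etale Γ(X, V) Γ(Y, W)
  letI := TopCat.Presheaf.algebra_section_stalk Y.presheaf ⟨y, hyW⟩
  haveI := hW.isLocalization_stalk ⟨y, hyW⟩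
  let P := (hW.primeIdealOf ⟨y, hyW⟩).asIdeal
  let e := IsLocalization.algEquiv P.primeCompl (Localization.AtPrime P) (Y.presheaf.stalk y)
  exact Groth.Agent.Lib.Helper24.isDomain_and_isIntegrallyClosed_of_ringEquiv e.toRingEquiv (hB P)

/-- A connected space mapping by a generalizing map with a finite fibre over a generic point of the target is
irreducible as soon as any two points of that fibre having a common specialization coincide. -/
theorem irreducibleSpace_of_connected_of_finite_fibre {Y X : Type*} [TopologicalSpace Y]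
    [TopologicalSpace X] [ConnectedSpace Y] (f : Y → X) (η : X) (hη : closure {η} = Set.univ)
    (hgen : GeneralizingMap f) (hfin : (f ⁻¹' {η}).Finite)
    (hdisj : ∀ y' ∈ f ⁻¹' {η}, ∀ y'' ∈ f ⁻¹' {η}, ∀ y, y' ⤳ y → y'' ⤳ y → y' = y'') :
    IrreducibleSpace Y := by
  have hcover : ∀ y, ∃ y' ∈ f ⁻¹' {η}, y' ⤳ y := by
    intro y
    have h1 : η ⤳ f y := specializes_iff_mem_closure.mpr (hη ▸ Set.mem_univ _)
    obtain ⟨y', hy', hfy'⟩ := hgen h1
    exact ⟨y', hfy', hy'⟩
  obtain ⟨y₀, hy₀, -⟩ := hcover (Classical.arbitrary Y)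
  have hcompl : (closure {y₀})ᶜ = ⋃ y' ∈ (f ⁻¹' {η}) \ {y₀}, closure {y'} := by
    ext y
    constructor
    · intro hy
      obtain ⟨y', hy', hs⟩ := hcover y
      have hne : y' ≠ y₀ := by
        rintro rfl
        exact hy (specializes_iff_mem_closure.mp hs)
      exact Set.mem_iUnion₂.mpr ⟨y', ⟨hy', hne⟩, specializes_iff_mem_closure.mp hs⟩
    · intro hy
      obtain ⟨y', ⟨hy', hne⟩, hyy'⟩ := Set.mem_iUnion₂.mp hy
      intro hyC
      exact hne (hdisj y' hy' y₀ hy₀ y (specializes_iff_mem_closure.mpr hyy')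
        (specializes_iff_mem_closure.mpr hyC))
  have hCopen : IsOpen (closure {y₀}) := by
    rw [← isClosed_compl_iff, hcompl]
    exact (hfin.subset Set.diff_subset).isClosed_biUnion (fun _ _ => isClosed_closure)
  have hCuniv : closure {y₀} = Set.univ :=
    IsClopen.eq_univ ⟨isClosed_closure, hCopen⟩ ⟨y₀, subset_closure rfl⟩
  have hirr : IsIrreducible (Set.univ : Set Y) := hCuniv ▸ isIrreducible_singleton.closure
  exact (irreducibleSpace_def Y).mpr hirr

/-- A connected scheme finite étale over a normal integral scheme is integral. -/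
theorem isIntegral_of_connected_of_finite_etale {X Y : Scheme.{u}} [IsIntegral X]
    (hX : Pi1.IsNormalScheme X) (f : Y ⟶ X) [IsFinite f] [Etale f] [ConnectedSpace Y] :
    IsIntegral Y := by
  have hN := isNormalScheme_of_etale hX f
  haveI : ∀ y, IsDomain (Y.presheaf.stalk y) := fun y => (hN y).1
  haveI : IsReduced Y := isReduced_of_isReduced_stalk Y
  have hηX : closure {genericPoint X} = Set.univ := (genericPoint_spec X).def
  have hdiscr : DiscreteTopology (f ⁻¹' {genericPoint X}) :=
    (f.isDiscrete_preimage_singleton (genericPoint X)).to_subtype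
  have hkey : ∀ g z : Y, z ∈ f ⁻¹' {genericPoint X} → g ⤳ z → g = z := by
    intro g z hz hgz
    have h1 : f g ⤳ genericPoint X := by
      have := hgz.map f.continuous
      rwa [show f z = genericPoint X from hz] at this
    have h2 : genericPoint X ⤳ f g := specializes_iff_mem_closure.mpr (hηX ▸ Set.mem_univ _)
    have hg : g ∈ f ⁻¹' {genericPoint X} := (h1.antisymm h2).eq
    have h3 : (⟨g, hg⟩ : f ⁻¹' {genericPoint X}) ⤳ ⟨z, hz⟩ :=
      Topology.IsInducing.subtypeVal.specializes_iff.mp hgz
    exact congrArg Subtype.val (specializes_iff_eq.mp h3)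
  haveI : IrreducibleSpace Y := by
    refine irreducibleSpace_of_connected_of_finite_fibre f (genericPoint X) hηX
      (Flat.generalizingMap f) (IsFinite.finite_preimage_singleton f _) ?_
    intro y' hy' y'' hy'' y hs' hs''
    have hr : Set.range (Y.fromSpecStalk y) = {z | z ⤳ y} := Scheme.range_fromSpecStalk
    obtain ⟨p', hp'⟩ : y' ∈ Set.range (Y.fromSpecStalk y) := hr ▸ hs'
    obtain ⟨p'', hp''⟩ : y'' ∈ Set.range (Y.fromSpecStalk y) := hr ▸ hs''
    let ξ : PrimeSpectrum (Y.presheaf.stalk y) := ⟨⊥, Ideal.isPrime_bot⟩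
    have hg' : (Y.fromSpecStalk y) ξ ⤳ y' := by
      rw [← hp']
      exact ((PrimeSpectrum.le_iff_specializes ξ p').mp bot_le).map (Y.fromSpecStalk y).continuous
    have hg'' : (Y.fromSpecStalk y) ξ ⤳ y'' := by
      rw [← hp'']
      exact ((PrimeSpectrum.le_iff_specializes ξ p'').mp bot_le).map (Y.fromSpecStalk y).continuous
    rw [← hkey _ _ hy' hg', ← hkey _ _ hy'' hg'']
  exact isIntegral_of_irreducibleSpace_of_isReduced Y

end Groth.Agent.Lib.Helper2
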