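import Mathlib.AlgebraicGeometry.Morphisms.FormallyUnramified
import Mathlib.AlgebraicGeometry.Morphisms.Separated
import Mathlib.AlgebraicGeometry.Morphisms.UniversallyOpen
import Mathlib.AlgebraicGeometry.Morphisms.Etale
import Mathlib.AlgebraicGeometry.Morphisms.Finite
import Mathlib.AlgebraicGeometry.PullbackCarrier

/-!
# Equalizers of morphisms into unramified schemes; rigidity of finite étale covers (helper2)
-/

set_option autoImplicit false
universe u
open AlgebraicGeometry CategoryTheory CategoryTheory.Limits

namespace Groth.Agent.Lib.Helper2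

set_option backward.isDefEq.respectTransparency false in
/-- The equalizer of two morphisms over `S` into an unramified `S`-scheme of finite type is an
open immersion. -/
theorem isOpenImmersion_equalizer_ι_left {S : Scheme.{u}} {X Y : Over S}
    [FormallyUnramified Y.hom] [LocallyOfFiniteType Y.hom]
    (f g : X ⟶ Y) : IsOpenImmersion (equalizer.ι f g).left := by
  refine MorphismProperty.of_isPullback
    ((Limits.isPullback_equalizer_prod f g).map (Over.forget _)).flip ?_
  rw [← MorphismProperty.cancel_right_of_respectsIso IsOpenImmersion _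
    (Over.prodLeftIsoPullback Y Y).hom]
  convert! (inferInstance : IsOpenImmersion (pullback.diagonal Y.hom))
  ext1 <;> simp [← Over.comp_left]

end Groth.Agent.Lib.Helper2

namespace Groth.Agent.Lib.Helper2

theorem over_hom_eq_of_eq_on_pullback {X Y : Scheme.{u}} (i : Y ⟶ X)
    (h : ∀ x : X, (connectedComponent x ∩ Set.range i.base).Nonempty)
    {Z₁ Z₂ : Over X} [IsSeparated Z₂.hom] [FormallyUnramified Z₂.hom] [LocallyOfFiniteType Z₂.hom]
    (hcl : IsClosedMap Z₁.hom) (hop : IsOpenMap Z₁.hom)
    (a b : Z₁ ⟶ Z₂) (hab : pullback.fst Z₁.hom i ≫ a.left = pullback.fst Z₁.hom i ≫ b.left) :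
    a = b := by
  have hopen : IsOpenImmersion (equalizer.ι a b).left := isOpenImmersion_equalizer_ι_left a b
  have hclosed : IsClosedImmersion (equalizer.ι a b).left := inferInstance
  set e := (equalizer.ι a b).left with he
  -- the range of `pullback.fst` is contained in the range of `e`
  have hrange : Set.range (pullback.fst Z₁.hom i) ⊆ Set.range e := by
    let W : Over X := Over.mk (pullback.fst Z₁.hom i ≫ Z₁.hom)
    let j : W ⟶ Z₁ := Over.homMk (pullback.fst Z₁.hom i) rfl
    have hj : j ≫ a = j ≫ b := by
      ext1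
      exact hab
    rintro _ ⟨w, rfl⟩
    refine ⟨(equalizer.lift j hj).left w, ?_⟩
    rw [he, ← Scheme.Hom.comp_apply, ← Over.comp_left, equalizer.lift_ι]
    rfl
  -- the complement of the range of `e` is clopen, so its image in `X` is clopen
  have hT : IsClopen (Set.range e)ᶜ :=
    ⟨(IsOpenImmersion.isOpen_range e).isClosed_compl, e.isClosedEmbedding.isClosed_range.isOpen_compl⟩
  have himg : IsClopen (Z₁.hom '' (Set.range e)ᶜ) := ⟨hcl _ hT.1, hop _ hT.2⟩
  have hsurj : Set.range e = Set.univ := by
    by_contra hne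
    obtain ⟨t, ht⟩ : (Set.range e)ᶜ.Nonempty := by
      rw [Set.nonempty_compl]; exact hne
    have hx₀ : Z₁.hom t ∈ Z₁.hom '' (Set.range e)ᶜ := ⟨t, ht, rfl⟩
    obtain ⟨x, hxC, y, rfl⟩ := h (Z₁.hom t)
    obtain ⟨t', ht', ht'y⟩ := himg.connectedComponent_subset hx₀ hxC
    obtain ⟨w, hw1, -⟩ := Scheme.Pullback.exists_preimage_pullback (f := Z₁.hom) (g := i) t' y ht'y
    exact ht' (hrange ⟨w, hw1⟩)
  have hiso : IsIso e := by
    apply isIso_of_isOpenImmersion_of_opensRange_eq_top
    ext1
    exact hsurj
  ext1
  rw [← cancel_epi e]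
  exact congr($(equalizer.condition a b).left)

end Groth.Agent.Lib.Helper2

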