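import Mathlib
import Groth.Prelude.Def_FEt
import Groth.Agent.Lib.Helper2.FEtNormalExt
import Groth.Agent.S0237

/-!
# Sections of finite locally free base changes, and full faithfulness of `FEt.restrict f` when `𝒪_S ≅ f_* 𝒪_X`

* `pushout_induction`, `exists_coord_of_isPushout`, `eq_sum_coord_of_isPushout`, `coord_natural_of_isPushout`:
  coordinates on a pushout of commutative rings attached to a dual basis.
* `exists_dualBasis_of_finite_flat`: finite flat finitely presented ring maps admit a finite dual basis.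
* `isPushout_sections_of_isAffineOpen`, `appTop_pullback_fst_bijective_of_dualBasis`: if `Γ(W) → Γ(T)` is bijective
  and `Y → W` is finite locally free (affine case) then `Γ(Y) → Γ(Y ×_W T)` is bijective (no finiteness on `T`).
* `exists_local_extension_of_isPullback`: chart reduction for extension of morphisms of finite étale covers.
* `denseRange_of_app_injective`, `appTop_pullback_snd_bijective`, `restrict_full_faithful_of_app_bijective`.
-/

set_option linter.style.haveILetI false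

universe u
open CategoryTheory CategoryTheory.Limits TensorProduct AlgebraicGeometry Opposite TopologicalSpace

namespace Groth.Agent.Lib.Helper2

section Alg

variable {R S T P : CommRingCat.{u}} {f : R ⟶ S} {g : R ⟶ T} {inl : S ⟶ P} {inr : T ⟶ P}

/-- Induction principle for a pushout of commutative rings. -/
theorem pushout_induction (h : IsPushout f g inl inr) (motive : P → Prop)
    (zero : motive 0) (hinl : ∀ x : S, motive (inl.hom x))
    (mul : ∀ (t : T) (y : P), motive y → motive (inr.hom t * y))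
    (add : ∀ y y' : P, motive y → motive y' → motive (y + y')) : ∀ y, motive y := by
  algebraize [f.hom, g.hom, inl.hom, inr.hom, inl.hom.comp f.hom]
  have : IsScalarTower R T P := .of_algebraMap_eq' <| congr($(h.1.1).hom)
  have hpo : Algebra.IsPushout R S T P := CommRingCat.isPushout_iff_isPushout.mp h
  have hbc : IsBaseChange T (IsScalarTower.toAlgHom R S P).toLinearMap := hpo.symm.out
  intro y
  refine hbc.inductionOn y motive zero (fun x => hinl x) (fun t y hy => ?_) add
  rw [Algebra.smul_def]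
  exact mul t y hy

/-- Coordinates on a pushout: an `R`-linear functional `ℓ : S → R` induces a `T`-linear functional on `P`. -/
theorem exists_coord_of_isPushout (h : IsPushout f g inl inr) (ℓ : S →+ R)
    (hℓ : ∀ (r : R) (x : S), ℓ (f.hom r * x) = r * ℓ x) :
    ∃ Λ : P →+ T, (∀ (t : T) (y : P), Λ (inr.hom t * y) = t * Λ y) ∧
      ∀ x : S, Λ (inl.hom x) = g.hom (ℓ x) := by
  algebraize [f.hom, g.hom, inl.hom, inr.hom, inl.hom.comp f.hom]
  have : IsScalarTower R T P := .of_algebraMap_eq' <| congr($(h.1.1).hom)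
  have hpo : Algebra.IsPushout R S T P := CommRingCat.isPushout_iff_isPushout.mp h
  have hbc : IsBaseChange T (IsScalarTower.toAlgHom R S P).toLinearMap := hpo.symm.out
  let ℓ' : S →ₗ[R] R :=
    { toFun := ℓ
      map_add' := ℓ.map_add
      map_smul' := fun r x => by
        rw [Algebra.smul_def]
        exact hℓ r x }
  let L : P →ₗ[T] T := hbc.lift ((Algebra.linearMap R T).comp ℓ')
  refine ⟨L.toAddMonoidHom, fun t y => ?_, fun x => ?_⟩
  · have : L (t • y) = t • L y := L.map_smul t y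
    rw [Algebra.smul_def, smul_eq_mul] at this
    exact this
  · exact hbc.lift_eq _ x

end Alg

section Alg

variable {R S T P : CommRingCat.{u}} {f : R ⟶ S} {g : R ⟶ T} {inl : S ⟶ P} {inr : T ⟶ P}


/-- The coordinates attached to a dual basis reconstruct the element. -/
theorem eq_sum_coord_of_isPushout (h : IsPushout f g inl inr) {ι : Type*} [Fintype ι]
    (b : ι → S) (ℓ : ι → S →+ R)
    (hdual : ∀ x : S, x = ∑ i, f.hom (ℓ i x) * b i)
    (Λ : ι → P →+ T) (hΛ1 : ∀ i (t : T) (y : P), Λ i (inr.hom t * y) = t * Λ i y)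
    (hΛ2 : ∀ i (x : S), Λ i (inl.hom x) = g.hom (ℓ i x)) :
    ∀ y : P, y = ∑ i, inr.hom (Λ i y) * inl.hom (b i) := by
  have hw : ∀ r : R, inr.hom (g.hom r) = inl.hom (f.hom r) := fun r => by
    have := congrArg (fun φ => φ.hom r) h.1.1
    simpa using this.symm
  apply pushout_induction h
  · simp
  · intro x
    conv_lhs => rw [hdual x]
    rw [map_sum]
    refine Finset.sum_congr rfl fun i _ => ?_
    rw [map_mul, hΛ2, hw]
  · intro t y hy
    conv_lhs => rw [hy]
    rw [Finset.mul_sum]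
    refine Finset.sum_congr rfl fun i _ => ?_
    rw [hΛ1, map_mul, mul_assoc]
  · intro y y' hy hy'
    conv_lhs => rw [hy, hy']
    rw [← Finset.sum_add_distrib]
    refine Finset.sum_congr rfl fun i _ => ?_
    rw [map_add, map_add, add_mul]

/-- Naturality of coordinates. -/
theorem coord_natural_of_isPushout (h : IsPushout f g inl inr)
    {T' P' : CommRingCat.{u}} {g' : R ⟶ T'} {inl' : S ⟶ P'} {inr' : T' ⟶ P'}
    (a : T ⟶ T') (c : P ⟶ P') (hg : g ≫ a = g') (hl : inl ≫ c = inl') (hr : inr ≫ c = a ≫ inr')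
    (ℓ : S →+ R)
    (Λ : P →+ T) (hΛ1 : ∀ (t : T) (y : P), Λ (inr.hom t * y) = t * Λ y)
    (hΛ2 : ∀ x : S, Λ (inl.hom x) = g.hom (ℓ x))
    (Λ' : P' →+ T') (hΛ'1 : ∀ (t : T') (y : P'), Λ' (inr'.hom t * y) = t * Λ' y)
    (hΛ'2 : ∀ x : S, Λ' (inl'.hom x) = g'.hom (ℓ x)) :
    ∀ y : P, a.hom (Λ y) = Λ' (c.hom y) := by
  have hg' : ∀ r, a.hom (g.hom r) = g'.hom r := fun r => by
    have := congrArg (fun φ => φ.hom r) hg
    simpa using this
  have hl' : ∀ x, c.hom (inl.hom x) = inl'.hom x := fun x => by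
    have := congrArg (fun φ => φ.hom x) hl
    simpa using this
  have hr' : ∀ t, c.hom (inr.hom t) = inr'.hom (a.hom t) := fun t => by
    have := congrArg (fun φ => φ.hom t) hr
    simpa using this
  apply pushout_induction h
  · simp
  · intro x
    rw [hΛ2, hg', hl', hΛ'2]
  · intro t y hy
    rw [hΛ1, map_mul, hy, map_mul, hr', hΛ'1]
  · intro y y' hy hy'
    rw [map_add, map_add, hy, hy', map_add, map_add]

end Alg

section Alg

/-- A finite, flat, finitely presented ring map admits a finite dual basis. -/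
theorem exists_dualBasis_of_finite_flat {R S : CommRingCat.{u}} (φ : R ⟶ S)
    (hfin : φ.hom.Finite) (hflat : φ.hom.Flat) (hfp : φ.hom.FinitePresentation) :
    ∃ (n : ℕ) (b : Fin n → S) (ℓ : Fin n → S →+ R),
      (∀ i (r : R) (x : S), ℓ i (φ.hom r * x) = r * ℓ i x) ∧
      ∀ x : S, x = ∑ i, φ.hom (ℓ i x) * b i := by
  algebraize [φ.hom]
  have : Module.FinitePresentation R S := Module.FinitePresentation.of_finite_of_finitePresentation R S
  have : Module.Projective R S := Module.Flat.projective_of_finitePresentation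
  obtain ⟨n, p, s, -, -, hps⟩ := Module.Finite.exists_comp_eq_id_of_projective R S
  refine ⟨n, fun i => p (Pi.single i 1), fun i => ((LinearMap.proj i).comp s).toAddMonoidHom, ?_, ?_⟩
  · intro i r x
    have : s (r • x) i = r • s x i := by rw [map_smul]; rfl
    rw [Algebra.smul_def, smul_eq_mul] at this
    exact this
  · intro x
    have h1 : x = p (s x) := (LinearMap.congr_fun hps x).symm
    have h2 : s x = ∑ i, (s x i) • (Pi.single i (1 : R) : Fin n → R) := by
      ext j
      simp [Finset.sum_apply, Pi.single_apply]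
    conv_lhs => rw [h1, h2]
    rw [map_sum]
    refine Finset.sum_congr rfl fun i _ => ?_
    rw [map_smul, Algebra.smul_def]
    rfl

end Alg

section Geom

variable {W T Y : Scheme.{u}} (p : Y ⟶ W) (i' : T ⟶ W)

/-- The pushout square of sections attached to an affine open of `T`. -/
theorem isPushout_sections_of_isAffineOpen [IsAffine W] [IsAffine Y] (O : T.Opens) (hO : IsAffineOpen O) :
    IsPushout p.appTop (i'.appLE ⊤ O le_top)
      ((pullback.fst p i').appLE ⊤ ((pullback.snd p i') ⁻¹ᵁ O) le_top)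
      ((pullback.snd p i').appLE O ((pullback.snd p i') ⁻¹ᵁ O) le_rfl) := by
  have H : IsPullback (pullback.fst p i') (pullback.snd p i') p i' := IsPullback.of_hasPullback p i'
  have hUY : (pullback.snd p i') ⁻¹ᵁ O =
      (pullback.fst p i') ⁻¹ᵁ ⊤ ⊓ (pullback.snd p i') ⁻¹ᵁ O := by simp
  have hiso := isIso_pushoutSection_of_isAffineOpen H (US := ⊤) (UT := O) (UX := ⊤)
    le_top le_top hUY (isAffineOpen_top W) hO (isAffineOpen_top Y)
  have := (isIso_pushoutSection_iff H (US := ⊤) (UT := O) (UX := ⊤) le_top le_top hUY).mp hiso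
  have hp : p.appLE ⊤ ⊤ le_top = p.appTop := by
    simp [Scheme.Hom.appLE]
  rw [hp] at this
  exact this

end Geom

section Geom

variable {W T Y : Scheme.{u}} (p : Y ⟶ W) (i' : T ⟶ W)

/-- Sections of a finite locally free base change: if `Γ(W) ⟶ Γ(T)` is bijective and `Y ⟶ W` is affine with
`Γ(Y)` admitting a finite dual basis over `Γ(W)`, then `Γ(Y) ⟶ Γ(Y ×_W T)` is bijective. -/
theorem appTop_pullback_fst_bijective_of_dualBasis [IsAffine W] [IsAffine Y]
    (hi' : Function.Bijective i'.appTop.hom)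
    {ι : Type} [Fintype ι] (b : ι → Γ(Y, ⊤)) (ℓ : ι → Γ(Y, ⊤) →+ Γ(W, ⊤))
    (hℓ : ∀ i (r : Γ(W, ⊤)) (x : Γ(Y, ⊤)), ℓ i (p.appTop.hom r * x) = r * ℓ i x)
    (hdual : ∀ x : Γ(Y, ⊤), x = ∑ i, p.appTop.hom (ℓ i x) * b i) :
    Function.Bijective (pullback.fst p i').appTop.hom := by
  let P := pullback p i'
  let g : P ⟶ Y := pullback.fst p i'
  let q : P ⟶ T := pullback.snd p i'
  have hpo := fun (O : T.affineOpens) => isPushout_sections_of_isAffineOpen p i' O.1 O.2
  choose Λ hΛ1 hΛ2 using fun (O : T.affineOpens) (i : ι) =>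
    exists_coord_of_isPushout (hpo O) (ℓ i) (hℓ i)
  -- reconstruction
  have hB : ∀ (O : T.affineOpens) (y : Γ(P, q ⁻¹ᵁ O.1)),
      y = ∑ i, (q.appLE O.1 (q ⁻¹ᵁ O.1) le_rfl).hom (Λ O i y) *
        (g.appLE ⊤ (q ⁻¹ᵁ O.1) le_top).hom (b i) :=
    fun O => eq_sum_coord_of_isPushout (hpo O) b ℓ hdual (Λ O) (hΛ1 O) (hΛ2 O)
  -- naturality
  have hC : ∀ (O O' : T.affineOpens) (hle : O'.1 ≤ O.1) (i : ι) (y : Γ(P, q ⁻¹ᵁ O.1)),
      (T.presheaf.map (homOfLE hle).op).hom (Λ O i y) =
        Λ O' i ((P.presheaf.map (homOfLE (show q ⁻¹ᵁ O'.1 ≤ q ⁻¹ᵁ O.1 from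
          fun _ hx => hle hx)).op).hom y) := by
    intro O O' hle i
    refine coord_natural_of_isPushout (hpo O) _ _ ?_ ?_ ?_ (ℓ i) (Λ O i) (hΛ1 O i) (hΛ2 O i)
      (Λ O' i) (hΛ1 O' i) (hΛ2 O' i)
    · exact Scheme.Hom.appLE_map _ _ _
    · exact Scheme.Hom.appLE_map _ _ _
    · rw [Scheme.Hom.appLE_map, Scheme.Hom.map_appLE]
  -- the global restriction identities
  have hρ : ∀ (O : T.Opens) (r : Γ(W, ⊤)),
      (i'.appLE ⊤ O le_top).hom r = (T.presheaf.map (homOfLE (le_top : O ≤ ⊤)).op).hom (i'.appTop.hom r) :=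
    fun O r => rfl
  have hγ : ∀ (O : T.Opens) (x : Γ(Y, ⊤)),
      (g.appLE ⊤ (q ⁻¹ᵁ O) le_top).hom x =
        (P.presheaf.map (homOfLE (le_top : q ⁻¹ᵁ O ≤ ⊤)).op).hom (g.appTop.hom x) :=
    fun O x => rfl
  have hcoverT : (⊤ : T.Opens) ≤ ⨆ O : T.affineOpens, (O.1 : T.Opens) := by
    rw [iSup_affineOpens_eq_top]
  have hcoverP : (⊤ : P.Opens) ≤ ⨆ O : T.affineOpens, q ⁻¹ᵁ O.1 := by
    intro x _
    obtain ⟨O, hO, hxO, -⟩ := exists_isAffineOpen_mem_and_subset (x := q x) (U := ⊤) trivial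
    exact Opens.mem_iSup.mpr ⟨⟨O, hO⟩, hxO⟩
  constructor
  · -- injectivity
    rw [injective_iff_map_eq_zero]
    intro β hβ
    have hℓβ : ∀ i, ℓ i β = 0 := by
      intro i
      apply hi'.1
      rw [map_zero]
      refine T.sheaf.eq_of_locally_eq' (fun O : T.affineOpens => O.1) ⊤
        (fun O => homOfLE le_top) hcoverT _ _ (fun O => ?_)
      change (T.presheaf.map (homOfLE (le_top : O.1 ≤ ⊤)).op).hom (i'.appTop.hom (ℓ i β)) =
        (T.presheaf.map (homOfLE (le_top : O.1 ≤ ⊤)).op).hom 0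
      rw [map_zero, ← hρ, ← hΛ2 O i, hγ, hβ, map_zero, map_zero]
    rw [hdual β]
    refine Finset.sum_eq_zero fun i _ => ?_
    rw [hℓβ i, map_zero, zero_mul]
  · -- surjectivity
    intro s
    let sO : ∀ O : T.affineOpens, Γ(P, q ⁻¹ᵁ O.1) := fun O =>
      (P.presheaf.map (homOfLE (le_top : q ⁻¹ᵁ O.1 ≤ ⊤)).op).hom s
    have hsO : ∀ (O O' : T.affineOpens) (hle : O'.1 ≤ O.1),
        (P.presheaf.map (homOfLE (show q ⁻¹ᵁ O'.1 ≤ q ⁻¹ᵁ O.1 from fun _ hx => hle hx)).op).hom (sO O) =
          sO O' := by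
      intro O O' hle
      change ((P.presheaf.map _) ≫ (P.presheaf.map _)).hom s = _
      rw [← P.presheaf.map_comp]
      rfl
    have hglue : ∀ i, ∃ cc : Γ(T, ⊤), ∀ O : T.affineOpens,
        (T.presheaf.map (homOfLE (le_top : O.1 ≤ ⊤)).op).hom cc = Λ O i (sO O) := by
      intro i
      have hcompat : TopCat.Presheaf.IsCompatible T.sheaf.1 (fun O : T.affineOpens => O.1)
          (fun O => Λ O i (sO O)) := by
        intro O₁ O₂
        let J := {O : T.affineOpens // O.1 ≤ O₁.1 ⊓ O₂.1}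
        refine T.sheaf.eq_of_locally_eq' (fun O : J => O.1.1) (O₁.1 ⊓ O₂.1)
          (fun O => homOfLE O.2) ?_ _ _ (fun O => ?_)
        · intro x hx
          obtain ⟨O, hO, hxO, hOle⟩ := exists_isAffineOpen_mem_and_subset (x := x) (U := O₁.1 ⊓ O₂.1) hx
          exact Opens.mem_iSup.mpr ⟨⟨⟨O, hO⟩, hOle⟩, hxO⟩
        · have h1 : O.1.1 ≤ O₁.1 := O.2.trans inf_le_left
          have h2 : O.1.1 ≤ O₂.1 := O.2.trans inf_le_right
          have e1 := hC O₁ O.1 h1 i (sO O₁)
          have e2 := hC O₂ O.1 h2 i (sO O₂)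
          rw [hsO O₁ O.1 h1] at e1
          rw [hsO O₂ O.1 h2] at e2
          change ((T.presheaf.map _) ≫ (T.presheaf.map _)).hom _ =
            ((T.presheaf.map _) ≫ (T.presheaf.map _)).hom _
          rw [← T.presheaf.map_comp, ← T.presheaf.map_comp]
          exact e1.trans e2.symm
      obtain ⟨cc, hcc, -⟩ := T.sheaf.existsUnique_gluing' (fun O : T.affineOpens => O.1) ⊤
        (fun O => homOfLE le_top) hcoverT _ hcompat
      exact ⟨cc, hcc⟩
    choose cc hcc using hglue
    choose r hr using fun i => hi'.2 (cc i)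
    refine ⟨∑ i, p.appTop.hom (r i) * b i, ?_⟩
    refine P.sheaf.eq_of_locally_eq' (fun O : T.affineOpens => q ⁻¹ᵁ O.1) ⊤
      (fun O => homOfLE le_top) hcoverP _ _ (fun O => ?_)
    change (P.presheaf.map (homOfLE (le_top : q ⁻¹ᵁ O.1 ≤ ⊤)).op).hom
      (g.appTop.hom (∑ i, p.appTop.hom (r i) * b i)) = sO O
    rw [← hγ, hB O (sO O), map_sum]
    refine Finset.sum_congr rfl fun i _ => ?_
    rw [map_mul]
    congr 1
    have hw : ∀ x : Γ(W, ⊤), (g.appLE ⊤ (q ⁻¹ᵁ O.1) le_top).hom (p.appTop.hom x) =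
        (q.appLE O.1 (q ⁻¹ᵁ O.1) le_rfl).hom ((i'.appLE ⊤ O.1 le_top).hom x) := fun x => by
      have := congrArg (fun φ => φ.hom x) (hpo O).1.1
      simpa using this
    rw [hw, hρ, hr, hcc]

end Geom

/-- Chart reduction along a pullback square: an extension result over `W` along the base change `i'` of `i` for
the restricted covers gives a local extension over the chart `j`. -/
theorem exists_local_extension_of_isPullback {X S W S' : Scheme.{u}} (i : S ⟶ X) (j : W ⟶ X)
    (p' : S' ⟶ S) (i' : S' ⟶ W) (sq : IsPullback p' i' i j)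
    (Y Z : FEt.Cat X)
    (k : pullback Y.hom i ⟶ Z.left) (hk : k ≫ Z.hom = pullback.fst Y.hom i ≫ Y.hom)
    (H : ∀ (k' : pullback ((FEt.restrict j).obj Y).hom i' ⟶ ((FEt.restrict j).obj Z).left),
      k' ≫ ((FEt.restrict j).obj Z).hom =
        pullback.fst ((FEt.restrict j).obj Y).hom i' ≫ ((FEt.restrict j).obj Y).hom →
      ∃ h₀ : ((FEt.restrict j).obj Y).left ⟶ ((FEt.restrict j).obj Z).left,
        h₀ ≫ ((FEt.restrict j).obj Z).hom = ((FEt.restrict j).obj Y).hom ∧
        pullback.fst ((FEt.restrict j).obj Y).hom i' ≫ h₀ = k') :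
    ∃ g : pullback Y.hom j ⟶ Z.left, g ≫ Z.hom = pullback.fst Y.hom j ≫ Y.hom ∧
      ∀ (T : Scheme.{u}) (t₁ : T ⟶ pullback Y.hom j) (t₂ : T ⟶ pullback Y.hom i),
        t₁ ≫ pullback.fst Y.hom j = t₂ ≫ pullback.fst Y.hom i → t₁ ≫ g = t₂ ≫ k := by
  let YW : FEt.Cat W := (FEt.restrict j).obj Y
  let ZW : FEt.Cat W := (FEt.restrict j).obj Z
  have hYWhom : YW.hom = pullback.snd Y.hom j := rfl
  have hZWhom : ZW.hom = pullback.snd Z.hom j := rfl
  have cY : pullback.fst Y.hom j ≫ Y.hom = pullback.snd Y.hom j ≫ j := pullback.condition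
  have cZ : pullback.fst Z.hom j ≫ Z.hom = pullback.snd Z.hom j ≫ j := pullback.condition
  have cYi : pullback.fst Y.hom i ≫ Y.hom = pullback.snd Y.hom i ≫ i := pullback.condition
  have hsq : p' ≫ i = i' ≫ j := sq.w
  let fW : pullback (pullback.snd Y.hom j) i' ⟶ pullback Y.hom j := pullback.fst _ _
  let sW : pullback (pullback.snd Y.hom j) i' ⟶ S' := pullback.snd _ _
  have cW : fW ≫ pullback.snd Y.hom j = sW ≫ i' := pullback.condition
  let tz : pullback (pullback.snd Y.hom j) i' ⟶ pullback Y.hom i :=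
    pullback.lift (fW ≫ pullback.fst Y.hom j) (sW ≫ p') (by
      rw [Category.assoc, cY, ← Category.assoc, cW, Category.assoc, Category.assoc, hsq])
  have htz1 : tz ≫ pullback.fst Y.hom i = fW ≫ pullback.fst Y.hom j := pullback.lift_fst _ _ _
  have htz2 : tz ≫ pullback.snd Y.hom i = sW ≫ p' := pullback.lift_snd _ _ _
  let k' : pullback (pullback.snd Y.hom j) i' ⟶ pullback Z.hom j :=
    pullback.lift (tz ≫ k) (fW ≫ pullback.snd Y.hom j) (by
      rw [Category.assoc, hk, ← Category.assoc, htz1, Category.assoc, cY, Category.assoc])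
  have hk'1 : k' ≫ pullback.fst Z.hom j = tz ≫ k := pullback.lift_fst _ _ _
  have hk'2 : k' ≫ pullback.snd Z.hom j = fW ≫ pullback.snd Y.hom j := pullback.lift_snd _ _ _
  obtain ⟨h₀, hw, hι⟩ := H k' hk'2
  have hw' : h₀ ≫ pullback.snd Z.hom j = pullback.snd Y.hom j := hw
  have hι' : fW ≫ h₀ = k' := hι
  refine ⟨h₀ ≫ pullback.fst Z.hom j, ?_, ?_⟩
  · exact (Category.assoc _ _ _).trans ((congrArg (fun t => h₀ ≫ t) cZ).trans
      ((Category.assoc _ _ _).symm.trans ((congrArg (fun t => t ≫ j) hw').trans cY.symm)))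
  · intro T t₁ t₂ ht
    have hcond0 : (t₂ ≫ pullback.snd Y.hom i) ≫ i = (t₁ ≫ pullback.snd Y.hom j) ≫ j := by
      rw [Category.assoc, ← cYi, ← Category.assoc, ← ht, Category.assoc, cY, Category.assoc]
    let s₀ : T ⟶ S' := sq.lift (t₂ ≫ pullback.snd Y.hom i) (t₁ ≫ pullback.snd Y.hom j) hcond0
    have hs₀1 : s₀ ≫ p' = t₂ ≫ pullback.snd Y.hom i := sq.lift_fst _ _ _
    have hs₀2 : s₀ ≫ i' = t₁ ≫ pullback.snd Y.hom j := sq.lift_snd _ _ _
    let s : T ⟶ pullback (pullback.snd Y.hom j) i' :=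
      pullback.lift t₁ s₀ hs₀2.symm
    have hs1 : s ≫ fW = t₁ := pullback.lift_fst _ _ _
    have hs2 : s ≫ sW = s₀ := pullback.lift_snd _ _ _
    have hs3 : s ≫ tz = t₂ := by
      apply pullback.hom_ext
      · rw [Category.assoc, htz1, ← Category.assoc, hs1, ht]
      · rw [Category.assoc, htz2, ← Category.assoc, hs2, hs₀1]
    have step1 : t₁ ≫ h₀ ≫ pullback.fst Z.hom j = (s ≫ fW) ≫ h₀ ≫ pullback.fst Z.hom j :=
      congrArg (fun t => t ≫ h₀ ≫ pullback.fst Z.hom j) hs1.symm
    have step2 : (s ≫ fW) ≫ h₀ ≫ pullback.fst Z.hom j = s ≫ (fW ≫ h₀) ≫ pullback.fst Z.hom j :=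
      (Category.assoc _ _ _).trans (congrArg (fun t => s ≫ t) (Category.assoc _ _ _).symm)
    have step3 : s ≫ (fW ≫ h₀) ≫ pullback.fst Z.hom j = s ≫ k' ≫ pullback.fst Z.hom j :=
      congrArg (fun t => s ≫ t ≫ pullback.fst Z.hom j) hι'
    have step4 : s ≫ k' ≫ pullback.fst Z.hom j = s ≫ tz ≫ k :=
      congrArg (fun t => s ≫ t) hk'1
    have step5 : s ≫ tz ≫ k = t₂ ≫ k :=
      (Category.assoc _ _ _).symm.trans (congrArg (fun t => t ≫ k) hs3)
    exact step1.trans (step2.trans (step3.trans (step4.trans step5)))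

/-- A morphism which is injective on sections has dense range. -/
lemma denseRange_of_app_injective {X S : Scheme.{u}} (f : X ⟶ S)
    (hf : ∀ U : S.Opens, Function.Injective (f.app U)) : DenseRange f := by
  rw [DenseRange, dense_iff_closure_eq, ← Set.compl_empty_iff]
  by_contra hne
  obtain ⟨x, hx⟩ := Set.nonempty_iff_ne_empty.mpr hne
  let U : S.Opens := ⟨(closure (Set.range f))ᶜ, isClosed_closure.isOpen_compl⟩
  have hxU : x ∈ U := hx
  have hpre : f ⁻¹ᵁ U = ⊥ := by
    ext y
    simp only [Opens.coe_bot, Set.mem_empty_iff_false, iff_false]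
    intro hy
    exact hy (subset_closure ⟨y, rfl⟩)
  have hsub : Subsingleton Γ(X, f ⁻¹ᵁ U) := by
    rw [hpre]
    infer_instance
  have h10 : (1 : Γ(S, U)) = 0 := hf U (Subsingleton.elim _ _)
  have : (S.presheaf.germ U x hxU).hom 1 = (S.presheaf.germ U x hxU).hom 0 := by rw [h10]
  rw [map_one, map_zero] at this
  exact one_ne_zero this

/-- Global sections of the base change of `f` to an open `V`. -/
lemma appTop_pullback_snd_bijective {X S : Scheme.{u}} (f : X ⟶ S)
    (hf : ∀ U : S.Opens, Function.Bijective (f.app U)) (V : S.Opens) :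
    Function.Bijective (pullback.snd f V.ι).appTop.hom := by
  have h1 : (pullback.snd f V.ι).appTop =
      (f ∣_ V).appTop ≫ (pullbackRestrictIsoRestrict f V).hom.appTop := by
    rw [← Scheme.Hom.comp_appTop, pullbackRestrictIsoRestrict_hom_morphismRestrict]
  have h2 : Function.Bijective (f ∣_ V).appTop.hom := by
    have e2 := morphismRestrict_appTop f V
    have hb : Function.Bijective (f.app (V.ι ''ᵁ ⊤) ≫
        X.presheaf.map (eqToHom (image_morphismRestrict_preimage f V ⊤)).op).hom := by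
      rw [CommRingCat.hom_comp, RingHom.coe_comp]
      exact (ConcreteCategory.bijective_of_isIso
        (X.presheaf.map (eqToHom (image_morphismRestrict_preimage f V ⊤)).op)).comp (hf _)
    have e3 := congrArg (fun φ : Γ((V : Scheme.{u}), ⊤) ⟶ Γ(((f ⁻¹ᵁ V : X.Opens) : Scheme.{u}), ⊤) => (φ.hom : _ → _)) e2
    rw [e3]
    exact hb
  rw [h1, CommRingCat.hom_comp, RingHom.coe_comp]
  have hiso : IsIso (pullbackRestrictIsoRestrict f V).hom.appTop :=
    inferInstanceAs (IsIso ((pullbackRestrictIsoRestrict f V).hom.app ⊤))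
  exact (ConcreteCategory.bijective_of_isIso (pullbackRestrictIsoRestrict f V).hom.appTop).comp h2

/-- If `𝒪_S ⟶ f_* 𝒪_X` is bijective, restriction of finite étale covers along `f` is fully faithful. -/
theorem restrict_full_faithful_of_app_bijective {X S : Scheme.{u}} (f : X ⟶ S)
    (hf : ∀ U : S.Opens, Function.Bijective (f.app U)) :
    (FEt.restrict f).Full ∧ (FEt.restrict f).Faithful := by
  have hd : DenseRange f := denseRange_of_app_injective f (fun U => (hf U).1)
  refine ⟨full_restrict_of_exists_extension f (fun Y Z k hk => ?_), Groth.Agent.S0237.result f hd⟩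
  let 𝒜 : S.OpenCover :=
    S.openCoverOfIsOpenCover (fun V : S.affineOpens => V.1) (iSup_affineOpens_eq_top S)
  refine exists_extension_of_local f hd Y Z k hk 𝒜 (fun V => ?_)
  change ∃ g : pullback Y.hom V.1.ι ⟶ Z.left, g ≫ Z.hom = pullback.fst Y.hom V.1.ι ≫ Y.hom ∧
      ∀ (T : Scheme.{u}) (t₁ : T ⟶ pullback Y.hom V.1.ι) (t₂ : T ⟶ pullback Y.hom f),
        t₁ ≫ pullback.fst Y.hom V.1.ι = t₂ ≫ pullback.fst Y.hom f → t₁ ≫ g = t₂ ≫ k
  have hVaff : IsAffine (V.1 : Scheme.{u}) := V.2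
  refine exists_local_extension_of_isPullback f V.1.ι (pullback.fst f V.1.ι) (pullback.snd f V.1.ι)
    (IsPullback.of_hasPullback _ _) Y Z k hk (fun k' hk' => ?_)
  let YW : FEt.Cat (V.1 : Scheme.{u}) := (FEt.restrict V.1.ι).obj Y
  let ZW : FEt.Cat (V.1 : Scheme.{u}) := (FEt.restrict V.1.ι).obj Z
  have hYfin : IsFinite YW.hom := YW.prop.1
  have hYet : Etale YW.hom := YW.prop.2
  have hVY : IsAffine ((Functor.fromPUnit (V.1 : Scheme.{u})).obj YW.right) := hVaff
  have hYa : IsAffine YW.left := isAffine_of_isAffineHom YW.hom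
  have hYa' : IsAffine ((𝟭 Scheme).obj YW.left) := hYa
  obtain ⟨n, b, ℓ, hℓ, hdual⟩ := exists_dualBasis_of_finite_flat YW.hom.appTop
    (Scheme.Hom.finite_appTop YW.hom) (Scheme.Hom.flat_appTop YW.hom)
    (HasRingHomProperty.appTop @LocallyOfFinitePresentation YW.hom inferInstance)
  have hbij : Function.Bijective (pullback.fst YW.hom (pullback.snd f V.1.ι)).appTop.hom :=
    appTop_pullback_fst_bijective_of_dualBasis YW.hom (pullback.snd f V.1.ι)
      (appTop_pullback_snd_bijective f hf V.1) b ℓ hℓ hdual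
  exact exists_extension_of_appTop_range YW ZW (pullback.fst YW.hom (pullback.snd f V.1.ι)) hbij.1 k' hk'
    (fun c => hbij.2 _)

end Groth.Agent.Lib.Helper2
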