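import Mathlib
import Groth.Agent.Lib.Helper2.FieldLimit

/-!
# Descent of morphisms from `X_K` to `X_L`, `L/k` finite; purely inseparable extensions (helper2)

* `sndNat`, `trans`, `trans_snd`, `proj_trans`: typed transition maps of `FieldLimit.D`.
* `exists_hom_descend_field(_family)`: `X`-morphisms `Spec K ×_k X ⟶ W` (`W` l.f.p. over `X`, `X`
  qcqs, `K/k` algebraic) factor through `Spec L ×_k X` for a finite subextension `L`.
* `universallyInjective_specMap_of_isPurelyInseparable`, `isIntegralHom_specMap_of_isAlgebraic`.
-/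

set_option autoImplicit false
set_option linter.style.haveILetI false
set_option linter.unusedSectionVars false
universe u

open CategoryTheory CategoryTheory.Limits AlgebraicGeometry Opposite

namespace Groth.Agent.Lib.Helper2.FieldLimit

variable {k K : Type u} [Field k] [Field K] [Algebra k K] [Algebra.IsAlgebraic k K]
  {X : Scheme.{u}} (f : X ⟶ Spec (CommRingCat.of k)) [CompactSpace X] [QuasiSeparatedSpace X]

/-- The structure maps `D f ⟶ X`. -/
noncomputable def sndNat : D (K := K) f ⟶ (Functor.const _).obj X where
  app L := pullback.snd (Spec.map (CommRingCat.ofHom (algebraMap k L.unop.1))) f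
  naturality L M h := by
    dsimp only [Functor.const_obj_obj, Functor.const_obj_map]
    rw [Category.comp_id]
    exact D_map_snd f h

/-- `X`-morphisms from `Spec K ×_k X` to a l.f.p. `X`-scheme descend to a finite subextension. -/
theorem exists_hom_descend_field {W : Scheme.{u}} (w : W ⟶ X) [LocallyOfFinitePresentation w]
    (φ : pullback (Spec.map (CommRingCat.ofHom (algebraMap k K))) f ⟶ W)
    (hφ : φ ≫ w = pullback.snd _ f) :
    ∃ (L : FinSub k K) (g : pullback (Spec.map (CommRingCat.ofHom (algebraMap k L.1))) f ⟶ W),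
      proj f (op L) ≫ g = φ ∧ g ≫ w = pullback.snd _ f := by
  obtain ⟨i, g, h1, h2⟩ := Scheme.exists_π_app_comp_eq_of_locallyOfFinitePresentation
    (D (K := K) f) (sndNat f) w (cD f) (isLimitCD f) φ (by
      ext L
      exact (cD_π_snd f L).trans hφ.symm)
  exact ⟨i.unop, g, h1, h2⟩

/-- Transition maps of `D f`, typed. -/
noncomputable def trans {L M : FinSub k K} (h : L ≤ M) :
    pullback (Spec.map (CommRingCat.ofHom (algebraMap k M.1))) f ⟶
      pullback (Spec.map (CommRingCat.ofHom (algebraMap k L.1))) f :=
  (D (K := K) f).map (homOfLE h).op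

omit [Algebra.IsAlgebraic k K] [CompactSpace X] [QuasiSeparatedSpace X] in
lemma trans_snd {L M : FinSub k K} (h : L ≤ M) :
    trans f h ≫ pullback.snd _ f = pullback.snd _ f :=
  D_map_snd f (homOfLE h).op

omit [Algebra.IsAlgebraic k K] [CompactSpace X] [QuasiSeparatedSpace X] in
lemma proj_trans {L M : FinSub k K} (h : L ≤ M) :
    proj f (op M) ≫ trans f h = proj f (op L) :=
  (cD (K := K) f).w (homOfLE h).op

/-- Finite family version of `exists_hom_descend_field`. -/
theorem exists_hom_descend_field_family {ι : Type*} [Finite ι] {W : Scheme.{u}} (w : W ⟶ X)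
    [LocallyOfFinitePresentation w]
    (φ : ι → (pullback (Spec.map (CommRingCat.ofHom (algebraMap k K))) f ⟶ W))
    (hφ : ∀ i, φ i ≫ w = pullback.snd _ f) :
    ∃ (L : FinSub k K)
      (g : ι → (pullback (Spec.map (CommRingCat.ofHom (algebraMap k L.1))) f ⟶ W)),
      ∀ i, proj f (op L) ≫ g i = φ i ∧ g i ≫ w = pullback.snd _ f := by
  choose Li gi h1 h2 using fun i => exists_hom_descend_field f w (φ i) (hφ i)
  obtain ⟨L, hL⟩ := Finite.exists_le Li
  refine ⟨L, fun i => trans f (hL i) ≫ gi i, fun i => ⟨?_, ?_⟩⟩
  · rw [← Category.assoc, proj_trans, h1 i]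
  · rw [Category.assoc, h2 i, trans_snd]

omit [Algebra.IsAlgebraic k K] in
/-- Purely inseparable field extensions are universally injective on spectra. -/
theorem universallyInjective_specMap_of_isPurelyInseparable [IsPurelyInseparable k K] :
    UniversallyInjective (Spec.map (CommRingCat.ofHom (algebraMap k K))) := by
  refine ((tfae_universallyInjective
    (Spec.map (CommRingCat.ofHom (algebraMap k K)))).out 0 1).mpr ?_
  intro L _ g₁ g₂ hg
  obtain ⟨φ₁, rfl⟩ := Spec.map_surjective g₁
  obtain ⟨φ₂, rfl⟩ := Spec.map_surjective g₂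
  simp only [← Spec.map_comp] at hg
  have h := Spec.map_injective hg
  congr 1
  ext1
  apply IsPurelyInseparable.injective_comp_algebraMap k K L
  ext x
  have := congrArg (fun t => t.hom x) h
  simpa using this

omit [Algebra.IsAlgebraic k K] in
theorem isIntegralHom_specMap_of_isAlgebraic [Algebra.IsAlgebraic k K] :
    IsIntegralHom (Spec.map (CommRingCat.ofHom (algebraMap k K))) := by
  rw [IsIntegralHom.SpecMap_iff]
  exact algebraMap_isIntegral_iff.mpr inferInstance

end Groth.Agent.Lib.Helper2.FieldLimit
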