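import Mathlib
import Groth.Prelude.Def_Wider

/-!
# Finite length modules over a Noetherian local ring: basic objects (helper2)

`lin`/`ofLin` (morphisms of `Dual.FinLen A` vs linear maps), the objects `Q A n = A/m^(n+1)`,
the maps `φ h x : Q A n ⟶ M` (`1 ↦ x`), transition maps `πQ`, projections `proj`.
-/

set_option autoImplicit false
set_option linter.style.haveILetI false
set_option linter.unusedSectionVars false
universe u

open CategoryTheory IsLocalRing

namespace Groth.Agent.Lib.Helper2.FinLenEquiv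

variable {A : Type u} [CommRing A]

/-- underlying linear map of a morphism of `FinLen A`. -/
def lin {M N : Dual.FinLen A} (f : M ⟶ N) : M.obj →ₗ[A] N.obj := f.hom.hom

/-- morphism of `FinLen A` from a linear map. -/
def ofLin {M N : Dual.FinLen A} (g : M.obj →ₗ[A] N.obj) : M ⟶ N :=
  ObjectProperty.homMk (ModuleCat.ofHom g)

@[simp] lemma lin_ofLin {M N : Dual.FinLen A} (g : M.obj →ₗ[A] N.obj) : lin (ofLin g) = g := rfl
@[simp] lemma ofLin_lin {M N : Dual.FinLen A} (f : M ⟶ N) : ofLin (lin f) = f := rfl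
@[simp] lemma lin_comp {M N P : Dual.FinLen A} (f : M ⟶ N) (g : N ⟶ P) :
    lin (f ≫ g) = lin g ∘ₗ lin f := rfl
@[simp] lemma lin_id (M : Dual.FinLen A) : lin (𝟙 M) = LinearMap.id := rfl
@[simp] lemma lin_add {M N : Dual.FinLen A} (f g : M ⟶ N) : lin (f + g) = lin f + lin g := rfl
@[simp] lemma lin_zero {M N : Dual.FinLen A} : lin (0 : M ⟶ N) = 0 := rfl
@[simp] lemma lin_smul {M N : Dual.FinLen A} (a : A) (f : M ⟶ N) : lin (a • f) = a • lin f := rfl
lemma lin_injective {M N : Dual.FinLen A} : Function.Injective (lin : (M ⟶ N) → _) := by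
  intro f g h
  apply ObjectProperty.hom_ext
  apply ModuleCat.hom_ext
  exact h

variable [IsLocalRing A] [IsNoetherianRing A]

lemma isFiniteLength_quot (n : ℕ) : IsFiniteLength A (A ⧸ maximalIdeal A ^ (n + 1)) := by
  set I := maximalIdeal A ^ (n + 1) with hIdef
  have hIm : I ≤ maximalIdeal A := Ideal.pow_le_self (Nat.succ_ne_zero n)
  have hI : I ≠ ⊤ := fun h => (maximalIdeal.isMaximal A).ne_top (top_le_iff.mp (h ▸ hIm))
  haveI : Nontrivial (A ⧸ I) := Ideal.Quotient.nontrivial_iff.mpr hI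
  haveI := IsLocalRing.of_surjective' (Ideal.Quotient.mk I) Ideal.Quotient.mk_surjective
  haveI := IsLocalHom.of_surjective (Ideal.Quotient.mk I) Ideal.Quotient.mk_surjective
  have hmap : (maximalIdeal A).map (Ideal.Quotient.mk I) = maximalIdeal (A ⧸ I) := by
    ext x
    obtain ⟨x, rfl⟩ := Ideal.Quotient.mk_surjective x
    simp [sup_eq_left.mpr hIm]
  have hart : IsArtinianRing (A ⧸ I) := by
    rw [isArtinianRing_iff_isNilpotent_maximalIdeal]
    refine ⟨n + 1, ?_⟩
    rw [← hmap, ← Ideal.map_pow, Ideal.zero_eq_bot, Ideal.map_eq_bot_iff_le_ker, Ideal.mk_ker]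
  have h1 : IsFiniteLength (A ⧸ I) (A ⧸ I) := (isArtinianRing_iff_isFiniteLength _).mp hart
  rw [← Module.length_ne_top_iff] at h1 ⊢
  rw [Module.length_eq_of_surjective (S := A) (R := A ⧸ I) Ideal.Quotient.mk_surjective]
  exact h1

/-- a finite length module over a local ring is killed by a power of the maximal ideal. -/
lemma exists_pow_smul_eq_zero (M : Type u) [AddCommGroup M] [Module A M] (hM : IsFiniteLength A M) :
    ∃ n : ℕ, ∀ a ∈ maximalIdeal A ^ (n + 1), ∀ x : M, a • x = 0 := by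
  obtain ⟨hN, hAr⟩ := isFiniteLength_iff_isNoetherian_isArtinian.mp hM
  let f : ℕ →o (Submodule A M)ᵒᵈ :=
    ⟨fun n => OrderDual.toDual (maximalIdeal A ^ n • (⊤ : Submodule A M)), by
      intro a b hab
      exact Submodule.smul_mono_left (Ideal.pow_le_pow_right hab)⟩
  obtain ⟨n, hn⟩ := IsArtinian.monotone_stabilizes f
  have h1 : maximalIdeal A ^ n • (⊤ : Submodule A M) =
      maximalIdeal A • (maximalIdeal A ^ n • (⊤ : Submodule A M)) := by
    have := hn (n + 1) (Nat.le_succ n)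
    have h2 : maximalIdeal A ^ n • (⊤ : Submodule A M) =
        maximalIdeal A ^ (n + 1) • (⊤ : Submodule A M) := congrArg OrderDual.ofDual this
    calc _ = maximalIdeal A ^ (n + 1) • (⊤ : Submodule A M) := h2
      _ = _ := by rw [pow_succ', mul_smul]
  have h3 : maximalIdeal A ^ n • (⊤ : Submodule A M) = ⊥ :=
    Submodule.eq_bot_of_le_smul_of_le_jacobson_bot (maximalIdeal A) _
      (IsNoetherian.noetherian _) h1.le (maximalIdeal_le_jacobson _)
  refine ⟨n, fun a ha x => ?_⟩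
  have : a • x ∈ maximalIdeal A ^ n • (⊤ : Submodule A M) :=
    Submodule.smul_mem_smul (Ideal.pow_le_pow_right (Nat.le_succ n) ha) Submodule.mem_top
  rw [h3] at this
  simpa using this

variable (A) in
/-- `A/m^(n+1)` as an object of `FinLen A`. -/
noncomputable def Q (n : ℕ) : Dual.FinLen A :=
  ⟨ModuleCat.of A (A ⧸ maximalIdeal A ^ (n + 1)), isFiniteLength_quot n⟩

/-- `m^(n+1)` kills `M`. -/
def Kills (n : ℕ) (M : Dual.FinLen A) : Prop :=
  ∀ a ∈ maximalIdeal A ^ (n + 1), ∀ x : M.obj, a • x = 0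

lemma exists_kills (M : Dual.FinLen A) : ∃ n, Kills n M :=
  exists_pow_smul_eq_zero M.obj M.property

lemma Kills.mono {n n' : ℕ} {M : Dual.FinLen A} (h : Kills n M) (hn : n ≤ n') : Kills n' M :=
  fun a ha x => h a (Ideal.pow_le_pow_right (Nat.succ_le_succ hn) ha) x

variable (A) in
/-- the class of `a` in `A/m^(n+1)`. -/
noncomputable def cls (n : ℕ) : A →ₗ[A] (Q A n).obj :=
  Submodule.mkQ (maximalIdeal A ^ (n + 1))

lemma cls_surjective (n : ℕ) : Function.Surjective (cls A n) :=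
  Submodule.mkQ_surjective _

lemma cls_eq_zero_iff (n : ℕ) (a : A) : cls A n a = 0 ↔ a ∈ maximalIdeal A ^ (n + 1) :=
  Submodule.Quotient.mk_eq_zero _

lemma cls_eq_smul_one (n : ℕ) (a : A) : cls A n a = a • cls A n 1 := by
  rw [← map_smul, smul_eq_mul, mul_one]

lemma kills_Q {n k : ℕ} (h : k ≤ n) : Kills n (Q A k) := by
  intro a ha x
  obtain ⟨b, rfl⟩ := cls_surjective k x
  rw [← map_smul, cls_eq_zero_iff]
  exact Ideal.mul_mem_right _ _ (Ideal.pow_le_pow_right (Nat.succ_le_succ h) ha)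

lemma hom_ext_Q {n : ℕ} {M : Dual.FinLen A} {f g : Q A n ⟶ M}
    (h : lin f (cls A n 1) = lin g (cls A n 1)) : f = g := by
  apply lin_injective
  apply LinearMap.ext
  intro x
  obtain ⟨b, rfl⟩ := cls_surjective n x
  rw [cls_eq_smul_one, map_smul, map_smul, h]

/-- the map `A/m^(n+1) → M`, `1 ↦ x`. -/
noncomputable def φ {n : ℕ} {M : Dual.FinLen A} (h : Kills n M) (x : M.obj) : Q A n ⟶ M :=
  ofLin (Submodule.liftQ (maximalIdeal A ^ (n + 1)) (LinearMap.toSpanSingleton A M.obj x)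
    (fun a ha => by
      rw [LinearMap.mem_ker, LinearMap.toSpanSingleton_apply]
      exact h a ha x))

@[simp] lemma φ_cls {n : ℕ} {M : Dual.FinLen A} (h : Kills n M) (x : M.obj) (a : A) :
    lin (φ h x) (cls A n a) = a • x := rfl

lemma φ_one {n : ℕ} {M : Dual.FinLen A} (h : Kills n M) (x : M.obj) :
    lin (φ h x) (cls A n 1) = x := by simp

lemma eq_φ {n : ℕ} {M : Dual.FinLen A} (h : Kills n M) (f : Q A n ⟶ M) :
    f = φ h (lin f (cls A n 1)) := hom_ext_Q (by simp)

lemma φ_add {n : ℕ} {M : Dual.FinLen A} (h : Kills n M) (x y : M.obj) :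
    φ h (x + y) = φ h x + φ h y := hom_ext_Q (by simp)

lemma φ_smul {n : ℕ} {M : Dual.FinLen A} (h : Kills n M) (a : A) (x : M.obj) :
    φ h (a • x) = a • φ h x := hom_ext_Q (by simp)

lemma φ_comp {n : ℕ} {M N : Dual.FinLen A} (h : Kills n M) (h' : Kills n N) (x : M.obj)
    (g : M ⟶ N) : φ h x ≫ g = φ h' (lin g x) := hom_ext_Q (by simp)

variable (A) in
/-- transition map `A/m^(n+2) → A/m^(n+1)`. -/
noncomputable def πQ (n : ℕ) : Q A (n + 1) ⟶ Q A n := φ (kills_Q (Nat.le_succ n)) (cls A n 1)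

variable (A) in
/-- projection `A/m^(n+1) → A/m`. -/
noncomputable def proj (n : ℕ) : Q A n ⟶ Q A 0 := φ (kills_Q (Nat.zero_le n)) (cls A 0 1)

lemma πQ_proj (n : ℕ) : πQ A n ≫ proj A n = proj A (n + 1) := hom_ext_Q (by simp [πQ, proj])

lemma φ_succ {n : ℕ} {M : Dual.FinLen A} (h : Kills n M) (x : M.obj) :
    πQ A n ≫ φ h x = φ (h.mono (Nat.le_succ n)) x := hom_ext_Q (by simp [πQ])

lemma proj_zero : proj A 0 = 𝟙 (Q A 0) := hom_ext_Q (by simp [proj])

lemma cls_zero_eq_zero_iff (a : A) : cls A 0 a = 0 ↔ a ∈ maximalIdeal A := by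
  rw [cls_eq_zero_iff, zero_add, pow_one]

lemma cls_zero_one_ne_zero : cls A 0 (1 : A) ≠ 0 := by
  rw [Ne, cls_zero_eq_zero_iff]
  exact fun h => (maximalIdeal.isMaximal A).ne_top ((Ideal.eq_top_iff_one _).mpr h)

/-- every map `A/m^(n+1) → A/m` is a multiple of the projection. -/
lemma exists_eq_smul_proj {n : ℕ} (f : Q A n ⟶ Q A 0) : ∃ c : A, f = c • proj A n := by
  obtain ⟨c, hc⟩ := cls_surjective 0 (lin f (cls A n 1))
  refine ⟨c, hom_ext_Q ?_⟩
  rw [← hc]
  simp [proj, cls_eq_smul_one 0 c]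

lemma smul_hom_Q_zero_eq_zero {M : Dual.FinLen A} (f : M ⟶ Q A 0) {c : A}
    (hc : c ∈ maximalIdeal A) : c • f = 0 := by
  apply lin_injective
  apply LinearMap.ext
  intro x
  simp only [lin_smul, LinearMap.smul_apply, lin_zero, LinearMap.zero_apply]
  exact kills_Q (le_refl 0) c (by simpa using hc) _

end Groth.Agent.Lib.Helper2.FinLenEquiv
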