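import Groth.Agent.Lib.Helper2.FinLenGens

/-!
# A fully faithful linear endofunctor of `FinLen A` is isomorphic to the identity (helper2)

`ηn`, `ηM`, `η`, `nonempty_iso_id`.
-/

set_option autoImplicit false
set_option linter.style.haveILetI false
set_option linter.unusedSectionVars false
universe u

open CategoryTheory IsLocalRing

namespace Groth.Agent.Lib.Helper2.FinLenEquiv

variable {A : Type u} [CommRing A] [IsLocalRing A] [IsNoetherianRing A]
variable (F : Dual.FinLen A ⥤ Dual.FinLen A) [F.Additive] [F.Linear A] [F.Full] [F.Faithful]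
variable (θ : F.obj (Q A 0) ≅ Q A 0)

/-- the comparison map `M → F M` computed at level `n`. -/
noncomputable def ηn {M : Dual.FinLen A} {n : ℕ} (h : Kills n M) : M.obj →ₗ[A] (F.obj M).obj where
  toFun x := lin (F.map (φ h x)) (gen F θ n).1
  map_add' x y := by rw [φ_add, F.map_add, lin_add, LinearMap.add_apply]
  map_smul' a x := by rw [φ_smul, F.map_smul, lin_smul, LinearMap.smul_apply]; rfl

lemma ηn_apply {M : Dual.FinLen A} {n : ℕ} (h : Kills n M) (x : M.obj) :
    ηn F θ h x = lin (F.map (φ h x)) (gen F θ n).1 := rfl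

lemma ηn_succ {M : Dual.FinLen A} {n : ℕ} (h : Kills n M) :
    ηn F θ (h.mono (Nat.le_succ n)) = ηn F θ h := by
  ext x
  rw [ηn_apply, ηn_apply, ← φ_succ h x, F.map_comp, lin_comp, LinearMap.comp_apply, gen_succ]

lemma ηn_eq_of_le {M : Dual.FinLen A} {n n' : ℕ} (h : Kills n M) (hn : n ≤ n') :
    ηn F θ (h.mono hn) = ηn F θ h := by
  induction n', hn using Nat.le_induction with
  | base => rfl
  | succ k hk ih => rw [← ih]; exact ηn_succ F θ (h.mono hk)

lemma ηn_eq {M : Dual.FinLen A} {n n' : ℕ} (h : Kills n M) (h' : Kills n' M) :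
    ηn F θ h = ηn F θ h' := by
  rcases le_total n n' with hn | hn
  · exact (ηn_eq_of_le F θ h hn).symm
  · exact ηn_eq_of_le F θ h' hn

lemma ηn_natural {M N : Dual.FinLen A} {n : ℕ} (h : Kills n M) (h' : Kills n N) (g : M ⟶ N)
    (x : M.obj) : lin (F.map g) (ηn F θ h x) = ηn F θ h' (lin g x) := by
  rw [ηn_apply, ηn_apply, ← φ_comp h h' x g, F.map_comp, lin_comp, LinearMap.comp_apply]

lemma ηn_bijective {M : Dual.FinLen A} {n : ℕ} (h : Kills n M) :
    Function.Bijective (ηn F θ h) := by
  haveI hiso := isIso_φ_of_lam0_ne_zero F θ (gen F θ n).1 (gen F θ n).2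
  constructor
  · rw [injective_iff_map_eq_zero]
    intro x hx
    rw [ηn_apply] at hx
    -- F (φ x) kills the generator, hence is zero
    have h1 : F.map (φ h x) = 0 := by
      apply lin_injective
      ext y
      have hy : y ∈ Submodule.span A {(gen F θ n).1} :=
        (span_eq_top_of_lam0_ne_zero F θ _ (gen F θ n).2) ▸ Submodule.mem_top
      obtain ⟨b, rfl⟩ := Submodule.mem_span_singleton.mp hy
      rw [map_smul, hx, smul_zero]
      rfl
    have h2 : φ h x = 0 := by
      apply F.map_injective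
      rw [h1, F.map_zero]
    have := congrArg (fun f => lin f (cls A n 1)) h2
    simpa using this
  · intro y
    let ε := φ (kills_F F (kills_Q (le_refl n))) (gen F θ n).1
    obtain ⟨g, hg⟩ := F.map_surjective (inv ε ≫ φ (kills_F F h) y)
    refine ⟨lin g (cls A n 1), ?_⟩
    rw [ηn_apply, ← eq_φ h g, hg, lin_comp, LinearMap.comp_apply]
    have h1 : lin (inv ε) (gen F θ n).1 = cls A n 1 := by
      have h2 : lin ε (cls A n 1) = (gen F θ n).1 := by simp [ε]
      rw [← h2, ← LinearMap.comp_apply, ← lin_comp, IsIso.hom_inv_id, lin_id, LinearMap.id_apply]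
    rw [h1, φ_one]

/-- the comparison morphism `M ⟶ F M`. -/
noncomputable def ηM (M : Dual.FinLen A) : M ⟶ F.obj M :=
  ofLin (ηn F θ (Classical.choose_spec (exists_kills M)))

lemma lin_ηM {M : Dual.FinLen A} {n : ℕ} (h : Kills n M) : lin (ηM F θ M) = ηn F θ h :=
  ηn_eq F θ _ h

instance isIso_ηM (M : Dual.FinLen A) : IsIso (ηM F θ M) :=
  isIso_of_bijective _ (by rw [lin_ηM F θ (Classical.choose_spec (exists_kills M))]; exact ηn_bijective F θ _)

/-- the comparison natural transformation. -/
noncomputable def η : 𝟭 (Dual.FinLen A) ⟶ F where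
  app M := ηM F θ M
  naturality M N g := by
    obtain ⟨n, hn⟩ := exists_kills M
    obtain ⟨n', hn'⟩ := exists_kills N
    have h : Kills (max n n') M := hn.mono (le_max_left _ _)
    have h' : Kills (max n n') N := hn'.mono (le_max_right _ _)
    apply lin_injective
    ext x
    simp only [Functor.id_obj, Functor.id_map, lin_comp, LinearMap.coe_comp, Function.comp_apply]
    rw [lin_ηM F θ h, lin_ηM F θ h']
    exact (ηn_natural F θ h h' g x).symm

instance isIso_η : IsIso (η F θ) := by
  haveI : ∀ M, IsIso ((η F θ).app M) := fun M => isIso_ηM F θ M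
  exact NatIso.isIso_of_isIso_app _

/-- A fully faithful additive `A`-linear endofunctor of `FinLen A` is isomorphic to the identity. -/
theorem nonempty_iso_id : Nonempty (F ≅ 𝟭 (Dual.FinLen A)) := by
  obtain ⟨θ⟩ := nonempty_iso_F_Q_zero F
  exact ⟨(asIso (η F θ)).symm⟩

end Groth.Agent.Lib.Helper2.FinLenEquiv
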