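import Groth.Agent.Lib.Helper2.FinLenResidue

/-!
# Compatible generators of `F (A/m^(n+1))` (helper2)

`lam0`, `span_eq_top_of_lam0_ne_zero`, `isIso_φ_of_lam0_ne_zero`, `Gens`, `gen`, `gen_succ`.
-/

set_option autoImplicit false
set_option linter.style.haveILetI false
set_option linter.unusedSectionVars false
universe u

open CategoryTheory IsLocalRing

namespace Groth.Agent.Lib.Helper2.FinLenEquiv

variable {A : Type u} [CommRing A] [IsLocalRing A] [IsNoetherianRing A]

lemma isIso_of_bijective {M N : Dual.FinLen A} (f : M ⟶ N) (h : Function.Bijective (lin f)) :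
    IsIso f := by
  let e := LinearEquiv.ofBijective (lin f) h
  refine ⟨ofLin e.symm.toLinearMap, ?_, ?_⟩
  · apply lin_injective
    ext x
    simp only [lin_comp, lin_ofLin, LinearMap.coe_comp, LinearEquiv.coe_coe, Function.comp_apply,
      lin_id, LinearMap.id_coe, id_eq]
    exact e.symm_apply_apply x
  · apply lin_injective
    ext x
    simp only [lin_comp, lin_ofLin, LinearMap.coe_comp, LinearEquiv.coe_coe, Function.comp_apply,
      lin_id, LinearMap.id_coe, id_eq]
    exact e.apply_symm_apply x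

variable (F : Dual.FinLen A ⥤ Dual.FinLen A) [F.Additive] [F.Linear A] [F.Full] [F.Faithful]
variable (θ : F.obj (Q A 0) ≅ Q A 0)

/-- the canonical functional on `F (A/m^(n+1))`. -/
noncomputable def lam0 (n : ℕ) : F.obj (Q A n) ⟶ Q A 0 := F.map (proj A n) ≫ θ.hom

lemma lam0_succ (n : ℕ) : F.map (πQ A n) ≫ lam0 F θ n = lam0 F θ (n + 1) := by
  rw [lam0, lam0, ← Category.assoc, ← F.map_comp, πQ_proj]

lemma proj_ne_zero (n : ℕ) : proj A n ≠ 0 := by
  intro h
  have := congrArg (fun f => lin f (cls A n 1)) h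
  exact cls_zero_one_ne_zero (by simpa [proj] using this)

lemma lam0_ne_zero (n : ℕ) : lam0 F θ n ≠ 0 := by
  intro h
  apply proj_ne_zero (A := A) n
  apply F.map_injective
  rw [F.map_zero]
  have : F.map (proj A n) = lam0 F θ n ≫ θ.inv := by
    rw [lam0, Category.assoc, Iso.hom_inv_id, Category.comp_id]
  rw [this, h, Limits.zero_comp]

lemma eq_smul_lam0 {n : ℕ} (l : F.obj (Q A n) ⟶ Q A 0) : ∃ c : A, l = c • lam0 F θ n := by
  obtain ⟨μ, hμ⟩ := F.map_surjective (l ≫ θ.inv)
  obtain ⟨c, rfl⟩ := exists_eq_smul_proj μ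
  refine ⟨c, ?_⟩
  have : l = F.map (c • proj A n) ≫ θ.hom := by
    rw [hμ, Category.assoc, Iso.inv_hom_id, Category.comp_id]
  rw [this, F.map_smul, Linear.smul_comp, lam0]

lemma exists_lam0_ne_zero (n : ℕ) : ∃ e : (F.obj (Q A n)).obj, lin (lam0 F θ n) e ≠ 0 := by
  by_contra hcon
  push Not at hcon
  apply lam0_ne_zero F θ n
  apply lin_injective
  exact LinearMap.ext hcon

lemma span_eq_top_of_lam0_ne_zero {n : ℕ} (e : (F.obj (Q A n)).obj)
    (he : lin (lam0 F θ n) e ≠ 0) : Submodule.span A {e} = ⊤ := by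
  by_contra hne
  obtain ⟨l, hl0, hle⟩ := exists_functional (Submodule.span A {e}) hne
  obtain ⟨c, hc⟩ := eq_smul_lam0 F θ (ofLin l)
  have hl : l = c • lin (lam0 F θ n) := by
    have := congrArg lin hc
    simpa using this
  by_cases hcm : c ∈ maximalIdeal A
  · apply hl0
    rw [hl, ← lin_smul, smul_hom_Q_zero_eq_zero _ hcm, lin_zero]
  · have hcu : IsUnit c := by
      by_contra hnu
      exact hcm ((mem_maximalIdeal c).mpr hnu)
    obtain ⟨u, rfl⟩ := hcu
    have h1 : l e = 0 := hle (Submodule.mem_span_singleton_self e)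
    rw [hl, LinearMap.smul_apply] at h1
    apply he
    have := congrArg (fun z => (↑u⁻¹ : A) • z) h1
    simpa [smul_smul] using this

lemma smul_eq_zero_iff_of_span {n : ℕ} (e : (F.obj (Q A n)).obj)
    (he : Submodule.span A {e} = ⊤) (a : A) : a • e = 0 ↔ a ∈ maximalIdeal A ^ (n + 1) := by
  constructor
  · intro h
    have h1 : a • 𝟙 (F.obj (Q A n)) = 0 := by
      apply lin_injective
      ext x
      have hx : x ∈ Submodule.span A {e} := he ▸ Submodule.mem_top
      obtain ⟨b, rfl⟩ := Submodule.mem_span_singleton.mp hx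
      simp only [lin_smul, lin_id, LinearMap.smul_apply, LinearMap.id_coe, id_eq, lin_zero,
        LinearMap.zero_apply]
      rw [smul_comm, h, smul_zero]
    have h2 : a • 𝟙 (Q A n) = 0 := by
      apply F.map_injective
      rw [F.map_smul, F.map_id, h1, F.map_zero]
    have := congrArg (fun f => lin f (cls A n 1)) h2
    simp only [lin_smul, lin_id, LinearMap.smul_apply, LinearMap.id_coe, id_eq, lin_zero,
      LinearMap.zero_apply] at this
    rwa [← map_smul, smul_eq_mul, mul_one, cls_eq_zero_iff] at this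
  · intro h
    exact kills_F F (kills_Q (le_refl n)) a h e

lemma isIso_φ_of_lam0_ne_zero {n : ℕ} (e : (F.obj (Q A n)).obj)
    (he : lin (lam0 F θ n) e ≠ 0) :
    IsIso (φ (kills_F F (kills_Q (le_refl n))) e) := by
  have hspan := span_eq_top_of_lam0_ne_zero F θ e he
  apply isIso_of_bijective
  constructor
  · rw [injective_iff_map_eq_zero]
    intro x hx
    obtain ⟨a, rfl⟩ := cls_surjective n x
    rw [φ_cls, smul_eq_zero_iff_of_span F e hspan] at hx
    rwa [cls_eq_zero_iff]
  · intro y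
    have hy : y ∈ Submodule.span A {e} := hspan ▸ Submodule.mem_top
    obtain ⟨b, rfl⟩ := Submodule.mem_span_singleton.mp hy
    exact ⟨cls A n b, by simp⟩

/-- the type of "generators" of `F (A/m^(n+1))`. -/
def Gens (n : ℕ) : Type u := {e : (F.obj (Q A n)).obj // lin (lam0 F θ n) e ≠ 0}

lemma nonempty_gens (n : ℕ) : Nonempty (Gens F θ n) := by
  obtain ⟨e, he⟩ := exists_lam0_ne_zero F θ n
  exact ⟨⟨e, he⟩⟩

lemma exists_lift {n : ℕ} (e : Gens F θ n) :
    ∃ e' : Gens F θ (n + 1), lin (F.map (πQ A n)) e'.1 = e.1 := by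
  obtain ⟨e'', he''⟩ := exists_lam0_ne_zero F θ (n + 1)
  have h1 : lin (lam0 F θ n) (lin (F.map (πQ A n)) e'') ≠ 0 := by
    have : lin (lam0 F θ n) (lin (F.map (πQ A n)) e'') = lin (lam0 F θ (n + 1)) e'' := by
      rw [← lam0_succ]; rfl
    rwa [this]
  have hspan := span_eq_top_of_lam0_ne_zero F θ _ h1
  have hmem : e.1 ∈ Submodule.span A {lin (F.map (πQ A n)) e''} := hspan ▸ Submodule.mem_top
  obtain ⟨a, ha⟩ := Submodule.mem_span_singleton.mp hmem
  have h2 : lin (F.map (πQ A n)) (a • e'') = e.1 := by rw [map_smul, ha]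
  refine ⟨⟨a • e'', ?_⟩, h2⟩
  have : lin (lam0 F θ (n + 1)) (a • e'') = lin (lam0 F θ n) e.1 := by
    rw [← h2, ← lam0_succ]; rfl
  rw [this]
  exact e.2

/-- a compatible system of generators. -/
noncomputable def gen : (n : ℕ) → Gens F θ n
  | 0 => Classical.choice (nonempty_gens F θ 0)
  | n + 1 => Classical.choose (exists_lift F θ (gen n))

lemma gen_succ (n : ℕ) : lin (F.map (πQ A n)) (gen F θ (n + 1)).1 = (gen F θ n).1 :=
  Classical.choose_spec (exists_lift F θ (gen F θ n))

end Groth.Agent.Lib.Helper2.FinLenEquiv
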