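import Groth.Agent.Lib.Helper2.FinLenBase

/-!
# A fully faithful linear endofunctor of `FinLen A` fixes the residue field (helper2)

`exists_functional`, `kills_F`, `nonempty_iso_F_Q_zero`.
-/

set_option autoImplicit false
set_option linter.style.haveILetI false
set_option linter.unusedSectionVars false
universe u

open CategoryTheory IsLocalRing

namespace Groth.Agent.Lib.Helper2.FinLenEquiv

variable {A : Type u} [CommRing A] [IsLocalRing A] [IsNoetherianRing A]

lemma exists_functional {P : Type u} [AddCommGroup P] [Module A P] [Module.Finite A P]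
    (N : Submodule A P) (hN : N ≠ ⊤) :
    ∃ l : P →ₗ[A] (Q A 0).obj, l ≠ 0 ∧ N ≤ LinearMap.ker l := by
  obtain ⟨N', hN', hle⟩ := (eq_top_or_exists_le_coatom N).resolve_left hN
  haveI : IsSimpleModule A (P ⧸ N') := isSimpleModule_iff_isCoatom.mpr hN'
  obtain ⟨I, hI, ⟨e⟩⟩ := isSimpleModule_iff_quot_maximal.mp this
  have hI' : I = maximalIdeal A ^ (0 + 1) := by rw [eq_maximalIdeal hI, zero_add, pow_one]
  subst hI'
  let l : P →ₗ[A] (Q A 0).obj := e.toLinearMap ∘ₗ N'.mkQ
  have hsurj : Function.Surjective l := e.surjective.comp N'.mkQ_surjective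
  refine ⟨l, ?_, ?_⟩
  · intro h0
    obtain ⟨y, hy⟩ := hsurj (cls A 0 1)
    rw [h0] at hy
    exact cls_zero_one_ne_zero hy.symm
  · intro x hx
    rw [LinearMap.mem_ker]
    show e (N'.mkQ x) = 0
    rw [Submodule.mkQ_apply, (Submodule.Quotient.mk_eq_zero N').mpr (hle hx), map_zero]

instance finite_obj (M : Dual.FinLen A) : Module.Finite A M.obj := by
  haveI := (isFiniteLength_iff_isNoetherian_isArtinian.mp M.property).1
  infer_instance

variable (F : Dual.FinLen A ⥤ Dual.FinLen A) [F.Additive] [F.Linear A]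

lemma kills_F {n : ℕ} {M : Dual.FinLen A} (h : Kills n M) : Kills n (F.obj M) := by
  intro a ha x
  have h1 : a • 𝟙 M = 0 := by
    apply lin_injective
    ext y
    simpa using h a ha y
  have h2 : a • 𝟙 (F.obj M) = 0 := by
    rw [← F.map_id, ← F.map_smul, h1, F.map_zero]
  have := congrArg (fun f => lin f x) h2
  simpa using this

variable [F.Full] [F.Faithful]

lemma id_Q_zero_ne_zero : (𝟙 (Q A 0)) ≠ 0 := by
  intro h
  have := congrArg (fun f => lin f (cls A 0 1)) h
  exact cls_zero_one_ne_zero (by simpa using this)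

theorem nonempty_iso_F_Q_zero : Nonempty (F.obj (Q A 0) ≅ Q A 0) := by
  have hk : Kills 0 (F.obj (Q A 0)) := kills_F F (kills_Q (le_refl 0))
  have hne : (𝟙 (F.obj (Q A 0))) ≠ 0 := by
    intro h
    apply id_Q_zero_ne_zero (A := A)
    apply F.map_injective
    rw [F.map_id, F.map_zero, h]
  have hbot : (⊥ : Submodule A (F.obj (Q A 0)).obj) ≠ ⊤ := by
    intro h
    apply hne
    apply lin_injective
    ext y
    have : y ∈ (⊥ : Submodule A (F.obj (Q A 0)).obj) := h ▸ Submodule.mem_top
    simpa using this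
  obtain ⟨l, hl0, -⟩ := exists_functional (⊥ : Submodule A (F.obj (Q A 0)).obj) hbot
  -- a vector mapping to 1
  obtain ⟨v, hv⟩ : ∃ v, l v = cls A 0 1 := by
    obtain ⟨w, hw⟩ : ∃ w, l w ≠ 0 := by
      by_contra hcon
      push Not at hcon
      exact hl0 (LinearMap.ext hcon)
    obtain ⟨c, hc⟩ := cls_surjective 0 (l w)
    have hcu : IsUnit c := by
      by_contra hnu
      have : c ∈ maximalIdeal A := (mem_maximalIdeal c).mpr hnu
      rw [← cls_zero_eq_zero_iff, hc] at this
      exact hw this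
    obtain ⟨u, rfl⟩ := hcu
    refine ⟨(↑u⁻¹ : A) • w, ?_⟩
    rw [map_smul, ← hc, ← map_smul, smul_eq_mul, Units.inv_mul]
  let s : Q A 0 ⟶ F.obj (Q A 0) := φ hk v
  let lam : F.obj (Q A 0) ⟶ Q A 0 := ofLin l
  have hsl : s ≫ lam = 𝟙 _ := hom_ext_Q (by simp [s, lam, hv])
  obtain ⟨q, hq⟩ := F.map_surjective (lam ≫ s)
  have hpp : (lam ≫ s) ≫ (lam ≫ s) = lam ≫ s := by
    rw [Category.assoc, ← Category.assoc s, hsl, Category.id_comp]
  have hqq : q ≫ q = q := by
    apply F.map_injective
    rw [F.map_comp, hq, hpp]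
  obtain ⟨c, hc⟩ := exists_eq_smul_proj q
  rw [proj_zero] at hc
  have hq1 : q = 𝟙 _ := by
    by_cases hcm : c ∈ maximalIdeal A
    · exfalso
      have hq0 : q = 0 := by rw [hc]; exact smul_hom_Q_zero_eq_zero _ hcm
      have hp0 : lam ≫ s = 0 := by rw [← hq, hq0, F.map_zero]
      apply id_Q_zero_ne_zero (A := A)
      calc 𝟙 (Q A 0) = (s ≫ lam) ≫ (s ≫ lam) := by rw [hsl, Category.id_comp]
        _ = s ≫ (lam ≫ s) ≫ lam := by simp only [Category.assoc]
        _ = 0 := by rw [hp0, Limits.zero_comp, Limits.comp_zero]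
    · have hcu : IsUnit c := by
        by_contra hnu
        exact hcm ((mem_maximalIdeal c).mpr hnu)
      have h2 := congrArg (fun f => lin f (cls A 0 1)) hqq
      rw [hc] at h2
      simp only [lin_comp, lin_smul, lin_id, LinearMap.coe_comp, Function.comp_apply,
        LinearMap.smul_apply, LinearMap.id_coe, id_eq] at h2
      simp only [← map_smul] at h2
      rw [← sub_eq_zero, ← map_sub, cls_zero_eq_zero_iff] at h2
      have h3 : c * (c - 1) ∈ maximalIdeal A := by
        convert h2 using 1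
        simp only [smul_eq_mul, mul_one]
        ring
      have h4 : c - 1 ∈ maximalIdeal A := by
        rcases (maximalIdeal.isMaximal A).isPrime.mem_or_mem h3 with h | h
        · exact absurd h hcm
        · exact h
      rw [hc]
      apply hom_ext_Q
      simp only [lin_smul, lin_id, LinearMap.smul_apply, LinearMap.id_coe, id_eq]
      rw [← map_smul, ← sub_eq_zero, ← map_sub, cls_zero_eq_zero_iff]
      simpa using h4
  have hls : lam ≫ s = 𝟙 _ := by rw [← hq, hq1, F.map_id]
  exact ⟨⟨lam, s, hls, hsl⟩⟩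

end Groth.Agent.Lib.Helper2.FinLenEquiv
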