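import Mathlib.RingTheory.Flat.FaithfullyFlat.Basic
import Mathlib.RingTheory.Flat.Tensor
import Mathlib.RingTheory.Flat.FaithfullyFlat.Algebra
import Mathlib.RingTheory.RingHom.Flat
import Mathlib.RingTheory.RingHom.FaithfullyFlat

set_option autoImplicit false
open scoped TensorProduct

namespace Groth.Agent.Lib.Helper2

/-- If `A → B → C` with `C` flat over `A` and faithfully flat over `B`, then `B` is flat over `A`. -/
theorem flat_of_flat_of_faithfullyFlat (A B C : Type*) [CommRing A] [CommRing B] [CommRing C]
    [Algebra A B] [Algebra B C] [Algebra A C] [IsScalarTower A B C] [Module.Flat A C]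
    [Module.FaithfullyFlat B C] : Module.Flat A B := by
  rw [Module.Flat.iff_lTensor_injective']
  intro I
  have h1 : Function.Injective (I.subtype.lTensor C) :=
    Module.Flat.lTensor_preserves_injective_linearMap _ I.injective_subtype
  let f : B ⊗[A] I →ₗ[B] B ⊗[A] A := I.subtype.baseChange B
  change Function.Injective f
  rw [← Module.FaithfullyFlat.lTensor_injective_iff_injective B C]
  let e1 := TensorProduct.AlgebraTensorModule.cancelBaseChange A B C C I
  let e2 := TensorProduct.AlgebraTensorModule.cancelBaseChange A B C C A
  have hcomm : ∀ x, e2 (f.lTensor C x) = (I.subtype.lTensor C) (e1 x) := by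
    intro x
    induction x with
    | zero => simp
    | add x y hx hy => simp only [map_add, hx, hy]
    | tmul c y =>
      induction y with
      | zero => simp
      | add x y hx hy => simp only [TensorProduct.tmul_add, map_add, hx, hy]
      | tmul b i => simp [f, e1, e2]
  rw [injective_iff_map_eq_zero]
  intro x hx
  have : (I.subtype.lTensor C) (e1 x) = 0 := by rw [← hcomm, hx, map_zero]
  have := (injective_iff_map_eq_zero _).mp h1 _ this
  exact (LinearEquiv.map_eq_zero_iff e1).mp this

/-- Ring hom version. -/
theorem RingHom.Flat.of_comp_faithfullyFlat {A B C : Type*} [CommRing A] [CommRing B] [CommRing C]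
    (f : A →+* B) (g : B →+* C) (hg : g.FaithfullyFlat) (hgf : (g.comp f).Flat) : f.Flat := by
  algebraize [f, g, g.comp f]
  exact flat_of_flat_of_faithfullyFlat A B C

end Groth.Agent.Lib.Helper2
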