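import Mathlib
import Groth.Prelude.Def_FEt
import Groth.Prelude.Def_Frob
import Groth.Agent.Lib.Helper2.FrobFEt
import Groth.Agent.Lib.Helper2.FEtFieldLimit
import Groth.Agent.Lib.Helper2.FieldLimitHom
import Groth.Agent.Lib.Helper2.FEtThickening

/-!
# Finite étale covers descend along purely inseparable base field extensions (helper2)

* `liftsFEt_of_hasExponent`: Frobenius trick for `L/k` purely inseparable of finite exponent:
  `X_L ⟶ X ⟶ X_L` is the iterated Frobenius of `X_L`.
* `liftsFEt_of_isPurelyInseparable_of_qcqs`: limit argument over finite subextensions.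
* `liftsFEt_of_isPurelyInseparable`: arbitrary `X`, by Zariski gluing (`liftsFEt_of_affineOpens`).
-/

set_option autoImplicit false
set_option linter.style.haveILetI false
set_option linter.unusedSectionVars false
universe u

open CategoryTheory CategoryTheory.Limits AlgebraicGeometry FrobSch Opposite

namespace Groth.Agent.Lib.Helper2.FrobFEt

open Groth.Agent.Lib.Helper2.FEtGlue Groth.Agent.Lib.Helper2.FieldLimit

variable (p : ℕ) [Fact p.Prime]

/-- Finite étale covers descend along `X_L ⟶ X` for a purely inseparable extension `L/k` of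
finite exponent in characteristic `p` (Frobenius trick). -/
theorem liftsFEt_of_hasExponent {k L : Type u} [Field k] [Field L] [Algebra k L] [CharP k p]
    [IsPurelyInseparable.HasExponent k L] {X : Scheme.{u}} (f : X ⟶ Spec (CommRingCat.of k)) :
    LiftsFEt (pullback.snd (Spec.map (CommRingCat.ofHom (algebraMap k L))) f) := by
  haveI : ExpChar k p := ExpChar.prime Fact.out
  haveI : CharP L p := charP_of_injective_algebraMap (algebraMap k L).injective p
  let n := IsPurelyInseparable.exponent k L
  let ψ : L →+* k := IsPurelyInseparable.iterateFrobenius k L p (le_refl n)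
  have hψ1 : ψ.comp (algebraMap k L) = iterateFrobenius k p n := by
    ext c
    simp only [RingHom.comp_apply, iterateFrobenius_def]
    exact IsPurelyInseparable.iterateFrobenius_algebraMap L p (le_refl n) c
  have hψ2 : (algebraMap k L).comp ψ = iterateFrobenius L p n := by
    ext a
    simp only [RingHom.comp_apply, iterateFrobenius_def]
    exact IsPurelyInseparable.algebraMap_iterateFrobenius k p (le_refl n) a
  haveI : IsCharP X p := IsCharP.of_hom f p
  let X' := pullback (Spec.map (CommRingCat.ofHom (algebraMap k L))) f
  let ι : X' ⟶ X := pullback.snd _ f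
  haveI : IsCharP X' p := IsCharP.of_hom ι p
  have hcond : (f ≫ Spec.map (CommRingCat.ofHom ψ)) ≫
      Spec.map (CommRingCat.ofHom (algebraMap k L)) = frobIter p X n ≫ f := by
    rw [Category.assoc, ← Spec.map_comp, ← CommRingCat.ofHom_comp, hψ1,
      ← frobIter_Spec p (CommRingCat.of k) n, frobIter_comp]
  let Φ : X ⟶ X' := pullback.lift (f ≫ Spec.map (CommRingCat.ofHom ψ)) (frobIter p X n) hcond
  have hΦ : ι ≫ Φ = frobIter p X' n := by
    apply pullback.hom_ext
    · rw [Category.assoc, pullback.lift_fst, ← Category.assoc, ← pullback.condition,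
        Category.assoc, ← Spec.map_comp, ← CommRingCat.ofHom_comp, hψ2,
        ← frobIter_Spec p (CommRingCat.of L) n, frobIter_comp]
    · rw [Category.assoc, pullback.lift_snd, frobIter_comp]
  apply liftsFEt_of_comp ι Φ
  rw [hΦ]
  exact liftsFEt_frobIter p X' n

/-- Finite étale covers descend along `X_K ⟶ X` for a purely inseparable extension `K/k` in
characteristic `p`, `X` quasi-compact and quasi-separated. -/
theorem liftsFEt_of_isPurelyInseparable_of_qcqs {k K : Type u} [Field k] [Field K] [Algebra k K]
    [CharP k p] [IsPurelyInseparable k K] {X : Scheme.{u}} (f : X ⟶ Spec (CommRingCat.of k))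
    [CompactSpace X] [QuasiSeparatedSpace X] :
    LiftsFEt (pullback.snd (Spec.map (CommRingCat.ofHom (algebraMap k K))) f) := by
  haveI : Algebra.IsAlgebraic k K := inferInstance
  intro Z' z' hfin het
  obtain ⟨L, ZL, zL, a, hLfin, hLet, hpb⟩ := exists_fet_descend_field (K := K) f z'
  haveI : FiniteDimensional k L.1 := L.2
  haveI : IsPurelyInseparable k L.1 := IsPurelyInseparable.tower_bot k L.1 K
  obtain ⟨Z, z, b, hzfin, hzet, hpb'⟩ := liftsFEt_of_hasExponent p (L := L.1) f ZL zL hLfin hLet
  refine ⟨Z, z, a ≫ b, hzfin, hzet, ?_⟩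
  have := hpb.paste_horiz hpb'
  rwa [cD_π_snd] at this

/-- Finite étale covers descend along `X_K ⟶ X` for a purely inseparable extension `K/k` in
characteristic `p`, for an arbitrary `k`-scheme `X`. -/
theorem liftsFEt_of_isPurelyInseparable {k K : Type u} [Field k] [Field K] [Algebra k K]
    [CharP k p] [IsPurelyInseparable k K] {X : Scheme.{u}} (f : X ⟶ Spec (CommRingCat.of k)) :
    LiftsFEt (pullback.snd (Spec.map (CommRingCat.ofHom (algebraMap k K))) f) := by
  haveI : Algebra.IsAlgebraic k K := inferInstance
  have h1 : IsIntegralHom (pullback.snd (Spec.map (CommRingCat.ofHom (algebraMap k K))) f) :=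
    MorphismProperty.pullback_snd _ _ (isIntegralHom_specMap_of_isAlgebraic (k := k) (K := K))
  have h2 : UniversallyInjective (pullback.snd (Spec.map (CommRingCat.ofHom (algebraMap k K))) f) :=
    MorphismProperty.pullback_snd _ _
      (universallyInjective_specMap_of_isPurelyInseparable (k := k) (K := K))
  have h3 : Surjective (pullback.snd (Spec.map (CommRingCat.ofHom (algebraMap k K))) f) :=
    MorphismProperty.pullback_snd _ _ inferInstance
  apply liftsFEt_of_affineOpens
  intro U
  haveI : IsAffine (U.1 : Scheme.{u}) := U.2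
  have hU := liftsFEt_of_isPurelyInseparable_of_qcqs p (K := K) (U.1.ι ≫ f)
  refine liftsFEt_of_iso _ _
    (pullbackLeftPullbackSndIso (Spec.map (CommRingCat.ofHom (algebraMap k K))) f U.1.ι)
    (Iso.refl _) ?_ hU
  rw [Iso.refl_hom, Category.comp_id, pullbackLeftPullbackSndIso_hom_snd]

end Groth.Agent.Lib.Helper2.FrobFEt
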