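import Mathlib
import Groth.Prelude.Def_FEt
import Groth.Prelude.Def_Pi1
import Groth.Agent.Lib.Helper2.FieldLimitHom
import Groth.Agent.Lib.Helper2.SigmaPullback
import Groth.Agent.Lib.Helper69.UnivHomeo

/-!
# Split covers over the algebraic closure are dominated from the base field (helper2)

* `towerMap`, `isPullback_towerMap`: for fields `k → K₁ → K₂`, the comparison
  `X_{K₂} ⟶ X_{K₁}` is a base change of `Spec K₂ ⟶ Spec K₁`.
* `finite_etale_sigmaDesc_of_isSeparable`: `∐_ι Spec L ⟶ Spec k` is finite étale for `L/k` finite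
  separable and `ι` finite.
* `exists_dominating_of_split`: S0270 (without the connectedness hypothesis): sections over
  `X_{k̄}` descend to `X_{k_s}` (helper69 `exists_desc_of_universalHomeo`, the extension
  `k̄/k_s` being purely inseparable), then to `X_L` for `L/k` finite separable (limit argument),
  and `∐ X_L = (∐ Spec L) ×_k X` (`SigmaPullback`).
-/

set_option autoImplicit false
set_option linter.style.haveILetI false
set_option linter.unusedSectionVars false
universe u

open CategoryTheory CategoryTheory.Limits AlgebraicGeometry Opposite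

namespace Groth.Agent.Lib.Helper2.SplitDominated

open Groth.Agent.Lib.Helper2.FieldLimit

/-- For a tower of fields `k → K₁ → K₂`, the comparison `X_{K₂} ⟶ X_{K₁}`. -/
noncomputable def towerMap {k K₁ K₂ : Type u} [Field k] [Field K₁] [Field K₂] [Algebra k K₁]
    [Algebra k K₂] [Algebra K₁ K₂] [IsScalarTower k K₁ K₂] {X : Scheme.{u}}
    (f : X ⟶ Spec (CommRingCat.of k)) :
    pullback f (Spec.map (CommRingCat.ofHom (algebraMap k K₂))) ⟶
      pullback (Spec.map (CommRingCat.ofHom (algebraMap k K₁))) f :=
  pullback.lift (pullback.snd f _ ≫ Spec.map (CommRingCat.ofHom (algebraMap K₁ K₂)))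
    (pullback.fst f _) (by
      rw [Category.assoc, ← Spec.map_comp, pullback.condition, ← CommRingCat.ofHom_comp,
        ← IsScalarTower.algebraMap_eq k K₁ K₂])

section
variable {k K₁ K₂ : Type u} [Field k] [Field K₁] [Field K₂] [Algebra k K₁]
    [Algebra k K₂] [Algebra K₁ K₂] [IsScalarTower k K₁ K₂] {X : Scheme.{u}}
    (f : X ⟶ Spec (CommRingCat.of k))

lemma towerMap_fst : towerMap (K₁ := K₁) (K₂ := K₂) f ≫ pullback.fst _ f =
    pullback.snd f _ ≫ Spec.map (CommRingCat.ofHom (algebraMap K₁ K₂)) :=
  pullback.lift_fst _ _ _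

lemma towerMap_snd : towerMap (K₁ := K₁) (K₂ := K₂) f ≫ pullback.snd _ f = pullback.fst f _ :=
  pullback.lift_snd _ _ _

lemma isPullback_towerMap :
    IsPullback (pullback.snd f (Spec.map (CommRingCat.ofHom (algebraMap k K₂))))
      (towerMap (K₁ := K₁) (K₂ := K₂) f)
      (Spec.map (CommRingCat.ofHom (algebraMap K₁ K₂)))
      (pullback.fst (Spec.map (CommRingCat.ofHom (algebraMap k K₁))) f) := by
  have hcomp : Spec.map (CommRingCat.ofHom (algebraMap K₁ K₂)) ≫
      Spec.map (CommRingCat.ofHom (algebraMap k K₁)) =
      Spec.map (CommRingCat.ofHom (algebraMap k K₂)) := by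
    rw [← Spec.map_comp, ← CommRingCat.ofHom_comp, ← IsScalarTower.algebraMap_eq k K₁ K₂]
  have hbig : IsPullback (pullback.snd f (Spec.map (CommRingCat.ofHom (algebraMap k K₂))))
      (towerMap (K₁ := K₁) (K₂ := K₂) f ≫ pullback.snd _ f)
      (Spec.map (CommRingCat.ofHom (algebraMap K₁ K₂)) ≫
        Spec.map (CommRingCat.ofHom (algebraMap k K₁))) f := by
    rw [towerMap_snd, hcomp]
    exact (IsPullback.of_hasPullback _ _).flip
  exact IsPullback.of_bot hbig (towerMap_fst f).symm (IsPullback.of_hasPullback _ _)

end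

/-- `Spec` of a finite power of a finite separable field extension is finite étale, in
coproduct form. -/
theorem finite_etale_sigmaDesc_of_isSeparable {k L : Type u} [Field k] [Field L] [Algebra k L]
    [FiniteDimensional k L] [Algebra.IsSeparable k L] (ι : Type u) [Finite ι] :
    IsFinite (Sigma.desc (fun _ : ι => Spec.map (CommRingCat.ofHom (algebraMap k L)))) ∧
    Etale (Sigma.desc (fun _ : ι => Spec.map (CommRingCat.ofHom (algebraMap k L)))) := by
  have hEt : Algebra.Etale k L :=
    { formallyEtale := Algebra.FormallyEtale.of_isSeparable k L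
      finitePresentation := Algebra.FinitePresentation.of_finiteType.mp inferInstance }
  have heq : Sigma.desc (fun _ : ι => Spec.map (CommRingCat.ofHom (algebraMap k L))) =
      sigmaSpec (fun _ : ι => CommRingCat.of L) ≫
        Spec.map (CommRingCat.ofHom (algebraMap k (ι → L))) := by
    apply Sigma.hom_ext
    intro i
    rw [Sigma.ι_desc, ι_sigmaSpec_assoc, ← Spec.map_comp]
    rfl
  have h1 : IsFinite (Spec.map (CommRingCat.ofHom (algebraMap k (ι → L)))) := by
    rw [IsFinite.SpecMap_iff]
    exact RingHom.finite_algebraMap.mpr inferInstance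
  have h2 : Etale (Spec.map (CommRingCat.ofHom (algebraMap k (ι → L)))) := by
    rw [HasRingHomProperty.Spec_iff (P := @Etale)]
    exact RingHom.etale_algebraMap.mpr inferInstance
  rw [heq]
  exact ⟨inferInstance, inferInstance⟩

open Groth.Agent.Lib.Helper69 in
set_option maxHeartbeats 800000 in
/-- A finite étale cover of a qcqs `k`-scheme that is completely split over the algebraic closure
is dominated by `V ×_k X` for a finite étale `k`-scheme `V`. -/
theorem exists_dominating_of_split (k : Type u) [Field k] {X : Scheme.{u}}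
    (f : X ⟶ Spec (CommRingCat.of k)) [CompactSpace X] [QuasiSeparatedSpace X] (U : FEt.Cat X)
    (hU : Pi1.IsSplit ((FEt.restrict (pullback.fst f
      (Spec.map (CommRingCat.ofHom (algebraMap k (AlgebraicClosure k)))))).obj U)) :
    ∃ (V : FEt.Cat (Spec (CommRingCat.of k))) (e : (FEt.restrict f).obj V ⟶ U),
      Surjective e.left := by
  classical
  obtain ⟨ι, hι, e, he⟩ := hU
  have hUfin : IsFinite U.hom := U.prop.1
  have hUet : Etale U.hom := U.prop.2
  let pa := pullback.fst f (Spec.map (CommRingCat.ofHom (algebraMap k (AlgebraicClosure k))))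
  -- the sections
  let s : ι → (pullback f (Spec.map (CommRingCat.ofHom (algebraMap k (AlgebraicClosure k)))) ⟶
      pullback U.hom pa) := fun i => Sigma.ι (fun _ : ι =>
        pullback f (Spec.map (CommRingCat.ofHom (algebraMap k (AlgebraicClosure k))))) i ≫ e.inv
  have hs : ∀ i, s i ≫ pullback.snd U.hom pa = 𝟙 _ := fun i => by
    have := he i
    rw [← Category.assoc] at this
    exact this
  have hssurj : ∀ y : ↥(pullback U.hom pa), ∃ i x, (s i).base x = y := by
    intro y
    obtain ⟨i, x, hx⟩ : ∃ (i : ι) (x : ↥(pullback f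
        (Spec.map (CommRingCat.ofHom (algebraMap k (AlgebraicClosure k)))))),
        (Sigma.ι (fun _ : ι => pullback f
          (Spec.map (CommRingCat.ofHom (algebraMap k (AlgebraicClosure k))))) i).base x =
        e.hom.base y := by
      obtain ⟨⟨i, x⟩, hix⟩ := (sigmaMk (fun _ : ι => pullback f
        (Spec.map (CommRingCat.ofHom (algebraMap k (AlgebraicClosure k)))))).surjective
        (e.hom.base y)
      refine ⟨i, x, ?_⟩
      rw [← hix]
      exact (sigmaMk_mk (fun _ : ι => pullback f
        (Spec.map (CommRingCat.ofHom (algebraMap k (AlgebraicClosure k))))) i x).symm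
    refine ⟨i, x, ?_⟩
    change (Sigma.ι (fun _ : ι =>
        pullback f (Spec.map (CommRingCat.ofHom (algebraMap k (AlgebraicClosure k))))) i ≫
        e.inv).base x = y
    rw [Scheme.Hom.comp_base, TopCat.comp_app, hx, ← TopCat.comp_app, ← Scheme.Hom.comp_base,
      e.hom_inv_id]
    rfl
  let t : ι → (pullback f (Spec.map (CommRingCat.ofHom (algebraMap k (AlgebraicClosure k)))) ⟶
      U.left) := fun i => s i ≫ pullback.fst U.hom pa
  have ht : ∀ i, t i ≫ U.hom = pa := fun i => by
    dsimp only [t]
    rw [Category.assoc, pullback.condition, ← Category.assoc, hs i, Category.id_comp]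
  -- pass to the separable closure
  let q := towerMap (K₁ := SeparableClosure k) (K₂ := AlgebraicClosure k) f
  have hpbq := isPullback_towerMap (K₁ := SeparableClosure k) (K₂ := AlgebraicClosure k) f
  have hq1 : IsIntegralHom q :=
    MorphismProperty.of_isPullback (P := @IsIntegralHom) hpbq
      (isIntegralHom_specMap_of_isAlgebraic (k := SeparableClosure k) (K := AlgebraicClosure k))
  have hq2 : UniversallyInjective q :=
    MorphismProperty.of_isPullback (P := @UniversallyInjective) hpbq
      (universallyInjective_specMap_of_isPurelyInseparable (k := SeparableClosure k)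
        (K := AlgebraicClosure k))
  have hq3 : Surjective q :=
    MorphismProperty.of_isPullback (P := @Surjective) hpbq inferInstance
  have hqsnd : q ≫ pullback.snd _ f = pa := towerMap_snd f
  choose φ hφ1 hφ2 using fun i => exists_desc_of_universalHomeo q U.hom
    (pullback.snd (Spec.map (CommRingCat.ofHom (algebraMap k (SeparableClosure k)))) f) (t i)
    (by rw [ht i, hqsnd])
  -- descend to a finite subextension
  obtain ⟨L, g, hg⟩ := exists_hom_descend_field_family (K := SeparableClosure k) f U.hom φ hφ1
  haveI : FiniteDimensional k L.1 := L.2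
  haveI : Algebra.IsSeparable k L.1 :=
    Algebra.isSeparable_tower_bot_of_isSeparable k L.1 (SeparableClosure k)
  obtain ⟨hVfin, hVet⟩ := finite_etale_sigmaDesc_of_isSeparable (k := k) (L := L.1) ι
  let V : FEt.Cat (Spec (CommRingCat.of k)) := MorphismProperty.Over.mk ⊤
    (Sigma.desc (fun _ : ι => Spec.map (CommRingCat.ofHom (algebraMap k L.1)))) ⟨hVfin, hVet⟩
  obtain ⟨e₀, he₀⟩ := Groth.Agent.Lib.Helper2.SigmaPullback.exists_desc_pullback_sigma
    (fun _ : ι => Spec (CommRingCat.of L.1))
    (fun _ : ι => Spec.map (CommRingCat.ofHom (algebraMap k L.1))) f g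
  have hw : e₀ ≫ U.hom = pullback.snd V.hom f := by
    apply Groth.Agent.Lib.Helper2.SigmaPullback.hom_ext_pullback_sigma
      (fun _ : ι => Spec (CommRingCat.of L.1))
      (fun _ : ι => Spec.map (CommRingCat.ofHom (algebraMap k L.1))) f
    intro i
    rw [← Category.assoc, he₀ i, (hg i).2]
    unfold pullback.map
    exact ((pullback.lift_snd _ _ _).trans (Category.comp_id _)).symm
  refine ⟨V, MorphismProperty.Over.homMk e₀ hw, ?_⟩
  change Surjective e₀
  constructor
  intro u
  have hpasurj : Surjective pa :=
    MorphismProperty.pullback_fst (P := @Surjective) _ _ inferInstance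
  have hfstsurj : Surjective (pullback.fst U.hom pa) :=
    MorphismProperty.pullback_fst (P := @Surjective) _ _ hpasurj
  obtain ⟨y, rfl⟩ := hfstsurj.surj u
  obtain ⟨i, x, rfl⟩ := hssurj y
  have h1 : t i = (q ≫ proj f (op L)) ≫
      pullback.map _ f (Sigma.desc (fun _ : ι => Spec.map (CommRingCat.ofHom (algebraMap k L.1))))
        f (Sigma.ι (fun _ : ι => Spec (CommRingCat.of L.1)) i) (𝟙 X) (𝟙 _) (by simp) (by simp) ≫
      e₀ := by
    rw [he₀ i, Category.assoc, (hg i).1, hφ2 i]
  refine ⟨((q ≫ proj f (op L)) ≫
      pullback.map _ f (Sigma.desc (fun _ : ι => Spec.map (CommRingCat.ofHom (algebraMap k L.1))))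
        f (Sigma.ι (fun _ : ι => Spec (CommRingCat.of L.1)) i) (𝟙 X) (𝟙 _) (by simp)
        (by simp)).base x, ?_⟩
  rw [← TopCat.comp_app, ← Scheme.Hom.comp_base, Category.assoc, ← h1]
  rfl

end Groth.Agent.Lib.Helper2.SplitDominated
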