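import Mathlib
import Groth.Prelude.Def_FEt
import Groth.Agent.Lib.Helper2.FrobFEt2
import Groth.Agent.Lib.Helper2.SplitDominated

/-!
# Purely inseparable base change and finite étale covers, all characteristics (helper2)

* `liftsFEt_of_isIso`, `liftsFEt_of_isPurelyInseparable'` (no characteristic hypothesis),
  `liftsFEt_towerMap` (for `k → K₁ → K₂`, `K₂/K₁` purely inseparable).
* `finite_etale_specMap_of_isSeparable`.
* `exists_clopen_in_baseChange`: S0269 (without the connectedness hypothesis).
-/

set_option autoImplicit false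
set_option linter.style.haveILetI false
set_option linter.unusedSectionVars false
universe u

open CategoryTheory CategoryTheory.Limits AlgebraicGeometry Opposite

namespace Groth.Agent.Lib.Helper2.FrobFEt

open Groth.Agent.Lib.Helper2.FEtGlue Groth.Agent.Lib.Helper2.FieldLimit
  Groth.Agent.Lib.Helper2.SplitDominated

/-- Finite étale covers lift along isomorphisms. -/
theorem liftsFEt_of_isIso {T' T : Scheme.{u}} (g : T' ⟶ T) [IsIso g] : LiftsFEt g := by
  intro Z' z' hfin het
  exact ⟨Z', z' ≫ g, 𝟙 Z', inferInstance, inferInstance, IsPullback.of_horiz_isIso ⟨by simp⟩⟩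

/-- Finite étale covers descend along `X_K ⟶ X` for any purely inseparable field extension `K/k`
(all characteristics). -/
theorem liftsFEt_of_isPurelyInseparable' {k K : Type u} [Field k] [Field K] [Algebra k K]
    [IsPurelyInseparable k K] {X : Scheme.{u}} (f : X ⟶ Spec (CommRingCat.of k)) :
    LiftsFEt (pullback.snd (Spec.map (CommRingCat.ofHom (algebraMap k K))) f) := by
  obtain ⟨q, hq⟩ := ExpChar.exists k
  rcases hq with _ | ⟨hp⟩
  · -- characteristic zero: the extension is trivial
    have hsurj : Function.Surjective (algebraMap k K) :=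
      IsPurelyInseparable.surjective_algebraMap_of_isSeparable k K
    have hbij : Function.Bijective (algebraMap k K) := ⟨(algebraMap k K).injective, hsurj⟩
    have h1 : IsIso (CommRingCat.ofHom (algebraMap k K)) :=
      (ConcreteCategory.isIso_iff_bijective _).mpr hbij
    have h2 : IsIso (Spec.map (CommRingCat.ofHom (algebraMap k K))) := inferInstance
    have h3 : IsIso (pullback.snd (Spec.map (CommRingCat.ofHom (algebraMap k K))) f) :=
      inferInstance
    exact liftsFEt_of_isIso _
  · haveI : Fact q.Prime := ⟨hp⟩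
    exact liftsFEt_of_isPurelyInseparable q f

/-- For a tower `k → K₁ → K₂` with `K₂/K₁` purely inseparable, finite étale covers descend along
`X_{K₂} ⟶ X_{K₁}`. -/
theorem liftsFEt_towerMap {k K₁ K₂ : Type u} [Field k] [Field K₁] [Field K₂] [Algebra k K₁]
    [Algebra k K₂] [Algebra K₁ K₂] [IsScalarTower k K₁ K₂] [IsPurelyInseparable K₁ K₂]
    {X : Scheme.{u}} (f : X ⟶ Spec (CommRingCat.of k)) :
    LiftsFEt (towerMap (K₁ := K₁) (K₂ := K₂) f) := by
  have h := liftsFEt_of_isPurelyInseparable' (K := K₂)
    (pullback.fst (Spec.map (CommRingCat.ofHom (algebraMap k K₁))) f)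
  have hpb := isPullback_towerMap (K₁ := K₁) (K₂ := K₂) f
  refine liftsFEt_of_iso _ _ hpb.isoPullback (Iso.refl _) ?_ h
  rw [Iso.refl_hom, Category.comp_id, hpb.isoPullback_hom_snd]

/-- `Spec L ⟶ Spec k` is finite étale for `L/k` finite separable. -/
theorem finite_etale_specMap_of_isSeparable {k L : Type u} [Field k] [Field L] [Algebra k L]
    [FiniteDimensional k L] [Algebra.IsSeparable k L] :
    IsFinite (Spec.map (CommRingCat.ofHom (algebraMap k L))) ∧
    Etale (Spec.map (CommRingCat.ofHom (algebraMap k L))) := by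
  have hEt : Algebra.Etale k L :=
    { formallyEtale := Algebra.FormallyEtale.of_isSeparable k L
      finitePresentation := Algebra.FinitePresentation.of_finiteType.mp inferInstance }
  constructor
  · rw [IsFinite.SpecMap_iff]
    exact RingHom.finite_algebraMap.mpr inferInstance
  · rw [HasRingHomProperty.Spec_iff (P := @Etale)]
    exact RingHom.etale_algebraMap.mpr inferInstance

/-- Every finite étale cover of `X_{k̄}` (`X` qcqs over `k`) is an open and closed subscheme of the
base change of a finite étale cover of `X`. -/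
theorem exists_clopen_in_baseChange (k : Type u) [Field k] {X : Scheme.{u}}
    (f : X ⟶ Spec (CommRingCat.of k)) [CompactSpace X] [QuasiSeparatedSpace X]
    (V : FEt.Cat (pullback f (Spec.map (CommRingCat.ofHom (algebraMap k (AlgebraicClosure k)))))) :
    ∃ (U : FEt.Cat X) (ι : V ⟶ (FEt.restrict (pullback.fst f
      (Spec.map (CommRingCat.ofHom (algebraMap k (AlgebraicClosure k)))))).obj U),
      IsOpenImmersion ι.left ∧ IsClosedImmersion ι.left := by
  have hVfin : IsFinite V.hom := V.prop.1
  have hVet : Etale V.hom := V.prop.2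
  let pa := pullback.fst f (Spec.map (CommRingCat.ofHom (algebraMap k (AlgebraicClosure k))))
  let q := towerMap (K₁ := SeparableClosure k) (K₂ := AlgebraicClosure k) f
  obtain ⟨Zs, zs, b, hsfin, hset, hpb1⟩ :=
    liftsFEt_towerMap (K₁ := SeparableClosure k) (K₂ := AlgebraicClosure k) f V.left V.hom hVfin hVet
  obtain ⟨L, ZL, zL, a, hLfin, hLet, hpb2⟩ :=
    exists_fet_descend_field (K := SeparableClosure k) f zs
  haveI : FiniteDimensional k L.1 := L.2
  haveI : Algebra.IsSeparable k L.1 :=
    Algebra.isSeparable_tower_bot_of_isSeparable k L.1 (SeparableClosure k)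
  obtain ⟨hLkfin, hLket⟩ := finite_etale_specMap_of_isSeparable (k := k) (L := L.1)
  let ιL := pullback.snd (Spec.map (CommRingCat.ofHom (algebraMap k L.1))) f
  have hιfin : IsFinite ιL := MorphismProperty.pullback_snd _ _ hLkfin
  have hιet : Etale ιL := MorphismProperty.pullback_snd _ _ hLket
  let U : FEt.Cat X := MorphismProperty.Over.mk ⊤ (zL ≫ ιL) ⟨inferInstance, inferInstance⟩
  have hpb := hpb1.paste_horiz hpb2
  have hc : (b ≫ a) ≫ U.hom = V.hom ≫ pa := by
    change (b ≫ a) ≫ zL ≫ ιL = V.hom ≫ pa
    rw [← Category.assoc, hpb.w, Category.assoc, Category.assoc, cD_π_snd]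
    exact congrArg (V.hom ≫ ·) (towerMap_snd f)
  let ι₀ : V.left ⟶ pullback U.hom pa := pullback.lift (b ≫ a) V.hom hc
  have hι1 : ι₀ ≫ pullback.fst U.hom pa = b ≫ a := pullback.lift_fst _ _ _
  have hι2 : ι₀ ≫ pullback.snd U.hom pa = V.hom := pullback.lift_snd _ _ _
  have hmono : Mono ι₀ := by
    constructor
    intro T u u' huu'
    apply hpb.hom_ext
    · have h1 := congrArg (· ≫ pullback.fst U.hom pa) huu'
      simp only [Category.assoc] at h1
      rw [hι1] at h1
      exact h1
    · have h1 := congrArg (· ≫ pullback.snd U.hom pa) huu'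
      simp only [Category.assoc] at h1
      rw [hι2] at h1
      exact h1
  have hUfin : IsFinite U.hom := U.prop.1
  have hUet : Etale U.hom := U.prop.2
  have hsndfin : IsFinite (pullback.snd U.hom pa) := MorphismProperty.pullback_snd _ _ hUfin
  have hsndet : Etale (pullback.snd U.hom pa) := MorphismProperty.pullback_snd _ _ hUet
  have hι₀fin : IsFinite ι₀ := by
    have : IsFinite (ι₀ ≫ pullback.snd U.hom pa) := by rw [hι2]; exact hVfin
    exact IsFinite.of_comp ι₀ (pullback.snd U.hom pa)
  have hι₀et : Etale ι₀ := by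
    have : Etale (ι₀ ≫ pullback.snd U.hom pa) := by rw [hι2]; exact hVet
    exact Etale.of_comp ι₀ (pullback.snd U.hom pa)
  refine ⟨U, MorphismProperty.Over.homMk ι₀ hι2, ?_, ?_⟩
  · change IsOpenImmersion ι₀
    exact IsOpenImmersion.of_flat_of_mono ι₀
  · change IsClosedImmersion ι₀
    exact (IsClosedImmersion.iff_isFinite_and_mono ι₀).mpr ⟨hι₀fin, hmono⟩

end Groth.Agent.Lib.Helper2.FrobFEt
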