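import Mathlib
import Groth.Prelude.Def_Pi1
import Groth.Prelude.Def_FEt
import Groth.Agent.Lib.Helper38.NormL
import Groth.Agent.Lib.Helper38.NormSch5
import Groth.Agent.Lib.Helper24.SmoothNormal

/-!
# Finite étale covers of a normal integral scheme and the generic point (S9491)

* `isIntegralClosure_of_etale_of_isLocalization`: an étale integral algebra `C` over a normal domain `R` whose
  localization at `R∖0` is a field `L` is the integral closure of `R` in `L`.
* `isPushout_sections_pullback_genericPoint`: sections of the base change of an affine morphism to the generic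
  point are the tensor product with the function field.
* `exists_app_equiv_integralClosure`, `isPushout_sections_normalization`, `isIso_lift_toNormalization`: the generic
  fibre of the normalization of `X` in `L` is `Spec L`.
* `essImage_restrict_genericPoint_iff` (= S9491).
-/

set_option linter.style.haveILetI false
set_option autoImplicit false

universe u
open CategoryTheory CategoryTheory.Limits AlgebraicGeometry TopologicalSpace Opposite
open Groth.Agent.Lib.Helper38

namespace Groth.Agent.Lib.Helper2

/-- A domain which is a normal ring (in the sense of `EGA4.IsNormalRing`) is integrally closed. -/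
theorem isIntegrallyClosed_of_isNormalRing_of_isDomain (C : Type u) [CommRing C] [IsDomain C]
    (h : EGA4.IsNormalRing C) : IsIntegrallyClosed C :=
  IsIntegrallyClosed.of_localization_maximal fun p _ _ => (h p).2

/-- Let `R` be an integrally closed domain with fraction field `K`, `L` a field extension of `K`, and `C` an
étale `R`-algebra which is integral over `R`, such that `L` is the localization of `C` at the nonzero elements
of `R`. Then `C` is the integral closure of `R` in `L`. -/
theorem isIntegralClosure_of_etale_of_isLocalization (R K L C : Type u) [CommRing R] [IsDomain R]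
    [IsIntegrallyClosed R] [Field K] [Algebra R K] [IsFractionRing R K] [Field L] [Algebra K L]
    [Algebra R L] [IsScalarTower R K L] [CommRing C] [Algebra R C] [Algebra C L] [IsScalarTower R C L]
    [Algebra.Etale R C] [Algebra.IsIntegral R C]
    [IsLocalization (Algebra.algebraMapSubmonoid C (nonZeroDivisors R)) L] :
    IsIntegralClosure C R L := by
  have hflat : Module.Flat R C := inferInstance
  have hM : Algebra.algebraMapSubmonoid C (nonZeroDivisors R) ≤ nonZeroDivisors C := by
    rintro _ ⟨r, hr, rfl⟩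
    have h1 : IsSMulRegular C r := Module.Flat.isSMulRegular_of_nonZeroDivisors hr
    rw [mem_nonZeroDivisors_iff_right]
    intro c hc
    apply h1
    show r • c = r • 0
    rw [smul_zero, Algebra.smul_def, mul_comm]
    exact hc
  have hinj : Function.Injective (algebraMap C L) :=
    IsLocalization.injective L hM
  haveI : IsDomain C := hinj.isDomain (algebraMap C L)
  haveI : FaithfulSMul C L := (faithfulSMul_iff_algebraMap_injective C L).mpr hinj
  haveI : IsFractionRing C L := by
    refine IsFractionRing.of_field C L fun z => ?_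
    obtain ⟨⟨c, m⟩, hz⟩ := IsLocalization.surj (Algebra.algebraMapSubmonoid C (nonZeroDivisors R)) z
    refine ⟨c, m.1, ?_⟩
    have hm : algebraMap C L m.1 ≠ 0 := by
      intro h0
      have := hinj (h0.trans (map_zero _).symm)
      exact nonZeroDivisors.ne_zero (hM m.2) this
    rw [eq_div_iff hm]
    exact hz
  haveI : IsIntegrallyClosed C :=
    isIntegrallyClosed_of_isNormalRing_of_isDomain C (Groth.Agent.Lib.Helper24.isNormalRing_of_etale R C)
  refine ⟨hinj, fun {x} => ⟨fun hx => ?_, ?_⟩⟩
  · have hx' : IsIntegral C x := hx.tower_top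
    exact IsIntegrallyClosed.isIntegral_iff.mp hx'
  · rintro ⟨y, rfl⟩
    exact (Algebra.IsIntegral.isIntegral (R := R) y).algebraMap

theorem fromSpecStalk_genericPoint_appLE_top {X : Scheme.{u}} [IsIntegral X] {U : X.Opens}
    (hη : genericPoint X ∈ U) :
    (X.fromSpecStalk (genericPoint X)).appLE U ⊤ (NormSch.preimage_eq_top X hη).ge =
      X.presheaf.germ U (genericPoint X) hη ≫ (Scheme.ΓSpecIso (X.presheaf.stalk (genericPoint X))).inv := by
  rw [Scheme.Hom.appLE, Scheme.fromSpecStalk_app hη]
  simp only [Category.assoc]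
  rw [← Functor.map_comp]
  have : (homOfLE le_top : (X.fromSpecStalk (genericPoint X)) ⁻¹ᵁ U ⟶ ⊤).op ≫
      (homOfLE (NormSch.preimage_eq_top X hη).ge).op = 𝟙 _ := Subsingleton.elim _ _
  rw [this]
  simp

/-- Sections of the pullback of an affine morphism to the generic point. -/
theorem isPushout_sections_pullback_genericPoint {X Y : Scheme.{u}} [IsIntegral X] (h : Y ⟶ X)
    [IsAffineHom h] {U : X.Opens} (hU : IsAffineOpen U) (hη : genericPoint X ∈ U) :
    IsPushout (h.app U) (X.presheaf.germ U (genericPoint X) hη)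
      ((pullback.fst h (X.fromSpecStalk (genericPoint X))).appLE (h ⁻¹ᵁ U) ⊤ (by
        rw [← Scheme.Hom.comp_preimage, pullback.condition, Scheme.Hom.comp_preimage,
          NormSch.preimage_eq_top X hη]
        rfl))
      ((Scheme.ΓSpecIso (X.presheaf.stalk (genericPoint X))).inv ≫
        (pullback.snd h (X.fromSpecStalk (genericPoint X))).appTop) := by
  set g := X.fromSpecStalk (genericPoint X) with hg
  have hpre : g ⁻¹ᵁ U = ⊤ := NormSch.preimage_eq_top X hη
  have H : IsPullback (pullback.fst h g) (pullback.snd h g) h g := IsPullback.of_hasPullback h g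
  have hle : (⊤ : (pullback h g).Opens) ≤ (pullback.fst h g) ⁻¹ᵁ (h ⁻¹ᵁ U) := by
    rw [← Scheme.Hom.comp_preimage, pullback.condition, Scheme.Hom.comp_preimage, hpre]
    rfl
  have hUY : (⊤ : (pullback h g).Opens) = (pullback.fst h g) ⁻¹ᵁ (h ⁻¹ᵁ U) ⊓ (pullback.snd h g) ⁻¹ᵁ ⊤ := by
    apply le_antisymm
    · exact le_inf hle le_top
    · exact le_top
  have hiso := isIso_pushoutSection_of_isAffineOpen H (US := U) (UT := ⊤) (UX := h ⁻¹ᵁ U)
    hpre.ge le_rfl hUY hU (isAffineOpen_top _) (hU.preimage h)
  have hpo := (isIso_pushoutSection_iff H hpre.ge le_rfl hUY).mp hiso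
  refine hpo.of_iso (Iso.refl _) (Iso.refl _) (Scheme.ΓSpecIso _) (Iso.refl _) ?_ ?_ ?_ ?_
  · simp [Scheme.Hom.appLE_eq_app]
  · simp only [Iso.refl_hom, Category.id_comp]
    rw [fromSpecStalk_genericPoint_appLE_top hη]
    simp
  · simp only [Iso.refl_hom, Category.comp_id, Category.id_comp]
    rfl
  · simp only [Iso.refl_hom, Category.comp_id, Iso.hom_inv_id_assoc]
    exact Scheme.Hom.appLE_eq_app _

theorem appLE_congr_hom {X Y : Scheme.{u}} {f f' : X ⟶ Y} (hf : f = f') (U : Y.Opens) (V : X.Opens)
    (e : V ≤ f ⁻¹ᵁ U) : f.appLE U V e = f'.appLE U V (hf ▸ e) := by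
  subst hf
  rfl

/-- Forward direction, local form. -/
theorem etale_algebraMap_integralClosure_of_pullback_iso {X : Scheme.{u}} [IsIntegral X]
    (hX : Pi1.IsNormalScheme X) (L : Type u) [Field L] [Algebra X.functionField L]
    {Y : Scheme.{u}} (h : Y ⟶ X) [IsFinite h] [Etale h]
    (θ : pullback h (X.fromSpecStalk (genericPoint X)) ≅ Spec (CommRingCat.of L))
    (hθ : θ.hom ≫ Spec.map (CommRingCat.ofHom (algebraMap X.functionField L)) =
      pullback.snd h (X.fromSpecStalk (genericPoint X)))
    {U : X.Opens} (hU : IsAffineOpen U) [Nonempty U] :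
    letI := ((algebraMap X.functionField L).comp (algebraMap Γ(X, U) X.functionField)).toAlgebra
    (algebraMap Γ(X, U) (integralClosure Γ(X, U) L)).Etale := by
  letI algL : Algebra Γ(X, U) L :=
    ((algebraMap X.functionField L).comp (algebraMap Γ(X, U) X.functionField)).toAlgebra
  have hη : genericPoint X ∈ U := NormSch.genericPoint_mem X ⟨_, (Classical.arbitrary U).2⟩
  haveI : IsIntegrallyClosed Γ(X, U) :=
    NormSch.isIntegrallyClosed_of_isAffineOpen' hU (fun y _ => (hX y).2)
  haveI := functionField_isFractionRing_of_isAffineOpen X U hU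
  haveI : IsScalarTower Γ(X, U) X.functionField L := IsScalarTower.of_algebraMap_eq' rfl
  have hpo := isPushout_sections_pullback_genericPoint h hU hη
  have hle : (⊤ : (pullback h (X.fromSpecStalk (genericPoint X))).Opens) ≤
      (pullback.fst h (X.fromSpecStalk (genericPoint X))) ⁻¹ᵁ (h ⁻¹ᵁ U) := by
    rw [← Scheme.Hom.comp_preimage, pullback.condition, Scheme.Hom.comp_preimage,
      NormSch.preimage_eq_top X hη]
    rfl
  let c : Γ(Y, h ⁻¹ᵁ U) ⟶ CommRingCat.of L :=
    (pullback.fst h (X.fromSpecStalk (genericPoint X))).appLE (h ⁻¹ᵁ U) ⊤ hle ≫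
      θ.inv.appTop ≫ (Scheme.ΓSpecIso (CommRingCat.of L)).hom
  have hθ' : θ.inv ≫ pullback.snd h (X.fromSpecStalk (genericPoint X)) =
      Spec.map (CommRingCat.ofHom (algebraMap X.functionField L)) := by
    rw [Iso.inv_comp_eq, hθ]
  let eΓ : Γ(pullback h (X.fromSpecStalk (genericPoint X)), ⊤) ≅ Γ(Spec (CommRingCat.of L), ⊤) :=
    ⟨θ.inv.appTop, θ.hom.appTop, by rw [← Scheme.Hom.comp_appTop, θ.hom_inv_id]; rfl,
      by rw [← Scheme.Hom.comp_appTop, θ.inv_hom_id]; rfl⟩
  have hpo' : IsPushout (h.app U) (X.presheaf.germ U (genericPoint X) hη) c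
      (CommRingCat.ofHom (algebraMap X.functionField L)) := by
    refine hpo.of_iso (Iso.refl _) (Iso.refl _) (Iso.refl _)
      (eΓ ≪≫ Scheme.ΓSpecIso _) ?_ ?_ ?_ ?_
    · simp
    · simp
    · simp only [Iso.refl_hom, Category.id_comp, Iso.trans_hom]
      rfl
    · simp only [Iso.refl_hom, Category.id_comp, Iso.trans_hom, Category.assoc]
      show _ ≫ _ ≫ θ.inv.appTop ≫ _ = _
      rw [← Scheme.Hom.comp_appTop_assoc, hθ', Scheme.ΓSpecIso_naturality]
      exact Iso.inv_hom_id_assoc (Scheme.ΓSpecIso (X.presheaf.stalk (genericPoint X))) _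
  letI algC : Algebra Γ(X, U) Γ(Y, h ⁻¹ᵁ U) := (h.app U).hom.toAlgebra
  letI algCL : Algebra Γ(Y, h ⁻¹ᵁ U) L := c.hom.toAlgebra
  haveI : IsScalarTower Γ(X, U) Γ(Y, h ⁻¹ᵁ U) L := IsScalarTower.of_algebraMap_eq' (by
    have := congrArg CommRingCat.Hom.hom hpo'.w
    exact this.symm)
  have hpush : Algebra.IsPushout Γ(X, U) Γ(Y, h ⁻¹ᵁ U) X.functionField L :=
    CommRingCat.isPushout_iff_isPushout.mp hpo'
  haveI : IsLocalization (Algebra.algebraMapSubmonoid Γ(Y, h ⁻¹ᵁ U) (nonZeroDivisors Γ(X, U))) L :=
    (Algebra.isLocalization_iff_isPushout (nonZeroDivisors Γ(X, U)) X.functionField).mpr hpush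
  have hEt : (h.app U).hom.Etale := by
    have := HasRingHomProperty.appLE (P := @Etale) h inferInstance ⟨U, hU⟩ ⟨h ⁻¹ᵁ U, hU.preimage h⟩ le_rfl
    rwa [Scheme.Hom.appLE_eq_app] at this
  haveI : Algebra.Etale Γ(X, U) Γ(Y, h ⁻¹ᵁ U) := RingHom.etale_algebraMap.mp hEt
  have hFin : (h.app U).hom.Finite := IsFinite.finite_app h U hU
  haveI : Module.Finite Γ(X, U) Γ(Y, h ⁻¹ᵁ U) := RingHom.finite_algebraMap.mp hFin
  haveI : Algebra.IsIntegral Γ(X, U) Γ(Y, h ⁻¹ᵁ U) := inferInstance
  haveI := isIntegralClosure_of_etale_of_isLocalization Γ(X, U) X.functionField L Γ(Y, h ⁻¹ᵁ U)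
  let eq : Γ(Y, h ⁻¹ᵁ U) ≃ₐ[Γ(X, U)] integralClosure Γ(X, U) L :=
    IsIntegralClosure.equiv Γ(X, U) Γ(Y, h ⁻¹ᵁ U) L (integralClosure Γ(X, U) L)
  have : Algebra.Etale Γ(X, U) (integralClosure Γ(X, U) L) := Algebra.Etale.of_equiv eq
  exact RingHom.etale_algebraMap.mpr this

/-- Globalization: if over every nonempty affine open the integral closure in `L` is étale, then the
normalization of `X` in `L` is étale and finite. -/
theorem etale_and_isFinite_fromNormalization_of_forall_etale {X : Scheme.{u}} [IsIntegral X]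
    (L : Type u) [Field L] [Algebra X.functionField L]
    [QuasiCompact (NormL.fL X L)] [QuasiSeparated (NormL.fL X L)]
    (H : ∀ (U : X.Opens) (_ : IsAffineOpen U) [Nonempty U],
      letI := ((algebraMap X.functionField L).comp (algebraMap Γ(X, U) X.functionField)).toAlgebra
      (algebraMap Γ(X, U) (integralClosure Γ(X, U) L)).Etale) :
    Etale (NormL.fL X L).fromNormalization ∧ IsFinite (NormL.fL X L).fromNormalization := by
  set π := (NormL.fL X L).fromNormalization with hπ
  have hEt : Etale π := by
    rw [HasRingHomProperty.iff_appLE (P := @Etale)]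
    intro V W e
    have hW₀ : IsAffineOpen (π ⁻¹ᵁ V.1) := V.2.preimage π
    suffices H' : (π.appLE V.1 (π ⁻¹ᵁ V.1) le_rfl).hom.Etale by
      have h2 : ((𝟙 _ : (NormL.fL X L).normalization ⟶ _).appLE (π ⁻¹ᵁ V.1) W.1 e).hom.Etale :=
        HasRingHomProperty.appLE (P := @Etale) (𝟙 _) inferInstance ⟨π ⁻¹ᵁ V.1, hW₀⟩ W e
      have h3 : π.appLE V.1 W.1 e = π.appLE V.1 (π ⁻¹ᵁ V.1) le_rfl ≫
          (𝟙 _ : (NormL.fL X L).normalization ⟶ _).appLE (π ⁻¹ᵁ V.1) W.1 e := by
        simp [Scheme.Hom.appLE]
        erw [Category.id_comp]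
        rfl
      rw [h3, CommRingCat.hom_comp]
      exact RingHom.Etale.stableUnderComposition _ _ H' h2
    rw [Scheme.Hom.appLE_eq_app]
    by_cases hne : Nonempty V.1
    · haveI := hne
      letI algL : Algebra Γ(X, V.1) L :=
        ((algebraMap X.functionField L).comp (algebraMap Γ(X, V.1) X.functionField)).toAlgebra
      obtain ⟨e', he'⟩ := NormL.exists_app_equiv X L V.2
      have hEt' : (algebraMap Γ(X, V.1) (integralClosure Γ(X, V.1) L)).Etale := H V.1 V.2
      have hcomp' : (π.app V.1).hom =
          e'.symm.toRingHom.comp (algebraMap Γ(X, V.1) (integralClosure Γ(X, V.1) L)) := by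
        apply RingHom.ext
        intro a
        rw [RingHom.comp_apply, ← he' a]
        simp
        rfl
      rw [hcomp']
      exact RingHom.Etale.respectsIso.1 _ e'.symm hEt'
    · have hV : V.1 = ⊥ := by
        ext y
        simp only [Opens.coe_bot, Set.mem_empty_iff_false, iff_false]
        intro hy
        exact hne ⟨⟨y, hy⟩⟩
      have hW : π ⁻¹ᵁ V.1 = ⊥ := by
        rw [hV]
        rfl
      haveI : Subsingleton Γ(X, V.1) := hV ▸ (inferInstance : Subsingleton Γ(X, ⊥))
      haveI : Subsingleton Γ((NormL.fL X L).normalization, π ⁻¹ᵁ V.1) :=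
        hW ▸ (inferInstance : Subsingleton Γ((NormL.fL X L).normalization, ⊥))
      apply RingHom.Etale.of_bijective
      exact ⟨fun a b _ => Subsingleton.elim a b, fun b => ⟨0, Subsingleton.elim _ _⟩⟩
  refine ⟨hEt, ?_⟩
  haveI := hEt
  exact (IsFinite.iff_isIntegralHom_and_locallyOfFiniteType _).mpr ⟨inferInstance, inferInstance⟩

section

variable (X : Scheme.{u}) [IsIntegral X] (L : Type u) [Field L] [Algebra X.functionField L]
  [QuasiCompact (NormL.fL X L)] [QuasiSeparated (NormL.fL X L)]

theorem toNormalization_preimage_le {U : X.Opens} (hη : genericPoint X ∈ U) :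
    (⊤ : (Spec (CommRingCat.of L)).Opens) ≤
      (NormL.fL X L).toNormalization ⁻¹ᵁ ((NormL.fL X L).fromNormalization ⁻¹ᵁ U) := by
  rw [← Scheme.Hom.comp_preimage, Scheme.Hom.toNormalization_fromNormalization,
    NormL.preimage_eq_top X L hη]

/-- Sections of the normalization over the preimage of an affine open: the integral closure, compatibly with
the structure map from `Γ(X, U)` and with the map to `L`. -/
theorem exists_app_equiv_integralClosure {U : X.Opens} (hU : IsAffineOpen U) [Nonempty U]
    (hη : genericPoint X ∈ U) :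
    letI := ((algebraMap X.functionField L).comp (algebraMap Γ(X, U) X.functionField)).toAlgebra
    ∃ e : Γ((NormL.fL X L).normalization, (NormL.fL X L).fromNormalization ⁻¹ᵁ U) ≃+*
        integralClosure Γ(X, U) L,
      (∀ a : Γ(X, U), e (((NormL.fL X L).fromNormalization.app U).hom a) =
        algebraMap Γ(X, U) (integralClosure Γ(X, U) L) a) ∧
      (∀ y, ((e y : integralClosure Γ(X, U) L) : L) =
        ((NormL.fL X L).toNormalization.appLE ((NormL.fL X L).fromNormalization ⁻¹ᵁ U) ⊤
          (toNormalization_preimage_le X L hη) ≫ (Scheme.ΓSpecIso (CommRingCat.of L)).hom).hom y) := by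
  letI algL : Algebra Γ(X, U) L :=
    ((algebraMap X.functionField L).comp (algebraMap Γ(X, U) X.functionField)).toAlgebra
  letI := ((NormL.fL X L).app U).hom.toAlgebra
  let e0 : Γ(Spec (CommRingCat.of L), (NormL.fL X L) ⁻¹ᵁ U) ≃+* L :=
    (asIso (NormL.rho X L hη)).commRingCatIsoToRingEquiv
  have he0 : ∀ a : Γ(X, U), e0 (algebraMap Γ(X, U) _ a) = algebraMap Γ(X, U) L a := by
    intro a
    have := congr($(NormL.app_rho X L hη) a)
    exact this
  let e1 : Γ(Spec (CommRingCat.of L), (NormL.fL X L) ⁻¹ᵁ U) ≃ₐ[Γ(X, U)] L := AlgEquiv.ofRingEquiv he0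
  let i := (NormL.fL X L).normalizationObjIso hU
  have h3 : ((NormL.fL X L).fromNormalization.app U).hom =
      (i.symm.commRingCatIsoToRingEquiv.toRingHom).comp (algebraMap Γ(X, U) _) :=
    congrArg CommRingCat.Hom.hom ((NormL.fL X L).fromNormalization_app hU)
  refine ⟨i.commRingCatIsoToRingEquiv.trans e1.mapIntegralClosure.toRingEquiv, ?_, ?_⟩
  · intro a
    rw [h3]
    simp only [RingHom.comp_apply, RingEquiv.trans_apply]
    have h4 : i.commRingCatIsoToRingEquiv ((i.symm.commRingCatIsoToRingEquiv.toRingHom)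
        (algebraMap Γ(X, U) _ a)) = algebraMap Γ(X, U) _ a := by
      show i.hom.hom (i.inv.hom _) = _
      rw [← CommRingCat.comp_apply, Iso.inv_hom_id]
      rfl
    rw [h4]
    exact e1.mapIntegralClosure.commutes a
  · intro y
    have hval := (NormL.fL X L).normalizationObjIso_hom_val hU
    have h5 : (NormL.fL X L).toNormalization.appLE ((NormL.fL X L).fromNormalization ⁻¹ᵁ U) ⊤
        (toNormalization_preimage_le X L hη) ≫ (Scheme.ΓSpecIso (CommRingCat.of L)).hom =
        (NormL.fL X L).toNormalization.appLE ((NormL.fL X L).fromNormalization ⁻¹ᵁ U)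
          ((NormL.fL X L) ⁻¹ᵁ U) (by
            rw [← Scheme.Hom.comp_preimage, Scheme.Hom.toNormalization_fromNormalization]) ≫
          NormL.rho X L hη := by
      unfold NormL.rho
      rw [Scheme.Hom.appLE_map_assoc]
    rw [h5, ← hval]
    rfl

/-- The second pushout square: `L` is the localization of the sections of the normalization. -/
theorem isPushout_sections_normalization [Algebra.IsAlgebraic X.functionField L]
    {U : X.Opens} (hU : IsAffineOpen U) (hη : genericPoint X ∈ U) :
    IsPushout ((NormL.fL X L).fromNormalization.app U) (X.presheaf.germ U (genericPoint X) hη)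
      ((NormL.fL X L).toNormalization.appLE ((NormL.fL X L).fromNormalization ⁻¹ᵁ U) ⊤
          (toNormalization_preimage_le X L hη) ≫ (Scheme.ΓSpecIso (CommRingCat.of L)).hom)
      (CommRingCat.ofHom (algebraMap X.functionField L)) := by
  haveI : Nonempty U := ⟨⟨_, hη⟩⟩
  letI algL : Algebra Γ(X, U) L :=
    ((algebraMap X.functionField L).comp (algebraMap Γ(X, U) X.functionField)).toAlgebra
  haveI := functionField_isFractionRing_of_isAffineOpen X U hU
  haveI : IsScalarTower Γ(X, U) X.functionField L := IsScalarTower.of_algebraMap_eq' rfl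
  set S := Γ((NormL.fL X L).normalization, (NormL.fL X L).fromNormalization ⁻¹ᵁ U) with hS
  set γ := ((NormL.fL X L).toNormalization.appLE ((NormL.fL X L).fromNormalization ⁻¹ᵁ U) ⊤
          (toNormalization_preimage_le X L hη) ≫ (Scheme.ΓSpecIso (CommRingCat.of L)).hom) with hγ
  obtain ⟨e, he1, he2⟩ := exists_app_equiv_integralClosure X L hU hη
  letI algS : Algebra Γ(X, U) S := ((NormL.fL X L).fromNormalization.app U).hom.toAlgebra
  letI algSL : Algebra S L := γ.hom.toAlgebra
  have hγe : ∀ y : S, algebraMap S L y = ((e y : integralClosure Γ(X, U) L) : L) := fun y => (he2 y).symm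
  haveI : IsScalarTower Γ(X, U) S L := IsScalarTower.of_algebraMap_eq (fun a => by
    rw [hγe]
    show _ = ((e (((NormL.fL X L).fromNormalization.app U).hom a) : integralClosure Γ(X, U) L) : L)
    rw [he1]
    rfl)
  haveI : IsIntegralClosure S Γ(X, U) L := by
    refine ⟨?_, fun {x} => ⟨fun hx => ?_, ?_⟩⟩
    · intro y y' hyy'
      rw [hγe, hγe] at hyy'
      exact e.injective (Subtype.ext hyy')
    · refine ⟨e.symm ⟨x, hx⟩, ?_⟩
      rw [hγe]
      simp
    · rintro ⟨y, rfl⟩
      rw [hγe]
      exact (e y).2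
  haveI : IsLocalization (Submonoid.map ((NormL.fL X L).fromNormalization.app U).hom
      (nonZeroDivisors Γ(X, U))) L :=
    IsIntegralClosure.isLocalization Γ(X, U) X.functionField L S
  have := CommRingCat.isPushout_of_isLocalization (R := Γ(X, U)) (S := S) (Rₘ := X.functionField) (Sₘ := L)
    ((NormL.fL X L).fromNormalization.app U).hom (algebraMap X.functionField L)
    (by
      ext a
      exact (IsScalarTower.algebraMap_apply Γ(X, U) S L a).symm.trans rfl |>.symm ▸ rfl)
    (nonZeroDivisors Γ(X, U))
  exact this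

/-- The generic fibre of the normalization of `X` in `L` is `Spec L`. -/
theorem isIso_lift_toNormalization [Algebra.IsAlgebraic X.functionField L] :
    IsIso (pullback.lift (NormL.fL X L).toNormalization
      (Spec.map (CommRingCat.ofHom (algebraMap X.functionField L)))
      (NormL.fL X L).toNormalization_fromNormalization :
      Spec (CommRingCat.of L) ⟶
        pullback (NormL.fL X L).fromNormalization (X.fromSpecStalk (genericPoint X))) := by
  obtain ⟨U, hU, hηU, -⟩ := exists_isAffineOpen_mem_and_subset (x := genericPoint X) (U := ⊤) trivial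
  set j := (pullback.lift (NormL.fL X L).toNormalization
      (Spec.map (CommRingCat.ofHom (algebraMap X.functionField L)))
      (NormL.fL X L).toNormalization_fromNormalization :
      Spec (CommRingCat.of L) ⟶
        pullback (NormL.fL X L).fromNormalization (X.fromSpecStalk (genericPoint X))) with hj
  have H1 := isPushout_sections_pullback_genericPoint (NormL.fL X L).fromNormalization hU hηU
  have H2 := isPushout_sections_normalization X L hU hηU
  have hj1 : j ≫ pullback.fst _ _ = (NormL.fL X L).toNormalization := pullback.lift_fst _ _ _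
  have hj2 : j ≫ pullback.snd _ _ = Spec.map (CommRingCat.ofHom (algebraMap X.functionField L)) :=
    pullback.lift_snd _ _ _
  have key : j.appTop ≫ (Scheme.ΓSpecIso (CommRingCat.of L)).hom = (H1.isoIsPushout _ _ H2).hom := by
    apply H1.hom_ext
    · rw [IsPushout.inl_isoIsPushout_hom, ← Category.assoc]
      congr 1
      have : j.appTop = j.appLE ⊤ ⊤ le_top := (Scheme.Hom.appLE_eq_app _).symm
      rw [this, Scheme.Hom.appLE_comp_appLE]
      exact appLE_congr_hom hj1 _ _ _
    · rw [IsPushout.inr_isoIsPushout_hom]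
      simp only [Category.assoc]
      rw [← Scheme.Hom.comp_appTop_assoc, hj2, Scheme.ΓSpecIso_naturality]
      exact Iso.inv_hom_id_assoc (Scheme.ΓSpecIso (X.presheaf.stalk (genericPoint X))) _
  have hiso : IsIso j.appTop := by
    have h2 : j.appTop = (H1.isoIsPushout _ _ H2).hom ≫ (Scheme.ΓSpecIso (CommRingCat.of L)).inv := by
      rw [← key]
      simp
    rw [h2]
    infer_instance
  exact (HasAffineProperty.iff_of_isAffine (P := MorphismProperty.isomorphisms Scheme)).mpr
    ⟨inferInstance, hiso⟩

end

/-- `S9491`. -/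
theorem essImage_restrict_genericPoint_iff {X : Scheme.{u}} [IsIntegral X] (hX : Pi1.IsNormalScheme X)
    (L : Type u) [Field L] [Algebra X.functionField L] [FiniteDimensional X.functionField L]
    [QuasiCompact (NormL.fL X L)] [QuasiSeparated (NormL.fL X L)]
    (Y₀ : FEt.Cat (Spec X.functionField)) (e : Y₀.left ≅ Spec (CommRingCat.of L))
    (he : e.hom ≫ Spec.map (CommRingCat.ofHom (algebraMap X.functionField L)) = Y₀.hom) :
    (FEt.restrict (X.fromSpecStalk (genericPoint X))).essImage Y₀ ↔
      (Etale (NormL.fL X L).fromNormalization ∧ IsFinite (NormL.fL X L).fromNormalization) := by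
  constructor
  · rintro ⟨Y, ⟨φ⟩⟩
    haveI : IsFinite Y.hom := Y.prop.1
    haveI : Etale Y.hom := Y.prop.2
    let θ₀ : pullback Y.hom (X.fromSpecStalk (genericPoint X)) ≅ Y₀.left :=
      (MorphismProperty.Over.forget FEt.prop ⊤ _ ⋙ Over.forget _).mapIso φ
    let θ : pullback Y.hom (X.fromSpecStalk (genericPoint X)) ≅ Spec (CommRingCat.of L) := θ₀ ≪≫ e
    have hθ : θ.hom ≫ Spec.map (CommRingCat.ofHom (algebraMap X.functionField L)) =
        pullback.snd Y.hom (X.fromSpecStalk (genericPoint X)) := by
      show (φ.hom.left ≫ e.hom) ≫ _ = _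
      rw [Category.assoc, he]
      exact Over.w φ.hom.hom
    apply etale_and_isFinite_fromNormalization_of_forall_etale
    intro U hU _
    exact etale_algebraMap_integralClosure_of_pullback_iso hX L Y.hom θ hθ hU
  · rintro ⟨hEt, hFin⟩
    let N : FEt.Cat X := MorphismProperty.Over.mk ⊤ (NormL.fL X L).fromNormalization ⟨hFin, hEt⟩
    haveI := isIso_lift_toNormalization X L
    let β := asIso (pullback.lift (NormL.fL X L).toNormalization
      (Spec.map (CommRingCat.ofHom (algebraMap X.functionField L)))
      (NormL.fL X L).toNormalization_fromNormalization :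
      Spec (CommRingCat.of L) ⟶
        pullback (NormL.fL X L).fromNormalization (X.fromSpecStalk (genericPoint X)))
    have hβ : β.hom ≫ pullback.snd _ _ = Spec.map (CommRingCat.ofHom (algebraMap X.functionField L)) :=
      pullback.lift_snd _ _ _
    refine ⟨N, ⟨MorphismProperty.Over.isoMk (β.symm ≪≫ e.symm) ?_⟩⟩
    show (β.inv ≫ e.inv) ≫ Y₀.hom = pullback.snd _ _
    rw [Category.assoc, ← he, Iso.inv_hom_id_assoc, Iso.inv_comp_eq, hβ]

end Groth.Agent.Lib.Helper2
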