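import Mathlib
import Groth.Prelude.Def_FEt
import Groth.Agent.Lib.Helper2.FEtClopenFull

/-!
# Proper flat morphisms with connected geometric fibres: restriction of finite étale covers is fully faithful

* `exists_geometric_point`, `isPreconnected_fiber_of_point`, `exists_isClopen_preimage_eq_of_fibers`.
* `full_faithful_restrict_of_geomConnected_fibres` (= S0264).
-/

set_option linter.style.haveILetI false

universe u
open CategoryTheory CategoryTheory.Limits AlgebraicGeometry TopologicalSpace Opposite Pi1

namespace Groth.Agent.Lib.Helper2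

/-- Through every point of a scheme there is a geometric point (same universe). -/
theorem exists_geometric_point (T : Scheme.{u}) (t : T) :
    ∃ (Ω : Type u) (_ : Field Ω) (_ : IsAlgClosed Ω) (τ : Spec (CommRingCat.of Ω) ⟶ T), Set.range τ = {t} := by
  refine ⟨AlgebraicClosure (T.residueField t), inferInstance, inferInstance,
    Spec.map (CommRingCat.ofHom (algebraMap (T.residueField t) (AlgebraicClosure (T.residueField t)))) ≫
      T.fromSpecResidueField t, ?_⟩
  ext y
  constructor
  · rintro ⟨x, rfl⟩
    rw [Scheme.Hom.comp_apply]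
    exact Scheme.fromSpecResidueField_apply _ _
  · intro hy
    rw [Set.mem_singleton_iff] at hy
    subst hy
    refine ⟨⟨⊥, Ideal.isPrime_bot⟩, ?_⟩
    rw [Scheme.Hom.comp_apply]
    exact Scheme.fromSpecResidueField_apply _ _

/-- If the base change of `f` along `τ ≫ q` is connected, where `τ` has image the point `t`, then the fibre of
`T ×_S X ⟶ T` at `t` is preconnected. -/
theorem isPreconnected_fiber_of_point {X S T P : Scheme.{u}} (f : X ⟶ S) (q : T ⟶ S) (τ : P ⟶ T) (t : T)
    (hrange : Set.range τ = {t}) [ConnectedSpace ↥(pullback f (τ ≫ q))] :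
    _root_.IsPreconnected ((pullback.fst q f) ⁻¹' {t}) := by
  let h : pullback f (τ ≫ q) ⟶ pullback q f :=
    pullback.lift (pullback.snd f (τ ≫ q) ≫ τ) (pullback.fst f (τ ≫ q)) (by
      rw [Category.assoc]
      exact pullback.condition.symm)
  have hpb : IsPullback h (pullback.snd f (τ ≫ q)) (pullback.fst q f) τ := by
    refine IsPullback.of_right ?_ (pullback.lift_fst _ _ _) (IsPullback.of_hasPullback q f).flip
    have h1 : h ≫ pullback.snd q f = pullback.fst f (τ ≫ q) := pullback.lift_snd _ _ _
    rw [h1]
    exact IsPullback.of_hasPullback f (τ ≫ q)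
  have hr : Set.range h = (pullback.fst q f) ⁻¹' {t} := by
    have := Scheme.image_preimage_eq_of_isPullback hpb.flip Set.univ
    rw [Set.preimage_univ, Set.image_univ, Set.image_univ] at this
    rw [← hrange]
    exact this
  rw [← hr]
  exact isPreconnected_range h.continuous

/-- Clopen subsets descend along closed and open maps with preconnected fibres. -/
theorem exists_isClopen_preimage_eq_of_fibers {P T : Type*} [TopologicalSpace P] [TopologicalSpace T]
    (g : P → T) (hcl : IsClosedMap g) (hop : IsOpenMap g)
    (hfib : ∀ t : T, _root_.IsPreconnected (g ⁻¹' {t})) (C' : Set P) (hC' : IsClopen C') :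
    ∃ C : Set T, IsClopen C ∧ g ⁻¹' C = C' := by
  refine ⟨g '' C', ⟨hcl _ hC'.1, hop _ hC'.2⟩, ?_⟩
  apply Set.Subset.antisymm
  · rintro x ⟨c, hc, hcx⟩
    have hsub := (hfib (g c)).subset_isClopen hC' ⟨c, rfl, hc⟩
    exact hsub hcx.symm
  · exact Set.subset_preimage_image _ _

theorem full_faithful_restrict_of_geomConnected_fibres {X S : Scheme.{u}} (f : X ⟶ S) [IsProper f] [Flat f]
    [LocallyOfFinitePresentation f]
    (hfib : ∀ (Ω : Type u) [Field Ω] [IsAlgClosed Ω] (s : Spec (CommRingCat.of Ω) ⟶ S),
      ConnectedSpace ↥(pullback f s)) :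
    (FEt.restrict f).Full ∧ (FEt.restrict f).Faithful := by
  have hsurj : Surjective f := by
    constructor
    intro s
    obtain ⟨Ω, _, _, σ, hσ⟩ := exists_geometric_point S s
    haveI := hfib Ω σ
    obtain ⟨z⟩ : Nonempty ↥(pullback f σ) := inferInstance
    refine ⟨pullback.fst f σ z, ?_⟩
    rw [← Scheme.Hom.comp_apply, pullback.condition, Scheme.Hom.comp_apply]
    have : σ (pullback.snd f σ z) ∈ Set.range σ := ⟨_, rfl⟩
    rw [hσ] at this
    exact this
  apply full_faithful_restrict_of_clopen f
  · intro Y C hC hrange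
    have : Surjective (pullback.fst Y.hom f) := MorphismProperty.pullback_fst _ _ hsurj
    rw [Set.range_eq_univ.mpr (pullback.fst Y.hom f).surjective] at hrange
    exact Set.univ_subset_iff.mp hrange
  · intro T C' hC'
    have h1 : IsProper (pullback.fst T.hom f) := MorphismProperty.pullback_fst _ _ ‹IsProper f›
    have h2 : UniversallyOpen (pullback.fst T.hom f) :=
      MorphismProperty.pullback_fst _ _ (inferInstance : UniversallyOpen f)
    refine exists_isClopen_preimage_eq_of_fibers _ (pullback.fst T.hom f).isClosedMap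
      (pullback.fst T.hom f).isOpenMap ?_ C' hC'
    intro t
    obtain ⟨Ω, _, _, τ, hτ⟩ := exists_geometric_point T.left t
    haveI := hfib Ω (τ ≫ T.hom)
    exact isPreconnected_fiber_of_point f T.hom τ t hτ

end Groth.Agent.Lib.Helper2
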