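import Mathlib
import Groth.Prelude.Def_FEt
import Groth.Agent.Lib.Helper2.FEtClopenFull

/-!
# Finite étale covers of a field and geometrically connected schemes

* `exists_geometric_point_of_isFinite`: through every point of a finite `k`-scheme there is a `k̄`-point.
* `discreteTopology_of_isFinite_field`: a finite `k`-scheme is discrete.
* `isPreconnected_fiber_of_field`: if `X_{k̄}` is connected then the fibres of `T ×_k X ⟶ T` are preconnected
  (`T` finite over `k`).
* `full_faithful_restrict_of_geomConnected` (= S0268).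
-/

set_option linter.style.haveILetI false

universe u
open CategoryTheory CategoryTheory.Limits AlgebraicGeometry TopologicalSpace Opposite Pi1

namespace Groth.Agent.Lib.Helper2

/-- A finite `k`-scheme has, through every point, a geometric point with values in the algebraic closure. -/
theorem exists_geometric_point_of_isFinite (k : Type u) [Field k] {T : Scheme.{u}}
    (q : T ⟶ Spec (CommRingCat.of k)) [IsFinite q] (t : T) :
    ∃ τ : Spec (CommRingCat.of (AlgebraicClosure k)) ⟶ T,
      τ ≫ q = Spec.map (CommRingCat.ofHom (algebraMap k (AlgebraicClosure k))) ∧ Set.range τ = {t} := by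
  haveI : IsAffine T := isAffine_of_isAffineHom q
  let φ₀ : CommRingCat.of k ⟶ Γ(T, ⊤) := (Scheme.ΓSpecIso (CommRingCat.of k)).inv ≫ q.appTop
  have hq : q = T.isoSpec.hom ≫ Spec.map φ₀ := by
    have h1 := Scheme.toSpecΓ_naturality q
    have h2 : (Spec (CommRingCat.of k)).toSpecΓ ≫ Spec.map (Scheme.ΓSpecIso (CommRingCat.of k)).inv = 𝟙 _ :=
      toSpecΓ_SpecMap_ΓSpecIso_inv _
    calc q = q ≫ (Spec (CommRingCat.of k)).toSpecΓ ≫ Spec.map (Scheme.ΓSpecIso (CommRingCat.of k)).inv := by
            rw [h2, Category.comp_id]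
      _ = T.isoSpec.hom ≫ Spec.map φ₀ := by
            rw [← Category.assoc, h1, Category.assoc, ← Spec.map_comp]
            rfl
  have hfin : φ₀.hom.Finite := by
    have h1 : q.appTop.hom.Finite := Scheme.Hom.finite_appTop q
    have h2 : (Scheme.ΓSpecIso (CommRingCat.of k)).inv.hom.Finite :=
      RingHom.Finite.of_surjective _
        (ConcreteCategory.bijective_of_isIso (Scheme.ΓSpecIso (CommRingCat.of k)).inv).2
    exact h1.comp h2
  letI : Algebra k Γ(T, ⊤) := φ₀.hom.toAlgebra
  haveI : Module.Finite k Γ(T, ⊤) := hfin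
  let p : PrimeSpectrum Γ(T, ⊤) := T.isoSpec.hom t
  haveI : IsArtinianRing Γ(T, ⊤) := IsArtinianRing.of_finite k _
  haveI : p.asIdeal.IsMaximal := IsArtinianRing.isMaximal_of_isPrime p.asIdeal
  letI : Field (Γ(T, ⊤) ⧸ p.asIdeal) := Ideal.Quotient.field p.asIdeal
  haveI : Algebra.IsAlgebraic k (Γ(T, ⊤) ⧸ p.asIdeal) := inferInstance
  let ψ : (Γ(T, ⊤) ⧸ p.asIdeal) →ₐ[k] AlgebraicClosure k := IsAlgClosed.lift
  let φ : Γ(T, ⊤) →ₐ[k] AlgebraicClosure k := ψ.comp (Ideal.Quotient.mkₐ k p.asIdeal)
  have hker : RingHom.ker φ.toRingHom = p.asIdeal := by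
    ext x
    rw [RingHom.mem_ker]
    change ψ (Ideal.Quotient.mk p.asIdeal x) = 0 ↔ _
    rw [map_eq_zero_iff ψ ψ.toRingHom.injective, Ideal.Quotient.eq_zero_iff_mem]
  have hpt : ∀ x : Spec (CommRingCat.of (AlgebraicClosure k)),
      (Spec.map (CommRingCat.ofHom φ.toRingHom) ≫ T.isoSpec.inv) x = t := by
    intro x
    have hx : x.asIdeal = ⊥ := by
      have : x.asIdeal.IsPrime := x.2
      exact Ideal.eq_bot_of_prime x.asIdeal
    have h1 : (Spec.map (CommRingCat.ofHom φ.toRingHom)) x = T.isoSpec.hom t := by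
      apply PrimeSpectrum.ext
      change Ideal.comap φ.toRingHom x.asIdeal = p.asIdeal
      rw [hx, ← hker]
      rfl
    rw [Scheme.Hom.comp_apply, h1, ← Scheme.Hom.comp_apply, Iso.hom_inv_id]
    rfl
  refine ⟨Spec.map (CommRingCat.ofHom φ.toRingHom) ≫ T.isoSpec.inv, ?_, ?_⟩
  · rw [hq, Category.assoc, Iso.inv_hom_id_assoc, ← Spec.map_comp]
    congr 1
    ext a
    exact φ.commutes a
  · ext y
    constructor
    · rintro ⟨x, rfl⟩
      exact hpt x
    · intro hy
      rw [Set.mem_singleton_iff] at hy
      subst hy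
      exact ⟨⟨⊥, Ideal.isPrime_bot⟩, hpt _⟩

/-- A finite `k`-scheme is discrete. -/
theorem discreteTopology_of_isFinite_field (k : Type u) [Field k] {T : Scheme.{u}}
    (q : T ⟶ Spec (CommRingCat.of k)) [IsFinite q] : DiscreteTopology T := by
  haveI : IsAffine T := isAffine_of_isAffineHom q
  let φ₀ : CommRingCat.of k ⟶ Γ(T, ⊤) := (Scheme.ΓSpecIso (CommRingCat.of k)).inv ≫ q.appTop
  have hfin : φ₀.hom.Finite := by
    have h1 : q.appTop.hom.Finite := Scheme.Hom.finite_appTop q
    have h2 : (Scheme.ΓSpecIso (CommRingCat.of k)).inv.hom.Finite :=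
      RingHom.Finite.of_surjective _
        (ConcreteCategory.bijective_of_isIso (Scheme.ΓSpecIso (CommRingCat.of k)).inv).2
    exact h1.comp h2
  letI : Algebra k Γ(T, ⊤) := φ₀.hom.toAlgebra
  haveI : Module.Finite k Γ(T, ⊤) := hfin
  haveI : IsArtinianRing Γ(T, ⊤) := IsArtinianRing.of_finite k _
  haveI : DiscreteTopology (Spec Γ(T, ⊤)) := inferInstanceAs (DiscreteTopology (PrimeSpectrum _))
  exact (Scheme.homeoOfIso T.isoSpec).symm.discreteTopology

/-- If `X_{k̄}` is connected, the fibres of `T ×_k X ⟶ T` are preconnected for every finite `k`-scheme `T`. -/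
theorem isPreconnected_fiber_of_field (k : Type u) [Field k] {X T : Scheme.{u}}
    (f : X ⟶ Spec (CommRingCat.of k)) (q : T ⟶ Spec (CommRingCat.of k)) [IsFinite q]
    [ConnectedSpace ↥(pullback f (Spec.map (CommRingCat.ofHom (algebraMap k (AlgebraicClosure k)))))]
    (t : T) : _root_.IsPreconnected ((pullback.fst q f) ⁻¹' {t}) := by
  obtain ⟨τ, hτ, hrange⟩ := exists_geometric_point_of_isFinite k q t
  let g := Spec.map (CommRingCat.ofHom (algebraMap k (AlgebraicClosure k)))
  let h : pullback f g ⟶ pullback q f :=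
    pullback.lift (pullback.snd f g ≫ τ) (pullback.fst f g) (by
      rw [Category.assoc, hτ]
      exact pullback.condition.symm)
  have hpb : IsPullback h (pullback.snd f g) (pullback.fst q f) τ := by
    refine IsPullback.of_right ?_ (pullback.lift_fst _ _ _) (IsPullback.of_hasPullback q f).flip
    have h1 : h ≫ pullback.snd q f = pullback.fst f g := pullback.lift_snd _ _ _
    rw [h1, hτ]
    exact IsPullback.of_hasPullback f g
  have hr : Set.range h = (pullback.fst q f) ⁻¹' {t} := by
    have := Scheme.image_preimage_eq_of_isPullback hpb.flip Set.univ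
    rw [Set.preimage_univ, Set.image_univ, Set.image_univ] at this
    rw [← hrange]
    exact this
  rw [← hr]
  exact isPreconnected_range h.continuous

theorem full_faithful_restrict_of_geomConnected (k : Type u) [Field k] {X : Scheme.{u}}
    (f : X ⟶ Spec (CommRingCat.of k))
    [ConnectedSpace ↥(pullback f (Spec.map (CommRingCat.ofHom (algebraMap k (AlgebraicClosure k)))))] :
    (FEt.restrict f).Full ∧ (FEt.restrict f).Faithful := by
  have hsurj : Surjective f := by
    constructor
    intro s
    obtain ⟨z⟩ : Nonempty ↥(pullback f (Spec.map (CommRingCat.ofHom (algebraMap k (AlgebraicClosure k))))) :=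
      inferInstance
    refine ⟨pullback.fst f _ z, ?_⟩
    have : Subsingleton (PrimeSpectrum k) := inferInstance
    exact Subsingleton.elim (α := PrimeSpectrum k) _ _
  apply full_faithful_restrict_of_clopen f
  · intro Y C hC hrange
    have : Surjective (pullback.fst Y.hom f) := MorphismProperty.pullback_fst _ _ hsurj
    rw [Set.range_eq_univ.mpr (pullback.fst Y.hom f).surjective] at hrange
    exact Set.univ_subset_iff.mp hrange
  · intro T C' hC'
    have hTfin : IsFinite T.hom := T.prop.1
    haveI : DiscreteTopology T.left := discreteTopology_of_isFinite_field k T.hom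
    refine ⟨pullback.fst T.hom f '' C', isClopen_discrete _, ?_⟩
    apply Set.Subset.antisymm
    · rintro x ⟨c, hc, hcx⟩
      have hF := isPreconnected_fiber_of_field k f T.hom (pullback.fst T.hom f c)
      have hsub := hF.subset_isClopen hC' ⟨c, rfl, hc⟩
      exact hsub hcx.symm
    · exact Set.subset_preimage_image _ _

end Groth.Agent.Lib.Helper2
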