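import Mathlib
import Groth.Prelude.Def_FEt

/-!
# Connectedness of pullbacks along flat geometrically irreducible morphisms (S18402)

* `connectedSpace_of_generalizingMap_of_fibers`: pure topology.
* `connectedSpace_pullback_of_geometricallyIrreducible` (= S18402).
-/

set_option linter.style.haveILetI false

universe u
open CategoryTheory CategoryTheory.Limits AlgebraicGeometry TopologicalSpace Opposite

namespace Groth.Agent.Lib.Helper2

/-- A surjective generalizing map with preconnected fibres onto a connected space which is a finite union of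
closures of points has connected source. -/
theorem connectedSpace_of_generalizingMap_of_fibers {P Z : Type*} [TopologicalSpace P] [TopologicalSpace Z]
    [ConnectedSpace Z] (g : P → Z) (hsurj : Function.Surjective g) (hgen : GeneralizingMap g)
    (hfib : ∀ z, _root_.IsPreconnected (g ⁻¹' {z})) (F : Set Z) (hF : F.Finite)
    (hcover : ∀ z, ∃ y ∈ F, y ⤳ z) : ConnectedSpace P := by
  haveI : Nonempty P := by
    obtain ⟨z⟩ : Nonempty Z := inferInstance
    obtain ⟨p, -⟩ := hsurj z
    exact ⟨p⟩
  have hclosed : ∀ A : Set Z, (∀ z z', z' ⤳ z → z ∈ A → z' ∈ A) → (∀ z z', z ⤳ z' → z ∈ A → z' ∈ A) →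
      IsClosed A := by
    intro A hgenA hspecA
    have : A = ⋃ y ∈ F ∩ A, closure {y} := by
      ext z
      simp only [Set.mem_iUnion, exists_prop]
      constructor
      · intro hz
        obtain ⟨y, hyF, hyz⟩ := hcover z
        exact ⟨y, ⟨hyF, hgenA z y hyz hz⟩, specializes_iff_mem_closure.mp hyz⟩
      · rintro ⟨y, ⟨-, hyA⟩, hz⟩
        exact hspecA y z (specializes_iff_mem_closure.mpr hz) hyA
    rw [this]
    exact (hF.subset Set.inter_subset_left).isClosed_biUnion fun _ _ => isClosed_closure
  have himage : ∀ C' : Set P, IsOpen C' → ∀ z z', z' ⤳ z → z ∈ g '' C' → z' ∈ g '' C' := by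
    rintro C' hC' _ z' hz ⟨p, hp, rfl⟩
    obtain ⟨p', hp', rfl⟩ := hgen hz
    exact ⟨p', hp'.mem_open hC' hp, rfl⟩
  suffices h : PreconnectedSpace P from { toPreconnectedSpace := h, toNonempty := ‹Nonempty P› }
  · rw [preconnectedSpace_iff_clopen]
    intro C' hC'
    have hdisj : Disjoint (g '' C') (g '' C'ᶜ) := by
      rw [Set.disjoint_left]
      rintro _ ⟨p, hp, rfl⟩ ⟨p', hp', hpp'⟩
      have := (hfib (g p)).subset_isClopen hC' ⟨p, rfl, hp⟩
      exact hp' (this hpp')
    have hunion : g '' C' ∪ g '' C'ᶜ = Set.univ := by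
      rw [← Set.image_union, Set.union_compl_self, Set.image_univ, Set.range_eq_univ.mpr hsurj]
    have hcompl : (g '' C')ᶜ = g '' C'ᶜ := by
      ext z
      constructor
      · intro hz
        have : z ∈ g '' C' ∪ g '' C'ᶜ := hunion ▸ Set.mem_univ z
        exact this.resolve_left hz
      · intro hz hz'
        exact Set.disjoint_left.mp hdisj hz' hz
    have hA := himage C' hC'.2
    have hB := himage C'ᶜ hC'.compl.2
    have hAspec : ∀ z z', z ⤳ z' → z ∈ g '' C' → z' ∈ g '' C' := by
      intro z z' hzz' hz
      by_contra hz'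
      have h1 : z' ∈ g '' C'ᶜ := hcompl ▸ hz'
      have h2 : z ∈ g '' C'ᶜ := hB z' z hzz' h1
      exact Set.disjoint_left.mp hdisj hz h2
    have hBspec : ∀ z z', z ⤳ z' → z ∈ g '' C'ᶜ → z' ∈ g '' C'ᶜ := by
      intro z z' hzz' hz
      by_contra hz'
      have h1 : z' ∈ g '' C' := by
        rw [← hcompl] at hz'
        exact not_not.mp hz'
      have h2 : z ∈ g '' C' := hA z' z hzz' h1
      exact Set.disjoint_left.mp hdisj h2 hz
    have hAclopen : IsClopen (g '' C') := by
      refine ⟨hclosed _ hA hAspec, ?_⟩
      rw [← isClosed_compl_iff, hcompl]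
      exact hclosed _ hB hBspec
    rcases isClopen_iff.mp hAclopen with h | h
    · left
      rw [Set.image_eq_empty] at h
      exact h
    · right
      have : g '' C'ᶜ = ∅ := by
        rw [← hcompl, h, Set.compl_univ]
      rw [Set.image_eq_empty, Set.compl_empty_iff] at this
      exact this

/-- `S18402`. -/
theorem connectedSpace_pullback_of_geometricallyIrreducible {X W : Scheme.{u}} [IrreducibleSpace X]
    (π : W ⟶ X) [Flat π] [GeometricallyIrreducible π] (Z : FEt.Cat X) [ConnectedSpace Z.left] :
    ConnectedSpace ↥(pullback Z.hom π) := by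
  have hZfin : IsFinite Z.hom := Z.prop.1
  have hZet : Etale Z.hom := Z.prop.2
  let g := pullback.fst Z.hom π
  haveI : Flat g := MorphismProperty.pullback_fst _ _ ‹Flat π›
  haveI : GeometricallyIrreducible g := MorphismProperty.pullback_fst _ _ ‹GeometricallyIrreducible π›
  have hηX : closure {genericPoint X} = Set.univ := (genericPoint_spec X).def
  haveI : ConnectedSpace ↥((𝟭 Scheme).obj Z.left) := ‹ConnectedSpace Z.left›
  refine connectedSpace_of_generalizingMap_of_fibers g g.surjective (Flat.generalizingMap g) ?_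
    (Z.hom ⁻¹' {genericPoint X}) (IsFinite.finite_preimage_singleton Z.hom _) ?_
  · intro z
    rw [← g.range_fiberι z, ← Set.image_univ]
    exact ((IrreducibleSpace.isIrreducible_univ _).image _
      (g.fiberι z).continuous.continuousOn).isPreirreducible.isPreconnected
  · intro z
    have h1 : genericPoint X ⤳ Z.hom z := specializes_iff_mem_closure.mpr (hηX ▸ Set.mem_univ _)
    obtain ⟨y', hy', hfy'⟩ := Flat.generalizingMap Z.hom h1
    exact ⟨y', hfy', hy'⟩

end Groth.Agent.Lib.Helper2
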