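import Mathlib

/-!
# Gluing two schemes along a common open subscheme, over a base (helper2)

* `inl_eq_inr_iff`, `inl_inr_jointly_surjective`: the pushout `A ⊔_Z C` of two open immersions
  `a : Z ⟶ A`, `b : Z ⟶ C` (Mathlib's locally directed gluing; after helper33's `EtFlasque`);
* `glueHom`: the induced morphism to a base `S`; `isPullback_inl`, `isPullback_inr`: the glued
  scheme restricts to `A`, `C` over suitable opens of `S`;
* `prop_of_two_opens`: a property local on the target can be checked on two jointly surjective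
  open immersions.
-/

set_option autoImplicit false
set_option linter.style.haveILetI false
set_option linter.unusedSectionVars false
universe u

open CategoryTheory CategoryTheory.Limits AlgebraicGeometry

namespace Groth.Agent.Lib.Helper2.GlueTwo

section Pushout

variable {A C Z : Scheme.{u}} (a : Z ⟶ A) (b : Z ⟶ C) [IsOpenImmersion a] [IsOpenImmersion b]

instance isOpenImmersion_span_map {i j : WalkingSpan} (f : i ⟶ j) :
    IsOpenImmersion ((span a b).map f) := by
  rcases f with _ | k
  · simp only [WidePushoutShape.hom_id, CategoryTheory.Functor.map_id]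
    infer_instance
  · rcases k with _ | _
    · exact inferInstanceAs (IsOpenImmersion a)
    · exact inferInstanceAs (IsOpenImmersion b)

instance : HasPushout a b := inferInstanceAs (HasColimit (span a b))

instance : IsOpenImmersion (pushout.inl a b) :=
  inferInstanceAs (IsOpenImmersion (colimit.ι (span a b) WalkingSpan.left))

instance : IsOpenImmersion (pushout.inr a b) :=
  inferInstanceAs (IsOpenImmersion (colimit.ι (span a b) WalkingSpan.right))

lemma inl_eq_inr_iff (x : A) (y : C) :
    pushout.inl a b x = pushout.inr a b y ↔ ∃ z : Z, a z = x ∧ b z = y := by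
  constructor
  · intro h
    obtain ⟨k, fi, fj, z, hz1, hz2⟩ :=
      (Scheme.IsLocallyDirected.ι_eq_ι_iff (F := span a b) (i := WalkingSpan.left)
        (j := WalkingSpan.right)).1 h
    rcases fi with _ | a'
    · rcases fj with _ | b'
    · rcases fj with _ | b'
      exact ⟨z, hz1, hz2⟩
  · rintro ⟨z, rfl, rfl⟩
    rw [← Scheme.Hom.comp_apply, ← Scheme.Hom.comp_apply, pushout.condition]

lemma inl_inr_jointly_surjective (w : (pushout a b : Scheme.{u})) :
    (∃ x, pushout.inl a b x = w) ∨ (∃ y, pushout.inr a b y = w) := by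
  obtain ⟨i, xi, h⟩ := Scheme.IsLocallyDirected.ι_jointly_surjective (span a b) w
  rcases i with _ | i
  · left
    refine ⟨a xi, ?_⟩
    rw [← h, ← Scheme.Hom.comp_apply]
    have e : a ≫ pushout.inl a b = colimit.ι (span a b) none :=
      colimit.w (span a b) WalkingSpan.Hom.fst
    rw [e]
    rfl
  · rcases i with _ | _
    · exact Or.inl ⟨xi, h⟩
    · exact Or.inr ⟨xi, h⟩

end Pushout

section Glue

variable {A C Z S : Scheme.{u}} (a : Z ⟶ A) (b : Z ⟶ C) [IsOpenImmersion a] [IsOpenImmersion b]
  (α : A ⟶ S) (β : C ⟶ S) (hαβ : a ≫ α = b ≫ β)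

/-- The glued morphism to the base. -/
noncomputable def glueHom : pushout a b ⟶ S := pushout.desc α β hαβ

@[reassoc (attr := simp)]
lemma inl_glueHom : pushout.inl a b ≫ glueHom a b α β hαβ = α := pushout.inl_desc _ _ _

@[reassoc (attr := simp)]
lemma inr_glueHom : pushout.inr a b ≫ glueHom a b α β hαβ = β := pushout.inr_desc _ _ _

/-- The glued scheme restricted over an open containing the image of `C` and meeting the image of
`A` only in the overlap is `C`. -/
theorem isPullback_inr {V : Scheme.{u}} (iV : V ⟶ S) [IsOpenImmersion iV] (β' : C ⟶ V)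
    (hβ' : β' ≫ iV = β) (hα : ∀ x : A, α x ∈ Set.range iV → x ∈ Set.range a) :
    IsPullback β' (pushout.inr a b) iV (glueHom a b α β hαβ) := by
  refine IsOpenImmersion.isPullback _ _ _ _ (by rw [inr_glueHom, hβ']) ?_
  ext w
  change glueHom a b α β hαβ w ∈ Set.range iV ↔ w ∈ Set.range (pushout.inr a b)
  constructor
  · intro hw
    rcases inl_inr_jointly_surjective a b w with ⟨x, rfl⟩ | ⟨y, rfl⟩
    · rw [← Scheme.Hom.comp_apply, inl_glueHom] at hw
      obtain ⟨z, rfl⟩ := hα x hw
      exact ⟨b z, ((inl_eq_inr_iff a b (a z) (b z)).2 ⟨z, rfl, rfl⟩).symm⟩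
    · exact ⟨y, rfl⟩
  · rintro ⟨y, rfl⟩
    rw [← Scheme.Hom.comp_apply, inr_glueHom, ← hβ', Scheme.Hom.comp_apply]
    exact ⟨_, rfl⟩

/-- The glued scheme restricted over an open containing the image of `A` and meeting the image of
`C` only in the overlap is `A`. -/
theorem isPullback_inl {V : Scheme.{u}} (iV : V ⟶ S) [IsOpenImmersion iV] (α' : A ⟶ V)
    (hα' : α' ≫ iV = α) (hβ : ∀ y : C, β y ∈ Set.range iV → y ∈ Set.range b) :
    IsPullback α' (pushout.inl a b) iV (glueHom a b α β hαβ) := by
  refine IsOpenImmersion.isPullback _ _ _ _ (by rw [inl_glueHom, hα']) ?_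
  ext w
  change glueHom a b α β hαβ w ∈ Set.range iV ↔ w ∈ Set.range (pushout.inl a b)
  constructor
  · intro hw
    rcases inl_inr_jointly_surjective a b w with ⟨x, rfl⟩ | ⟨y, rfl⟩
    · exact ⟨x, rfl⟩
    · rw [← Scheme.Hom.comp_apply, inr_glueHom] at hw
      obtain ⟨z, rfl⟩ := hβ y hw
      exact ⟨a z, (inl_eq_inr_iff a b (a z) (b z)).2 ⟨z, rfl, rfl⟩⟩
  · rintro ⟨x, rfl⟩
    rw [← Scheme.Hom.comp_apply, inl_glueHom, ← hα', Scheme.Hom.comp_apply]
    exact ⟨_, rfl⟩

/-- A property local on the target holds for a morphism as soon as it holds for its base changes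
to two jointly surjective open immersions. -/
theorem prop_of_two_opens (P : MorphismProperty Scheme.{u}) [IsZariskiLocalAtTarget P]
    {T V₁ V₂ A' C' : Scheme.{u}} (γ : T ⟶ S) (i₁ : V₁ ⟶ S) (i₂ : V₂ ⟶ S)
    [IsOpenImmersion i₁] [IsOpenImmersion i₂]
    (hcov : ∀ s : S, s ∈ Set.range i₁ ∨ s ∈ Set.range i₂)
    (f₁ : A' ⟶ V₁) (j₁ : A' ⟶ T) (h₁ : IsPullback f₁ j₁ i₁ γ) (hP₁ : P f₁)
    (f₂ : C' ⟶ V₂) (j₂ : C' ⟶ T) (h₂ : IsPullback f₂ j₂ i₂ γ) (hP₂ : P f₂) : P γ := by
  let 𝒰 : S.OpenCover := Scheme.Cover.mkOfCovers Bool (fun t => cond t V₁ V₂)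
    (fun t => match t with
      | true => i₁
      | false => i₂)
    (fun s => by
      rcases hcov s with ⟨y, hy⟩ | ⟨y, hy⟩
      · exact ⟨true, y, hy⟩
      · exact ⟨false, y, hy⟩)
    (fun t => match t with
      | true => inferInstanceAs (IsOpenImmersion i₁)
      | false => inferInstanceAs (IsOpenImmersion i₂))
  refine IsZariskiLocalAtTarget.of_openCover 𝒰 fun t => ?_
  match t with
  | true =>
    change P (pullback.snd γ i₁)
    rw [← h₁.flip.isoPullback_inv_snd, P.cancel_left_of_respectsIso]
    exact hP₁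
  | false =>
    change P (pullback.snd γ i₂)
    rw [← h₂.flip.isoPullback_inv_snd, P.cancel_left_of_respectsIso]
    exact hP₂

end Glue

end Groth.Agent.Lib.Helper2.GlueTwo
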