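import Groth.Agent.Lib.Helper2.FEtDepthGlue

/-!
# Hartogs-type extension of morphisms over schemes flat over a base with depth ≥ 2 off an open

`Hartogs Y UY`: functions on affine schemes flat over affine charts of `Y` extend uniquely from the preimage of
`UY`.  It holds when `Y` is locally Noetherian of depth at least two at the points off `UY`
(`hartogs_of_depth`).  Consequences: for `T` flat over `Y` and `b : B ⟶ Z` an affine morphism, morphisms
`T ⟶ B` over a given `T ⟶ Z` extend uniquely from the `UY`-part of `T` (`uniq'`, `exists_extension'`).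
-/

set_option autoImplicit false
set_option linter.style.haveILetI false
set_option linter.unusedSectionVars false

universe u
open AlgebraicGeometry CategoryTheory CategoryTheory.Limits TopologicalSpace Opposite

namespace Groth.Agent.Lib.Helper2.HartogsExt

open Groth.Agent.Lib.Helper2

/-- The Hartogs property of an open `UY` of `Y`: on every affine scheme flat over an affine open chart
of `Y`, functions extend uniquely from the preimage of `UY`. -/
def Hartogs (Y : Scheme.{u}) (UY : Y.Opens) : Prop :=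
  ∀ (R : CommRingCat.{u}) (i : Spec R ⟶ Y) [IsOpenImmersion i] (A : Scheme.{u}) [IsAffine A]
    (pA : A ⟶ Spec R) [Flat pA],
    Function.Bijective (res (le_top : pA ⁻¹ᵁ (i ⁻¹ᵁ UY) ≤ ⊤))

/-- Depth at least two off `UY` on a locally Noetherian scheme gives the Hartogs property. -/
theorem hartogs_of_depth {Y : Scheme.{u}} [IsLocallyNoetherian Y] (UY : Y.Opens)
    (h : ∀ y : Y, y ∉ UY → (2 : ℕ∞) ≤ LocCoh.depth (Y.presheaf.stalk y) (Y.presheaf.stalk y)) :
    Hartogs Y UY := by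
  intro R i _ A _ pA _
  haveI : IsLocallyNoetherian (Spec R) := isLocallyNoetherian_of_isOpenImmersion i
  haveI : IsNoetherianRing R := isLocallyNoetherian_Spec.mp inferInstance
  have hdepth : ∀ p : PrimeSpectrum R, p ∉ i ⁻¹ᵁ UY →
      (2 : ℕ∞) ≤ LocCoh.depth (Localization.AtPrime p.asIdeal) (Localization.AtPrime p.asIdeal) := by
    intro p hp
    rw [depth_localization_eq_depth_stalk R i p]
    exact h (i p) hp
  exact res_bijective_preimage_of_depth R (i ⁻¹ᵁ UY) hdepth pA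

variable {Y : Scheme.{u}} {UY : Y.Opens}

/-- A cover of a scheme flat over `Y` by pieces on which functions extend uniquely from the
`UY`-part. -/
theorem exists_cover (hH : Hartogs Y UY) {T : Scheme.{u}} (pT : T ⟶ Y) [Flat pT] :
    ∃ 𝒱 : Scheme.OpenCover.{u} T, ∀ l, Function.Bijective
      (pullback.fst (𝒱.f l) (pullback.fst pT UY.ι)).appTop.hom := by
  let 𝒜 := Y.affineOpenCover
  let 𝒰 : T.OpenCover := 𝒜.openCover.pullback₁ pT
  let 𝒱 : T.OpenCover := 𝒰.bind fun i => (𝒰.X i).affineCover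
  refine ⟨𝒱, ?_⟩
  rintro ⟨i, m⟩
  let c : (𝒰.X i).affineCover.X m ⟶ 𝒰.X i := (𝒰.X i).affineCover.f m
  have hVf : 𝒱.f ⟨i, m⟩ = c ≫ pullback.fst pT (𝒜.f i) := rfl
  let pA : (𝒰.X i).affineCover.X m ⟶ Spec (𝒜.X i) := c ≫ pullback.snd pT (𝒜.f i)
  haveI : IsAffine ((𝒰.X i).affineCover.X m) := inferInstanceAs (IsAffine (Spec _))
  haveI : IsOpenImmersion c := inferInstanceAs (IsOpenImmersion ((𝒰.X i).affineCover.f m))
  have hf1 : Flat (pullback.snd pT (𝒜.f i)) := inferInstance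
  have hf2 : Flat c := inferInstance
  haveI : Flat pA := @Flat.comp _ _ _ c (pullback.snd pT (𝒜.f i)) hf2 hf1
  have hres := hH (𝒜.X i) (𝒜.f i) _ pA
  haveI : IsOpenImmersion (pullback.fst pT UY.ι) := inferInstance
  let ι' := pullback.fst (𝒱.f ⟨i, m⟩) (pullback.fst pT UY.ι)
  haveI : IsOpenImmersion ι' := inferInstanceAs (IsOpenImmersion (pullback.fst _ _))
  have hrange : ι'.opensRange = pA ⁻¹ᵁ ((𝒜.f i) ⁻¹ᵁ UY) := by
    apply TopologicalSpace.Opens.ext
    change Set.range (pullback.fst (𝒱.f ⟨i, m⟩) (pullback.fst pT UY.ι)) = _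
    rw [Scheme.Pullback.range_fst, Scheme.Pullback.range_fst, Scheme.Opens.range_ι]
    have hcomp : 𝒱.f ⟨i, m⟩ ≫ pT = pA ≫ 𝒜.f i := by
      rw [hVf]
      exact (Category.assoc _ _ _).trans ((congrArg (fun t => c ≫ t)
        (pullback.condition (f := pT) (g := 𝒜.f i))).trans (Category.assoc _ _ _).symm)
    ext x
    have hx : pT ((𝒱.f ⟨i, m⟩) x) = (𝒜.f i) (pA x) := by
      rw [← Scheme.Hom.comp_apply, ← Scheme.Hom.comp_apply, hcomp]
      rfl
    change pT ((𝒱.f ⟨i, m⟩) x) ∈ UY ↔ (𝒜.f i) (pA x) ∈ UY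
    rw [hx]
  exact appTop_bijective_of_isOpenImmersion ι' _ hrange hres


/-- Uniqueness of extensions to an affine target. -/
theorem ext_affine (hH : Hartogs Y UY) {T : Scheme.{u}} (pT : T ⟶ Y) [Flat pT] {B : Scheme.{u}}
    [IsAffine B] (g₁ g₂ : T ⟶ B)
    (hk : pullback.fst pT UY.ι ≫ g₁ = pullback.fst pT UY.ι ≫ g₂) : g₁ = g₂ := by
  obtain ⟨𝒱, h𝒱⟩ := exists_cover hH pT
  apply 𝒱.hom_ext
  intro l
  apply ext_of_isAffine
  let ι' := pullback.fst (𝒱.f l) (pullback.fst pT UY.ι)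
  have e : ι' ≫ (𝒱.f l ≫ g₁) = ι' ≫ (𝒱.f l ≫ g₂) := by
    rw [← Category.assoc, ← Category.assoc, pullback.condition, Category.assoc, Category.assoc, hk]
  have e' := congrArg Scheme.Hom.appTop e
  rw [Scheme.Hom.comp_appTop, Scheme.Hom.comp_appTop] at e'
  ext x
  apply (h𝒱 l).1
  exact congrArg (fun φ => φ.hom x) e'

/-- Existence of extensions to an affine target. -/
theorem exists_extension_affine (hH : Hartogs Y UY) {T : Scheme.{u}} (pT : T ⟶ Y) [Flat pT]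
    {B : Scheme.{u}} [IsAffine B] (k : pullback pT UY.ι ⟶ B) :
    ∃ g : T ⟶ B, pullback.fst pT UY.ι ≫ g = k := by
  obtain ⟨𝒱, h𝒱⟩ := exists_cover hH pT
  have key : ∀ l, ∃ g : 𝒱.X l ⟶ B,
      ∀ (T' : Scheme.{u}) (t₁ : T' ⟶ 𝒱.X l) (t₂ : T' ⟶ pullback pT UY.ι),
        t₁ ≫ 𝒱.f l = t₂ ≫ pullback.fst pT UY.ι → t₁ ≫ g = t₂ ≫ k := by
    intro l
    let ι' := pullback.fst (𝒱.f l) (pullback.fst pT UY.ι)
    let e := RingEquiv.ofBijective ι'.appTop.hom (h𝒱 l)
    let θ : Γ(B, ⊤) ⟶ Γ(𝒱.X l, ⊤) := CommRingCat.ofHom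
      (e.symm.toRingHom.comp (pullback.snd (𝒱.f l) (pullback.fst pT UY.ι) ≫ k).appTop.hom)
    have hθ : θ ≫ ι'.appTop = (pullback.snd (𝒱.f l) (pullback.fst pT UY.ι) ≫ k).appTop := by
      ext x
      change ι'.appTop.hom (e.symm _) = _
      exact e.apply_symm_apply _
    have h1 : ι' ≫ homOfAppTop θ = pullback.snd (𝒱.f l) (pullback.fst pT UY.ι) ≫ k := by
      apply ext_of_isAffine
      rw [Scheme.Hom.comp_appTop, homOfAppTop_appTop, hθ]
    refine ⟨homOfAppTop θ, ?_⟩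
    intro T' t₁ t₂ ht
    have : t₁ = pullback.lift t₁ t₂ ht ≫ ι' := (pullback.lift_fst _ _ _).symm
    rw [this, Category.assoc, h1, ← Category.assoc, pullback.lift_snd]
  choose g hg using key
  have hcompat : ∀ l l', pullback.fst (𝒱.f l) (𝒱.f l') ≫ g l =
      pullback.snd (𝒱.f l) (𝒱.f l') ≫ g l' := by
    intro l l'
    obtain ⟨a, ha0⟩ : ∃ a : pullback (𝒱.f l) (𝒱.f l') ⟶ T,
      a = pullback.fst (𝒱.f l) (𝒱.f l') ≫ 𝒱.f l := ⟨_, rfl⟩
    have ha : a = pullback.snd (𝒱.f l) (𝒱.f l') ≫ 𝒱.f l' := ha0.trans pullback.condition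
    haveI : Flat (a ≫ pT) := by
      rw [ha0]
      infer_instance
    apply ext_affine hH (a ≫ pT)
    let t₂ : pullback (a ≫ pT) UY.ι ⟶ pullback pT UY.ι :=
      pullback.lift (pullback.fst (a ≫ pT) UY.ι ≫ a) (pullback.snd (a ≫ pT) UY.ι)
        (by rw [Category.assoc, pullback.condition])
    have e1 : (pullback.fst (a ≫ pT) UY.ι ≫ pullback.fst (𝒱.f l) (𝒱.f l')) ≫ g l = t₂ ≫ k := by
      apply hg
      rw [Category.assoc, pullback.lift_fst, ha0]
    have e2 : (pullback.fst (a ≫ pT) UY.ι ≫ pullback.snd (𝒱.f l) (𝒱.f l')) ≫ g l' = t₂ ≫ k := by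
      apply hg
      rw [Category.assoc, pullback.lift_fst, ha]
    rw [← Category.assoc, ← Category.assoc, e1, e2]
  let h₀ : T ⟶ B := 𝒱.glueMorphisms g hcompat
  have hh₀ : ∀ l, 𝒱.f l ≫ h₀ = g l := fun l => 𝒱.ι_glueMorphisms g hcompat l
  refine ⟨h₀, ?_⟩
  let 𝒲 : (pullback pT UY.ι).OpenCover := 𝒱.pullback₁ (pullback.fst pT UY.ι)
  apply 𝒲.hom_ext
  intro i
  let i' : 𝒱.I₀ := i
  have e1 : pullback.snd (pullback.fst pT UY.ι) (𝒱.f i') ≫ g i' =
      pullback.fst (pullback.fst pT UY.ι) (𝒱.f i') ≫ k := by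
    apply hg
    exact pullback.condition.symm
  have e2 : pullback.fst (pullback.fst pT UY.ι) (𝒱.f i') ≫ pullback.fst pT UY.ι =
      pullback.snd (pullback.fst pT UY.ι) (𝒱.f i') ≫ 𝒱.f i' := pullback.condition
  exact (Category.assoc _ _ _).symm.trans ((congrArg (fun t => t ≫ h₀) e2).trans
    ((Category.assoc _ _ _).trans
      ((congrArg (fun t => pullback.snd (pullback.fst pT UY.ι) (𝒱.f i') ≫ t) (hh₀ i')).trans e1)))


/-- Uniqueness of extensions to a target affine over a base. -/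
theorem uniq (hH : Hartogs Y UY) {T : Scheme.{u}} (pT : T ⟶ Y) [Flat pT] {B Z : Scheme.{u}}
    (b : B ⟶ Z) [IsAffineHom b] (g₁ g₂ : T ⟶ B) (hb : g₁ ≫ b = g₂ ≫ b)
    (hk : pullback.fst pT UY.ι ≫ g₁ = pullback.fst pT UY.ι ≫ g₂) : g₁ = g₂ := by
  obtain ⟨a, ha⟩ : ∃ a : T ⟶ Z, a = g₁ ≫ b := ⟨_, rfl⟩
  let 𝒵 := Z.affineCover
  let 𝒲 : T.OpenCover := 𝒵.pullback₁ a
  apply 𝒲.hom_ext
  intro i
  change pullback.fst a (𝒵.f i) ≫ g₁ = pullback.fst a (𝒵.f i) ≫ g₂
  obtain ⟨wi, hwi⟩ : ∃ wi : pullback a (𝒵.f i) ⟶ T, wi = pullback.fst a (𝒵.f i) := ⟨_, rfl⟩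
  rw [← hwi]
  haveI : IsAffine (pullback b (𝒵.f i)) := isAffine_of_isAffineHom (pullback.snd b (𝒵.f i))
  have c₁ : (wi ≫ g₁) ≫ b = pullback.snd a (𝒵.f i) ≫ 𝒵.f i := by
    rw [Category.assoc, ← ha, hwi]
    exact pullback.condition
  have c₂ : (wi ≫ g₂) ≫ b = pullback.snd a (𝒵.f i) ≫ 𝒵.f i := by
    rw [Category.assoc, ← hb, ← ha, hwi]
    exact pullback.condition
  haveI : Flat (wi ≫ pT) := by
    rw [hwi]
    infer_instance
  have key : pullback.lift (wi ≫ g₁) (pullback.snd a (𝒵.f i)) c₁ =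
      pullback.lift (wi ≫ g₂) (pullback.snd a (𝒵.f i)) c₂ := by
    apply ext_affine hH (wi ≫ pT)
    apply pullback.hom_ext
    · rw [Category.assoc, Category.assoc, pullback.lift_fst, pullback.lift_fst]
      let t : pullback (wi ≫ pT) UY.ι ⟶ pullback pT UY.ι :=
        pullback.lift (pullback.fst (wi ≫ pT) UY.ι ≫ wi) (pullback.snd (wi ≫ pT) UY.ι)
          (by rw [Category.assoc, pullback.condition])
      have ht : pullback.fst (wi ≫ pT) UY.ι ≫ wi = t ≫ pullback.fst pT UY.ι :=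
        (pullback.lift_fst _ _ _).symm
      rw [← Category.assoc, ← Category.assoc, ht, Category.assoc, Category.assoc, hk]
    · rw [Category.assoc, Category.assoc, pullback.lift_snd, pullback.lift_snd]
  calc wi ≫ g₁ = pullback.lift (wi ≫ g₁) (pullback.snd a (𝒵.f i)) c₁ ≫ pullback.fst _ _ :=
        (pullback.lift_fst _ _ _).symm
    _ = pullback.lift (wi ≫ g₂) (pullback.snd a (𝒵.f i)) c₂ ≫ pullback.fst _ _ := by rw [key]
    _ = wi ≫ g₂ := pullback.lift_fst _ _ _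

/-- Existence of extensions to a target affine over a base. -/
theorem exists_extension (hH : Hartogs Y UY) {T : Scheme.{u}} (pT : T ⟶ Y) [Flat pT]
    {B Z : Scheme.{u}} (b : B ⟶ Z) [IsAffineHom b] (a : T ⟶ Z) (k : pullback pT UY.ι ⟶ B)
    (hk : k ≫ b = pullback.fst pT UY.ι ≫ a) :
    ∃ g : T ⟶ B, g ≫ b = a ∧ pullback.fst pT UY.ι ≫ g = k := by
  let 𝒵 := Z.affineCover
  let 𝒲 : T.OpenCover := 𝒵.pullback₁ a
  have key : ∀ i : 𝒲.I₀, ∃ g : 𝒲.X i ⟶ B, g ≫ b = 𝒲.f i ≫ a ∧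
      ∀ (T' : Scheme.{u}) (t₁ : T' ⟶ 𝒲.X i) (t₂ : T' ⟶ pullback pT UY.ι),
        t₁ ≫ 𝒲.f i = t₂ ≫ pullback.fst pT UY.ι → t₁ ≫ g = t₂ ≫ k := by
    intro i
    change ∃ g : pullback a (𝒵.f i) ⟶ B, g ≫ b = pullback.fst a (𝒵.f i) ≫ a ∧
      ∀ (T' : Scheme.{u}) (t₁ : T' ⟶ pullback a (𝒵.f i)) (t₂ : T' ⟶ pullback pT UY.ι),
        t₁ ≫ pullback.fst a (𝒵.f i) = t₂ ≫ pullback.fst pT UY.ι → t₁ ≫ g = t₂ ≫ k
    obtain ⟨wi, hwi⟩ : ∃ wi : pullback a (𝒵.f i) ⟶ T, wi = pullback.fst a (𝒵.f i) := ⟨_, rfl⟩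
    rw [← hwi]
    haveI : IsAffine (pullback b (𝒵.f i)) := isAffine_of_isAffineHom (pullback.snd b (𝒵.f i))
    haveI : IsAffine (𝒵.X i) := inferInstanceAs (IsAffine (Spec _))
    haveI : Flat (wi ≫ pT) := by
      rw [hwi]
      infer_instance
    have hwa : wi ≫ a = pullback.snd a (𝒵.f i) ≫ 𝒵.f i := by
      rw [hwi]
      exact pullback.condition
    let t : pullback (wi ≫ pT) UY.ι ⟶ pullback pT UY.ι :=
      pullback.lift (pullback.fst (wi ≫ pT) UY.ι ≫ wi) (pullback.snd (wi ≫ pT) UY.ι)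
        (by rw [Category.assoc, pullback.condition])
    have ht : t ≫ pullback.fst pT UY.ι = pullback.fst (wi ≫ pT) UY.ι ≫ wi :=
      pullback.lift_fst _ _ _
    have ht2 : t ≫ pullback.snd pT UY.ι = pullback.snd (wi ≫ pT) UY.ι :=
      pullback.lift_snd _ _ _
    let ki : pullback (wi ≫ pT) UY.ι ⟶ pullback b (𝒵.f i) :=
      pullback.lift (t ≫ k) (pullback.fst (wi ≫ pT) UY.ι ≫ pullback.snd a (𝒵.f i))
        (by rw [Category.assoc, hk, ← Category.assoc, ht, Category.assoc, hwa, Category.assoc])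
    obtain ⟨g', hg'⟩ := exists_extension_affine hH (wi ≫ pT) ki
    have hsnd : g' ≫ pullback.snd b (𝒵.f i) = pullback.snd a (𝒵.f i) := by
      apply ext_affine hH (wi ≫ pT)
      rw [← Category.assoc, hg', pullback.lift_snd]
    refine ⟨g' ≫ pullback.fst b (𝒵.f i), ?_, ?_⟩
    · rw [Category.assoc, pullback.condition, ← Category.assoc, hsnd, hwa]
    · intro T' t₁ t₂ h12
      let s : T' ⟶ pullback (wi ≫ pT) UY.ι :=
        pullback.lift t₁ (t₂ ≫ pullback.snd pT UY.ι)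
          (by rw [← Category.assoc, h12, Category.assoc, pullback.condition, Category.assoc])
      have hs1 : s ≫ pullback.fst (wi ≫ pT) UY.ι = t₁ := pullback.lift_fst _ _ _
      have hs2 : s ≫ pullback.snd (wi ≫ pT) UY.ι = t₂ ≫ pullback.snd pT UY.ι :=
        pullback.lift_snd _ _ _
      have hst : s ≫ t = t₂ := by
        apply pullback.hom_ext
        · rw [Category.assoc, ht, ← Category.assoc, hs1, h12]
        · rw [Category.assoc, ht2, hs2]
      rw [← hs1, Category.assoc, ← Category.assoc _ g', hg', pullback.lift_fst, ← Category.assoc,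
        hst]
  choose g hg1 hg2 using key
  have hcompat : ∀ i i' : 𝒲.I₀, pullback.fst (𝒲.f i) (𝒲.f i') ≫ g i =
      pullback.snd (𝒲.f i) (𝒲.f i') ≫ g i' := by
    intro i i'
    obtain ⟨c, hc0⟩ : ∃ c : pullback (𝒲.f i) (𝒲.f i') ⟶ T,
      c = pullback.fst (𝒲.f i) (𝒲.f i') ≫ 𝒲.f i := ⟨_, rfl⟩
    have hc : c = pullback.snd (𝒲.f i) (𝒲.f i') ≫ 𝒲.f i' := hc0.trans pullback.condition
    haveI : Flat (c ≫ pT) := by
      rw [hc0]
      infer_instance
    apply uniq hH (c ≫ pT) b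
    · rw [Category.assoc, Category.assoc, hg1, hg1, ← Category.assoc, ← Category.assoc, ← hc0,
        ← hc]
    · let t₂ : pullback (c ≫ pT) UY.ι ⟶ pullback pT UY.ι :=
        pullback.lift (pullback.fst (c ≫ pT) UY.ι ≫ c) (pullback.snd (c ≫ pT) UY.ι)
          (by rw [Category.assoc, pullback.condition])
      have e1 : (pullback.fst (c ≫ pT) UY.ι ≫ pullback.fst (𝒲.f i) (𝒲.f i')) ≫ g i =
          t₂ ≫ k := by
        apply hg2
        rw [Category.assoc, pullback.lift_fst, hc0]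
      have e2 : (pullback.fst (c ≫ pT) UY.ι ≫ pullback.snd (𝒲.f i) (𝒲.f i')) ≫ g i' =
          t₂ ≫ k := by
        apply hg2
        rw [Category.assoc, pullback.lift_fst, hc]
      rw [← Category.assoc, ← Category.assoc, e1, e2]
  let h₀ : T ⟶ B := 𝒲.glueMorphisms g hcompat
  have hh₀ : ∀ i, 𝒲.f i ≫ h₀ = g i := fun i => 𝒲.ι_glueMorphisms g hcompat i
  refine ⟨h₀, ?_, ?_⟩
  · apply 𝒲.hom_ext
    intro i
    rw [← Category.assoc, hh₀, hg1]
  · let 𝒲' : (pullback pT UY.ι).OpenCover := 𝒲.pullback₁ (pullback.fst pT UY.ι)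
    apply 𝒲'.hom_ext
    intro i
    let i' : 𝒲.I₀ := i
    have e1 : pullback.snd (pullback.fst pT UY.ι) (𝒲.f i') ≫ g i' =
        pullback.fst (pullback.fst pT UY.ι) (𝒲.f i') ≫ k := by
      apply hg2
      exact pullback.condition.symm
    have e2 : pullback.fst (pullback.fst pT UY.ι) (𝒲.f i') ≫ pullback.fst pT UY.ι =
        pullback.snd (pullback.fst pT UY.ι) (𝒲.f i') ≫ 𝒲.f i' := pullback.condition
    exact (Category.assoc _ _ _).symm.trans ((congrArg (fun t => t ≫ h₀) e2).trans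
      ((Category.assoc _ _ _).trans
        ((congrArg (fun t => pullback.snd (pullback.fst pT UY.ι) (𝒲.f i') ≫ t) (hh₀ i')).trans e1)))

/-- Uniqueness of extensions, for an arbitrary model of the `UY`-part. -/
theorem uniq' (hH : Hartogs Y UY) {T TU : Scheme.{u}} (pT : T ⟶ Y) [Flat pT] (j : TU ⟶ T)
    (r : TU ⟶ (UY : Scheme.{u})) (hpb : IsPullback j r pT UY.ι) {B Z : Scheme.{u}}
    (b : B ⟶ Z) [IsAffineHom b] (g₁ g₂ : T ⟶ B) (hb : g₁ ≫ b = g₂ ≫ b)
    (hk : j ≫ g₁ = j ≫ g₂) : g₁ = g₂ := by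
  apply uniq hH pT b g₁ g₂ hb
  rw [← hpb.isoPullback_inv_fst, Category.assoc, Category.assoc, hk]

/-- Existence of extensions, for an arbitrary model of the `UY`-part. -/
theorem exists_extension' (hH : Hartogs Y UY) {T TU : Scheme.{u}} (pT : T ⟶ Y) [Flat pT]
    (j : TU ⟶ T) (r : TU ⟶ (UY : Scheme.{u})) (hpb : IsPullback j r pT UY.ι) {B Z : Scheme.{u}}
    (b : B ⟶ Z) [IsAffineHom b] (a : T ⟶ Z) (k : TU ⟶ B) (hk : k ≫ b = j ≫ a) :
    ∃ g : T ⟶ B, g ≫ b = a ∧ j ≫ g = k := by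
  obtain ⟨g, hg1, hg2⟩ := exists_extension hH pT b a (hpb.isoPullback.inv ≫ k)
    (by rw [Category.assoc, hk, ← Category.assoc, hpb.isoPullback_inv_fst])
  refine ⟨g, hg1, ?_⟩
  rw [← hpb.isoPullback_hom_fst, Category.assoc, hg2, Iso.hom_inv_id_assoc]

end Groth.Agent.Lib.Helper2.HartogsExt
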