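import Groth.Prelude.Def_CAlg
import Mathlib.RingTheory.Regular.RegularSequence
import Mathlib.RingTheory.Spectrum.Prime.Topology
import Mathlib.RingTheory.Noetherian.Basic
import Mathlib.RingTheory.Nilpotent.Lemmas
import Mathlib.RingTheory.Idempotents
import Mathlib.RingTheory.Noetherian.Nilpotent
import Mathlib.RingTheory.Finiteness.Ideal
import Mathlib.RingTheory.Ideal.MinimalPrime.Localization
import Mathlib.RingTheory.LocalRing.Basic
import Mathlib.Topology.Connected.Basic

/-!
# Hartshorne's connectedness theorem (depth ≥ 2 ⇒ punctured spectrum connected), elementary proof (helper2)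
-/

set_option autoImplicit false
universe u

namespace Groth.Agent.Lib.Helper2
open RingTheory.Sequence

section

variable {R : Type u} [CommRing R]

/-- `y` is a non-zero-divisor modulo `x`. -/
def RegMod (x y : R) : Prop := ∀ r : R, (∃ s, y * r = x * s) → ∃ s, r = x * s

lemma regMod_pow_left {x y : R} (hx : IsSMulRegular R x) (h : RegMod x y) (k : ℕ) :
    RegMod (x ^ k) y := by
  induction k with
  | zero => intro r _; exact ⟨r, by simp⟩
  | succ k ih =>
    intro r ⟨s, hs⟩
    obtain ⟨r', rfl⟩ := h r ⟨x ^ k * s, by rw [hs]; ring⟩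
    have h1 : y * r' = x ^ k * s := by
      apply hx
      simp only [smul_eq_mul]
      rw [← mul_assoc, mul_comm x y, mul_assoc, hs]; ring
    obtain ⟨s', rfl⟩ := ih r' ⟨s, h1⟩
    exact ⟨s', by ring⟩

lemma regMod_pow_right {x y : R} (h : RegMod x y) (k : ℕ) : RegMod x (y ^ k) := by
  induction k with
  | zero => intro r ⟨s, hs⟩; exact ⟨s, by simpa using hs⟩
  | succ k ih =>
    intro r ⟨s, hs⟩
    apply ih
    apply h
    exact ⟨s, by rw [← hs]; ring⟩

lemma exists_regular_pair [IsLocalRing R] (h : 2 ≤ LocCoh.depth R R) :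
    ∃ x y : R, x ∈ IsLocalRing.maximalIdeal R ∧ y ∈ IsLocalRing.maximalIdeal R ∧
      IsSMulRegular R x ∧ RegMod x y := by
  unfold LocCoh.depth LocCoh.idealDepth at h
  rw [if_neg] at h
  swap
  · rw [smul_eq_mul, Ideal.mul_top]
    exact (IsLocalRing.maximalIdeal.isMaximal R).ne_top
  by_contra hcon
  push Not at hcon
  have : (⨆ (rs : List R) (_ : IsWeaklyRegular R rs ∧ ∀ r ∈ rs, r ∈ IsLocalRing.maximalIdeal R),
      (rs.length : ℕ∞)) ≤ 1 := by
    apply iSup₂_le
    rintro rs ⟨hreg, hmem⟩
    match rs, hreg, hmem with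
    | [], _, _ => simp
    | [_], _, _ => simp
    | x :: y :: rest, hreg, hmem =>
      exfalso
      rw [isWeaklyRegular_cons_iff] at hreg
      obtain ⟨hx, hreg⟩ := hreg
      rw [isWeaklyRegular_cons_iff] at hreg
      obtain ⟨hy, -⟩ := hreg
      apply hcon x y (hmem x (by simp)) (hmem y (by simp)) hx
      rintro r ⟨s, hs⟩
      have h0 : y • (Submodule.Quotient.mk r : QuotSMulTop x R) = y • 0 := by
        rw [smul_zero, ← Submodule.Quotient.mk_smul, Submodule.Quotient.mk_eq_zero, smul_eq_mul, hs]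
        exact Submodule.smul_mem_pointwise_smul _ _ _ trivial
      have h1 := hy h0
      rw [Submodule.Quotient.mk_eq_zero, Submodule.mem_smul_pointwise_iff_exists] at h1
      obtain ⟨s', -, hs'⟩ := h1
      exact ⟨s', hs'.symm⟩
  have h2 : (2 : ℕ∞) ≤ 1 := le_trans h this
  exact absurd h2 (by decide)

end


section

variable {R : Type u} [CommRing R] [IsLocalRing R]

lemma pow_le_or_pow_le {x y : R} (hx : IsSMulRegular R x) (hxy : RegMod x y)
    (hxm : x ∈ IsLocalRing.maximalIdeal R) (hym : y ∈ IsLocalRing.maximalIdeal R)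
    (I J : Ideal R) (hIJ : I * J = ⊥) (K : ℕ) (hK : IsLocalRing.maximalIdeal R ^ K ≤ I ⊔ J) :
    IsLocalRing.maximalIdeal R ^ K ≤ I ∨ IsLocalRing.maximalIdeal R ^ K ≤ J := by
  have hmul : ∀ i ∈ I, ∀ j ∈ J, i * j = 0 := by
    intro i hi j hj
    have := Ideal.mul_mem_mul hi hj
    rwa [hIJ, Ideal.mem_bot] at this
  obtain ⟨a, ha, b, hb, hab⟩ := Submodule.mem_sup.mp (hK (Ideal.pow_mem_pow hxm K))
  obtain ⟨c, hc, d, hd, hcd⟩ := Submodule.mem_sup.mp (hK (Ideal.pow_mem_pow hym K))
  have hxK : IsSMulRegular R (x ^ K) := hx.pow K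
  have h1 : y ^ K * a = x ^ K * c := by
    rw [← hab, ← hcd]
    have e1 := hmul a ha d hd
    have e2 := hmul c hc b hb
    linear_combination e1 - e2
  have hreg : RegMod (x ^ K) (y ^ K) := regMod_pow_right (regMod_pow_left hx hxy K) K
  obtain ⟨e, he⟩ := hreg a ⟨c, h1⟩
  have hb' : b = x ^ K * (1 - e) := by
    rw [mul_sub, mul_one, ← he, ← hab]; ring
  have hee : e * (1 - e) = 0 := by
    apply hxK
    apply hxK
    simp only [smul_eq_mul, mul_zero]
    have := hmul a ha b hb
    rw [he, hb'] at this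
    rw [← this]; ring
  rcases IsLocalRing.isUnit_or_isUnit_one_sub_self e with hu | hu
  · -- e unit, so 1 - e = 0, b = 0, x^K ∈ I, J = ⊥
    have h0 : 1 - e = 0 := by
      have := hu.mul_right_eq_zero.mp hee
      exact this
    left
    have hxI : x ^ K ∈ I := by
      rw [← hab, hb', h0, mul_zero, add_zero]; exact ha
    have hJ : J = ⊥ := by
      rw [eq_bot_iff]
      intro j hj
      rw [Ideal.mem_bot]
      apply hxK
      simp only [smul_eq_mul, mul_zero]
      exact hmul _ hxI j hj
    rw [hJ, sup_bot_eq] at hK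
    exact hK
  · -- 1 - e unit, so e = 0, a = 0, x^K ∈ J, I = ⊥
    have h0 : e = 0 := hu.mul_left_eq_zero.mp hee
    right
    have hxJ : x ^ K ∈ J := by
      rw [← hab, he, h0, mul_zero, zero_add]; exact hb
    have hI : I = ⊥ := by
      rw [eq_bot_iff]
      intro i hi
      rw [Ideal.mem_bot]
      apply hxK
      simp only [smul_eq_mul, mul_zero]
      rw [mul_comm]
      exact hmul i hi _ hxJ
    rw [hI, bot_sup_eq] at hK
    exact hK

/-- Hartshorne's connectedness theorem for depth ≥ 2. -/
theorem isConnected_punctured_of_depth [IsNoetherianRing R] (h : 2 ≤ LocCoh.depth R R) :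
    IsConnected {p : PrimeSpectrum R | p.asIdeal ≠ IsLocalRing.maximalIdeal R} := by
  obtain ⟨x, y, hxm, hym, hx, hxy⟩ := exists_regular_pair h
  constructor
  · -- nonempty
    obtain ⟨p, hp, hple⟩ := Ideal.exists_minimalPrimes_le
      (bot_le : (⊥ : Ideal R) ≤ IsLocalRing.maximalIdeal R)
    have hpmin : p ∈ minimalPrimes R := hp
    have hprime : p.IsPrime := hp.1.1
    refine ⟨⟨p, hprime⟩, ?_⟩
    intro heq
    have hxp : x ∈ p := by
      change p = IsLocalRing.maximalIdeal R at heq
      rw [heq]; exact hxm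
    have hnzd : x ∈ nonZeroDivisors R := by
      rw [mem_nonZeroDivisors_iff_right]
      intro z hz
      apply hx
      simp only [smul_eq_mul, mul_zero]
      rw [mul_comm]; exact hz
    exact Set.disjoint_left.mp (Ideal.disjoint_nonZeroDivisors_of_mem_minimalPrimes hpmin) hxp hnzd
  · rw [isPreconnected_closed_iff]
    intro t t' ht ht' hsub hne hne'
    obtain ⟨I, rfl⟩ := (PrimeSpectrum.isClosed_iff_zeroLocus_ideal t).mp ht
    obtain ⟨J, rfl⟩ := (PrimeSpectrum.isClosed_iff_zeroLocus_ideal t').mp ht'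
    by_contra hempty
    rw [Set.not_nonempty_iff_eq_empty] at hempty
    obtain ⟨p, hps, hpI⟩ := hne
    obtain ⟨q, hqs, hqJ⟩ := hne'
    rw [PrimeSpectrum.mem_zeroLocus, SetLike.coe_subset_coe] at hpI hqJ
    have hIm : I ≤ IsLocalRing.maximalIdeal R := hpI.trans (IsLocalRing.le_maximalIdeal p.2.ne_top)
    -- I * J is nilpotent
    have hnil : I * J ≤ nilradical R := by
      rw [nilradical_eq_sInf]
      apply le_sInf
      intro P hP
      have hP' : P.IsPrime := hP
      by_cases hPm : P = IsLocalRing.maximalIdeal R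
      · rw [hPm]; exact Ideal.mul_le_left.trans hIm
      · have := hsub (show (⟨P, hP'⟩ : PrimeSpectrum R) ∈ _ from hPm)
        rcases this with h1 | h1
        · rw [PrimeSpectrum.mem_zeroLocus, SetLike.coe_subset_coe] at h1
          exact Ideal.mul_le_left.trans h1
        · rw [PrimeSpectrum.mem_zeroLocus, SetLike.coe_subset_coe] at h1
          exact Ideal.mul_le_right.trans h1
    obtain ⟨n, hn⟩ := IsNoetherianRing.isNilpotent_nilradical R
    have hIJn : I ^ n * J ^ n = ⊥ := by
      rw [← mul_pow, eq_bot_iff, ← Ideal.zero_eq_bot, ← hn]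
      exact Ideal.pow_right_mono hnil n
    -- 𝔪 ≤ radical (I ⊔ J)
    have hrad : IsLocalRing.maximalIdeal R ≤ (I ⊔ J).radical := by
      rw [Ideal.radical_eq_sInf]
      apply le_sInf
      rintro P ⟨hle, hP⟩
      by_contra hPm
      have hPne : P ≠ IsLocalRing.maximalIdeal R := by
        rintro rfl; exact hPm le_rfl
      have hmem : (⟨P, hP⟩ : PrimeSpectrum R) ∈
          {p : PrimeSpectrum R | p.asIdeal ≠ IsLocalRing.maximalIdeal R} ∩
            (PrimeSpectrum.zeroLocus ↑I ∩ PrimeSpectrum.zeroLocus ↑J) := by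
        refine ⟨hPne, ?_, ?_⟩
        · rw [PrimeSpectrum.mem_zeroLocus, SetLike.coe_subset_coe]
          exact le_sup_left.trans hle
        · rw [PrimeSpectrum.mem_zeroLocus, SetLike.coe_subset_coe]
          exact le_sup_right.trans hle
      rw [hempty] at hmem
      exact hmem
    obtain ⟨k, hk⟩ := Ideal.exists_pow_le_of_le_radical_of_fg hrad
      (IsNoetherian.noetherian _)
    have hK : IsLocalRing.maximalIdeal R ^ (k * (n + n)) ≤ I ^ n ⊔ J ^ n := by
      rw [pow_mul]
      exact (Ideal.pow_right_mono hk (n + n)).trans Ideal.sup_pow_add_le_pow_sup_pow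
    rcases pow_le_or_pow_le hx hxy hxm hym (I ^ n) (J ^ n) hIJn _ hK with h1 | h1
    · -- 𝔪^K ≤ I^n ≤ I ≤ p
      have hle : IsLocalRing.maximalIdeal R ^ (k * (n + n)) ≤ p.asIdeal := by
        by_cases hn0 : n = 0
        · subst hn0
          simp only [pow_zero, Ideal.one_eq_top] at hn
          exfalso
          have : (1 : R) ∈ (⊤ : Ideal R) := trivial
          rw [hn] at this
          exact one_ne_zero this
        · exact h1.trans ((Ideal.pow_le_self hn0).trans hpI)
      exact hps (le_antisymm (IsLocalRing.le_maximalIdeal p.2.ne_top)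
        (p.2.le_of_pow_le hle)).symm.symm
    · have hle : IsLocalRing.maximalIdeal R ^ (k * (n + n)) ≤ q.asIdeal := by
        by_cases hn0 : n = 0
        · subst hn0
          simp only [pow_zero, Ideal.one_eq_top] at hn
          exfalso
          have : (1 : R) ∈ (⊤ : Ideal R) := trivial
          rw [hn] at this
          exact one_ne_zero this
        · exact h1.trans ((Ideal.pow_le_self hn0).trans hqJ)
      exact hqs (le_antisymm (IsLocalRing.le_maximalIdeal q.2.ne_top)
        (q.2.le_of_pow_le hle)).symm.symm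

end

end Groth.Agent.Lib.Helper2
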