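import Mathlib
import Groth.Agent.Lib.Helper2.InertiaEtale

/-!
# Decomposition group part of SGA 1, V, 2.2

`surjective_and_comap_pow_of_flat`: a flat local homomorphism with `m_A A' = m_{A'}` and trivial
residue field extension induces isomorphisms `A / m^n ≃ A' / m'^n`.
`localRingHom_invariants_iso_mod_pow`: the statement S6017.
`exists_invariant_element`, `exists_trace`: elements of `R^H`, `R^G` congruent to given ones modulo
`q`, for `H` containing the decomposition group.
-/

set_option linter.style.haveILetI false
set_option linter.unusedSectionVars false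
set_option autoImplicit false
universe u v
open IsLocalRing Pointwise

namespace Groth.Agent.Lib.Helper2.Inertia


section LocalIso

variable {A A' : Type*} [CommRing A] [CommRing A'] [IsLocalRing A] [IsLocalRing A']
  [Algebra A A'] [IsLocalHom (algebraMap A A')]

/-- For a local homomorphism with `m_A A' = m_{A'}` and trivial residue field extension, `A`
surjects onto `A' / m_{A'}^n`. -/
lemma exists_sub_mem_pow_of_residue_surjective
    (hm : (maximalIdeal A).map (algebraMap A A') = maximalIdeal A')
    (hres : ∀ a' : A', ∃ a : A, algebraMap A A' a - a' ∈ maximalIdeal A') (n : ℕ) (a' : A') :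
    ∃ a : A, algebraMap A A' a - a' ∈ maximalIdeal A' ^ n := by
  induction n generalizing a' with
  | zero => exact ⟨0, by simp⟩
  | succ n ih =>
    obtain ⟨a₀, ha₀⟩ := ih a'
    -- key: every element of `m'^n` is congruent mod `m'^(n+1)` to an element of the image
    have key : ∀ x ∈ (maximalIdeal A ^ n).map (algebraMap A A'),
        ∃ a : A, algebraMap A A' a - x ∈ maximalIdeal A' ^ (n + 1) := by
      intro x hx
      have hpow : (maximalIdeal A ^ n).map (algebraMap A A') = maximalIdeal A' ^ n := by
        rw [Ideal.map_pow, hm]
      induction hx using Submodule.span_induction with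
      | mem x h =>
        obtain ⟨c, -, rfl⟩ := h
        exact ⟨c, by simp⟩
      | zero => exact ⟨0, by simp⟩
      | add x y _ _ hx hy =>
        obtain ⟨a, ha⟩ := hx
        obtain ⟨b, hb⟩ := hy
        refine ⟨a + b, ?_⟩
        have : algebraMap A A' (a + b) - (x + y) =
            (algebraMap A A' a - x) + (algebraMap A A' b - y) := by rw [map_add]; ring
        rw [this]
        exact Ideal.add_mem _ ha hb
      | smul r x hxmem hx =>
        obtain ⟨a, ha⟩ := hx
        obtain ⟨ρ, hρ⟩ := hres r
        refine ⟨ρ * a, ?_⟩
        have hxmem' : x ∈ maximalIdeal A' ^ n := by rw [← hpow]; exact hxmem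
        have hφa : algebraMap A A' a ∈ maximalIdeal A' ^ n := by
          have : algebraMap A A' a = (algebraMap A A' a - x) + x := by ring
          rw [this]
          exact Ideal.add_mem _ (Ideal.pow_le_pow_right (Nat.le_succ n) ha) hxmem'
        have : algebraMap A A' (ρ * a) - r • x =
            (algebraMap A A' ρ - r) * algebraMap A A' a + r * (algebraMap A A' a - x) := by
          rw [map_mul, smul_eq_mul]; ring
        rw [this]
        refine Ideal.add_mem _ ?_ (Ideal.mul_mem_left _ _ ha)
        rw [pow_succ']
        exact Ideal.mul_mem_mul hρ hφa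
    have hx : algebraMap A A' a₀ - a' ∈ (maximalIdeal A ^ n).map (algebraMap A A') := by
      rw [Ideal.map_pow, hm]; exact ha₀
    obtain ⟨a, ha⟩ := key _ hx
    refine ⟨a₀ - a, ?_⟩
    have : algebraMap A A' (a₀ - a) - a' = -(algebraMap A A' a - (algebraMap A A' a₀ - a')) := by
      rw [map_sub]; ring
    rw [this]
    exact Ideal.neg_mem_iff _ |>.mpr ha

lemma surjective_and_comap_pow_of_flat [Module.Flat A A']
    (hm : (maximalIdeal A).map (algebraMap A A') = maximalIdeal A')
    (hres : ∀ a' : A', ∃ a : A, algebraMap A A' a - a' ∈ maximalIdeal A') (n : ℕ) :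
    Function.Surjective ((Ideal.Quotient.mk (maximalIdeal A' ^ n)).comp (algebraMap A A')) ∧
      Ideal.comap (algebraMap A A') (maximalIdeal A' ^ n) = maximalIdeal A ^ n := by
  constructor
  · intro z
    obtain ⟨a', rfl⟩ := Ideal.Quotient.mk_surjective z
    obtain ⟨a, ha⟩ := exists_sub_mem_pow_of_residue_surjective hm hres n a'
    exact ⟨a, by rw [RingHom.comp_apply]; exact (Ideal.Quotient.mk_eq_mk_iff_sub_mem _ _).mpr ha⟩
  · haveI : Module.FaithfullyFlat A A' := Module.FaithfullyFlat.of_flat_of_isLocalHom
    rw [← hm, ← Ideal.map_pow]
    exact Ideal.comap_map_eq_self_of_faithfullyFlat _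

end LocalIso



section Decomp

variable {G R : Type u} [Group G] [Finite G] [CommRing R] [MulSemiringAction G R]
  (q : Ideal R) [q.IsPrime]

lemma stabilizer_eq_dec : MulAction.stabilizer G q = dec G q := by
  ext σ
  rw [MulAction.mem_stabilizer_iff]
  constructor
  · intro h x
    conv_lhs => rw [← h]
    exact Ideal.smul_mem_pointwise_smul_iff
  · intro h
    ext x
    rw [Ideal.mem_pointwise_smul_iff_inv_smul_mem]
    exact ((dec G q).inv_mem h) x

/-- For `H ⊇ D`, an `H`-invariant element `y ≡ w ≢ 0 (mod q)` all of whose conjugates by elements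
outside `H` lie in `q`. -/
lemma exists_invariant_element (H : Subgroup G) (hD : dec G q ≤ H) :
    ∃ y : R, y ∉ q ∧ (∀ ρ ∈ H, ρ • y = y) ∧ (∀ τ, τ ∉ H → τ • y ∈ q) := by
  classical
  haveI : Fintype H := Fintype.ofFinite _
  obtain ⟨w, hw1, hw2, hw3⟩ := exists_dec_element (G := G) q
  have hT : ∀ z ∈ (Finset.univ.image (fun σ : H => (σ : G) • w)), z ≠ w → z ∈ q := by
    intro z hz hne
    obtain ⟨σ, -, rfl⟩ := Finset.mem_image.mp hz
    by_cases hσ : (σ : G) ∈ dec G q
    · exact absurd (hw2 _ hσ) hne
    · exact hw3 _ hσ
  have hwT : w ∈ (Finset.univ.image (fun σ : H => (σ : G) • w)) :=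
    Finset.mem_image.mpr ⟨1, Finset.mem_univ _, by simp⟩
  have hyw : (∑ z ∈ (Finset.univ.image (fun σ : H => (σ : G) • w)), z) - w ∈ q := by
    rw [← Finset.add_sum_erase _ _ hwT, add_sub_cancel_left]
    refine Ideal.sum_mem _ fun z hz => ?_
    exact hT z (Finset.mem_of_mem_erase hz) (Finset.ne_of_mem_erase hz)
  refine ⟨∑ z ∈ (Finset.univ.image (fun σ : H => (σ : G) • w)), z, ?_, ?_, ?_⟩
  · intro h
    apply hw1
    have := q.sub_mem h hyw
    simpa using this
  · intro ρ hρ
    rw [Finset.smul_sum]
    refine Finset.sum_bij (fun z _ => ρ • z) ?_ ?_ ?_ ?_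
    · intro z hz
      obtain ⟨σ, -, rfl⟩ := Finset.mem_image.mp hz
      exact Finset.mem_image.mpr ⟨⟨ρ, hρ⟩ * σ, Finset.mem_univ _, by simp [mul_smul]⟩
    · intro z₁ _ z₂ _ h
      exact MulAction.injective ρ h
    · intro z hz
      obtain ⟨σ, -, rfl⟩ := Finset.mem_image.mp hz
      refine ⟨(⟨ρ, hρ⟩⁻¹ * σ : H) • w, Finset.mem_image.mpr ⟨⟨ρ, hρ⟩⁻¹ * σ, Finset.mem_univ _, rfl⟩, ?_⟩
      simp [Subgroup.smul_def, mul_smul]
    · intro z _
      rfl
  · intro τ hτ
    rw [Finset.smul_sum]
    refine Ideal.sum_mem _ fun z hz => ?_
    obtain ⟨σ, -, rfl⟩ := Finset.mem_image.mp hz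
    rw [← mul_smul]
    apply hw3
    intro h
    apply hτ
    have := H.mul_mem (hD h) (H.inv_mem σ.2)
    simpa using this

/-- The trace from `H` to `G` of an `H`-invariant element all of whose outer conjugates lie in
`q`. -/
lemma exists_trace (H : Subgroup G) (v : R) (hv : ∀ ρ ∈ H, ρ • v = v)
    (hvq : ∀ τ, τ ∉ H → τ • v ∈ q) :
    ∃ a : FixedPoints.subring R G, (a : R) - v ∈ q := by
  classical
  haveI : Fintype (G ⧸ H) := Fintype.ofFinite _
  refine ⟨⟨∑ c : G ⧸ H, ev H v hv c, ?_⟩, ?_⟩
  · intro σ
    rw [Finset.smul_sum]
    refine Fintype.sum_bijective _ (MulAction.bijective σ) _ _ fun c => ?_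
    rw [ev_smul]
  · show (∑ c : G ⧸ H, ev H v hv c) - v ∈ q
    rw [← Finset.add_sum_erase _ _ (Finset.mem_univ (QuotientGroup.mk 1 : G ⧸ H)), ev_one,
      add_sub_cancel_left]
    refine Ideal.sum_mem _ fun c hc => ?_
    induction c using QuotientGroup.induction_on with
    | H τ =>
      rw [ev_mk]
      apply hvq
      intro hτ
      apply Finset.ne_of_mem_erase hc
      rw [QuotientGroup.eq]
      simpa using H.inv_mem hτ

end Decomp

/-- **SGA 1, V, 2.2 (decomposition group)**: for a subgroup `H` containing the decomposition group
of `q`, the local homomorphism `(R^G)_p → (R^H)_{q'}` induces isomorphisms modulo all powers of the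
maximal ideals. -/
theorem localRingHom_invariants_iso_mod_pow
    (G R : Type u) [Group G] [Finite G] [CommRing R] [MulSemiringAction G R]
    (H : Subgroup G) (q : Ideal R) [q.IsPrime] (hD : MulAction.stabilizer G q ≤ H)
    (hle : FixedPoints.subring R G ≤ FixedPoints.subring R H) (n : ℕ) :
    let q' : Ideal (FixedPoints.subring R H) := Ideal.comap (FixedPoints.subring R H).subtype q
    let φ := Localization.localRingHom (Ideal.comap (Subring.inclusion hle) q') q' (Subring.inclusion hle) rfl
    Function.Surjective ((Ideal.Quotient.mk (IsLocalRing.maximalIdeal (Localization.AtPrime q') ^ n)).comp φ) ∧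
      Ideal.comap φ (IsLocalRing.maximalIdeal (Localization.AtPrime q') ^ n) =
        IsLocalRing.maximalIdeal (Localization.AtPrime (Ideal.comap (Subring.inclusion hle) q')) ^ n := by
  intro q' φ
  obtain ⟨y, hyq, hyH, hyout⟩ := exists_invariant_element q H (by rwa [← stabilizer_eq_dec])
  obtain ⟨g, hg, het⟩ := etale_away_of_fixedPoints (G := G) H ⟨y, fun ρ => hyH ρ ρ.2⟩
  have hgq : g ∈ q'.primeCompl := by
    show g ∉ q'
    rw [Ideal.mem_comap]
    refine hg q inferInstance fun τ hτ h => ?_
    apply hyq
    have := q.sub_mem (hyout τ hτ) h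
    simpa using this
  have hle' : Submonoid.powers g ≤ q'.primeCompl := Submonoid.powers_le.mpr hgq
  letI : Algebra (Localization.Away g) (Localization.AtPrime q') :=
    IsLocalization.localizationAlgebraOfSubmonoidLe _ _ (Submonoid.powers g) q'.primeCompl hle'
  haveI : IsScalarTower (FixedPoints.subring R H) (Localization.Away g) (Localization.AtPrime q') :=
    IsLocalization.localization_isScalarTower_of_submonoid_le _ _ _ _ hle'
  haveI : IsLocalization (q'.primeCompl.map (algebraMap (FixedPoints.subring R H)
      (Localization.Away g))) (Localization.AtPrime q') :=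
    IsLocalization.isLocalization_of_submonoid_le _ _ (Submonoid.powers g) q'.primeCompl hle'
  haveI : IsScalarTower (FixedPoints.subring R G) (Localization.Away g)
      (Localization.AtPrime q') := by
    refine IsScalarTower.of_algebraMap_eq fun b => ?_
    rw [IsScalarTower.algebraMap_apply (FixedPoints.subring R G) (FixedPoints.subring R H)
      (Localization.AtPrime q'),
      IsScalarTower.algebraMap_apply (FixedPoints.subring R H) (Localization.Away g)
      (Localization.AtPrime q'),
      ← IsScalarTower.algebraMap_apply (FixedPoints.subring R G) (FixedPoints.subring R H)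
      (Localization.Away g)]
  haveI : Module.Flat (Localization.Away g) (Localization.AtPrime q') :=
    IsLocalization.flat _ (q'.primeCompl.map (algebraMap (FixedPoints.subring R H)
      (Localization.Away g)))
  haveI : Module.Flat (FixedPoints.subring R G) (Localization.AtPrime q') :=
    Module.Flat.trans _ (Localization.Away g) _
  haveI : Algebra.FormallyUnramified (Localization.Away g) (Localization.AtPrime q') :=
    Algebra.FormallyUnramified.of_isLocalization (q'.primeCompl.map (algebraMap (FixedPoints.subring R H)
      (Localization.Away g)))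
  haveI : Algebra.FormallyUnramified (FixedPoints.subring R G) (Localization.AtPrime q') :=
    Algebra.FormallyUnramified.comp _ (Localization.Away g) _
  haveI : Algebra.EssFiniteType (Localization.Away g) (Localization.AtPrime q') :=
    Algebra.EssFiniteType.of_isLocalization _ (q'.primeCompl.map (algebraMap (FixedPoints.subring R H)
      (Localization.Away g)))
  haveI : Algebra.EssFiniteType (FixedPoints.subring R G) (Localization.AtPrime q') :=
    Algebra.EssFiniteType.comp _ (Localization.Away g) _
  -- the structure over the localization of the invariants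
  letI : Algebra (Localization.AtPrime (Ideal.comap (Subring.inclusion hle) q'))
      (Localization.AtPrime q') := φ.toAlgebra
  haveI : IsScalarTower (FixedPoints.subring R G)
      (Localization.AtPrime (Ideal.comap (Subring.inclusion hle) q')) (Localization.AtPrime q') := by
    refine IsScalarTower.of_algebraMap_eq fun b => ?_
    show _ = φ _
    rw [Localization.localRingHom_to_map]
    rfl
  haveI : IsLocalHom (algebraMap (Localization.AtPrime (Ideal.comap (Subring.inclusion hle) q'))
      (Localization.AtPrime q')) := Localization.isLocalHom_localRingHom _ _ _ _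
  haveI : Module.Flat (Localization.AtPrime (Ideal.comap (Subring.inclusion hle) q'))
      (Localization.AtPrime q') :=
    (Module.flat_iff_of_isLocalization (Localization.AtPrime (Ideal.comap (Subring.inclusion hle) q'))
      (Ideal.comap (Subring.inclusion hle) q').primeCompl _).mpr inferInstance
  haveI : Algebra.FormallyUnramified (Localization.AtPrime (Ideal.comap (Subring.inclusion hle) q'))
      (Localization.AtPrime q') :=
    Algebra.FormallyUnramified.of_restrictScalars (FixedPoints.subring R G) _ _
  haveI : Algebra.EssFiniteType (Localization.AtPrime (Ideal.comap (Subring.inclusion hle) q'))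
      (Localization.AtPrime q') :=
    Algebra.EssFiniteType.of_comp (FixedPoints.subring R G) _ _
  have hm := Algebra.FormallyUnramified.map_maximalIdeal
    (R := Localization.AtPrime (Ideal.comap (Subring.inclusion hle) q'))
    (S := Localization.AtPrime q')
  have hres : ∀ a' : Localization.AtPrime q',
      ∃ a : Localization.AtPrime (Ideal.comap (Subring.inclusion hle) q'),
        algebraMap (Localization.AtPrime (Ideal.comap (Subring.inclusion hle) q'))
          (Localization.AtPrime q') a - a' ∈ maximalIdeal (Localization.AtPrime q') := by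
    intro a'
    obtain ⟨z, s, rfl⟩ := IsLocalization.exists_mk'_eq q'.primeCompl a'
    have hinv : ∀ t : FixedPoints.subring R H, ∀ ρ ∈ H, ρ • ((t : R) * y) = (t : R) * y := by
      intro t ρ hρ
      rw [smul_mul', hyH ρ hρ, show ρ • (t : R) = t from t.2 ⟨ρ, hρ⟩]
    have hout : ∀ t : FixedPoints.subring R H, ∀ τ, τ ∉ H → τ • ((t : R) * y) ∈ q := by
      intro t τ hτ
      rw [smul_mul']
      exact q.mul_mem_left _ (hyout τ hτ)
    obtain ⟨az, haz⟩ := exists_trace q H ((z : R) * y) (hinv z) (hout z)
    obtain ⟨as, has⟩ := exists_trace q H (((s : FixedPoints.subring R H) : R) * y) (hinv s) (hout s)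
    have hsq : ((s : FixedPoints.subring R H) : R) ∉ q := fun h => s.2 h
    have has' : as ∈ (Ideal.comap (Subring.inclusion hle) q').primeCompl := by
      intro h
      have h1 : (as : R) ∈ q := h
      have h2 : ((s : FixedPoints.subring R H) : R) * y ∈ q := by
        have := q.sub_mem h1 has
        simpa using this
      rcases Ideal.IsPrime.mem_or_mem inferInstance h2 with h3 | h3
      · exact hsq h3
      · exact hyq h3
    refine ⟨IsLocalization.mk' _ az ⟨as, has'⟩, ?_⟩
    show φ _ - _ ∈ _
    rw [Localization.localRingHom_mk']
    -- multiply by the common denominator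
    have hnum : (Subring.inclusion hle az) * (s : FixedPoints.subring R H) -
        z * (Subring.inclusion hle as) ∈ q' := by
      show (az : R) * ((s : FixedPoints.subring R H) : R) - (z : R) * (as : R) ∈ q
      have : (az : R) * ((s : FixedPoints.subring R H) : R) - (z : R) * (as : R) =
          ((az : R) - (z : R) * y) * ((s : FixedPoints.subring R H) : R) -
            (z : R) * ((as : R) - ((s : FixedPoints.subring R H) : R) * y) := by ring
      rw [this]
      exact q.sub_mem (q.mul_mem_right _ haz) (q.mul_mem_left _ has)
    have hmem := (IsLocalization.AtPrime.to_map_mem_maximal_iff (Localization.AtPrime q') q'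
      ((Subring.inclusion hle az) * (s : FixedPoints.subring R H) -
        z * (Subring.inclusion hle as))).mpr hnum
    have hunit : IsUnit (algebraMap (FixedPoints.subring R H) (Localization.AtPrime q')
        ((Subring.inclusion hle as) * (s : FixedPoints.subring R H))) :=
      IsLocalization.map_units (Localization.AtPrime q')
        (⟨Subring.inclusion hle as, has'⟩ * s : q'.primeCompl)
    have heq : (IsLocalization.mk' (Localization.AtPrime q') (Subring.inclusion hle az)
        (⟨Subring.inclusion hle as, has'⟩ : q'.primeCompl) -
        IsLocalization.mk' (Localization.AtPrime q') z s) *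
        algebraMap (FixedPoints.subring R H) (Localization.AtPrime q')
          ((Subring.inclusion hle as) * (s : FixedPoints.subring R H)) =
        algebraMap (FixedPoints.subring R H) (Localization.AtPrime q')
          ((Subring.inclusion hle az) * (s : FixedPoints.subring R H) -
            z * (Subring.inclusion hle as)) := by
      rw [sub_mul, map_mul, map_sub, map_mul, map_mul]
      have e1 : IsLocalization.mk' (Localization.AtPrime q') (Subring.inclusion hle az)
          (⟨Subring.inclusion hle as, has'⟩ : q'.primeCompl) *
          algebraMap (FixedPoints.subring R H) (Localization.AtPrime q')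
            (Subring.inclusion hle as) =
          algebraMap (FixedPoints.subring R H) (Localization.AtPrime q')
            (Subring.inclusion hle az) :=
        IsLocalization.mk'_spec _ _ (⟨Subring.inclusion hle as, has'⟩ : q'.primeCompl)
      have e2 : IsLocalization.mk' (Localization.AtPrime q') z s *
          algebraMap (FixedPoints.subring R H) (Localization.AtPrime q')
            (s : FixedPoints.subring R H) =
          algebraMap (FixedPoints.subring R H) (Localization.AtPrime q') z :=
        IsLocalization.mk'_spec _ _ s
      linear_combination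
        (algebraMap (FixedPoints.subring R H) (Localization.AtPrime q')
          (s : FixedPoints.subring R H)) * e1 -
        (algebraMap (FixedPoints.subring R H) (Localization.AtPrime q')
          (Subring.inclusion hle as)) * e2
    have := Ideal.mul_mem_right (↑(hunit.unit⁻¹) : Localization.AtPrime q') _ (heq ▸ hmem)
    rwa [mul_assoc, IsUnit.mul_val_inv, mul_one] at this
  exact surjective_and_comap_pow_of_flat hm hres n

end Groth.Agent.Lib.Helper2.Inertia
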