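import Mathlib
import Groth.Agent.Lib.Helper2.InertiaEtale

/-!
# Standard étale localisation of a ring over its invariants (abstract invariant ring)

`etale_away_of_isInvariant`: for `Algebra.IsInvariant B R G` with `B → R` injective and `y ∈ R`,
the localisation of `R` at `∏_{τ ≠ 1} (y - τ y)` is étale over `B` (universe-general version of
`etale_away_of_fixedPoints` for the trivial subgroup).
-/

set_option linter.style.haveILetI false
set_option linter.unusedSectionVars false
set_option autoImplicit false
universe u v w
open Polynomial Pointwise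

namespace Groth.Agent.Lib.Helper2.Inertia


section ActionGen

variable {G : Type w} [Group G] {R : Type v} [CommRing R] [MulSemiringAction G R]
  {ι : Type u} [Fintype ι] [DecidableEq ι] [MulAction G ι]

lemma smul_prodX' (r : ι → R) (hr : ∀ (σ : G) c, r (σ • c) = σ • r c) (σ : G) :
    σ • prodX r = prodX r := by
  rw [prodX, Finset.smul_prod']
  refine Fintype.prod_bijective _ (MulAction.bijective σ) _ _ fun c => ?_
  rw [smul_sub, smul_X, smul_C, hr]

lemma smul_lag' (r ζ : ι → R) (hr : ∀ (σ : G) c, r (σ • c) = σ • r c)
    (hζ : ∀ (σ : G) c, ζ (σ • c) = σ • ζ c) (σ : G) :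
    σ • lag r ζ = lag r ζ := by
  rw [lag, Finset.smul_sum]
  refine Fintype.sum_bijective _ (MulAction.bijective σ) _ _ fun c => ?_
  rw [smul_mul', smul_C, hζ, Finset.smul_prod']
  congr 1
  refine Finset.prod_equiv (MulAction.toPerm σ) (by simp) fun d _ => ?_
  rw [smul_sub, smul_X, smul_C, MulAction.toPerm_apply, hr]

end ActionGen

section Invariant

variable {B : Type u} {R : Type v} {G : Type w} [CommRing B] [CommRing R] [Algebra B R]
  [Group G] [MulSemiringAction G R] [SMulCommClass G B R] [Algebra.IsInvariant B R G]

lemma exists_map_eq_of_smul_eq (F : R[X]) (hF : ∀ σ : G, σ • F = F) :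
    ∃ FB : B[X], FB.map (algebraMap B R) = F := by
  have : F ∈ Polynomial.lifts (algebraMap B R) := by
    rw [Polynomial.lifts_iff_coeff_lifts]
    intro n
    obtain ⟨b, hb⟩ := Algebra.IsInvariant.isInvariant (A := B) (G := G) (F.coeff n) (fun σ => by
      rw [← Polynomial.coeff_smul, hF])
    exact ⟨b, hb⟩
  exact this

lemma smul_map_algebraMap (F : B[X]) (σ : G) :
    σ • F.map (algebraMap B R) = F.map (algebraMap B R) := by
  ext n
  rw [Polynomial.coeff_smul, Polynomial.coeff_map, smul_algebraMap]

/-- Let `G` act on `R` with ring of invariants `B` and `y ∈ R`. Then `R`, localised at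
`g = ∏_{τ ≠ 1} (y - τ y)`, is (standard) étale over `B`. -/
theorem etale_away_of_isInvariant [Finite G] (hinj : Function.Injective (algebraMap B R)) (y : R) :
    ∃ g : R, (∀ q : Ideal R, q.IsPrime → (∀ τ : G, τ ≠ 1 → τ • y - y ∉ q) → g ∉ q) ∧
      Algebra.Etale B (Localization.Away g) := by
  classical
  haveI : Fintype G := Fintype.ofFinite _
  have hr : ∀ (σ : G) (c : G), (fun τ : G => τ • y) (σ • c) = σ • (fun τ : G => τ • y) c := by
    intro σ c
    simp [mul_smul]
  have hζ : ∀ (z : R) (σ : G) (c : G), (fun τ : G => τ • z) (σ • c) = σ • (fun τ : G => τ • z) c := by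
    intro z σ c
    simp [mul_smul]
  have hrc₀ : (fun τ : G => τ • y) 1 = y := one_smul _ _
  have hPinv : ∀ σ : G, σ • prodX (fun τ : G => τ • y) = prodX (fun τ : G => τ • y) :=
    smul_prodX' _ hr
  have hLinv : ∀ (z : R) (σ : G), σ • lag (fun τ : G => τ • y) (fun τ : G => τ • z) =
      lag (fun τ : G => τ • y) (fun τ : G => τ • z) :=
    fun z => smul_lag' _ _ hr (hζ z)
  have hone : (fun τ : G => τ • (1 : R)) = fun _ => 1 := by
    funext τ
    exact smul_one _
  obtain ⟨PA, hPAmap⟩ := exists_map_eq_of_smul_eq (B := B) (prodX (fun τ : G => τ • y)) hPinv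
  have hPA_monic : PA.Monic := by
    have : (PA.map (algebraMap B R)).Monic := by rw [hPAmap]; exact prodX_monic _
    exact Polynomial.monic_of_injective hinj this
  have hdermap : (derivative PA).map (algebraMap B R) = lag (fun τ : G => τ • y) (fun _ => 1) := by
    rw [← Polynomial.derivative_map, hPAmap, derivative_prodX]
  have haeval : ∀ p : B[X], aeval y p = (p.map (algebraMap B R)).eval y := by
    intro p
    rw [Polynomial.aeval_def, Polynomial.eval₂_eq_eval_map]
  have hg : aeval y (derivative PA) =
      ∏ d ∈ Finset.univ.erase (1 : G), (y - d • y) := by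
    rw [haeval, hdermap]
    have := eval_lag (fun τ : G => τ • y) (fun _ => 1) 1
    simp only [one_smul] at this
    rw [this, one_mul]
  refine ⟨aeval y (derivative PA), ?_, ?_⟩
  · intro q hq hτ hgq
    rw [hg, Ideal.IsPrime.prod_mem_iff] at hgq
    obtain ⟨d, hd, hdq⟩ := hgq
    apply hτ d (Finset.ne_of_mem_erase hd)
    have := q.neg_mem hdq
    simpa using this
  · set g : R := aeval y (derivative PA) with hgdef
    let SP : StandardEtalePair B :=
      { f := PA, monic_f := hPA_monic, g := derivative PA, cond := ⟨1, 0, 1, by simp⟩ }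
    have hyPA : aeval y PA = 0 := by
      rw [haeval, hPAmap]
      have := eval_prodX (fun τ : G => τ • y) 1
      simp only [one_smul] at this
      exact this
    have hx : SP.HasMap (algebraMap R (Localization.Away g) y) := by
      constructor
      · show aeval _ PA = 0
        rw [Polynomial.aeval_algebraMap_apply, hyPA, map_zero]
      · show IsUnit (aeval _ (derivative PA))
        rw [Polynomial.aeval_algebraMap_apply]
        exact IsLocalization.Away.algebraMap_isUnit g
    have hφ_aeval : ∀ p : B[X],
        SP.lift _ hx (aeval SP.X p) = algebraMap R (Localization.Away g) (aeval y p) := by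
      intro p
      rw [← Polynomial.aeval_algHom_apply, SP.lift_X _ hx, Polynomial.aeval_algebraMap_apply]
    have hu : IsUnit (aeval SP.X (derivative PA)) := SP.hasMap_X.2
    have hXPA : aeval SP.X PA = 0 := SP.hasMap_X.1
    suffices Function.Bijective (SP.lift _ hx) from
      Algebra.Etale.of_equiv (AlgEquiv.ofBijective (SP.lift _ hx) this)
    constructor
    · rw [injective_iff_map_eq_zero]
      intro e he
      let Pres : StandardEtalePresentation B SP.Ring :=
        ⟨SP, SP.X, SP.hasMap_X, by simpa [StandardEtalePair.lift_X_left] using Function.bijective_id⟩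
      obtain ⟨p, n, hpn⟩ := Pres.exists_mul_aeval_x_g_pow_eq_aeval_x e
      change e * aeval SP.X (derivative PA) ^ n = aeval SP.X p at hpn
      have h1 : algebraMap R (Localization.Away g) (aeval y p) = 0 := by
        rw [← hφ_aeval, ← hpn, map_mul, he, zero_mul]
      obtain ⟨⟨_, m, rfl⟩, hm⟩ := (IsLocalization.map_eq_zero_iff (Submonoid.powers g) _ _).mp h1
      have hF1 : aeval y (derivative PA ^ m * p) = 0 := by
        rw [map_mul, map_pow]; exact hm
      have hF1R : ∀ c : G, ((derivative PA ^ m * p).map (algebraMap B R)).eval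
          ((fun τ : G => τ • y) c) = 0 := by
        intro c
        show ((derivative PA ^ m * p).map (algebraMap B R)).eval (c • y) = 0
        rw [Polynomial.eval_smul', smul_map_algebraMap, ← haeval, hF1, smul_zero]
      have hdvd := prodX_dvd_lag_one_mul (fun τ : G => τ • y) _ hF1R
      have hdvdA : PA ∣ derivative PA * (derivative PA ^ m * p) := by
        rw [← Polynomial.map_dvd_map _ hinj hPA_monic, Polynomial.map_mul, hPAmap, hdermap]
        exact hdvd
      obtain ⟨Q, hQ⟩ := hdvdA
      have h2 : aeval SP.X (derivative PA) * aeval SP.X (derivative PA ^ m * p) = 0 := by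
        rw [← map_mul, hQ, map_mul, hXPA, zero_mul]
      have h3 : aeval SP.X (derivative PA ^ m * p) = 0 := hu.mul_right_eq_zero.mp h2
      rw [map_mul, map_pow] at h3
      have h5 : aeval SP.X p = 0 := (hu.pow m).mul_right_eq_zero.mp h3
      rw [← hpn] at h5
      exact (hu.pow n).mul_left_eq_zero.mp h5
    · intro w
      obtain ⟨⟨s, ⟨_, n, rfl⟩⟩, hw⟩ := IsLocalization.surj (Submonoid.powers g) w
      obtain ⟨QA, hQAmap⟩ := exists_map_eq_of_smul_eq (B := B)
        (lag (fun τ : G => τ • y) (fun τ : G => τ • s)) (hLinv s)
      have hQ : aeval y QA = s * g := by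
        rw [haeval, hQAmap]
        have := eval_lag (fun τ : G => τ • y) (fun τ : G => τ • s) 1
        simp only [one_smul] at this
        rw [this, hg]
      have hv : SP.lift _ hx ↑(hu.unit⁻¹) * algebraMap R (Localization.Away g) g = 1 := by
        have hgφ : algebraMap R (Localization.Away g) g =
            SP.lift _ hx (aeval SP.X (derivative PA)) := (hφ_aeval (derivative PA)).symm
        rw [hgφ, ← map_mul, IsUnit.val_inv_mul, map_one]
      refine ⟨aeval SP.X QA * ↑(hu.unit⁻¹) ^ (n + 1), ?_⟩
      rw [map_mul, map_pow, hφ_aeval, hQ, map_mul]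
      have hw' : w * algebraMap R (Localization.Away g) g ^ n =
          algebraMap R (Localization.Away g) s := by
        rw [← hw, map_pow]
      have h1 : (algebraMap R (Localization.Away g) g * SP.lift _ hx ↑(hu.unit⁻¹)) ^ (n + 1) = 1 := by
        rw [mul_comm, hv, one_pow]
      calc algebraMap R (Localization.Away g) s * algebraMap R (Localization.Away g) g *
            SP.lift _ hx ↑(hu.unit⁻¹) ^ (n + 1)
          = w * (algebraMap R (Localization.Away g) g * SP.lift _ hx ↑(hu.unit⁻¹)) ^ (n + 1) := by
            rw [← hw']; ring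
        _ = w := by rw [h1, mul_one]

end Invariant

end Groth.Agent.Lib.Helper2.Inertia
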