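import Mathlib
import Groth.Agent.Lib.Helper2.InertiaDecomp
import Groth.Agent.Lib.Helper2.InertiaEtaleInv

/-!
# Étaleness of a quotient map by a finite group at a point with trivial stabiliser

`isEtaleAt_iff_stabilizer_eq_bot`: for a finitely generated domain `R` over an algebraically closed
field with a faithful action of a finite group `G` and ring of invariants `B`, `R` is étale over `B`
at a maximal ideal `m` iff the stabiliser of `m` is trivial.
-/

set_option linter.style.haveILetI false
set_option linter.unusedSectionVars false
set_option autoImplicit false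
universe u v w
open Polynomial Pointwise IsLocalRing

namespace Groth.Agent.Lib.Helper2.Inertia


section Stab

variable {R : Type v} {G : Type w} [CommRing R] [Group G] [Finite G] [MulSemiringAction G R]

lemma smul_eq_of_smul_le (σ : G) (I : Ideal R) (h : σ • I ≤ I) : σ • I = I := by
  refine le_antisymm h fun x hx => ?_
  rw [Ideal.mem_pointwise_smul_iff_inv_smul_mem]
  have hk : ∀ k : ℕ, σ ^ k • x ∈ I := by
    intro k
    induction k with
    | zero => simpa using hx
    | succ k ih =>
      rw [pow_succ', mul_smul]
      exact h (Ideal.smul_mem_pointwise_smul σ _ I ih)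
  have hinv : σ⁻¹ = σ ^ (orderOf σ - 1) := by
    apply inv_eq_of_mul_eq_one_left
    rw [← pow_succ, Nat.sub_add_cancel (orderOf_pos σ), pow_orderOf_eq_one]
  rw [hinv]
  exact hk _

lemma exists_element_of_stabilizer_eq_bot (q : Ideal R) [q.IsPrime]
    (hst : MulAction.stabilizer G q = ⊥) :
    ∃ y : R, y ∉ q ∧ ∀ τ : G, τ ≠ 1 → τ • y ∈ q := by
  classical
  haveI : Fintype G := Fintype.ofFinite G
  have hx : ∀ τ : G, ∃ x, x ∉ q ∧ (τ ≠ 1 → τ • x ∈ q) := by
    intro τ
    by_cases hτ : τ = 1
    · exact ⟨1, (Ideal.ne_top_iff_one q).mp Ideal.IsPrime.ne_top', fun h => absurd hτ h⟩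
    · have h1 : τ⁻¹ • q ≠ q := by
        intro h
        have : τ⁻¹ ∈ MulAction.stabilizer G q := h
        rw [hst, Subgroup.mem_bot, inv_eq_one] at this
        exact hτ this
      have h2 : ¬ (τ⁻¹ • q ≤ q) := fun h => h1 (smul_eq_of_smul_le _ _ h)
      obtain ⟨x, hx1, hx2⟩ := Set.not_subset.mp h2
      refine ⟨x, hx2, fun _ => ?_⟩
      have := (Ideal.mem_pointwise_smul_iff_inv_smul_mem).mp hx1
      simpa using this
  choose xs hxs1 hxs2 using hx
  refine ⟨∏ τ, xs τ, ?_, fun τ hτ => ?_⟩
  · rw [Ideal.IsPrime.prod_mem_iff]
    push Not
    intro τ _
    exact hxs1 τ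
  · rw [Finset.smul_prod']
    exact (Ideal.IsPrime.prod_mem_iff).mpr ⟨τ, Finset.mem_univ _, hxs2 τ hτ⟩

end Stab

section Main

theorem isEtaleAt_iff_stabilizer_eq_bot (k : Type u) [Field k] [IsAlgClosed k]
    (R : Type v) [CommRing R] [IsDomain R] [Algebra k R] [Algebra.FiniteType k R]
    (G : Type w) [Group G] [Finite G] [MulSemiringAction G R] [FaithfulSMul G R]
    (B : Type v) [CommRing B] [Algebra k B] [Algebra B R] [IsScalarTower k B R] [FaithfulSMul B R]
    [SMulCommClass G B R] [Algebra.IsInvariant B R G]
    (m : Ideal R) [m.IsMaximal] :
    Algebra.IsEtaleAt B m ↔ MulAction.stabilizer G m = ⊥ := by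
  have hinj : Function.Injective (algebraMap B R) := FaithfulSMul.algebraMap_injective B R
  constructor
  · intro het
    rw [Subgroup.eq_bot_iff_forall]
    intro σ hσ
    rw [MulAction.mem_stabilizer_iff] at hσ
    haveI : IsNoetherianRing R := Algebra.FiniteType.isNoetherianRing k R
    haveI : Algebra.FiniteType B R := Algebra.FiniteType.of_restrictScalars_finiteType k B R
    letI : Algebra (Localization.AtPrime (m.under B)) (Localization.AtPrime m) :=
      Localization.AtPrime.algebraOfLiesOver (m.under B) m
    haveI : Algebra.FormallyEtale B (Localization.AtPrime m) := het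
    haveI : Algebra.FormallyUnramified (Localization.AtPrime (m.under B)) (Localization.AtPrime m) :=
      Algebra.FormallyUnramified.of_restrictScalars B _ _
    haveI : Algebra.EssFiniteType R (Localization.AtPrime m) :=
      Algebra.EssFiniteType.of_isLocalization _ m.primeCompl
    haveI : Algebra.EssFiniteType B (Localization.AtPrime m) :=
      Algebra.EssFiniteType.comp B R _
    haveI : Algebra.EssFiniteType (Localization.AtPrime (m.under B)) (Localization.AtPrime m) :=
      Algebra.EssFiniteType.of_comp B _ _
    haveI : IsLocalHom (algebraMap (Localization.AtPrime (m.under B)) (Localization.AtPrime m)) :=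
      Localization.isLocalHom_localRingHom _ _ _ _
    have hm := Algebra.FormallyUnramified.map_maximalIdeal
      (R := Localization.AtPrime (m.under B)) (S := Localization.AtPrime m)
    -- the residue field is `k`
    letI : Field (R ⧸ m) := Ideal.Quotient.field m
    haveI : Module.Finite k (R ⧸ m) := finite_of_finite_type_of_isJacobsonRing k (R ⧸ m)
    have hk : Function.Surjective (algebraMap k (R ⧸ m)) :=
      (IsAlgClosed.algebraMap_bijective_of_isIntegral (k := k)).2
    have hkm : ∀ z : R, ∃ c : k, z - algebraMap k R c ∈ m := by
      intro z
      obtain ⟨c, hc⟩ := hk (Ideal.Quotient.mk m z)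
      refine ⟨c, ?_⟩
      rw [← Ideal.Quotient.eq_zero_iff_mem, map_sub, ← hc, sub_eq_zero]
      rfl
    have hres : ∀ a' : Localization.AtPrime m, ∃ a : Localization.AtPrime (m.under B),
        algebraMap (Localization.AtPrime (m.under B)) (Localization.AtPrime m) a - a' ∈
          maximalIdeal (Localization.AtPrime m) := by
      intro a'
      obtain ⟨z, s, rfl⟩ := IsLocalization.exists_mk'_eq m.primeCompl a'
      obtain ⟨cz, hcz⟩ := hkm z
      obtain ⟨cs, hcs⟩ := hkm s
      have hcs0 : cs ≠ 0 := by
        rintro rfl
        apply s.2
        simpa using hcs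
      refine ⟨algebraMap B _ (algebraMap k B (cz / cs)), ?_⟩
      have e1 : algebraMap (Localization.AtPrime (m.under B)) (Localization.AtPrime m)
          (algebraMap B _ (algebraMap k B (cz / cs))) =
          algebraMap R (Localization.AtPrime m) (algebraMap k R (cz / cs)) := by
        rw [← IsScalarTower.algebraMap_apply B (Localization.AtPrime (m.under B))
          (Localization.AtPrime m),
          IsScalarTower.algebraMap_apply B R (Localization.AtPrime m),
          ← IsScalarTower.algebraMap_apply k B R]
      rw [e1]
      have hnum : algebraMap k R (cz / cs) * (s : R) - z ∈ m := by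
        have h3 : algebraMap k R (cz / cs) * algebraMap k R cs = algebraMap k R cz := by
          rw [← map_mul, div_mul_cancel₀ _ hcs0]
        have : algebraMap k R (cz / cs) * (s : R) - z =
            algebraMap k R (cz / cs) * ((s : R) - algebraMap k R cs) - (z - algebraMap k R cz) := by
          linear_combination h3
        rw [this]
        exact m.sub_mem (m.mul_mem_left _ hcs) hcz
      have hmem := (IsLocalization.AtPrime.to_map_mem_maximal_iff (Localization.AtPrime m) m
        (algebraMap k R (cz / cs) * (s : R) - z)).mpr hnum
      have hunit : IsUnit (algebraMap R (Localization.AtPrime m) (s : R)) :=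
        IsLocalization.map_units _ s
      have heq : (algebraMap R (Localization.AtPrime m) (algebraMap k R (cz / cs)) -
          IsLocalization.mk' (Localization.AtPrime m) z s) *
          algebraMap R (Localization.AtPrime m) (s : R) =
          algebraMap R (Localization.AtPrime m) (algebraMap k R (cz / cs) * (s : R) - z) := by
        rw [sub_mul, IsLocalization.mk'_spec, map_sub, map_mul]
      have := Ideal.mul_mem_right (↑(hunit.unit⁻¹) : Localization.AtPrime m) _ (heq ▸ hmem)
      rwa [mul_assoc, IsUnit.mul_val_inv, mul_one] at this
    have hσm : m = Ideal.comap (MulSemiringAction.toRingHom G R σ) m := by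
      ext x
      rw [Ideal.mem_comap]
      show x ∈ m ↔ σ • x ∈ m
      conv_rhs => rw [← hσ]
      exact (Ideal.smul_mem_pointwise_smul_iff).symm
    haveI : IsLocalHom (Localization.localRingHom m m (MulSemiringAction.toRingHom G R σ) hσm) :=
      Localization.isLocalHom_localRingHom _ _ _ _
    have hfix : ∀ a : Localization.AtPrime (m.under B),
        Localization.localRingHom m m (MulSemiringAction.toRingHom G R σ) hσm
          (algebraMap _ (Localization.AtPrime m) a) = algebraMap _ (Localization.AtPrime m) a := by
      intro a
      have : (Localization.localRingHom m m (MulSemiringAction.toRingHom G R σ) hσm).comp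
          (algebraMap (Localization.AtPrime (m.under B)) (Localization.AtPrime m)) =
          algebraMap _ _ := by
        apply IsLocalization.ringHom_ext (m.under B).primeCompl
        ext b
        simp only [RingHom.comp_apply]
        rw [← IsScalarTower.algebraMap_apply B (Localization.AtPrime (m.under B))
          (Localization.AtPrime m),
          IsScalarTower.algebraMap_apply B R (Localization.AtPrime m),
          Localization.localRingHom_to_map]
        congr 1
        exact smul_algebraMap σ b
      exact RingHom.congr_fun this a
    have hpow : ∀ (n : ℕ) (x : Localization.AtPrime m),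
        x ∈ maximalIdeal (Localization.AtPrime m) ^ n →
        Localization.localRingHom m m (MulSemiringAction.toRingHom G R σ) hσm x ∈
          maximalIdeal (Localization.AtPrime m) ^ n := by
      intro n x hx
      have h1 : (maximalIdeal (Localization.AtPrime m) ^ n).map
          (Localization.localRingHom m m (MulSemiringAction.toRingHom G R σ) hσm) ≤
          maximalIdeal (Localization.AtPrime m) ^ n := by
        rw [Ideal.map_pow]
        exact Ideal.pow_right_mono (IsLocalRing.map_maximalIdeal_le _) n
      exact h1 (Ideal.mem_map_of_mem _ hx)
    have hall : ∀ a' : Localization.AtPrime m,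
        Localization.localRingHom m m (MulSemiringAction.toRingHom G R σ) hσm a' = a' := by
      intro a'
      have : Localization.localRingHom m m (MulSemiringAction.toRingHom G R σ) hσm a' - a' ∈
          (⨅ n : ℕ, maximalIdeal (Localization.AtPrime m) ^ n : Ideal _) := by
        rw [Ideal.mem_iInf]
        intro n
        obtain ⟨a, ha⟩ := exists_sub_mem_pow_of_residue_surjective hm hres n a'
        have h2 := hpow n _ ha
        rw [map_sub, hfix] at h2
        have := Ideal.sub_mem _ ha h2
        convert this using 1
        ring
      rw [Ideal.iInf_pow_eq_bot_of_isLocalRing _ (IsLocalRing.maximalIdeal.isMaximal _).ne_top]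
        at this
      exact sub_eq_zero.mp this
    apply FaithfulSMul.eq_of_smul_eq_smul (α := R)
    intro x
    rw [one_smul]
    apply IsLocalization.injective (Localization.AtPrime m) m.primeCompl_le_nonZeroDivisors
    have := hall (algebraMap R _ x)
    rw [Localization.localRingHom_to_map] at this
    exact this
  · intro hst
    obtain ⟨y, hy1, hy2⟩ := exists_element_of_stabilizer_eq_bot m hst
    obtain ⟨g, hg, het⟩ := etale_away_of_isInvariant (B := B) (G := G) hinj y
    have hgm : g ∈ m.primeCompl := by
      refine hg m inferInstance fun τ hτ h => ?_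
      apply hy1
      have := m.sub_mem (hy2 τ hτ) h
      simpa using this
    have hle' : Submonoid.powers g ≤ m.primeCompl := Submonoid.powers_le.mpr hgm
    letI : Algebra (Localization.Away g) (Localization.AtPrime m) :=
      IsLocalization.localizationAlgebraOfSubmonoidLe _ _ (Submonoid.powers g) m.primeCompl hle'
    haveI : IsScalarTower R (Localization.Away g) (Localization.AtPrime m) :=
      IsLocalization.localization_isScalarTower_of_submonoid_le _ _ _ _ hle'
    haveI : IsLocalization (m.primeCompl.map (algebraMap R (Localization.Away g)))
        (Localization.AtPrime m) :=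
      IsLocalization.isLocalization_of_submonoid_le _ _ (Submonoid.powers g) m.primeCompl hle'
    haveI : IsScalarTower B (Localization.Away g) (Localization.AtPrime m) := by
      refine IsScalarTower.of_algebraMap_eq fun b => ?_
      rw [IsScalarTower.algebraMap_apply B R (Localization.AtPrime m),
        IsScalarTower.algebraMap_apply R (Localization.Away g) (Localization.AtPrime m),
        ← IsScalarTower.algebraMap_apply B R (Localization.Away g)]
    haveI : Algebra.FormallyEtale (Localization.Away g) (Localization.AtPrime m) :=
      Algebra.FormallyEtale.of_isLocalization (m.primeCompl.map (algebraMap R (Localization.Away g)))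
    exact Algebra.FormallyEtale.comp B (Localization.Away g) (Localization.AtPrime m)

end Main

end Groth.Agent.Lib.Helper2.Inertia
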