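import Mathlib

/-!
# Nagata's trick (copied from `Mathlib.RingTheory.NoetherNormalization`, where it is private)

The automorphism `T f` of `k[X_0, …, X_n]` sending `X_i ↦ X_i + X_0 ^ r_i` makes a nonzero polynomial `f` have an
invertible leading coefficient as a polynomial in `X_0`.
-/

set_option autoImplicit false

open Polynomial MvPolynomial Ideal Nat RingHom List

namespace Groth.Agent.Lib.Helper2.Nagata

variable {k : Type*} [Field k] {n : ℕ} (f : MvPolynomial (Fin (n + 1)) k)
variable (v w : Fin (n + 1) →₀ ℕ)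

section equivT


/-- `up` is defined as `2 + f.totalDegree`. Any big enough number would work. -/
local notation3 "up" => 2 + f.totalDegree

variable {f v} in
lemma lt_up (vlt : ∀ i, v i < up) : ∀ l ∈ ofFn v, l < up := by
  grind

/-- `r` maps `(i : Fin (n + 1))` to `up ^ i`. -/
local notation3 "r" => fun (i : Fin (n + 1)) ↦ up ^ i.1

/-- We construct an algebra map `T1 f c` which maps `X_i` into `X_i + c • X_0 ^ r_i` when `i ≠ 0`
and `X_0` to `X_0`. -/
noncomputable abbrev T1 (c : k) :
    MvPolynomial (Fin (n + 1)) k →ₐ[k] MvPolynomial (Fin (n + 1)) k :=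
  aeval fun i ↦ if i = 0 then X 0 else X i + c • X 0 ^ r i

lemma t1_comp_t1_neg (c : k) : (T1 f c).comp (T1 f (-c)) = AlgHom.id _ _ := by
  rw [comp_aeval, ← MvPolynomial.aeval_X_left]
  ext i v
  cases i using Fin.cases <;> simp

/-- `T1 f 1` leads to an algebra equiv `T f`. -/
noncomputable abbrev T := AlgEquiv.ofAlgHom (T1 f 1) (T1 f (-1))
  (t1_comp_t1_neg f 1) (by simpa using t1_comp_t1_neg f (-1))

lemma sum_r_mul_ne (vlt : ∀ i, v i < up) (wlt : ∀ i, w i < up) (ne : v ≠ w) :
    ∑ x : Fin (n + 1), r x * v x ≠ ∑ x : Fin (n + 1), r x * w x := by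
  intro h
  refine ne <| Finsupp.ext <| congrFun <| ofFn_inj.mp ?_
  apply ofDigits_inj_of_len_eq (Nat.lt_add_right f.totalDegree one_lt_two)
    (by simp) (lt_up vlt) (lt_up wlt)
  simpa only [ofDigits_eq_sum_mapIdx, mapIdx_eq_ofFn, get_ofFn, length_ofFn,
    Fin.val_cast, mul_comm, sum_ofFn] using! h

lemma degreeOf_zero_t {a : k} (ha : a ≠ 0) : ((T f) (monomial v a)).degreeOf 0 =
    ∑ i : Fin (n + 1), (r i) * v i := by
  rw [← natDegree_finSuccEquiv, monomial_eq, Finsupp.prod_pow v fun a ↦ X a]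
  simp only [Fin.prod_univ_succ, Fin.sum_univ_succ, map_mul, map_prod, map_pow,
    AlgEquiv.ofAlgHom_apply, MvPolynomial.aeval_C, MvPolynomial.aeval_X, if_pos, Fin.succ_ne_zero,
    ite_false, one_smul, map_add, finSuccEquiv_X_zero, finSuccEquiv_X_succ, algebraMap_eq]
  have h (i : Fin n) :
      (Polynomial.C (X (R := k) i) + Polynomial.X ^ r i.succ) ^ v i.succ ≠ 0 :=
    pow_ne_zero (v i.succ) (leadingCoeff_ne_zero.mp <| by simp [add_comm, leadingCoeff_X_pow_add_C])
  rw [natDegree_mul (by simp [ha]) (mul_ne_zero (by simp) (Finset.prod_ne_zero_iff.mpr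
    (fun i _ ↦ h i))), natDegree_mul (by simp) (Finset.prod_ne_zero_iff.mpr (fun i _ ↦ h i)),
    natDegree_prod _ _ (fun i _ ↦ h i), natDegree_finSuccEquiv, degreeOf_C]
  simpa only [natDegree_pow, zero_add, natDegree_X, mul_one, Fin.val_zero, pow_zero, one_mul,
    add_right_inj] using Finset.sum_congr rfl (fun i _ ↦ by
    rw [add_comm (Polynomial.C _), natDegree_X_pow_add_C, mul_comm])

/-- `T` maps different monomials of `f` to polynomials with different degrees in `X_0`. -/
lemma degreeOf_t_ne_of_ne (hv : v ∈ f.support) (hw : w ∈ f.support) (ne : v ≠ w) :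
    (T f <| monomial v <| coeff v f).degreeOf 0 ≠
    (T f <| monomial w <| coeff w f).degreeOf 0 := by
  rw [degreeOf_zero_t _ _ <| mem_support_iff.mp hv, degreeOf_zero_t _ _ <| mem_support_iff.mp hw]
  refine sum_r_mul_ne f v w (fun i ↦ ?_) (fun i ↦ ?_) ne <;>
  exact lt_of_le_of_lt ((monomial_le_degreeOf i ‹_›).trans (degreeOf_le_totalDegree f i))
    (by lia)

lemma leadingCoeff_finSuccEquiv_t :
    (finSuccEquiv k n ((T f) ((monomial v) (coeff v f)))).leadingCoeff =
    algebraMap k _ (coeff v f) := by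
  rw [monomial_eq, Finsupp.prod_fintype]
  · simp only [map_mul, map_prod, leadingCoeff_mul, leadingCoeff_prod]
    rw [AlgEquiv.ofAlgHom_apply, algHom_C, algebraMap_eq, finSuccEquiv_apply,
      eval₂Hom_C, coe_comp]
    simp only [AlgEquiv.ofAlgHom_apply, Function.comp_apply, leadingCoeff_C, map_pow,
      leadingCoeff_pow, algebraMap_eq]
    have : ∀ j, ((finSuccEquiv k n) ((T1 f) 1 (X j))).leadingCoeff = 1 := fun j ↦ by
      by_cases h : j = 0
      · simp [h, finSuccEquiv_apply]
      · simp only [aeval_eq_bind₁, bind₁_X_right, if_neg h, one_smul, map_add, map_pow]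
        obtain ⟨i, rfl⟩ := Fin.exists_succ_eq.mpr h
        simp [finSuccEquiv_X_succ, finSuccEquiv_X_zero, add_comm]
    simp only [this, one_pow, Finset.prod_const_one, mul_one]
  exact fun i ↦ pow_zero _

/-- `T` maps `f` into some polynomial in `X_0` such that the leading coefficient is invertible. -/
lemma T_leadingcoeff_isUnit (fne : f ≠ 0) :
    IsUnit (finSuccEquiv k n (T f f)).leadingCoeff := by
  obtain ⟨v, vin, vs⟩ := Finset.exists_max_image f.support
    (fun v ↦ (T f ((monomial v) (coeff v f))).degreeOf 0) (support_nonempty.mpr fne)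
  set h := fun w ↦ (MvPolynomial.monomial w) (coeff w f)
  simp only [← natDegree_finSuccEquiv] at vs
  replace vs : ∀ x ∈ f.support \ {v}, (finSuccEquiv k n ((T f) (h x))).degree <
      (finSuccEquiv k n ((T f) (h v))).degree := by
    intro x hx
    obtain ⟨h1, h2⟩ := Finset.mem_sdiff.mp hx
    apply degree_lt_degree <| lt_of_le_of_ne (vs x h1) ?_
    simpa only [natDegree_finSuccEquiv]
      using degreeOf_t_ne_of_ne f _ _ h1 vin <| ne_of_not_mem_cons h2
  have coeff : (finSuccEquiv k n ((T f) (h v + ∑ x ∈ f.support \ {v}, h x))).leadingCoeff =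
      (finSuccEquiv k n ((T f) (h v))).leadingCoeff := by
    simp only [map_add, map_sum]
    rw [add_comm]
    apply leadingCoeff_add_of_degree_lt <| (lt_of_le_of_lt <| degree_sum_le _ _) ?_
    have h2 : h v ≠ 0 := by simpa [h] using mem_support_iff.mp vin
    replace h2 : (finSuccEquiv k n ((T f) (h v))) ≠ 0 := fun eq ↦ h2 <|
      by simpa only [map_eq_zero_iff _ (AlgEquiv.injective _)] using eq
    exact (Finset.sup_lt_iff <| Ne.bot_lt (fun x ↦ h2 <| degree_eq_bot.mp x)).mpr vs
  nth_rw 2 [← f.support_sum_monomial_coeff]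
  rw [Finset.sum_eq_add_sum_sdiff_singleton_of_mem vin h]
  rw [leadingCoeff_finSuccEquiv_t] at coeff
  simpa only [coeff, algebraMap_eq] using (mem_support_iff.mp vin).isUnit.map MvPolynomial.C

/-- Evaluating a polynomial in `n+1` variables at `(c, u)` in two steps. -/
theorem aeval_cons_eq {C : Type*} [CommRing C] [Algebra k C] (u : Fin n → C)
    (c : C) (F : MvPolynomial (Fin (n + 1)) k) :
    MvPolynomial.aeval (Fin.cons c u : Fin (n + 1) → C) F =
      Polynomial.eval₂ (MvPolynomial.aeval u : MvPolynomial (Fin n) k →ₐ[k] C).toRingHom c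
        (MvPolynomial.finSuccEquiv k n F) := by
  let ψ₂ : MvPolynomial (Fin (n + 1)) k →ₐ[k] C :=
    (Polynomial.eval₂AlgHom (MvPolynomial.aeval u : MvPolynomial (Fin n) k →ₐ[k] C) c
      (fun _ => Commute.all _ _)).comp (MvPolynomial.finSuccEquiv k n).toAlgHom
  have h : (MvPolynomial.aeval (Fin.cons c u : Fin (n + 1) → C) :
      MvPolynomial (Fin (n + 1)) k →ₐ[k] C) = ψ₂ := by
    apply MvPolynomial.algHom_ext
    intro i
    cases i using Fin.cases with
    | zero =>
      simp [ψ₂, MvPolynomial.finSuccEquiv_X_zero]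
    | succ j =>
      simp [ψ₂, MvPolynomial.finSuccEquiv_X_succ]
  rw [h]
  simp [ψ₂]

/-- **Nagata's trick**, applied: if `(γ, u_1, …, u_n)` satisfy a nonzero polynomial relation `f`, then `γ` is
integral over `k[u_j - γ ^ r_j]`. -/
theorem isIntegralElem_of_aeval_eq_zero {C : Type*} [CommRing C] [Algebra k C] (fne : f ≠ 0) (γ : C)
    (u : Fin n → C) (h0 : MvPolynomial.aeval (Fin.cons γ u : Fin (n + 1) → C) f = 0) :
    (MvPolynomial.aeval (fun j : Fin n => u j - γ ^ (up ^ (j.succ : Fin (n + 1)).1)) :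
      MvPolynomial (Fin n) k →ₐ[k] C).toRingHom.IsIntegralElem γ := by
  set u' : Fin n → C := fun j : Fin n => u j - γ ^ (up ^ (j.succ : Fin (n + 1)).1) with hu'
  have hcomp : (MvPolynomial.aeval (Fin.cons γ u' : Fin (n + 1) → C)).comp (T1 f 1) =
      (MvPolynomial.aeval (Fin.cons γ u : Fin (n + 1) → C) : MvPolynomial (Fin (n + 1)) k →ₐ[k] C) := by
    apply MvPolynomial.algHom_ext
    intro i
    cases i using Fin.cases with
    | zero => simp
    | succ j => simp [hu']
  have h1 : MvPolynomial.aeval (Fin.cons γ u' : Fin (n + 1) → C) (T f f) = 0 := by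
    have : T f f = T1 f 1 f := rfl
    rw [this, ← AlgHom.comp_apply, hcomp, h0]
  rw [aeval_cons_eq] at h1
  have hu := T_leadingcoeff_isUnit f fne
  refine ⟨hu.unit⁻¹ • (finSuccEquiv k n (T f f)), monic_of_isUnit_leadingCoeff_inv_smul hu, ?_⟩
  rw [Units.smul_def, Polynomial.eval₂_smul, h1, mul_zero]

end equivT

end Groth.Agent.Lib.Helper2.Nagata
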