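import Mathlib
import Groth.Agent.Lib.Helper2.Nagata

/-!
# Kedlaya's theorem: étale covers of affine space in characteristic `p` (affine form)

If `C` is étale over `k[X_1, …, X_n]` with `char k = p > 0`, then perturbing the coordinates `x_i` to `x_i + h_i ^ p`
keeps the map étale (the differentials do not change) and, for suitable `h_i` (Nagata's trick), makes it finite.

* `formallyEtale_of_bijective_mapBaseChange`, `formallyEtale_of_basis_D`, `etale_aeval_of_basis_D`: Jacobian criterion via
  the Jacobi–Zariski sequence.
* `exists_polynomial_ne_zero_aeval_eq_zero`: elements of an étale algebra over a domain are algebraic.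
* `isIntegralElem_trans`: transitivity of integrality for coordinate maps.
* `exists_perturbation`, `exists_finite_etale`: the theorem.
-/

set_option autoImplicit false
set_option linter.style.haveILetI false
set_option linter.unusedSectionVars false
universe u

open TensorProduct KaehlerDifferential

namespace Groth.Agent.Lib.Helper2.Kedlaya

/-- Jacobian criterion: if `C` is formally smooth over `k` and `C ⊗_P Ω_{P/k} → Ω_{C/k}` is bijective, then `C` is
formally étale over `P`. -/
theorem formallyEtale_of_bijective_mapBaseChange (k P C : Type u) [CommRing k] [CommRing P] [CommRing C]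
    [Algebra k P] [Algebra k C] [Algebra P C] [IsScalarTower k P C] [Algebra.FormallySmooth k C]
    (h : Function.Bijective (KaehlerDifferential.mapBaseChange k P C)) : Algebra.FormallyEtale P C := by
  constructor
  · -- Ω[C⁄P] = 0
    have hex := KaehlerDifferential.exact_mapBaseChange_map k P C
    have hsurj := KaehlerDifferential.map_surjective k P C
    refine ⟨fun a b => ?_⟩
    obtain ⟨a', rfl⟩ := hsurj a
    obtain ⟨b', rfl⟩ := hsurj b
    have ha : KaehlerDifferential.map k P C C a' = 0 := (hex a').mpr (h.2 a')
    have hb : KaehlerDifferential.map k P C C b' = 0 := (hex b').mpr (h.2 b')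
    rw [ha, hb]
  · -- H¹ = 0
    have hex1 := Algebra.H1Cotangent.exact_map_δ k P C
    have hex2 := Algebra.H1Cotangent.exact_δ_mapBaseChange k P C
    refine ⟨fun a b => ?_⟩
    have hδ : ∀ x, Algebra.H1Cotangent.δ k P C x = 0 := by
      intro x
      apply h.1
      rw [map_zero]
      exact (hex2 _).mpr ⟨x, rfl⟩
    have hzero : ∀ x : Algebra.H1Cotangent P C, x = 0 := by
      intro x
      obtain ⟨y, rfl⟩ := (hex1 x).mp (hδ x)
      rw [Subsingleton.elim y 0, map_zero]
    rw [hzero a, hzero b]

/-- If the differentials of the images of the variables form a basis of `Ω_{C/k}` and `C` is formally smooth over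
`k`, then `C` is formally étale over the polynomial ring. -/
theorem formallyEtale_of_basis_D (k C : Type u) {n : ℕ} [CommRing k] [CommRing C] [Algebra k C]
    [Algebra (MvPolynomial (Fin n) k) C] [IsScalarTower k (MvPolynomial (Fin n) k) C]
    [Algebra.FormallySmooth k C] (B : Module.Basis (Fin n) C Ω[C⁄k])
    (hB : ∀ i, B i = D k C (algebraMap (MvPolynomial (Fin n) k) C (MvPolynomial.X i))) :
    Algebra.FormallyEtale (MvPolynomial (Fin n) k) C := by
  apply formallyEtale_of_bijective_mapBaseChange k
  let b := KaehlerDifferential.mvPolynomialBasis k (Fin n)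
  let b' : Module.Basis (Fin n) C (C ⊗[MvPolynomial (Fin n) k] Ω[MvPolynomial (Fin n) k⁄k]) :=
    b.baseChange C
  have heq : KaehlerDifferential.mapBaseChange k (MvPolynomial (Fin n) k) C =
      (b'.equiv B (Equiv.refl _)).toLinearMap := by
    apply b'.ext
    intro i
    rw [LinearEquiv.coe_coe, Module.Basis.equiv_apply, Equiv.refl_apply, hB]
    simp only [b', b, Module.Basis.baseChange_apply, KaehlerDifferential.mapBaseChange_tmul,
      KaehlerDifferential.mvPolynomialBasis_apply, KaehlerDifferential.map_D, one_smul]
  rw [heq]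
  exact (b'.equiv B (Equiv.refl _)).bijective

/-- Étaleness of the coordinate map `X_i ↦ u_i` when the `d u_i` form a basis of `Ω_{C/k}`. -/
theorem etale_aeval_of_basis_D (k C : Type u) {n : ℕ} [Field k] [CommRing C] [Algebra k C]
    [Algebra.FormallySmooth k C] [Algebra.FiniteType k C] (B : Module.Basis (Fin n) C Ω[C⁄k])
    (u : Fin n → C) (hB : ∀ i, B i = D k C (u i)) :
    (MvPolynomial.aeval u : MvPolynomial (Fin n) k →ₐ[k] C).toRingHom.Etale := by
  letI alg : Algebra (MvPolynomial (Fin n) k) C :=
    (MvPolynomial.aeval u : MvPolynomial (Fin n) k →ₐ[k] C).toRingHom.toAlgebra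
  haveI : IsScalarTower k (MvPolynomial (Fin n) k) C :=
    IsScalarTower.of_algebraMap_eq (fun r => ((MvPolynomial.aeval u).commutes r).symm)
  have hB' : ∀ i, B i = D k C (algebraMap (MvPolynomial (Fin n) k) C (MvPolynomial.X i)) := by
    intro i
    rw [hB i]
    congr 1
    exact (MvPolynomial.aeval_X u i).symm
  haveI : Algebra.FormallyEtale (MvPolynomial (Fin n) k) C := formallyEtale_of_basis_D k C B hB'
  haveI : Algebra.FinitePresentation k C := Algebra.FinitePresentation.of_finiteType.mp inferInstance
  haveI : Algebra.FinitePresentation (MvPolynomial (Fin n) k) C :=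
    Algebra.FinitePresentation.of_restrict_scalars_finitePresentation k _ _
  exact (⟨inferInstance, inferInstance⟩ : Algebra.Etale (MvPolynomial (Fin n) k) C)

/-- For `C` formally étale over the polynomial ring, the differentials of the coordinates form a basis. -/
noncomputable def basisOfFormallyEtale (k C : Type u) (n : ℕ) [CommRing k] [CommRing C] [Algebra k C]
    [Algebra (MvPolynomial (Fin n) k) C] [IsScalarTower k (MvPolynomial (Fin n) k) C]
    [Algebra.FormallyEtale (MvPolynomial (Fin n) k) C] : Module.Basis (Fin n) C Ω[C⁄k] :=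
  ((KaehlerDifferential.mvPolynomialBasis k (Fin n)).baseChange C).map
    (KaehlerDifferential.tensorKaehlerEquivOfFormallyEtale k (MvPolynomial (Fin n) k) C)

theorem basisOfFormallyEtale_apply (k C : Type u) (n : ℕ) [CommRing k] [CommRing C] [Algebra k C]
    [Algebra (MvPolynomial (Fin n) k) C] [IsScalarTower k (MvPolynomial (Fin n) k) C]
    [Algebra.FormallyEtale (MvPolynomial (Fin n) k) C] (i : Fin n) :
    basisOfFormallyEtale k C n i =
      D k C (algebraMap (MvPolynomial (Fin n) k) C (MvPolynomial.X i)) := by
  simp [basisOfFormallyEtale]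

/-- Every element of an étale algebra over a domain is algebraic over the base. -/
theorem exists_polynomial_ne_zero_aeval_eq_zero (A C : Type u) [CommRing A] [IsDomain A] [CommRing C]
    [Algebra A C] [Algebra.Etale A C] (c : C) :
    ∃ G : Polynomial A, G ≠ 0 ∧ Polynomial.aeval c G = 0 := by
  let K := FractionRing A
  let T := K ⊗[A] C
  haveI : Algebra.Etale K T := inferInstance
  haveI : Module.Finite K T := Algebra.FormallyUnramified.finite_of_free K T
  have halg : IsAlgebraic K ((1 : K) ⊗ₜ[A] c : T) :=
    (Algebra.IsIntegral.isIntegral (R := K) ((1 : K) ⊗ₜ[A] c : T)).isAlgebraic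
  obtain ⟨G, hG0, hG⟩ := (IsFractionRing.isAlgebraic_iff A K T).mpr halg
  have h1 : ((1 : K) ⊗ₜ[A] (Polynomial.aeval c G) : T) = 0 := by
    have := Polynomial.aeval_algHom_apply (Algebra.TensorProduct.includeRight : C →ₐ[A] T) c G
    rw [Algebra.TensorProduct.includeRight_apply] at this
    rw [← Algebra.TensorProduct.includeRight_apply, ← this]
    exact hG
  have h2 : (TensorProduct.mk A K C 1) (Polynomial.aeval c G) = 0 := h1
  obtain ⟨s, hs⟩ := (IsLocalizedModule.eq_zero_iff (nonZeroDivisors A)
    (TensorProduct.mk A K C 1)).mp h2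
  refine ⟨Polynomial.C (s : A) * G, ?_, ?_⟩
  · exact mul_ne_zero (by
      rw [Ne, Polynomial.C_eq_zero]
      exact nonZeroDivisors.ne_zero s.2) hG0
  · rw [map_mul, Polynomial.aeval_C, ← Algebra.smul_def]
    exact hs

/-- Algebraic dependence: if `X_i ↦ u_i` is étale, then `(c, u_1, …, u_n)` satisfy a nonzero polynomial relation
over the field `k`. -/
theorem exists_ne_zero_aeval_cons_eq_zero (k C : Type u) {n : ℕ} [Field k] [CommRing C] [Algebra k C]
    (u : Fin n → C)
    (hu : (MvPolynomial.aeval u : MvPolynomial (Fin n) k →ₐ[k] C).toRingHom.Etale) (c : C) :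
    ∃ F : MvPolynomial (Fin (n + 1)) k, F ≠ 0 ∧
      MvPolynomial.aeval (Fin.cons c u : Fin (n + 1) → C) F = 0 := by
  letI alg : Algebra (MvPolynomial (Fin n) k) C :=
    (MvPolynomial.aeval u : MvPolynomial (Fin n) k →ₐ[k] C).toRingHom.toAlgebra
  haveI : Algebra.Etale (MvPolynomial (Fin n) k) C := hu
  obtain ⟨G, hG0, hG⟩ := exists_polynomial_ne_zero_aeval_eq_zero (MvPolynomial (Fin n) k) C c
  refine ⟨(MvPolynomial.finSuccEquiv k n).symm G, ?_, ?_⟩
  · intro h0
    apply hG0
    have := congrArg (MvPolynomial.finSuccEquiv k n) h0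
    rwa [AlgEquiv.apply_symm_apply, map_zero] at this
  · rw [Groth.Agent.Lib.Helper2.Nagata.aeval_cons_eq, AlgEquiv.apply_symm_apply]
    exact hG

/-- Transitivity of integrality for coordinate maps: if all `f (X j)` are integral over `f'`, then everything integral
over `f` is integral over `f'`. -/
theorem isIntegralElem_trans {k C : Type u} {n : ℕ} [Field k] [CommRing C] [Algebra k C]
    (f f' : MvPolynomial (Fin n) k →ₐ[k] C)
    (h : ∀ j, f'.toRingHom.IsIntegralElem (f (MvPolynomial.X j))) (a : C)
    (ha : f.toRingHom.IsIntegralElem a) : f'.toRingHom.IsIntegralElem a := by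
  letI alg : Algebra (MvPolynomial (Fin n) k) C := f'.toRingHom.toAlgebra
  haveI : IsScalarTower k (MvPolynomial (Fin n) k) C :=
    IsScalarTower.of_algebraMap_eq (fun r => (f'.commutes r).symm)
  let S : Subalgebra (MvPolynomial (Fin n) k) C := integralClosure (MvPolynomial (Fin n) k) C
  have hmem : ∀ q : MvPolynomial (Fin n) k, f q ∈ S := by
    intro q
    have hsub : (f.range : Subalgebra k C) ≤ S.restrictScalars k := by
      have hf : f = MvPolynomial.aeval (fun j => f (MvPolynomial.X j)) := by
        apply MvPolynomial.algHom_ext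
        intro j
        simp
      rw [hf, ← Algebra.adjoin_range_eq_range_aeval, Algebra.adjoin_le_iff]
      rintro _ ⟨j, rfl⟩
      exact h j
    exact hsub ⟨q, rfl⟩
  obtain ⟨Q, hQmonic, hQ⟩ := ha
  let g : MvPolynomial (Fin n) k →+* S := f.toRingHom.codRestrict S.toSubring hmem
  have hint : IsIntegral S a := by
    refine ⟨Q.map g, hQmonic.map g, ?_⟩
    rw [Polynomial.eval₂_map]
    exact hQ
  exact isIntegral_trans (R := MvPolynomial (Fin n) k) (A := S) a hint

section Main

variable {k C : Type u} {n : ℕ} [Field k] [CommRing C] [Algebra k C] (p : ℕ) [Fact p.Prime]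
  [CharP k p] [CharP C p] [Algebra.FormallySmooth k C] [Algebra.FiniteType k C]
  (B : Module.Basis (Fin n) C Ω[C⁄k]) (x : Fin n → C) (hB : ∀ i, B i = D k C (x i))

omit [CharP k p] [Algebra.FormallySmooth k C] [Algebra.FiniteType k C] in
theorem D_add_pow (c h : C) : D k C (c + h ^ p) = D k C c := by
  rw [map_add, Derivation.leibniz_pow]
  have : (p : C) = 0 := CharP.cast_eq_zero C p
  rw [← Nat.cast_smul_eq_nsmul C p, this, zero_smul, add_zero]

include hB in
theorem etale_aeval_add_pow (h : Fin n → C) :
    (MvPolynomial.aeval (fun i => x i + h i ^ p) : MvPolynomial (Fin n) k →ₐ[k] C).toRingHom.Etale :=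
  etale_aeval_of_basis_D k C B _ (fun i => by rw [hB, D_add_pow])

include hB in
theorem exists_perturbation (l : List C) : ∃ h : Fin n → C,
    (∀ g ∈ l, (MvPolynomial.aeval (fun i => x i + h i ^ p) :
      MvPolynomial (Fin n) k →ₐ[k] C).toRingHom.IsIntegralElem g) ∧
    ∀ i, (MvPolynomial.aeval (fun i => x i + h i ^ p) :
      MvPolynomial (Fin n) k →ₐ[k] C).toRingHom.IsIntegralElem (x i) := by
  have hp0 : p ≠ 0 := (Fact.out : p.Prime).ne_zero
  induction l with
  | nil =>
    refine ⟨fun _ => 0, by simp, fun i => ?_⟩
    have hx : x i = (MvPolynomial.aeval (fun i => x i + (0 : C) ^ p) :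
        MvPolynomial (Fin n) k →ₐ[k] C).toRingHom (MvPolynomial.X i) := by
      simp [zero_pow hp0]
    conv_rhs => rw [hx]
    exact RingHom.isIntegralElem_map _
  | cons g l ih =>
    obtain ⟨h, hl, hx⟩ := ih
    set u : Fin n → C := fun i => x i + h i ^ p with hu
    have hét := etale_aeval_add_pow p B x hB h
    obtain ⟨F, hF0, hF⟩ := exists_ne_zero_aeval_cons_eq_zero k C u hét (g ^ p)
    have hN := Groth.Agent.Lib.Helper2.Nagata.isIntegralElem_of_aeval_eq_zero F hF0 (g ^ p) u hF
    set e : Fin n → ℕ := fun j => (2 + F.totalDegree) ^ (j.succ : Fin (n + 1)).1 with he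
    have hfun : (fun j : Fin n => u j - (g ^ p) ^ ((2 + F.totalDegree) ^ (j.succ : Fin (n + 1)).1)) =
        fun j => x j + (h j - g ^ e j) ^ p := by
      funext j
      rw [sub_pow_char, hu, he]
      simp only
      rw [← pow_mul, ← pow_mul, mul_comm p]
      ring
    rw [hfun] at hN
    set f' : MvPolynomial (Fin n) k →ₐ[k] C :=
      MvPolynomial.aeval (fun j => x j + (h j - g ^ e j) ^ p) with hf'
    set f : MvPolynomial (Fin n) k →ₐ[k] C := MvPolynomial.aeval u with hf
    have hg : f'.toRingHom.IsIntegralElem g := by
      letI alg : Algebra (MvPolynomial (Fin n) k) C := f'.toRingHom.toAlgebra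
      exact IsIntegral.of_pow (R := MvPolynomial (Fin n) k) (Nat.pos_of_ne_zero hp0) hN
    have hXj : ∀ j, f'.toRingHom.IsIntegralElem (f (MvPolynomial.X j)) := by
      intro j
      letI alg : Algebra (MvPolynomial (Fin n) k) C := f'.toRingHom.toAlgebra
      have h1 : f (MvPolynomial.X j) = f' (MvPolynomial.X j) + (g ^ p) ^ e j := by
        have := congrFun hfun j
        simp only [hf, hf', MvPolynomial.aeval_X]
        rw [← this]
        ring
      rw [h1]
      have h2 : IsIntegral (MvPolynomial (Fin n) k) (f' (MvPolynomial.X j)) :=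
        isIntegral_algebraMap (R := MvPolynomial (Fin n) k) (A := C) (x := MvPolynomial.X j)
      have h3 : IsIntegral (MvPolynomial (Fin n) k) (g ^ p) := hN
      exact IsIntegral.add h2 (h3.pow _)
    refine ⟨fun j => h j - g ^ e j, ?_, ?_⟩
    · intro a ha
      rcases List.mem_cons.mp ha with rfl | ha
      · exact hg
      · exact isIntegralElem_trans f f' hXj a (hl a ha)
    · intro i
      exact isIntegralElem_trans f f' hXj (x i) (hx i)

end Main

/-- **Kedlaya's theorem** (affine form): an algebra étale over the polynomial ring in `n` variables over a field of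
characteristic `p > 0` admits a finite étale map from that polynomial ring. -/
theorem exists_finite_etale (k : Type u) [Field k] (p : ℕ) [Fact p.Prime] [CharP k p] (n : ℕ)
    (C : Type u) [CommRing C] [Algebra (MvPolynomial (Fin n) k) C] [Algebra k C]
    [IsScalarTower k (MvPolynomial (Fin n) k) C] [Algebra.Etale (MvPolynomial (Fin n) k) C] :
    ∃ φ : MvPolynomial (Fin n) k →ₐ[k] C, φ.toRingHom.Finite ∧ φ.toRingHom.Etale := by
  rcases subsingleton_or_nontrivial C with hC | hC
  · refine ⟨IsScalarTower.toAlgHom k _ C, ?_, ?_⟩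
    · have h1 : (IsScalarTower.toAlgHom k (MvPolynomial (Fin n) k) C).toRingHom =
          algebraMap (MvPolynomial (Fin n) k) C := rfl
      rw [h1, RingHom.finite_algebraMap]
      exact Module.Finite.of_surjective (0 : MvPolynomial (Fin n) k →ₗ[MvPolynomial (Fin n) k] C)
        (fun c => ⟨0, Subsingleton.elim _ _⟩)
    · have h1 : (IsScalarTower.toAlgHom k (MvPolynomial (Fin n) k) C).toRingHom =
          algebraMap (MvPolynomial (Fin n) k) C := rfl
      rw [h1, RingHom.etale_algebraMap]
      infer_instance
  · haveI : CharP C p := charP_of_injective_algebraMap (algebraMap k C).injective p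
    haveI : Algebra.FormallySmooth k C :=
      Algebra.FormallySmooth.comp k (MvPolynomial (Fin n) k) C
    haveI : Algebra.FiniteType k C :=
      Algebra.FiniteType.trans (inferInstance : Algebra.FiniteType k (MvPolynomial (Fin n) k))
        inferInstance
    let B := basisOfFormallyEtale k C n
    let x : Fin n → C := fun i => algebraMap (MvPolynomial (Fin n) k) C (MvPolynomial.X i)
    have hB : ∀ i, B i = D k C (x i) := basisOfFormallyEtale_apply k C n
    obtain ⟨s, hs⟩ := (Algebra.FiniteType.out : (⊤ : Subalgebra k C).FG)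
    obtain ⟨h, hl, hx⟩ := exists_perturbation p B x hB s.toList
    refine ⟨MvPolynomial.aeval (fun i => x i + h i ^ p), ?_, etale_aeval_add_pow p B x hB h⟩
    apply RingHom.IsIntegral.to_finite
    · intro a
      letI alg : Algebra (MvPolynomial (Fin n) k) C :=
        (MvPolynomial.aeval (fun i => x i + h i ^ p) :
          MvPolynomial (Fin n) k →ₐ[k] C).toRingHom.toAlgebra
      haveI : IsScalarTower k (MvPolynomial (Fin n) k) C :=
        IsScalarTower.of_algebraMap_eq (fun r => ((MvPolynomial.aeval
          (fun i => x i + h i ^ p) : MvPolynomial (Fin n) k →ₐ[k] C).commutes r).symm)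
      have hle : (⊤ : Subalgebra k C) ≤
          (integralClosure (MvPolynomial (Fin n) k) C).restrictScalars k := by
        rw [← hs, Algebra.adjoin_le_iff]
        intro g hg
        exact hl g (Finset.mem_toList.mpr hg)
      exact hle Algebra.mem_top
    · have h1 : ((MvPolynomial.aeval (fun i => x i + h i ^ p) :
          MvPolynomial (Fin n) k →ₐ[k] C).toRingHom.comp
            (algebraMap k (MvPolynomial (Fin n) k))).FiniteType := by
        have : (MvPolynomial.aeval (fun i => x i + h i ^ p) :
          MvPolynomial (Fin n) k →ₐ[k] C).toRingHom.comp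
            (algebraMap k (MvPolynomial (Fin n) k)) = algebraMap k C := by
          ext r
          simp
        rw [this, RingHom.finiteType_algebraMap]
        infer_instance
      exact h1.of_comp_finiteType

end Groth.Agent.Lib.Helper2.Kedlaya
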