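import Mathlib
import Groth.Agent.Lib.Helper13.LimDescent

/-!
# Descent of isomorphisms through cofiltered limits of schemes (helper2)

Setting: `D : I ⥤ Scheme` cofiltered with affine transition maps, limit cone `c`, a stage `i` and
`xi : Xi ⟶ D.obj i`, `yi : Yi ⟶ D.obj i`.  We use helper13's `sys D i xi : Over i ⥤ Scheme`
(base changes `pullback (D.map k.hom) xi`) through a typed layer `pf`, `ps`, `cpf`, `cps`, `cπ`,
`slift`, `sys_hom_ext` which keeps all objects syntactically of the form `(sys D i xi).obj p`.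

* `exists_stage_hom` (fullness, Mathlib's `exists_π_app_comp_eq_of_locallyOfFinitePresentation`),
  `exists_stage_eq'` (faithfulness);
* `stageMap`: the induced maps between stages; `stageMap_naturality`, `stageMap_cone`;
* `exists_stage_iso`: an isomorphism over the limit between the base changes of `xi` and `yi`
  (qcqs, locally of finite presentation) descends to an isomorphism at some stage.
-/

set_option autoImplicit false
set_option linter.style.haveILetI false
set_option linter.unusedSectionVars false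
universe u

open CategoryTheory CategoryTheory.Limits AlgebraicGeometry
open Groth.Agent.Lib.Helper13.LimDescent

namespace Groth.Agent.Lib.Helper2.LimIsoDescent

variable {I : Type u} [SmallCategory I] [IsCofiltered I]
    (D : I ⥤ Scheme.{u}) (c : Limits.Cone D) (hc : Limits.IsLimit c)
    [hD : ∀ {i j : I} (f : i ⟶ j), IsAffineHom (D.map f)]

section

variable {i : I} {Xi : Scheme.{u}} (xi : Xi ⟶ D.obj i)

/-! ### A typed layer over helper13's `sys` -/

/-- First projection of a stage. -/
noncomputable def pf (p : Over i) : (sys D i xi).obj p ⟶ D.obj p.left :=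
  pullback.fst (D.map p.hom) xi

/-- Second projection of a stage. -/
noncomputable def ps (p : Over i) : (sys D i xi).obj p ⟶ Xi :=
  pullback.snd (D.map p.hom) xi

/-- First projection of the limit. -/
noncomputable def cpf : (sysCone D c i xi).pt ⟶ c.pt := pullback.fst (c.π.app i) xi

/-- Second projection of the limit. -/
noncomputable def cps : (sysCone D c i xi).pt ⟶ Xi := pullback.snd (c.π.app i) xi

/-- Legs of the limit cone. -/
noncomputable def cπ (p : Over i) : (sysCone D c i xi).pt ⟶ (sys D i xi).obj p :=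
  (sysCone D c i xi).π.app p

variable {D xi}

@[reassoc]
lemma pf_cond (p : Over i) : pf D xi p ≫ D.map p.hom = ps D xi p ≫ xi := pullback.condition

@[reassoc]
lemma cpf_cond : cpf D c xi ≫ c.π.app i = cps D c xi ≫ xi := pullback.condition

@[reassoc]
lemma map_pf {p q : Over i} (r : q ⟶ p) :
    (sys D i xi).map r ≫ pf D xi p = pf D xi q ≫ D.map r.left := sys_map_fst D i xi r

@[reassoc]
lemma map_ps {p q : Over i} (r : q ⟶ p) :
    (sys D i xi).map r ≫ ps D xi p = ps D xi q := sys_map_snd D i xi r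

@[reassoc]
lemma cπ_pf (p : Over i) : cπ D c xi p ≫ pf D xi p = cpf D c xi ≫ c.π.app p.left :=
  sysCone_π_fst D c i xi p

@[reassoc]
lemma cπ_ps (p : Over i) : cπ D c xi p ≫ ps D xi p = cps D c xi := sysCone_π_snd D c i xi p

@[reassoc]
lemma cπ_map {p q : Over i} (r : q ⟶ p) : cπ D c xi q ≫ (sys D i xi).map r = cπ D c xi p :=
  (sysCone D c i xi).w r

lemma sys_hom_ext {W : Scheme.{u}} {p : Over i} (a b : W ⟶ (sys D i xi).obj p)
    (h1 : a ≫ pf D xi p = b ≫ pf D xi p) (h2 : a ≫ ps D xi p = b ≫ ps D xi p) : a = b :=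
  pullback.hom_ext h1 h2

lemma pt_hom_ext {W : Scheme.{u}} (a b : W ⟶ (sysCone D c i xi).pt)
    (h1 : a ≫ cpf D c xi = b ≫ cpf D c xi) (h2 : a ≫ cps D c xi = b ≫ cps D c xi) : a = b :=
  pullback.hom_ext h1 h2

/-- Lift into a stage. -/
noncomputable def slift {W : Scheme.{u}} {p : Over i} (a : W ⟶ D.obj p.left) (b : W ⟶ Xi)
    (h : a ≫ D.map p.hom = b ≫ xi) : W ⟶ (sys D i xi).obj p := pullback.lift a b h

@[reassoc]
lemma slift_pf {W : Scheme.{u}} {p : Over i} (a : W ⟶ D.obj p.left) (b : W ⟶ Xi)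
    (h : a ≫ D.map p.hom = b ≫ xi) : slift a b h ≫ pf D xi p = a := pullback.lift_fst _ _ _

@[reassoc]
lemma slift_ps {W : Scheme.{u}} {p : Over i} (a : W ⟶ D.obj p.left) (b : W ⟶ Xi)
    (h : a ≫ D.map p.hom = b ≫ xi) : slift a b h ≫ ps D xi p = b := pullback.lift_snd _ _ _

variable (D xi)

/-- The structure transformation of `sys D i xi` to the constant diagram `D.obj i`. -/
noncomputable def tSys : sys D i xi ⟶ (Functor.const (Over i)).obj (D.obj i) where
  app k := ps D xi k ≫ xi
  naturality k k' a := by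
    dsimp only [Functor.const_obj_obj, Functor.const_obj_map]
    rw [Category.comp_id, map_ps_assoc]

variable {Yi : Scheme.{u}} (yi : Yi ⟶ D.obj i)

include hc in
set_option backward.isDefEq.respectTransparency false in
/-- Fullness: a morphism from the limit of the base changes of `xi` to a scheme `Yi` locally of
finite presentation over the stage `i` factors through a finite stage. -/
theorem exists_stage_hom [CompactSpace Xi] [QuasiSeparatedSpace Xi]
    [LocallyOfFinitePresentation yi]
    (a : (sysCone D c i xi).pt ⟶ Yi) (ha : a ≫ yi = cps D c xi ≫ xi) :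
    ∃ (k : Over i) (g : (sys D i xi).obj k ⟶ Yi),
      cπ D c xi k ≫ g = a ∧ g ≫ yi = ps D xi k ≫ xi := by
  obtain ⟨k, g, hg1, hg2⟩ := Scheme.exists_π_app_comp_eq_of_locallyOfFinitePresentation
    (sys D i xi) (tSys D xi) yi (sysCone D c i xi) (isLimitSysCone D c i xi hc) a (by
      ext k
      dsimp only [NatTrans.comp_app, tSys, Functor.const_map_app]
      rw [ha]
      exact cπ_ps_assoc c k xi)
  exact ⟨k, g, hg1, hg2⟩

include hc in
set_option backward.isDefEq.respectTransparency false in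
/-- Faithfulness. -/
theorem exists_stage_eq' [CompactSpace Xi] [LocallyOfFiniteType yi] (k : Over i)
    (a b : (sys D i xi).obj k ⟶ Yi)
    (ha : a ≫ yi = ps D xi k ≫ xi) (hb : b ≫ yi = ps D xi k ≫ xi)
    (hab : cπ D c xi k ≫ a = cπ D c xi k ≫ b) :
    ∃ (l : Over i) (v : l ⟶ k), (sys D i xi).map v ≫ a = (sys D i xi).map v ≫ b := by
  obtain ⟨l, v, h⟩ := Scheme.exists_hom_comp_eq_comp_of_locallyOfFiniteType
    (sys D i xi) (tSys D xi) yi (sysCone D c i xi) (isLimitSysCone D c i xi hc) (i := k) a b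
    ha.symm hb.symm hab
  exact ⟨l, v, h⟩

/-- The map between the stages `p` of the two systems induced by a map `g` from the stage `k` of the
`xi`-system to `Yi`. -/
noncomputable def stageMap {k : Over i} (g : (sys D i xi).obj k ⟶ Yi)
    (hg : g ≫ yi = ps D xi k ≫ xi) {p : Over i} (s : p ⟶ k) :
    (sys D i xi).obj p ⟶ (sys D i yi).obj p :=
  slift (pf D xi p) ((sys D i xi).map s ≫ g) (by
    rw [Category.assoc, hg, map_ps_assoc, pf_cond])

variable {D xi yi}

@[reassoc]
lemma stageMap_pf {k : Over i} (g : (sys D i xi).obj k ⟶ Yi)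
    (hg : g ≫ yi = ps D xi k ≫ xi) {p : Over i} (s : p ⟶ k) :
    stageMap D xi yi g hg s ≫ pf D yi p = pf D xi p := slift_pf _ _ _

@[reassoc]
lemma stageMap_ps {k : Over i} (g : (sys D i xi).obj k ⟶ Yi)
    (hg : g ≫ yi = ps D xi k ≫ xi) {p : Over i} (s : p ⟶ k) :
    stageMap D xi yi g hg s ≫ ps D yi p = (sys D i xi).map s ≫ g := slift_ps _ _ _

@[reassoc]
lemma stageMap_naturality {k : Over i} (g : (sys D i xi).obj k ⟶ Yi)
    (hg : g ≫ yi = ps D xi k ≫ xi) {p q : Over i} (s : p ⟶ k) (r : q ⟶ p) :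
    stageMap D xi yi g hg (r ≫ s) ≫ (sys D i yi).map r =
      (sys D i xi).map r ≫ stageMap D xi yi g hg s := by
  refine sys_hom_ext _ _ ?_ ?_
  · rw [Category.assoc, map_pf, stageMap_pf_assoc, Category.assoc, stageMap_pf, map_pf]
  · rw [Category.assoc, map_ps, stageMap_ps, Category.assoc, stageMap_ps,
      Functor.map_comp, Category.assoc]

lemma stageMap_cone {k : Over i} (g : (sys D i xi).obj k ⟶ Yi)
    (hg : g ≫ yi = ps D xi k ≫ xi)
    (φ : (sysCone D c i xi).pt ⟶ (sysCone D c i yi).pt)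
    (hφ1 : φ ≫ cpf D c yi = cpf D c xi)
    (hφ2 : φ ≫ cps D c yi = cπ D c xi k ≫ g)
    {p : Over i} (s : p ⟶ k) :
    cπ D c xi p ≫ stageMap D xi yi g hg s = φ ≫ cπ D c yi p := by
  refine sys_hom_ext _ _ ?_ ?_
  · rw [Category.assoc, stageMap_pf, cπ_pf, Category.assoc, cπ_pf, reassoc_of% hφ1]
  · rw [Category.assoc, stageMap_ps, Category.assoc, cπ_ps, hφ2, cπ_map_assoc]

variable (D xi yi)

include hc in
/-- **Descent of isomorphisms.**  If the base changes to the limit of two quasi-compact
quasi-separated schemes locally of finite presentation over a stage are isomorphic over the limit,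
then their base changes to some later stage are isomorphic over that stage. -/
theorem exists_stage_iso [CompactSpace Xi] [QuasiSeparatedSpace Xi]
    [LocallyOfFinitePresentation xi] [CompactSpace Yi] [QuasiSeparatedSpace Yi]
    [LocallyOfFinitePresentation yi]
    (e : (sysCone D c i xi).pt ≅ (sysCone D c i yi).pt)
    (he : e.hom ≫ cpf D c yi = cpf D c xi) :
    ∃ (m : Over i) (em : (sys D i xi).obj m ≅ (sys D i yi).obj m),
      em.hom ≫ pf D yi m = pf D xi m := by
  have he' : e.inv ≫ cpf D c xi = cpf D c yi := by rw [← he, Iso.inv_hom_id_assoc]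
  obtain ⟨k₁, g, hg1, hg2⟩ := exists_stage_hom D c hc xi yi (e.hom ≫ cps D c yi)
    (by rw [Category.assoc, ← cpf_cond, reassoc_of% he, cpf_cond])
  obtain ⟨k₂, h, hh1, hh2⟩ := exists_stage_hom D c hc yi xi (e.inv ≫ cps D c xi)
    (by rw [Category.assoc, ← cpf_cond, reassoc_of% he', cpf_cond])
  have hF : ∀ {p : Over i} (s : p ⟶ k₁),
      cπ D c xi p ≫ stageMap D xi yi g hg2 s = e.hom ≫ cπ D c yi p :=
    fun s => stageMap_cone c g hg2 e.hom he hg1.symm s
  have hG : ∀ {p : Over i} (s : p ⟶ k₂),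
      cπ D c yi p ≫ stageMap D yi xi h hh2 s = e.inv ≫ cπ D c xi p :=
    fun s => stageMap_cone c h hh2 e.inv he' hh1.symm s
  let k' : Over i := IsCofiltered.min k₁ k₂
  let u₁ : k' ⟶ k₁ := IsCofiltered.minToLeft k₁ k₂
  let u₂ : k' ⟶ k₂ := IsCofiltered.minToRight k₁ k₂
  -- first composite
  obtain ⟨l, v, hl⟩ := exists_stage_eq' D c hc xi xi k'
    (stageMap D xi yi g hg2 u₁ ≫ (sys D i yi).map u₂ ≫ h) (ps D xi k')
    (by rw [Category.assoc, Category.assoc, hh2, map_ps_assoc, stageMap_ps_assoc,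
      hg2, map_ps_assoc]) rfl
    (by rw [reassoc_of% (hF u₁), cπ_map_assoc, hh1, Iso.hom_inv_id_assoc, cπ_ps])
  -- second composite
  obtain ⟨m, w, hm⟩ := exists_stage_eq' D c hc yi yi l
    (stageMap D yi xi h hh2 (v ≫ u₂) ≫ (sys D i xi).map (v ≫ u₁) ≫ g) (ps D yi l)
    (by rw [Category.assoc, Category.assoc, hg2, map_ps_assoc, stageMap_ps_assoc,
      hh2, map_ps_assoc]) rfl
    (by rw [reassoc_of% (hG (v ≫ u₂)), cπ_map_assoc, hg1, Iso.inv_hom_id_assoc,
      cπ_ps])
  refine ⟨m, ⟨stageMap D xi yi g hg2 (w ≫ v ≫ u₁), stageMap D yi xi h hh2 (w ≫ v ≫ u₂), ?_, ?_⟩,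
    stageMap_pf g hg2 _⟩
  · refine sys_hom_ext _ _ ?_ ?_
    · rw [Category.assoc, stageMap_pf, stageMap_pf, Category.id_comp]
    · rw [Category.assoc, stageMap_ps, Category.id_comp]
      have h1 := stageMap_naturality g hg2 u₁ (w ≫ v)
      rw [Category.assoc] at h1
      have h2 : (sys D i yi).map (w ≫ v ≫ u₂) = (sys D i yi).map (w ≫ v) ≫ (sys D i yi).map u₂ := by
        rw [← Functor.map_comp, Category.assoc]
      rw [h2, Category.assoc, reassoc_of% h1, Functor.map_comp, Category.assoc, hl, map_ps,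
        map_ps]
  · refine sys_hom_ext _ _ ?_ ?_
    · rw [Category.assoc, stageMap_pf, stageMap_pf, Category.id_comp]
    · rw [Category.assoc, stageMap_ps, Category.id_comp]
      have h1 := stageMap_naturality h hh2 (v ≫ u₂) w
      have h2 : (sys D i xi).map (w ≫ v ≫ u₁) = (sys D i xi).map w ≫ (sys D i xi).map (v ≫ u₁) :=
        Functor.map_comp _ _ _
      rw [h2, Category.assoc, reassoc_of% h1, hm, map_ps]

end

end Groth.Agent.Lib.Helper2.LimIsoDescent
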