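import Groth.Agent.Lib.Helper2.MatlisArtinian
import Mathlib.RingTheory.AdicCompletion.Basic

/-!
# Matlis duality over a complete Noetherian local ring (helper2)
-/

set_option autoImplicit false
universe u

namespace Groth.Agent.Lib.Helper2
open InjHull

section

variable {R : Type u} [CommRing R] [IsLocalRing R] [IsNoetherianRing R]
variable {E : Type u} [AddCommGroup E] [Module R E] {f : IsLocalRing.ResidueField R →ₗ[R] E}

/-- Over a complete Noetherian local ring every endomorphism of `E` is a homothety. -/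
lemma exists_smul_eq_of_complete (hf : IsInjectiveHull f)
    [IsAdicComplete (IsLocalRing.maximalIdeal R) R] (φ : Module.End R E) :
    ∃ r : R, ∀ x, φ x = r • x := by
  obtain ⟨r, hr⟩ := AdicCompletion.of_surjective (IsLocalRing.maximalIdeal R) R
    (endToCompletion hf φ)
  refine ⟨r, fun x => ?_⟩
  have h1 : endToCompletion hf (algebraMap R (Module.End R E) r) = endToCompletion hf φ := by
    rw [endToCompletion_algebraMap, ← hr]
    rfl
  have h2 := endToCompletion_injective hf h1
  rw [← h2, Module.algebraMap_end_apply]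

lemma exists_eq_sum_smul (hf : IsInjectiveHull f)
    [IsAdicComplete (IsLocalRing.maximalIdeal R) R] {d : ℕ} (G : (Fin d → E) →ₗ[R] E) :
    ∃ r : Fin d → R, ∀ v, G v = ∑ i, r i • v i := by
  have h := fun i => exists_smul_eq_of_complete hf (G ∘ₗ LinearMap.single R (fun _ => E) i)
  choose r hr using h
  refine ⟨r, fun v => ?_⟩
  conv_lhs => rw [← Finset.univ_sum_single v]
  rw [map_sum]
  refine Finset.sum_congr rfl fun i _ => ?_
  exact hr i (v i)

omit [IsNoetherianRing R] in
lemma injective_applyₗ (hf : IsInjectiveHull f) (M : Type u) [AddCommGroup M] [Module R M] :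
    Function.Injective (LinearMap.applyₗ : M →ₗ[R] (M →ₗ[R] E) →ₗ[R] E) := by
  rw [injective_iff_map_eq_zero]
  intro x hx
  by_contra hx0
  obtain ⟨φ, hφ⟩ := exists_hom_apply_ne_zero hf x hx0
  exact hφ (LinearMap.congr_fun hx φ)

/-- Matlis duality, finite modules. -/
theorem matlis_finite (hf : IsInjectiveHull f) [IsAdicComplete (IsLocalRing.maximalIdeal R) R]
    (M : Type u) [AddCommGroup M] [Module R M] [Module.Finite R M] :
    IsArtinian R (M →ₗ[R] E) ∧
      Function.Bijective (LinearMap.applyₗ : M →ₗ[R] (M →ₗ[R] E) →ₗ[R] E) := by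
  obtain ⟨n, s, hs⟩ := Module.Finite.exists_fin (R := R) (M := M)
  let ev : (M →ₗ[R] E) →ₗ[R] (Fin n → E) := LinearMap.pi (fun i => LinearMap.applyₗ (s i))
  have hev : Function.Injective ev := by
    intro g g' hgg'
    apply LinearMap.ext_on_range hs
    intro i
    exact congr_fun hgg' i
  have hArt := isArtinian_of_isInjectiveHull_residueField hf
  refine ⟨isArtinian_of_injective ev hev, injective_applyₗ hf M, ?_⟩
  intro ξ
  have hE := hf.isInjective
  obtain ⟨ξ', hξ'⟩ := Module.Injective.extension_property R E _ _ ev hev ξ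
  obtain ⟨r, hr⟩ := exists_eq_sum_smul hf ξ'
  refine ⟨∑ i, r i • s i, ?_⟩
  ext g
  rw [LinearMap.applyₗ_apply_apply, map_sum, ← LinearMap.congr_fun hξ' g, LinearMap.comp_apply, hr]
  refine Finset.sum_congr rfl fun i _ => ?_
  rw [map_smul]
  rfl

/-- Matlis duality, Artinian modules. -/
theorem matlis_artinian (hf : IsInjectiveHull f) [IsAdicComplete (IsLocalRing.maximalIdeal R) R]
    (M : Type u) [AddCommGroup M] [Module R M] [IsArtinian R M] :
    Module.Finite R (M →ₗ[R] E) ∧
      Function.Bijective (LinearMap.applyₗ : M →ₗ[R] (M →ₗ[R] E) →ₗ[R] E) := by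
  obtain ⟨d, α, hα⟩ := exists_injective_to_pi_of_isArtinian hf M
  have hE := hf.isInjective
  -- every hom `M → E` is `m ↦ ∑ r i • (α m) i`
  have hrep : ∀ g : M →ₗ[R] E, ∃ r : Fin d → R, ∀ m, g m = ∑ i, r i • (α m) i := by
    intro g
    obtain ⟨G, hG⟩ := Module.Injective.extension_property R E _ _ α hα g
    obtain ⟨r, hr⟩ := exists_eq_sum_smul hf G
    exact ⟨r, fun m => by rw [← LinearMap.congr_fun hG m, LinearMap.comp_apply, hr]⟩
  let Φ : (Fin d → R) →ₗ[R] (M →ₗ[R] E) :=
    { toFun := fun r => ∑ i, r i • (LinearMap.proj i ∘ₗ α)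
      map_add' := by
        intro r r'
        simp only [Pi.add_apply, add_smul, Finset.sum_add_distrib]
      map_smul' := by
        intro c r
        simp only [Pi.smul_apply, smul_eq_mul, mul_smul, RingHom.id_apply, Finset.smul_sum] }
  have hΦ : ∀ r m, Φ r m = ∑ i, r i • (α m) i := by
    intro r m
    simp [Φ, LinearMap.sum_apply]
  have hΦsurj : Function.Surjective Φ := by
    intro g
    obtain ⟨r, hr⟩ := hrep g
    exact ⟨r, LinearMap.ext fun m => by rw [hΦ, hr]⟩
  refine ⟨Module.Finite.of_surjective Φ hΦsurj, injective_applyₗ hf M, ?_⟩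
  intro ξ
  let y : Fin d → E := fun i => ξ (LinearMap.proj i ∘ₗ α)
  have hy : ∀ r : Fin d → R, ξ (Φ r) = ∑ i, r i • y i := by
    intro r
    simp only [Φ, LinearMap.coe_mk, AddHom.coe_mk, map_sum, map_smul, y]
  have hyr : y ∈ LinearMap.range α := by
    by_contra hyr
    have hne : (LinearMap.range α).mkQ y ≠ 0 := by
      rwa [Ne, Submodule.mkQ_apply, Submodule.Quotient.mk_eq_zero]
    obtain ⟨h, hh⟩ := exists_hom_apply_ne_zero hf _ hne
    obtain ⟨r, hr⟩ := exists_eq_sum_smul hf (h ∘ₗ (LinearMap.range α).mkQ)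
    apply hh
    have h0 : Φ r = 0 := by
      ext m
      rw [hΦ, ← hr, LinearMap.comp_apply, Submodule.mkQ_apply,
        (Submodule.Quotient.mk_eq_zero _).mpr (LinearMap.mem_range_self α m), map_zero]
      rfl
    have := hy r
    rw [h0, map_zero, ← hr] at this
    exact this.symm
  obtain ⟨m, hm⟩ := hyr
  refine ⟨m, ?_⟩
  ext g
  obtain ⟨r, hr⟩ := hΦsurj g
  rw [LinearMap.applyₗ_apply_apply, ← hr, hy, hΦ, hm]

end

end Groth.Agent.Lib.Helper2
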