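import Groth.Agent.Lib.Helper2.Matlis
import Mathlib.Algebra.Module.SpanRank
import Mathlib.RingTheory.Nakayama
import Mathlib.RingTheory.LocalRing.Module
import Mathlib.Algebra.Module.Torsion.Basic

/-!
# Minimal number of generators and the socle of the Matlis dual (helper2)

* `spanFinrank_top_quotient_maximalIdeal_smul`: `μ(M/𝔪M) = μ(M)` over a local ring.
* `length_quotient_maximalIdeal_smul_eq_spanFinrank`: `length (M/𝔪M) = μ(M/𝔪M)`.
* `homQuotEquivTorsionBy`: `Hom(M/IM, E) ≃ Hom(M, E)[I]`.
* `spanFinrank_top_eq_length_torsionBy_dual`: `μ(M) = length (socle (M^∨))`.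
-/

set_option autoImplicit false
universe u v
open Submodule InjHull

namespace Groth.Agent.Lib.Helper2

section

variable {R : Type u} [CommRing R] [IsLocalRing R] (M : Type v) [AddCommGroup M] [Module R M]
  [Module.Finite R M]

lemma spanFinrank_top_quotient_maximalIdeal_smul :
    (⊤ : Submodule R (M ⧸ (IsLocalRing.maximalIdeal R • ⊤ : Submodule R M))).spanFinrank =
      (⊤ : Submodule R M).spanFinrank := by
  have hfgM : (⊤ : Submodule R M).FG := Module.Finite.fg_top
  apply le_antisymm
  · have := spanFinrank_map_le_of_fg (IsLocalRing.maximalIdeal R • ⊤ : Submodule R M).mkQ hfgM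
    rwa [Submodule.map_top, Submodule.range_mkQ] at this
  · have hfgV : (⊤ : Submodule R (M ⧸ (IsLocalRing.maximalIdeal R • ⊤ : Submodule R M))).FG :=
      Module.Finite.fg_top
    obtain ⟨s, hs1, hs2⟩ := hfgV.exists_span_set_encard_eq_spanFinrank
    obtain ⟨t, ht1, ht2, ht3⟩ :=
      Submodule.exists_injOn_mkQ_image_span_eq_of_span_eq_map_mkQ_of_le_jacobson_bot
        (I := IsLocalRing.maximalIdeal R) (N := (⊤ : Submodule R M)) s hfgM
        (IsLocalRing.jacobson_eq_maximalIdeal _ bot_ne_top).ge
        (by rw [hs2, Submodule.map_top, Submodule.range_mkQ])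
    have h1 : (Submodule.span R t).spanFinrank ≤ t.encard := spanFinrank_span_le_encard t
    rw [ht3] at h1
    have h2 : t.encard = s.encard := by
      rw [← ht2]
      exact (ht1.encard_image).symm
    rw [h2, hs1] at h1
    exact_mod_cast h1

end

section

variable {R : Type u} [CommRing R] [IsLocalRing R] (M : Type v) [AddCommGroup M] [Module R M]
  [Module.Finite R M]

lemma length_quotient_maximalIdeal_smul_eq_spanFinrank :
    Module.length R (M ⧸ (IsLocalRing.maximalIdeal R • ⊤ : Submodule R M)) =
      ((⊤ : Submodule R (M ⧸ (IsLocalRing.maximalIdeal R • ⊤ : Submodule R M))).spanFinrank : ℕ∞) := by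
  let _ : Field (R ⧸ IsLocalRing.maximalIdeal R) := Ideal.Quotient.field _
  have h1 : Module.length R (M ⧸ (IsLocalRing.maximalIdeal R • ⊤ : Submodule R M)) =
      Module.length (R ⧸ IsLocalRing.maximalIdeal R)
        (M ⧸ (IsLocalRing.maximalIdeal R • ⊤ : Submodule R M)) :=
    Module.length_eq_of_surjective Ideal.Quotient.mk_surjective
  have : Module.Finite (R ⧸ IsLocalRing.maximalIdeal R)
      (M ⧸ (IsLocalRing.maximalIdeal R • ⊤ : Submodule R M)) :=
    Module.Finite.of_restrictScalars_finite R _ _
  rw [h1, Module.length_eq_finrank, Module.finrank_eq_spanFinrank_of_free]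
  congr 1
  have h4 := Submodule.spanRank_restrictScalars_eq (R := R) (S := R ⧸ IsLocalRing.maximalIdeal R)
    Ideal.Quotient.mk_surjective
    (⊤ : Submodule (R ⧸ IsLocalRing.maximalIdeal R)
      (M ⧸ (IsLocalRing.maximalIdeal R • ⊤ : Submodule R M)))
  rw [Submodule.restrictScalars_top] at h4
  unfold Submodule.spanFinrank
  rw [h4]

end

section

variable {R : Type u} [CommRing R] (I : Ideal R) (M : Type v) [AddCommGroup M] [Module R M]
  (E : Type v) [AddCommGroup E] [Module R E]

/-- `Hom(M/IM, E) ≃ Hom(M, E)[I]`. -/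
noncomputable def homQuotEquivTorsionBy :
    ((M ⧸ (I • ⊤ : Submodule R M)) →ₗ[R] E) ≃ₗ[R] LocCoh.torsionBy I (M →ₗ[R] E) :=
  LinearEquiv.ofBijective
    ((LinearMap.lcomp R E (I • ⊤ : Submodule R M).mkQ).codRestrict (LocCoh.torsionBy I (M →ₗ[R] E))
      (by
        intro ψ
        rw [Submodule.mem_torsionBySet_iff]
        rintro ⟨a, ha⟩
        ext m
        simp only [LinearMap.smul_apply, LinearMap.lcomp_apply, Submodule.mkQ_apply,
          LinearMap.zero_apply]
        rw [← map_smul, ← Submodule.Quotient.mk_smul]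
        have h0 : (Submodule.Quotient.mk (a • m) : M ⧸ (I • ⊤ : Submodule R M)) = 0 :=
          (Submodule.Quotient.mk_eq_zero _).mpr
            (Submodule.smul_mem_smul ha (Submodule.mem_top (x := m)))
        rw [h0, map_zero]))
    ⟨by
      intro ψ ψ' h
      apply Submodule.linearMap_qext
      exact congrArg Subtype.val h,
    by
      rintro ⟨φ, hφ⟩
      have hle : (I • ⊤ : Submodule R M) ≤ LinearMap.ker φ := by
        rw [Submodule.smul_le]
        intro a ha m _
        rw [LinearMap.mem_ker, map_smul]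
        have := (Submodule.mem_torsionBySet_iff _ _).mp hφ ⟨a, ha⟩
        exact LinearMap.congr_fun this m
      refine ⟨(I • ⊤ : Submodule R M).liftQ φ hle, Subtype.ext ?_⟩
      ext m
      simp⟩

end

theorem spanFinrank_top_eq_length_torsionBy_dual (R : Type u) [CommRing R] [IsNoetherianRing R]
    [IsLocalRing R] (E : Type u) [AddCommGroup E] [Module R E]
    (f : IsLocalRing.ResidueField R →ₗ[R] E) (hf : InjHull.IsInjectiveHull f) (M : Type u)
    [AddCommGroup M] [Module R M] [Module.Finite R M] :
    ((⊤ : Submodule R M).spanFinrank : ℕ∞) =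
      Module.length R (LocCoh.torsionBy (IsLocalRing.maximalIdeal R) (M →ₗ[R] E)) := by
  rw [← (homQuotEquivTorsionBy (IsLocalRing.maximalIdeal R) M E).length_eq]
  have h1 := length_quotient_maximalIdeal_smul_eq_spanFinrank (R := R) M
  rw [spanFinrank_top_quotient_maximalIdeal_smul] at h1
  have hfin : IsFiniteLength R (M ⧸ (IsLocalRing.maximalIdeal R • ⊤ : Submodule R M)) := by
    rw [← Module.length_ne_top_iff, h1]
    exact ENat.natCast_ne_top _
  rw [length_hom_eq_length hf _ hfin, h1]

end Groth.Agent.Lib.Helper2
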