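import Mathlib

/-!
# The normalization of `X` in an integral cover of an open `U` restricts to the cover over `U` (helper2)
-/

set_option autoImplicit false
set_option linter.style.haveILetI false
set_option linter.unusedSectionVars false

universe u
open AlgebraicGeometry CategoryTheory CategoryTheory.Limits TopologicalSpace Opposite RingTheory.Sequence

namespace Groth.Agent.Lib.Helper2.NormFinite

open Groth.Agent.Lib.Helper2

theorem exists_iso_pullback_fromNormalization {X : Scheme.{u}} (U : X.Opens) {Z : Scheme.{u}}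
    (g : Z ⟶ U) [IsIntegralHom g] [QuasiCompact (g ≫ U.ι)] [QuasiSeparated (g ≫ U.ι)] :
    ∃ e : pullback (g ≫ U.ι).fromNormalization U.ι ≅ Z,
      e.hom ≫ g = pullback.snd (g ≫ U.ι).fromNormalization U.ι := by
  let f := g ≫ U.ι
  let p := pullback.snd f U.ι
  -- `fst : pullback f U.ι ⟶ Z` is an isomorphism
  let φ : Z ⟶ pullback f U.ι := pullback.lift (𝟙 Z) g (by simp [f])
  have hfst : pullback.fst f U.ι ≫ g = p := by
    rw [← cancel_mono U.ι, Category.assoc]
    exact pullback.condition
  have h1 : φ ≫ pullback.fst f U.ι = 𝟙 _ := pullback.lift_fst _ _ _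
  have h2 : pullback.fst f U.ι ≫ φ = 𝟙 _ := by
    apply pullback.hom_ext
    · rw [Category.assoc, h1, Category.comp_id, Category.id_comp]
    · rw [Category.assoc, Category.id_comp]
      change _ ≫ φ ≫ p = p
      rw [pullback.lift_snd, hfst]
  let eφ : Z ≅ pullback f U.ι := ⟨φ, pullback.fst f U.ι, h1, h2⟩
  have hφp : φ ≫ p = g := pullback.lift_snd _ _ _
  haveI : IsIntegralHom p := by
    have : p = eφ.inv ≫ g := by rw [Iso.eq_inv_comp]; exact hφp
    rw [this]
    infer_instance
  haveI : IsIso (f.normalizationPullback U.ι) := inferInstance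
  haveI : IsIso p.toNormalization := inferInstance
  refine ⟨(asIso (f.normalizationPullback U.ι)).symm ≪≫ (asIso p.toNormalization).symm ≪≫ eφ.symm, ?_⟩
  simp only [Iso.trans_hom, Iso.symm_hom, asIso_inv, Category.assoc, IsIso.inv_comp_eq]
  change pullback.fst f U.ι ≫ g = _
  rw [hfst, Scheme.Hom.normalizationPullback_snd, Scheme.Hom.toNormalization_fromNormalization]

end Groth.Agent.Lib.Helper2.NormFinite
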