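import Groth.Agent.Lib.Helper2.PuncturedFEt
import Groth.Agent.Lib.Helper2.HartogsExt

/-!
# Weakly regular pairs of functions: gluing over affine opens, flat pullback, existence from depth (helper2)
-/

set_option autoImplicit false
set_option linter.style.haveILetI false
set_option linter.unusedSectionVars false

universe u
open AlgebraicGeometry CategoryTheory CategoryTheory.Limits TopologicalSpace Opposite RingTheory.Sequence

namespace Groth.Agent.Lib.Helper2.NormFinite

open Groth.Agent.Lib.Helper2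

lemma isWeaklyRegular_of_regMod {R : Type u} [CommRing R] {x y : R} (hx : IsSMulRegular R x)
    (hxy : RegMod x y) : IsWeaklyRegular R [x, y] := by
  rw [isWeaklyRegular_cons_iff]
  refine ⟨hx, ?_⟩
  rw [isWeaklyRegular_cons_iff]
  refine ⟨?_, IsWeaklyRegular.nil _ _⟩
  rw [isSMulRegular_iff_right_eq_zero_of_smul]
  intro m hm
  obtain ⟨r, rfl⟩ := Submodule.Quotient.mk_surjective _ m
  rw [← Submodule.Quotient.mk_smul, Submodule.Quotient.mk_eq_zero,
    Submodule.mem_smul_pointwise_iff_exists] at hm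
  obtain ⟨s, -, hs⟩ := hm
  obtain ⟨t, ht⟩ := hxy r ⟨s, by simpa [smul_eq_mul] using hs.symm⟩
  rw [Submodule.Quotient.mk_eq_zero, Submodule.mem_smul_pointwise_iff_exists]
  exact ⟨t, trivial, ht.symm⟩

variable {X : Scheme.{u}}

/-- a regular pair on all affine opens inside `O` is a regular pair on `O` -/
theorem regular_pair_of_affine_opens (O : X.Opens) (α β : Γ(X, O))
    (h : ∀ (O' : X.Opens) (hO' : O' ≤ O), IsAffineOpen O' →
      IsSMulRegular Γ(X, O') (res hO' α) ∧ RegMod (res hO' α) (res hO' β)) :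
    IsSMulRegular Γ(X, O) α ∧ RegMod α β := by
  let I := {O' : X.Opens // IsAffineOpen O' ∧ O' ≤ O}
  let Uc : I → X.Opens := fun i => i.1
  have hcov : ∀ V : X.Opens, V ≤ O → V ≤ ⨆ (i : {i : I // i.1 ≤ V}), Uc i.1 := by
    intro V hV x hx
    obtain ⟨_, ⟨O', hO', rfl⟩, hxO', hO'V⟩ :=
      X.isBasis_affineOpens.exists_subset_of_mem_open hx V.2
    exact Opens.mem_iSup.mpr ⟨⟨⟨O', hO', (show O' ≤ V from hO'V).trans hV⟩, hO'V⟩, hxO'⟩
  have hcover : O ≤ iSup Uc := by
    intro x hx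
    obtain ⟨i, hi⟩ := Opens.mem_iSup.mp (hcov O le_rfl hx)
    exact Opens.mem_iSup.mpr ⟨i.1, hi⟩
  have hreg : IsSMulRegular Γ(X, O) α := by
    intro c c' hcc
    refine TopCat.Sheaf.eq_of_locally_eq' X.sheaf Uc O (fun i => homOfLE i.2.2) hcover c c'
      (fun i => ?_)
    change res i.2.2 c = res i.2.2 c'
    apply (h i.1 i.2.2 i.2.1).1
    change res i.2.2 α * res i.2.2 c = res i.2.2 α * res i.2.2 c'
    rw [← map_mul, ← map_mul]
    exact congrArg _ hcc
  refine ⟨hreg, ?_⟩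
  rintro r ⟨s, hs⟩
  have hloc : ∀ i : I, ∃ d : Γ(X, i.1), res i.2.2 r = res i.2.2 α * d := by
    intro i
    apply (h i.1 i.2.2 i.2.1).2
    exact ⟨res i.2.2 s, by rw [← map_mul, ← map_mul, hs]⟩
  choose d hd using hloc
  have hcompat : TopCat.Presheaf.IsCompatible X.sheaf.1 Uc d := by
    intro i j
    change res (inf_le_left : i.1 ⊓ j.1 ≤ i.1) (d i) = res (inf_le_right : i.1 ⊓ j.1 ≤ j.1) (d j)
    have hij : i.1 ⊓ j.1 ≤ O := inf_le_left.trans i.2.2
    refine TopCat.Sheaf.eq_of_locally_eq' X.sheaf (fun k : {k : I // k.1 ≤ i.1 ⊓ j.1} => Uc k.1)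
      (i.1 ⊓ j.1) (fun k => homOfLE k.2) (hcov _ hij) _ _ (fun k => ?_)
    change res k.2 (res _ (d i)) = res k.2 (res _ (d j))
    rw [res_res, res_res]
    apply (h k.1.1 k.1.2.2 k.1.2.1).1
    change res k.1.2.2 α * res _ (d i) = res k.1.2.2 α * res _ (d j)
    have h1 : res k.1.2.2 α = res (k.2.trans inf_le_left) (res i.2.2 α) := (res_res _ _ _).symm
    have h2 : res k.1.2.2 α = res (k.2.trans inf_le_right) (res j.2.2 α) := (res_res _ _ _).symm
    conv_lhs => rw [h1, ← map_mul, ← hd i, res_res]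
    conv_rhs => rw [h2, ← map_mul, ← hd j, res_res]
  obtain ⟨D, hD, -⟩ := TopCat.Sheaf.existsUnique_gluing' X.sheaf Uc O
    (fun i => homOfLE i.2.2) hcover d hcompat
  let D' : Γ(X, O) := D
  refine ⟨D', ?_⟩
  refine TopCat.Sheaf.eq_of_locally_eq' X.sheaf Uc O (fun i => homOfLE i.2.2) hcover _ _
    (fun i => ?_)
  change res i.2.2 r = res i.2.2 (α * D')
  have hDi : res i.2.2 D' = d i := hD i
  rw [map_mul, hDi, hd i]

lemma isWeaklyRegular_map_of_flat {R S : Type u} [CommRing R] [CommRing S] (φ : R →+* S)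
    (hφ : φ.Flat) {rs : List R} (h : IsWeaklyRegular R rs) : IsWeaklyRegular S (rs.map φ) := by
  letI : Algebra R S := φ.toAlgebra
  haveI : Module.Flat R S := hφ
  exact h.of_flat (S := S)

/-- a weakly regular pair on an affine open of the target of a flat morphism stays weakly regular on
the preimage (which need not be affine) -/
theorem isWeaklyRegular_app_of_flat {Z : Scheme.{u}} (f : Z ⟶ X) [Flat f] (W : X.Opens)
    (hW : IsAffineOpen W) (a b : Γ(X, W)) (hab : IsWeaklyRegular Γ(X, W) [a, b]) :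
    IsWeaklyRegular Γ(Z, f ⁻¹ᵁ W) [(f.app W).hom a, (f.app W).hom b] := by
  have := regular_pair_of_affine_opens (f ⁻¹ᵁ W) ((f.app W).hom a) ((f.app W).hom b) (by
    intro O' hO' hO'aff
    have h1 := isWeaklyRegular_map_of_flat (f.appLE W O' hO').hom
      (f.flat_appLE hW hO'aff hO') hab
    exact regMod_of_isWeaklyRegular h1)
  exact isWeaklyRegular_of_regMod this.1 this.2

/-- On a Noetherian affine scheme, an open with depth at least two off it is the complement of the
zero locus of (functions containing) a weakly regular pair. -/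
theorem exists_weaklyRegular_pair_Spec (R : CommRingCat.{u}) [IsNoetherianRing R]
    (U : (Spec R).Opens)
    (hU : ∀ p : PrimeSpectrum R, p ∉ U →
      (2 : ℕ∞) ≤ LocCoh.depth (Localization.AtPrime p.asIdeal) (Localization.AtPrime p.asIdeal)) :
    ∃ a₁ a₂ : R, IsWeaklyRegular R [a₁, a₂] ∧
      ∀ p : PrimeSpectrum R, p ∉ U → a₁ ∈ p.asIdeal ∧ a₂ ∈ p.asIdeal := by
  let Uc : Set (PrimeSpectrum R) := ((U : Set ↥(Spec R)))ᶜ
  have hcl : IsClosed Uc := U.isOpen.isClosed_compl
  obtain ⟨I, hI⟩ := (PrimeSpectrum.isClosed_iff_zeroLocus_ideal _).mp hcl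
  have hmemU : ∀ p : PrimeSpectrum R, p ∈ U ↔ ¬ I ≤ p.asIdeal := by
    intro p
    have h1 : p ∈ U ↔ p ∉ Uc := (not_not (a := p ∈ (U : Set ↥(Spec R)))).symm
    rw [h1, hI, PrimeSpectrum.mem_zeroLocus, SetLike.coe_subset_coe]
  have hdepth : (2 : ℕ∞) ≤ LocCoh.idealDepth I R := by
    have := Groth.Agent.Lib.Helper29.le_idealDepth_of_forall_le_depth_localization R 2 R I (by
      intro p _ hp
      rw [Groth.Agent.Lib.Helper29.depth_localizedModule_self]
      exact hU ⟨p, inferInstance⟩ (fun hpU => ((hmemU ⟨p, inferInstance⟩).mp hpU) hp))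
    exact_mod_cast this
  obtain ⟨a₁, a₂, h₁, h₂, hreg⟩ := exists_weaklyRegular_pair_of_idealDepth I hdepth
  refine ⟨a₁, a₂, hreg, fun p hp => ?_⟩
  have hIp : I ≤ p.asIdeal := by
    by_contra hcon
    exact hp ((hmemU p).mpr hcon)
  exact ⟨hIp h₁, hIp h₂⟩

/-- On an affine open `W` of a locally Noetherian scheme `X` and an open `U` with depth at least two at
all points off `U`, there is a weakly regular pair of functions on `W` vanishing at all points of
`W` off `U`. -/
theorem exists_weaklyRegular_pair_affineOpen {X : Scheme.{u}} [IsLocallyNoetherian X] (U : X.Opens)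
    (hU : ∀ x : X, x ∉ U → (2 : ℕ∞) ≤ LocCoh.depth (X.presheaf.stalk x) (X.presheaf.stalk x))
    (W : X.Opens) (hW : IsAffineOpen W) :
    ∃ a₁ a₂ : Γ(X, W), IsWeaklyRegular Γ(X, W) [a₁, a₂] ∧
      ∀ x : X, x ∈ W → x ∉ U → x ∉ X.basicOpen a₁ ∧ x ∉ X.basicOpen a₂ := by
  haveI : IsNoetherianRing Γ(X, W) := IsLocallyNoetherian.component_noetherian ⟨W, hW⟩
  have hdepth : ∀ p : PrimeSpectrum Γ(X, W), p ∉ hW.fromSpec ⁻¹ᵁ U →
      (2 : ℕ∞) ≤ LocCoh.depth (Localization.AtPrime p.asIdeal)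
        (Localization.AtPrime p.asIdeal) := by
    intro p hp
    rw [depth_localization_eq_depth_stalk Γ(X, W) hW.fromSpec p]
    exact hU _ hp
  obtain ⟨a₁, a₂, hreg, hmem⟩ := exists_weaklyRegular_pair_Spec Γ(X, W) _ hdepth
  refine ⟨a₁, a₂, hreg, fun x hxW hxU => ?_⟩
  have hxr : x ∈ Set.range hW.fromSpec := by
    rw [hW.range_fromSpec]; exact hxW
  obtain ⟨p, rfl⟩ := hxr
  have hp := hmem p hxU
  have key : ∀ a : Γ(X, W), a ∈ p.asIdeal → hW.fromSpec p ∉ X.basicOpen a := by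
    intro a ha hcon
    have h1 : p ∈ hW.fromSpec ⁻¹ᵁ X.basicOpen a := hcon
    rw [hW.fromSpec_preimage_basicOpen] at h1
    exact h1 ha
  exact ⟨key _ hp.1, key _ hp.2⟩

end Groth.Agent.Lib.Helper2.NormFinite
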