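import Groth.Agent.Lib.Helper2.NormFinite
import Groth.Agent.Lib.Helper2.NormPullback
import Groth.Agent.Lib.Helper2.RegPairSheaf
import Groth.Agent.Lib.Helper29.DepthRees

/-!
# Depth of the relative normalization in a finite locally free cover of a big open (helper2)

`X` locally Noetherian, `U` open with depth at least two off `U`, `g : Z ⟶ U` finite locally free: the local
rings of the relative normalization of `X` in `Z` at points over `X ∖ U` have depth at least two
(`two_le_depth_normalization`).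
-/

set_option autoImplicit false
set_option linter.style.haveILetI false
set_option linter.unusedSectionVars false

universe u
open AlgebraicGeometry CategoryTheory CategoryTheory.Limits TopologicalSpace Opposite RingTheory.Sequence

namespace Groth.Agent.Lib.Helper2.NormFinite

open Groth.Agent.Lib.Helper2

/-- depth at least two from a weakly regular pair in the maximal ideal -/
lemma two_le_depth_of_pair {R : Type u} [CommRing R] [IsLocalRing R] (r₁ r₂ : R)
    (h₁ : r₁ ∈ IsLocalRing.maximalIdeal R) (h₂ : r₂ ∈ IsLocalRing.maximalIdeal R)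
    (hreg : IsWeaklyRegular R [r₁, r₂]) : (2 : ℕ∞) ≤ LocCoh.depth R R := by
  have := Groth.Agent.Lib.Helper29.length_le_idealDepth (IsLocalRing.maximalIdeal R) R [r₁, r₂] hreg
    (by
      intro r hr
      simp only [List.mem_cons, List.not_mem_nil, or_false] at hr
      rcases hr with rfl | rfl
      · exact h₁
      · exact h₂)
  simpa [LocCoh.depth] using this

theorem two_le_depth_normalization {X : Scheme.{u}} [IsLocallyNoetherian X] (U : X.Opens)
    (hU : ∀ x : X, x ∉ U → (2 : ℕ∞) ≤ LocCoh.depth (X.presheaf.stalk x) (X.presheaf.stalk x))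
    {Z : Scheme.{u}} (g : Z ⟶ U) (hg : Mor2.IsFinLocFree g)
    [QuasiCompact (g ≫ U.ι)] [QuasiSeparated (g ≫ U.ι)]
    (y : (g ≫ U.ι).normalization) (hy : (g ≫ U.ι).fromNormalization y ∉ U) :
    (2 : ℕ∞) ≤ LocCoh.depth ((g ≫ U.ι).normalization.presheaf.stalk y)
      ((g ≫ U.ι).normalization.presheaf.stalk y) := by
  set f := g ≫ U.ι with hf
  set π := f.fromNormalization with hπ
  obtain ⟨hg1, hg2, hg3⟩ := hg
  haveI : Flat f := by rw [hf]; infer_instance
  -- an affine open neighbourhood of `π y`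
  obtain ⟨_, ⟨W, hW, rfl⟩, hxW, -⟩ := X.isBasis_affineOpens.exists_subset_of_mem_open
    (Set.mem_univ (π y)) isOpen_univ
  obtain ⟨a₁, a₂, hreg, hvan⟩ := exists_weaklyRegular_pair_affineOpen U hU W hW
  obtain ⟨hv₁, hv₂⟩ := hvan (π y) hxW hy
  -- weakly regular on `Γ(Z, f⁻¹W)`
  have hregC := isWeaklyRegular_app_of_flat f W hW a₁ a₂ hreg
  -- sections of the normalization over `π⁻¹W` are the sections of `Z` over `f⁻¹W`
  letI := (f.app W).hom.toAlgebra
  have hfin : Module.Finite Γ(X, W) Γ(Z, f ⁻¹ᵁ W) :=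
    finite_app_of_finLocFree U hU g ⟨hg1, hg2, hg3⟩ W hW
  have hint : Algebra.IsIntegral Γ(X, W) Γ(Z, f ⁻¹ᵁ W) := Algebra.IsIntegral.of_finite _ _
  have htop : integralClosure Γ(X, W) Γ(Z, f ⁻¹ᵁ W) = ⊤ := integralClosure_eq_top_iff.mpr hint
  have hval : Function.Bijective (integralClosure Γ(X, W) Γ(Z, f ⁻¹ᵁ W)).val :=
    ⟨Subtype.val_injective, fun c => ⟨⟨c, by rw [htop]; trivial⟩, rfl⟩⟩
  have hle : f ⁻¹ᵁ W ≤ f.toNormalization ⁻¹ᵁ π ⁻¹ᵁ W := by
    rw [← Scheme.Hom.comp_preimage, hπ, Scheme.Hom.toNormalization_fromNormalization]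
  have hψ := f.normalizationObjIso_hom_val hW
  have hψbij : Function.Bijective (f.toNormalization.appLE (π ⁻¹ᵁ W) (f ⁻¹ᵁ W) hle).hom := by
    rw [← hψ, CommRingCat.hom_comp]
    exact hval.comp (ConcreteCategory.bijective_of_isIso _)
  let e : Γ(f.normalization, π ⁻¹ᵁ W) ≃+* Γ(Z, f ⁻¹ᵁ W) := RingEquiv.ofBijective _ hψbij
  have heπ : ∀ a : Γ(X, W), e ((π.app W).hom a) = (f.app W).hom a := by
    intro a
    change ((π.app W) ≫ f.toNormalization.appLE (π ⁻¹ᵁ W) (f ⁻¹ᵁ W) hle).hom a = _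
    rw [Scheme.Hom.app_eq_appLE, Scheme.Hom.appLE_comp_appLE]
    simp only [hπ, Scheme.Hom.toNormalization_fromNormalization]
    rw [← Scheme.Hom.app_eq_appLE]
  -- the stalk at `y`
  have hyW : y ∈ π ⁻¹ᵁ W := hxW
  have hWY : IsAffineOpen (π ⁻¹ᵁ W) := hW.preimage π
  letI algY := f.normalization.presheaf.algebra_section_stalk ⟨y, hyW⟩
  haveI := hWY.isLocalization_stalk ⟨y, hyW⟩
  have hflat : (f.normalization.presheaf.germ (π ⁻¹ᵁ W) y hyW).hom.Flat :=
    IsLocalization.flat _ (hWY.primeIdealOf ⟨y, hyW⟩).asIdeal.primeCompl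
  let θ : Γ(Z, f ⁻¹ᵁ W) →+* f.normalization.presheaf.stalk y :=
    (f.normalization.presheaf.germ (π ⁻¹ᵁ W) y hyW).hom.comp e.symm.toRingHom
  have hθ : θ.Flat := RingHom.Flat.comp (RingHom.Flat.of_bijective e.symm.bijective) hflat
  have hθa : ∀ a : Γ(X, W), θ ((f.app W).hom a) =
      (f.normalization.presheaf.germ (π ⁻¹ᵁ W) y hyW).hom ((π.app W).hom a) := by
    intro a
    change (f.normalization.presheaf.germ (π ⁻¹ᵁ W) y hyW).hom (e.symm ((f.app W).hom a)) = _
    rw [← heπ a, RingEquiv.symm_apply_apply]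
  have hregS := isWeaklyRegular_map_of_flat θ hθ hregC
  simp only [List.map_cons, List.map_nil, hθa] at hregS
  have hmem : ∀ a : Γ(X, W), π y ∉ X.basicOpen a →
      (f.normalization.presheaf.germ (π ⁻¹ᵁ W) y hyW).hom ((π.app W).hom a) ∈
        IsLocalRing.maximalIdeal (f.normalization.presheaf.stalk y) := by
    intro a ha
    rw [IsLocalRing.mem_maximalIdeal, mem_nonunits_iff]
    intro hunit
    apply ha
    have h1 : y ∈ f.normalization.basicOpen ((π.app W).hom a) :=
      (Scheme.mem_basicOpen _ _ _ hyW).mpr hunit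
    rw [← Scheme.preimage_basicOpen] at h1
    exact h1
  exact two_le_depth_of_pair _ _ (hmem a₁ hv₁) (hmem a₂ hv₂) hregS

end Groth.Agent.Lib.Helper2.NormFinite
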