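import Groth.Agent.S11969
import Groth.Agent.S9716
import Groth.Agent.Lib.Helper2.HartogsExt
import Groth.Agent.Lib.Helper29.DepthQuot

/-!
# Finiteness of the normalization of `X` in a finite locally free cover of a big open (helper2)

`X` locally Noetherian, `U` open with depth at least two off `U`, `g : Z ⟶ U` finite locally free:
sections of `Z` over preimages of affine opens of `X` are finite modules (`finite_app_of_finLocFree`), and the
relative normalization of `X` in `Z` is finite over `X` (`isFinite_fromNormalization`).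
-/

set_option autoImplicit false
set_option linter.style.haveILetI false
set_option linter.unusedSectionVars false

universe u
open AlgebraicGeometry CategoryTheory CategoryTheory.Limits TopologicalSpace Opposite RingTheory.Sequence

namespace Groth.Agent.Lib.Helper2.NormFinite

open Groth.Agent.Lib.Helper2

/-- Hartogs on an affine locally Noetherian scheme: restriction of global functions to an open whose
complement has depth at least two is bijective. -/
theorem res_bijective_of_depth_affine {X : Scheme.{u}} [IsAffine X] [IsLocallyNoetherian X]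
    (V : X.Opens)
    (h : ∀ x : X, x ∉ V → (2 : ℕ∞) ≤ LocCoh.depth (X.presheaf.stalk x) (X.presheaf.stalk x)) :
    Function.Bijective (V.ι.appTop).hom := by
  have hH := HartogsExt.hartogs_of_depth V h
  have := hH Γ(X, ⊤) X.isoSpec.inv X X.isoSpec.hom
  have hpre : X.isoSpec.hom ⁻¹ᵁ (X.isoSpec.inv ⁻¹ᵁ V) = V.ι ''ᵁ ⊤ := by
    rw [← Scheme.Hom.comp_preimage, Scheme.Opens.ι_image_top]
    simp
  have key : ∀ (W₁ W₂ : X.Opens) (e : W₁ = W₂), Function.Bijective (res (le_top : W₁ ≤ ⊤)) →
      Function.Bijective (res (le_top : W₂ ≤ ⊤)) := by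
    rintro _ _ rfl h; exact h
  exact key _ _ hpre this

/-- **Finiteness of sections of a finite locally free cover of a big open.** -/
theorem finite_appTop_of_finLocFree {X V Z : Scheme.{u}} [IsAffine X] [IsLocallyNoetherian X]
    (j : V ⟶ X) [IsOpenImmersion j]
    (h : ∀ x : X, x ∉ Set.range j →
      (2 : ℕ∞) ≤ LocCoh.depth (X.presheaf.stalk x) (X.presheaf.stalk x))
    (g : Z ⟶ V) (hg : Mor2.IsFinLocFree g) :
    ((g ≫ j).appTop).hom.Finite := by
  let V₀ : X.Opens := j.opensRange
  let g₀ : Z ⟶ V₀ := g ≫ j.isoOpensRange.hom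
  have hg₀ : Mor2.IsFinLocFree g₀ := by
    obtain ⟨h1, h2, h3⟩ := hg
    exact ⟨inferInstance, inferInstance, inferInstance⟩
  have hfac : g ≫ j = g₀ ≫ V₀.ι := by
    simp [g₀, V₀]
  obtain ⟨haff, hL⟩ := (Groth.Agent.S9716.result g₀).mpr hg₀
  have hfin := Groth.Agent.S11969.aux V₀ (fun x hx => h x hx) _ hL
  have h1 : (g₀.appTop).hom.Finite := by
    letI := (g₀.appTop).hom.toAlgebra
    let e : Γ((Scheme.Modules.pushforward g₀).obj (Coh.structureModule Z), ⊤) ≃ₗ[Γ((V₀ : Scheme.{u}), ⊤)]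
        Γ(Z, ⊤) :=
      { toFun := fun t => t
        invFun := fun t => t
        map_add' := fun _ _ => rfl
        map_smul' := fun _ _ => rfl
        left_inv := fun _ => rfl
        right_inv := fun _ => rfl }
    exact Module.Finite.equiv e
  have h2 : (V₀.ι.appTop).hom.Finite :=
    RingHom.Finite.of_surjective _ (res_bijective_of_depth_affine V₀ (fun x hx => h x hx)).2
  rw [hfac, Scheme.Hom.comp_appTop, CommRingCat.hom_comp]
  exact RingHom.Finite.comp h1 h2

/-- depth of the stalks of an open subscheme -/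
lemma depth_stalk_opens {X : Scheme.{u}} [IsLocallyNoetherian X] (W : X.Opens) (x : W) :
    LocCoh.depth ((W : Scheme.{u}).presheaf.stalk x) ((W : Scheme.{u}).presheaf.stalk x) =
      LocCoh.depth (X.presheaf.stalk x.1) (X.presheaf.stalk x.1) :=
  Groth.Agent.Lib.Helper29.depth_self_eq_of_ringEquiv (W.stalkIso x).commRingCatIsoToRingEquiv

theorem finite_app_of_finLocFree {X : Scheme.{u}} [IsLocallyNoetherian X] (U : X.Opens)
    (hU : ∀ x : X, x ∉ U → (2 : ℕ∞) ≤ LocCoh.depth (X.presheaf.stalk x) (X.presheaf.stalk x))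
    {Z : Scheme.{u}} (g : Z ⟶ U) (hg : Mor2.IsFinLocFree g) (W : X.Opens) (hW : IsAffineOpen W) :
    ((g ≫ U.ι).app W).hom.Finite := by
  haveI : IsAffine (W : Scheme.{u}) := hW
  obtain ⟨h1, h2, h3⟩ := hg
  have hg' : Mor2.IsFinLocFree (g ∣_ (U.ι ⁻¹ᵁ W)) := ⟨inferInstance, inferInstance, inferInstance⟩
  have hdepth : ∀ x : (W : Scheme.{u}), x ∉ Set.range (U.ι ∣_ W) →
      (2 : ℕ∞) ≤ LocCoh.depth ((W : Scheme.{u}).presheaf.stalk x)
        ((W : Scheme.{u}).presheaf.stalk x) := by
    intro x hx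
    rw [depth_stalk_opens]
    apply hU
    intro hxU
    apply hx
    refine ⟨⟨⟨x.1, hxU⟩, x.2⟩, ?_⟩
    rw [morphismRestrict_base]
    rfl
  have key := finite_appTop_of_finLocFree (U.ι ∣_ W) hdepth _ hg'
  rw [← morphismRestrict_comp, morphismRestrict_appTop] at key
  have aux : ∀ (f : Z ⟶ X) (W' : X.Opens) (_ : W' = W) (O : Z.Opens) (hO : O = f ⁻¹ᵁ W'),
      (f.app W' ≫ Z.presheaf.map (eqToHom hO).op).hom.Finite → (f.app W).hom.Finite := by
    rintro f W' rfl O rfl hfin
    simpa using hfin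
  exact aux _ _ W.ι_image_top _ _ key

instance quasiCompact_comp_ι {X : Scheme.{u}} [IsLocallyNoetherian X] (U : X.Opens)
    {Z : Scheme.{u}} (g : Z ⟶ U) [IsFinite g] : QuasiCompact (g ≫ U.ι) := inferInstance

instance quasiSeparated_comp_ι {X : Scheme.{u}} (U : X.Opens)
    {Z : Scheme.{u}} (g : Z ⟶ U) [IsFinite g] : QuasiSeparated (g ≫ U.ι) := inferInstance

theorem isFinite_fromNormalization {X : Scheme.{u}} [IsLocallyNoetherian X] (U : X.Opens)
    (hU : ∀ x : X, x ∉ U → (2 : ℕ∞) ≤ LocCoh.depth (X.presheaf.stalk x) (X.presheaf.stalk x))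
    {Z : Scheme.{u}} (g : Z ⟶ U) (hg : Mor2.IsFinLocFree g)
    [QuasiCompact (g ≫ U.ι)] [QuasiSeparated (g ≫ U.ι)] :
    IsFinite (g ≫ U.ι).fromNormalization := by
  refine { toIsAffineHom := inferInstance, finite_app := fun W hW => ?_ }
  rw [(g ≫ U.ι).fromNormalization_app hW]
  let _ := ((g ≫ U.ι).app W).hom.toAlgebra
  have hfin : Module.Finite Γ(X, W) Γ(Z, (g ≫ U.ι) ⁻¹ᵁ W) := finite_app_of_finLocFree U hU g hg W hW
  have : IsNoetherianRing Γ(X, W) := IsLocallyNoetherian.component_noetherian ⟨W, hW⟩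
  have : IsNoetherian Γ(X, W) Γ(Z, (g ≫ U.ι) ⁻¹ᵁ W) := isNoetherian_of_isNoetherianRing_of_finite _ _
  have hIC : Module.Finite Γ(X, W) (integralClosure Γ(X, W) Γ(Z, (g ≫ U.ι) ⁻¹ᵁ W)) :=
    Module.Finite.of_injective (integralClosure Γ(X, W) Γ(Z, (g ≫ U.ι) ⁻¹ᵁ W)).val.toLinearMap
      Subtype.val_injective
  rw [CommRingCat.hom_comp]
  refine RingHom.Finite.comp ?_ ?_
  · exact RingHom.Finite.of_surjective _
      (ConcreteCategory.bijective_of_isIso ((g ≫ U.ι).normalizationObjIso hW).inv).surjective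
  · exact hIC

end Groth.Agent.Lib.Helper2.NormFinite
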