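import Mathlib
import Groth.Agent.H72.NormalBir

/-!
# Integral sections over opens of normal integral schemes extend
-/

set_option linter.style.haveILetI false
set_option autoImplicit false

universe u
open AlgebraicGeometry CategoryTheory CategoryTheory.Limits TopologicalSpace Opposite

namespace Groth.Agent.Lib.Helper2

/-- On a normal integral scheme, a section over a nonempty open that is integral over the global sections is the
restriction of a global section. -/
theorem mem_range_res_of_isIntegralElem_of_normal (X : Scheme.{u}) [IsIntegral X]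
    (hX : Pi1.IsNormalScheme X) (U : X.Opens) [Nonempty U] (b : Γ(X, U))
    (hb : (X.presheaf.map (homOfLE le_top : U ⟶ ⊤).op).hom.IsIntegralElem b) :
    b ∈ Set.range (X.presheaf.map (homOfLE le_top : U ⟶ ⊤).op).hom := by
  obtain ⟨p, hp, hpb⟩ := hb
  let bK : X.functionField := X.germToFunctionField U b
  -- local sections
  have hloc : ∀ V : {V : X.affineOpens // (V.1 : Set X).Nonempty},
      ∃ s : Γ(X, V.1.1), ∀ (hV : Nonempty V.1.1), X.germToFunctionField V.1.1 s = bK := by
    rintro ⟨⟨V, hV⟩, hne⟩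
    haveI : Nonempty V := hne.to_subtype
    have hic : IsIntegrallyClosed Γ(X, V) :=
      Groth.Agent.H72.NormalBir.isIntegrallyClosed_of_isNormal hX V hV
    have hfr : IsFractionRing Γ(X, V) X.functionField :=
      functionField_isFractionRing_of_isAffineOpen X V hV
    have hint : IsIntegral Γ(X, V) bK := by
      refine ⟨p.map (X.presheaf.map (homOfLE le_top : V ⟶ ⊤).op).hom, hp.map _, ?_⟩
      rw [Polynomial.eval₂_map]
      have hcomp : (algebraMap Γ(X, V) X.functionField).comp
          (X.presheaf.map (homOfLE le_top : V ⟶ ⊤).op).hom =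
          (X.germToFunctionField U).hom.comp (X.presheaf.map (homOfLE le_top : U ⟶ ⊤).op).hom := by
        change (X.germToFunctionField V).hom.comp _ = _
        rw [← CommRingCat.hom_comp, ← CommRingCat.hom_comp]
        congr 1
        rw [TopCat.Presheaf.germ_res, TopCat.Presheaf.germ_res]
      rw [hcomp, ← Polynomial.hom_eval₂, hpb, map_zero]
    obtain ⟨s, hs⟩ := IsIntegrallyClosed.isIntegral_iff.mp hint
    exact ⟨s, fun _ => hs⟩
  choose s hs using hloc
  -- gluing
  let 𝒱 : {V : X.affineOpens // (V.1 : Set X).Nonempty} → X.Opens := fun V => V.1.1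
  have hcover : (⊤ : X.Opens) ≤ iSup 𝒱 := by
    intro x _
    obtain ⟨W, hW, hxW, -⟩ := exists_isAffineOpen_mem_and_subset (x := x) (U := ⊤) trivial
    exact Opens.mem_iSup.mpr ⟨⟨⟨W, hW⟩, ⟨x, hxW⟩⟩, hxW⟩
  have hcompat : TopCat.Presheaf.IsCompatible X.sheaf.1 𝒱 s := by
    intro V V'
    haveI : Nonempty V.1.1 := V.2.to_subtype
    haveI : Nonempty V'.1.1 := V'.2.to_subtype
    haveI hne : Nonempty (𝒱 V ⊓ 𝒱 V' : X.Opens) := by
      obtain ⟨x, hx1, hx2⟩ := nonempty_preirreducible_inter V.1.1.isOpen V'.1.1.isOpen V.2 V'.2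
      exact ⟨⟨x, hx1, hx2⟩⟩
    refine @Scheme.germToFunctionField_injective X _ (𝒱 V ⊓ 𝒱 V') hne _ _ ?_
    have e1 : X.germToFunctionField (𝒱 V ⊓ 𝒱 V') (X.presheaf.map (Opens.infLELeft (𝒱 V) (𝒱 V')).op (s V)) =
        X.germToFunctionField V.1.1 (s V) := TopCat.Presheaf.germ_res_apply _ _ _ _ _
    have e2 : X.germToFunctionField (𝒱 V ⊓ 𝒱 V') (X.presheaf.map (Opens.infLERight (𝒱 V) (𝒱 V')).op (s V')) =
        X.germToFunctionField V'.1.1 (s V') := TopCat.Presheaf.germ_res_apply _ _ _ _ _
    exact e1.trans ((hs V inferInstance).trans ((hs V' inferInstance).symm.trans e2.symm))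
  obtain ⟨g, hg, -⟩ := X.sheaf.existsUnique_gluing' 𝒱 ⊤ (fun V => homOfLE le_top) hcover s hcompat
  refine ⟨g, ?_⟩
  apply X.germToFunctionField_injective U
  -- pick a chart
  obtain ⟨x⟩ := (inferInstance : Nonempty U)
  obtain ⟨W, hW, hxW, -⟩ := exists_isAffineOpen_mem_and_subset (x := x.1) (U := ⊤) trivial
  let V : {V : X.affineOpens // (V.1 : Set X).Nonempty} := ⟨⟨W, hW⟩, ⟨x.1, hxW⟩⟩
  haveI : Nonempty W := ⟨⟨x.1, hxW⟩⟩
  have e1 : X.germToFunctionField U (X.presheaf.map (homOfLE le_top : U ⟶ ⊤).op g) =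
      X.presheaf.germ ⊤ (genericPoint X) trivial g := TopCat.Presheaf.germ_res_apply _ _ _ _ _
  have e2 : X.germToFunctionField W (X.presheaf.map (homOfLE le_top : W ⟶ ⊤).op g) =
      X.presheaf.germ ⊤ (genericPoint X) trivial g := TopCat.Presheaf.germ_res_apply _ _ _ _ _
  have e3 : X.presheaf.map (homOfLE le_top : W ⟶ ⊤).op g = s V := hg V
  have key : X.germToFunctionField U (X.presheaf.map (homOfLE le_top : U ⟶ ⊤).op g) =
      X.germToFunctionField U b :=
    e1.trans (e2.symm.trans ((congrArg _ e3).trans (hs V inferInstance)))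
  exact key

end Groth.Agent.Lib.Helper2
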