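import Mathlib.RingTheory.Polynomial.GaussLemma
import Mathlib.FieldTheory.IsSepClosed
import Mathlib.RingTheory.Henselian
import Mathlib.RingTheory.LocalRing.ResidueField.Basic

/-!
# Normal local domains with separably closed fraction field are strictly henselian (helper2)
-/

set_option autoImplicit false
set_option linter.unusedSectionVars false
universe u
open Polynomial

namespace Groth.Agent.Lib.Helper2

section
variable {A : Type*} [CommRing A] [IsDomain A] [IsIntegrallyClosed A]
variable (K : Type*) [Field K] [Algebra A K] [IsFractionRing A K]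

/-- A monic polynomial of positive degree over an integrally closed domain has a monic factor
which is irreducible over the fraction field. -/
lemma exists_monic_irreducible_factor {f : A[X]} (hf : f.Monic) (hdeg : f.natDegree ≠ 0) :
    ∃ g h : A[X], g.Monic ∧ h.Monic ∧ f = g * h ∧ Irreducible (g.map (algebraMap A K)) := by
  have hinj : Function.Injective (algebraMap A K) := IsFractionRing.injective A K
  have hfm : (f.map (algebraMap A K)).Monic := hf.map _
  have hnu : ¬ IsUnit (f.map (algebraMap A K)) := by
    intro hu
    have := Polynomial.natDegree_eq_zero_of_isUnit hu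
    rw [hf.natDegree_map] at this
    exact hdeg this
  obtain ⟨g₀, hg₀irr, hg₀dvd⟩ := WfDvdMonoid.exists_irreducible_factor hnu hfm.ne_zero
  obtain ⟨g, hg⟩ := IsIntegrallyClosed.eq_map_mul_C_of_dvd K hf hg₀dvd
  have hlc : g₀.leadingCoeff ≠ 0 := leadingCoeff_ne_zero.mpr hg₀irr.ne_zero
  have hassoc : Associated (g.map (algebraMap A K)) g₀ := by
    rw [← hg]
    exact (associated_mul_isUnit_right_iff (isUnit_C.mpr hlc.isUnit)).mpr (Associated.refl _)
  have hgirr : Irreducible (g.map (algebraMap A K)) := hassoc.symm.irreducible hg₀irr
  have hgm : (g.map (algebraMap A K)).Monic := by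
    have h1 := congrArg leadingCoeff hg
    rw [leadingCoeff_mul, leadingCoeff_C] at h1
    exact mul_right_cancel₀ hlc (h1.trans (one_mul _).symm)
  have hgmonic : g.Monic := monic_of_injective hinj hgm
  have hdvd : g ∣ f := by
    rw [← Polynomial.map_dvd_map _ hinj hgmonic]
    exact hassoc.dvd.trans hg₀dvd
  obtain ⟨h, rfl⟩ := hdvd
  exact ⟨g, h, hgmonic, hgmonic.of_mul_monic_left hf, rfl, hgirr⟩

end

end Groth.Agent.Lib.Helper2

namespace Groth.Agent.Lib.Helper2

section
variable {A : Type*} [CommRing A] [IsDomain A] [IsIntegrallyClosed A]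
variable (K : Type*) [Field K] [Algebra A K] [IsFractionRing A K] [IsSepClosed K]

omit [IsIntegrallyClosed A] in
lemma natDegree_eq_one_or_derivative_eq_zero {g : A[X]} (hg : g.Monic)
    (hirr : Irreducible (g.map (algebraMap A K))) : g.natDegree = 1 ∨ derivative g = 0 := by
  have hinj : Function.Injective (algebraMap A K) := IsFractionRing.injective A K
  by_cases hsep : (g.map (algebraMap A K)).Separable
  · left
    have h1 := IsSepClosed.degree_eq_one_of_irreducible K hirr hsep
    have h2 := natDegree_eq_of_degree_eq_some h1
    rwa [hg.natDegree_map] at h2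
  · right
    rw [separable_iff_derivative_ne_zero hirr, not_not, derivative_map] at hsep
    exact Polynomial.map_injective _ hinj (by rw [hsep, Polynomial.map_zero])

variable [IsLocalRing A]

include K in
/-- Hensel's lemma for a normal local domain with separably closed fraction field. -/
theorem exists_root_of_isSepClosed_fractionRing :
    ∀ (n : ℕ) (f : A[X]), f.natDegree = n → f.Monic → ∀ a₀ : A,
      f.eval a₀ ∈ IsLocalRing.maximalIdeal A → IsUnit (f.derivative.eval a₀) →
      ∃ a : A, f.IsRoot a ∧ a - a₀ ∈ IsLocalRing.maximalIdeal A := by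
  intro n
  induction n using Nat.strong_induction_on with
  | _ n ih =>
    intro f hn hf a₀ h0 h1
    have hdeg : f.natDegree ≠ 0 := by
      intro hd
      rw [hf.natDegree_eq_zero] at hd
      rw [hd, eval_one] at h0
      exact (IsLocalRing.maximalIdeal A).ne_top_iff_one.mp (IsLocalRing.maximalIdeal.isMaximal A).ne_top h0
    obtain ⟨g, h, hg, hh, rfl, hirr⟩ := exists_monic_irreducible_factor K hf hdeg
    have hgdeg : g.natDegree ≠ 0 := by
      intro hd
      rw [hg.natDegree_eq_zero] at hd
      rw [hd, Polynomial.map_one] at hirr
      exact hirr.not_isUnit isUnit_one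
    rw [eval_mul] at h0
    rw [derivative_mul, eval_add, eval_mul, eval_mul] at h1
    by_cases hh0 : h.eval a₀ ∈ IsLocalRing.maximalIdeal A
    · -- recurse on h
      have h2 : IsUnit (g.eval a₀ * (derivative h).eval a₀) := by
        by_contra hnu
        have hm : g.eval a₀ * (derivative h).eval a₀ ∈ IsLocalRing.maximalIdeal A :=
          (IsLocalRing.mem_maximalIdeal _).mpr hnu
        have : (derivative g).eval a₀ * h.eval a₀ + g.eval a₀ * (derivative h).eval a₀ ∈
            IsLocalRing.maximalIdeal A :=
          Ideal.add_mem _ (Ideal.mul_mem_left _ _ hh0) hm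
        exact (IsLocalRing.mem_maximalIdeal _).mp this h1
      have h3 : IsUnit ((derivative h).eval a₀) := isUnit_of_mul_isUnit_right h2
      have hlt : h.natDegree < n := by
        rw [← hn, hg.natDegree_mul hh]
        omega
      obtain ⟨a, ha, haa⟩ := ih _ hlt h rfl hh a₀ hh0 h3
      refine ⟨a, ?_, haa⟩
      rw [IsRoot.def, eval_mul, ha, mul_zero]
    · -- g must be linear
      have hg0 : g.eval a₀ ∈ IsLocalRing.maximalIdeal A :=
        ((IsLocalRing.maximalIdeal.isMaximal A).isPrime.mem_or_mem h0).resolve_right hh0
      have h2 : IsUnit ((derivative g).eval a₀ * h.eval a₀) := by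
        by_contra hnu
        have hm : (derivative g).eval a₀ * h.eval a₀ ∈ IsLocalRing.maximalIdeal A :=
          (IsLocalRing.mem_maximalIdeal _).mpr hnu
        have : (derivative g).eval a₀ * h.eval a₀ + g.eval a₀ * (derivative h).eval a₀ ∈
            IsLocalRing.maximalIdeal A :=
          Ideal.add_mem _ hm (Ideal.mul_mem_right _ _ hg0)
        exact (IsLocalRing.mem_maximalIdeal _).mp this h1
      have h3 : IsUnit ((derivative g).eval a₀) := isUnit_of_mul_isUnit_left h2
      have hg1 : g.natDegree = 1 := by
        rcases natDegree_eq_one_or_derivative_eq_zero K hg hirr with h | h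
        · exact h
        · rw [h, eval_zero] at h3
          exact absurd h3 not_isUnit_zero
      have hgX : g = X + C (g.coeff 0) := hg.eq_X_add_C hg1
      refine ⟨-g.coeff 0, ?_, ?_⟩
      · rw [IsRoot.def, eval_mul]
        have : g.eval (-g.coeff 0) = 0 := by
          conv_lhs => rw [hgX]
          simp
        rw [this, zero_mul]
      · have : g.eval a₀ = a₀ + g.coeff 0 := by
          conv_lhs => rw [hgX]
          simp
        rw [this] at hg0
        have : -g.coeff 0 - a₀ = -(a₀ + g.coeff 0) := by ring
        rw [this]
        exact Ideal.neg_mem_iff _ |>.mpr hg0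

end

end Groth.Agent.Lib.Helper2

namespace Groth.Agent.Lib.Helper2

section
variable {A : Type*} [CommRing A] [IsDomain A] [IsIntegrallyClosed A] [IsLocalRing A]
variable (K : Type*) [Field K] [Algebra A K] [IsFractionRing A K] [IsSepClosed K]

include K in
theorem isSepClosed_residueField_of_isSepClosed_fractionRing :
    IsSepClosed (IsLocalRing.ResidueField A) := by
  apply IsSepClosed.of_exists_root
  intro p hp hirr hsep
  have hlift : p ∈ lifts (IsLocalRing.residue A) := by
    rw [lifts_iff_coeff_lifts]
    intro n
    exact Set.mem_range.mpr (IsLocalRing.residue_surjective _)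
  obtain ⟨f, hfp, hfdeg, hf⟩ := lifts_and_natDegree_eq_and_monic hlift hp
  have hdeg : f.natDegree ≠ 0 := by
    rw [hfdeg]
    intro h0
    have := hp.natDegree_eq_zero.mp h0
    rw [this] at hirr
    exact hirr.not_isUnit isUnit_one
  obtain ⟨g, h, hg, hh, rfl, hgirr⟩ := exists_monic_irreducible_factor K hf hdeg
  have hgdeg : g.natDegree ≠ 0 := by
    intro hd
    rw [hg.natDegree_eq_zero] at hd
    rw [hd, Polynomial.map_one] at hgirr
    exact hgirr.not_isUnit isUnit_one
  rw [Polynomial.map_mul] at hfp
  have hgsep : (g.map (IsLocalRing.residue A)).Separable :=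
    hsep.of_dvd ⟨_, hfp.symm⟩
  rcases natDegree_eq_one_or_derivative_eq_zero K hg hgirr with h1 | h1
  · have hgX : g = X + C (g.coeff 0) := hg.eq_X_add_C h1
    refine ⟨IsLocalRing.residue A (-g.coeff 0), ?_⟩
    rw [← hfp, eval_mul, eval_map, eval₂_hom]
    have : g.eval (-g.coeff 0) = 0 := by
      conv_lhs => rw [hgX]
      simp
    rw [this, map_zero, zero_mul]
  · exfalso
    have hd : derivative (g.map (IsLocalRing.residue A)) = 0 := by
      rw [derivative_map, h1, Polynomial.map_zero]
    have hu : IsUnit (g.map (IsLocalRing.residue A)) := by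
      have := hgsep
      rw [Polynomial.Separable, hd, isCoprime_zero_right] at this
      exact this
    have := natDegree_eq_zero_of_isUnit hu
    rw [hg.natDegree_map] at this
    exact hgdeg this

end

end Groth.Agent.Lib.Helper2

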