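import Groth.Agent.Lib.Helper2.NormalSepClosed
import Mathlib.FieldTheory.Perfect
import Mathlib.RingTheory.LocalRing.ResidueField.Ideal
import Mathlib.RingTheory.IntegralClosure.IntegrallyClosed
import Mathlib.RingTheory.Localization.LocalizationLocalization

/-!
# Residue fields of normal domains with separably closed fraction field (helper2)
-/

set_option autoImplicit false
set_option linter.unusedSectionVars false
universe u
open Polynomial

namespace Groth.Agent.Lib.Helper2

section
variable {B : Type*} [CommRing B] [IsDomain B] [IsIntegrallyClosed B] [IsLocalRing B]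
variable (K : Type*) [Field K] [Algebra B K] [IsFractionRing B K] [IsSepClosed K]

include K in
/-- In a normal local domain (not a field) with separably closed fraction field, every residue
class is an `ℓ`-th power. -/
lemma exists_residue_pow_eq (hB : IsLocalRing.maximalIdeal B ≠ ⊥) (ℓ : ℕ) (hℓ : ℓ ≠ 0) (c : B) :
    ∃ a : B, IsLocalRing.residue B a ^ ℓ = IsLocalRing.residue B c := by
  have hinj : Function.Injective (algebraMap B K) := IsFractionRing.injective B K
  by_cases hℓK : (ℓ : K) = 0
  · -- Artin–Schreier type polynomial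
    obtain ⟨π, hπm, hπ0⟩ := Submodule.exists_mem_ne_zero_of_ne_bot hB
    have hℓ2 : 2 ≤ ℓ := by
      rcases Nat.lt_or_ge ℓ 2 with h | h
      · exfalso
        interval_cases ℓ
        · exact hℓ rfl
        · simp at hℓK
      · exact h
    have hπK : -(algebraMap B K π) ≠ 0 := by
      rw [neg_ne_zero, Ne, map_eq_zero_iff _ hinj]
      exact hπ0
    obtain ⟨x, hx⟩ := IsSepClosed.exists_root_C_mul_X_pow_add_C_mul_X_add_C (1 : K)
      (-(algebraMap B K π)) (-(algebraMap B K c)) hℓK hℓ2 hπK
    have hint : IsIntegral B x := by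
      refine ⟨X ^ ℓ + (C (-π) * X + C (-c)), monic_X_pow_add ?_, ?_⟩
      · exact lt_of_le_of_lt degree_linear_le (by exact_mod_cast hℓ2)
      · rw [eval₂_add, eval₂_pow, eval₂_X, eval₂_add, eval₂_mul, eval₂_C, eval₂_C, eval₂_X,
          map_neg, map_neg]
        linear_combination hx
    obtain ⟨a, rfl⟩ := IsIntegrallyClosed.algebraMap_eq_of_integral hint
    refine ⟨a, ?_⟩
    have h1 : a ^ ℓ - π * a - c = 0 := by
      apply hinj
      rw [map_zero, ← hx]
      simp only [map_sub, map_mul, map_pow]
      ring
    have h2 := congrArg (IsLocalRing.residue B) h1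
    rw [map_zero, map_sub, map_sub, map_mul, map_pow,
      (IsLocalRing.residue_eq_zero_iff π).mpr hπm, zero_mul, sub_zero, sub_eq_zero] at h2
    exact h2
  · have : NeZero (ℓ : K) := ⟨hℓK⟩
    obtain ⟨x, hx⟩ := IsSepClosed.exists_pow_nat_eq (algebraMap B K c) ℓ
    have hint : IsIntegral B x := by
      refine ⟨X ^ ℓ - C c, monic_X_pow_sub_C c hℓ, ?_⟩
      simp [hx]
    obtain ⟨a, rfl⟩ := IsIntegrallyClosed.algebraMap_eq_of_integral hint
    refine ⟨a, ?_⟩
    rw [← map_pow]
    congr 1
    apply hinj
    rw [map_pow, hx]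

include K in
theorem isAlgClosed_residueField_of_isSepClosed_fractionRing
    (hB : IsLocalRing.maximalIdeal B ≠ ⊥) : IsAlgClosed (IsLocalRing.ResidueField B) := by
  have hsc : IsSepClosed (IsLocalRing.ResidueField B) :=
    isSepClosed_residueField_of_isSepClosed_fractionRing K
  obtain ⟨q, hq⟩ := ExpChar.exists (IsLocalRing.ResidueField B)
  have hq0 : q ≠ 0 := (expChar_pos (IsLocalRing.ResidueField B) q).ne'
  have hsurj : Function.Surjective (frobenius (IsLocalRing.ResidueField B) q) := by
    intro cbar
    obtain ⟨c, rfl⟩ := IsLocalRing.residue_surjective cbar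
    obtain ⟨a, ha⟩ := exists_residue_pow_eq K hB q hq0 c
    exact ⟨IsLocalRing.residue B a, by rw [frobenius_def, ha]⟩
  have : PerfectRing (IsLocalRing.ResidueField B) q := PerfectRing.ofSurjective _ q hsurj
  have : PerfectField (IsLocalRing.ResidueField B) := PerfectRing.toPerfectField _ q
  exact IsSepClosed.isAlgClosed_of_perfectField _

end

end Groth.Agent.Lib.Helper2

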