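import Mathlib
import Groth.Agent.S2215

/-!
# Unramified integral closures over normal domains are étale (ring-level form of S0288)

* `finite_projective_integralClosure_of_formallyUnramified`: `A` normal domain, `K = Frac A`, `L/K` finite, `B` the integral
  closure of `A` in `L`; if `B` is formally unramified and of finite type over `A` then `B` is a finite projective
  `A`-module (dual basis `c = ∑ Tr(c xᵢ) yᵢ` from the separability idempotent `∑ xᵢ ⊗ yᵢ`; uses `Groth.Agent.S2215`).
* `etale_integralClosure_of_formallyUnramified`.
-/

set_option linter.style.haveILetI false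

universe u
open TensorProduct
open Groth.Agent.S2215 (θ θ_tmul θ_left θ_right θ_trace)

namespace Groth.Agent.Lib.Helper2

section

/-- The integral closure `B` of a normal domain `A` in a finite extension `L` of its fraction field is a finite
projective `A`-module as soon as it is unramified and of finite type over `A` (dual basis from the separability
idempotent and the trace). -/
theorem finite_projective_integralClosure_of_formallyUnramified
    (A K L : Type u) [CommRing A] [IsDomain A] [IsIntegrallyClosed A] [Field K] [Algebra A K]
    [IsFractionRing A K] [Field L] [Algebra K L] [Algebra A L] [IsScalarTower A K L] [FiniteDimensional K L]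
    [Algebra.FormallyUnramified A (integralClosure A L)] [Algebra.FiniteType A (integralClosure A L)] :
    Module.Finite A (integralClosure A L) ∧ Module.Projective A (integralClosure A L) := by
  classical
  obtain ⟨t, ht1, ht2⟩ := (Algebra.FormallyUnramified.iff_exists_tensorProduct (R := A)
    (S := integralClosure A L)).mp inferInstance
  obtain ⟨S, hS⟩ := TensorProduct.exists_finset t
  let g : integralClosure A L →ₐ[A] L := (integralClosure A L).val
  let Φ₁ : integralClosure A L ⊗[A] integralClosure A L →ₐ[A] L ⊗[A] L := Algebra.TensorProduct.map g g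
  let Φ₂ : L ⊗[A] L →ₐ[A] L ⊗[K] L := Algebra.TensorProduct.mapOfCompatibleSMul K A A L L
  let Φ := Φ₂.comp Φ₁
  let T := Φ t
  have hΦ : ∀ x y : integralClosure A L, Φ (x ⊗ₜ[A] y) = (x : L) ⊗ₜ[K] (y : L) := by
    intro x y
    rfl
  have hT : T = ∑ i ∈ S, (i.1 : L) ⊗ₜ[K] (i.2 : L) := by
    change Φ t = _
    rw [hS, map_sum]
    exact Finset.sum_congr rfl (fun i _ => hΦ i.1 i.2)
  have hμ : Algebra.TensorProduct.lmul' (S := L) K T = 1 := by
    have : ∀ z : integralClosure A L ⊗[A] integralClosure A L,
        Algebra.TensorProduct.lmul' (S := L) K (Φ z) =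
          g (Algebra.TensorProduct.lmul' (S := integralClosure A L) A z) := by
      intro z
      induction z with
      | zero => simp
      | tmul x y => rw [hΦ]; simp [g]
      | add x y hx hy => simp only [map_add, hx, hy]
    change Algebra.TensorProduct.lmul' (S := L) K (Φ t) = 1
    rw [this, ht2, map_one]
  -- `T` commutes with all of `L`
  have hB : ∀ b : integralClosure A L, T * ((1 : L) ⊗ₜ[K] (b : L)) = T * ((b : L) ⊗ₜ[K] (1 : L)) := by
    intro b
    have h1 := congrArg Φ (ht1 b)
    rw [map_mul, map_sub, hΦ, hΦ, map_zero, sub_mul, sub_eq_zero] at h1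
    rw [mul_comm T, mul_comm T]
    exact h1
  have hsub : ∀ s : L, T * ((1 : L) ⊗ₜ[K] s) = T * (s ⊗ₜ[K] (1 : L)) := by
    intro s
    have halg : IsAlgebraic A s := by
      have h1 : IsAlgebraic K s := Algebra.IsAlgebraic.isAlgebraic s
      have : Algebra.IsAlgebraic A K := IsLocalization.isAlgebraic K (nonZeroDivisors A)
      exact (Algebra.IsAlgebraic.trans A K L).isAlgebraic s
    obtain ⟨a, ha, hint⟩ := halg.exists_integral_multiple
    let b : integralClosure A L := ⟨a • s, hint⟩
    have hb : (b : L) ∈ Groth.Agent.S2197.eqSub T := (Groth.Agent.S2197.mem_eqSub T _).mpr (hB b)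
    have haK : algebraMap A K a ≠ 0 := by
      intro h0
      exact ha ((IsFractionRing.injective A K) (h0.trans (map_zero _).symm))
    have hs : s = (algebraMap A K a)⁻¹ • (b : L) := by
      change s = (algebraMap A K a)⁻¹ • (a • s)
      rw [← algebraMap_smul K a s, smul_smul, inv_mul_cancel₀ haK, one_smul]
    rw [hs]
    exact (Groth.Agent.S2197.mem_eqSub T _).mp (Subalgebra.smul_mem _ hb _)
  have hann : T ∈ Submodule.annihilator (KaehlerDifferential.ideal K L) :=
    (Groth.Agent.S2197.mem_annihilator_ideal_iff T).mpr hsub
  let bK := Module.finBasis K L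
  have key : ∀ c : L, ∑ i ∈ S, Algebra.trace K L (c * (i.1 : L)) • (i.2 : L) = c := by
    intro c
    have hann' : (c ⊗ₜ[K] (1 : L)) * T ∈ Submodule.annihilator (KaehlerDifferential.ideal K L) :=
      Ideal.mul_mem_left _ _ hann
    have h1 := θ_trace bK _ hann'
    rw [θ_left, map_mul, hμ, mul_one, Algebra.TensorProduct.lmul'_apply_tmul, mul_one, hT, map_sum] at h1
    refine Eq.trans (Finset.sum_congr rfl (fun i _ => ?_)) h1
    rw [θ_tmul, LinearMap.comp_apply, LinearMap.mulLeft_apply]
  -- traces of integral elements lie in `A`
  have htr : ∀ z : integralClosure A L, ∃ a : A, algebraMap A K a = Algebra.trace K L (z : L) := by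
    intro z
    have : IsIntegral A (Algebra.trace K L (z : L)) := Algebra.isIntegral_trace z.2
    exact IsIntegrallyClosed.isIntegral_iff.mp this
  choose τ hτ using htr
  have hinj : Function.Injective (algebraMap A K) := IsFractionRing.injective A K
  let τ' : integralClosure A L →ₗ[A] A :=
    { toFun := τ
      map_add' := by
        intro x y
        apply hinj
        rw [map_add, hτ, hτ, hτ]
        simp
      map_smul' := by
        intro a x
        apply hinj
        rw [RingHom.id_apply, smul_eq_mul, map_mul, hτ, hτ]
        change Algebra.trace K L (a • (x : L)) = _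
        rw [← algebraMap_smul K a (x : L), map_smul, smul_eq_mul] }
  let ι : integralClosure A L →ₗ[A] (S → A) :=
    LinearMap.pi (fun i => τ' ∘ₗ LinearMap.mulRight A (i.1.1 : integralClosure A L))
  let π : (S → A) →ₗ[A] integralClosure A L :=
    Fintype.linearCombination A (fun i : S => (i.1.2 : integralClosure A L))
  have hπι : π.comp ι = LinearMap.id := by
    ext c
    rw [LinearMap.comp_apply, LinearMap.id_apply]
    change ((Fintype.linearCombination A (fun i : S => (i.1.2 : integralClosure A L))) (ι c) : L) = c
    rw [Fintype.linearCombination_apply]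
    have h2 := key (c : L)
    rw [← Finset.sum_coe_sort S] at h2
    refine Eq.trans ?_ h2
    rw [AddSubmonoidClass.coe_finset_sum]
    refine Finset.sum_congr rfl (fun i _ => ?_)
    change ((τ (c * i.1.1) • (i.1.2 : integralClosure A L) : integralClosure A L) : L) = _
    have h3 : ((τ (c * i.1.1) • (i.1.2 : integralClosure A L) : integralClosure A L) : L) =
        τ (c * i.1.1) • ((i.1.2 : integralClosure A L) : L) := rfl
    rw [h3, ← algebraMap_smul K (τ (c * i.1.1)) ((i.1.2 : integralClosure A L) : L), hτ]
    rfl
  have hsurj : Function.Surjective π := by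
    intro c
    exact ⟨ι c, LinearMap.congr_fun hπι c⟩
  exact ⟨Module.Finite.of_surjective π hsurj, Module.Projective.of_split ι π hπι⟩

/-- Ring-level form of `S0288`. -/
theorem etale_integralClosure_of_formallyUnramified
    (A K L : Type u) [CommRing A] [IsDomain A] [IsIntegrallyClosed A] [Field K] [Algebra A K]
    [IsFractionRing A K] [Field L] [Algebra K L] [Algebra A L] [IsScalarTower A K L] [FiniteDimensional K L]
    [Algebra.FormallyUnramified A (integralClosure A L)] [Algebra.FiniteType A (integralClosure A L)] :
    Algebra.Etale A (integralClosure A L) := by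
  obtain ⟨hfin, hproj⟩ := finite_projective_integralClosure_of_formallyUnramified A K L
  haveI := hfin
  haveI := hproj
  haveI : Module.FinitePresentation A (integralClosure A L) := Module.finitePresentation_of_projective _ _
  haveI : Algebra.FinitePresentation A (integralClosure A L) := inferInstance
  haveI : Module.Flat A (integralClosure A L) := inferInstance
  exact .of_formallyUnramified_of_flat

end

end Groth.Agent.Lib.Helper2
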