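import Mathlib
import Groth.Prelude.Def_Pi1
import Groth.Agent.Lib.Helper2.NormalizationUnramified
import Groth.Agent.Lib.Helper38.NormL
import Groth.Agent.Lib.Helper38.NormSch5

/-!
# The normalization of a normal integral scheme in a finite extension of its function field is étale when unramified (S0288)

Uses helper38's identification of sections of the normalization with integral closures (`NormL.exists_app_equiv`).
-/

set_option linter.style.haveILetI false

universe u
open CategoryTheory CategoryTheory.Limits AlgebraicGeometry TopologicalSpace Opposite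
open Groth.Agent.Lib.Helper38

namespace Groth.Agent.Lib.Helper2

/-- `S0288`. -/
theorem etale_and_isFinite_fromNormalization_of_formallyUnramified {X : Scheme.{u}} [IsIntegral X]
    (hX : Pi1.IsNormalScheme X) (L : Type u) [Field L]
    [Algebra X.functionField L] [FiniteDimensional X.functionField L]
    [QuasiCompact (NormL.fL X L)] [QuasiSeparated (NormL.fL X L)]
    [FormallyUnramified (NormL.fL X L).fromNormalization]
    [LocallyOfFiniteType (NormL.fL X L).fromNormalization] :
    Etale (NormL.fL X L).fromNormalization ∧ IsFinite (NormL.fL X L).fromNormalization := by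
  have hfinite : IsFinite (NormL.fL X L).fromNormalization :=
    (IsFinite.iff_isIntegralHom_and_locallyOfFiniteType _).mpr ⟨inferInstance, inferInstance⟩
  refine ⟨?_, hfinite⟩
  set π := (NormL.fL X L).fromNormalization with hπ
  rw [HasRingHomProperty.iff_appLE (P := @Etale)]
  intro V W e
  have hW₀ : IsAffineOpen (π ⁻¹ᵁ V.1) := V.2.preimage π
  suffices H : (π.appLE V.1 (π ⁻¹ᵁ V.1) le_rfl).hom.Etale by
    have h2 : ((𝟙 _ : (NormL.fL X L).normalization ⟶ _).appLE (π ⁻¹ᵁ V.1) W.1 e).hom.Etale :=
      HasRingHomProperty.appLE (P := @Etale) (𝟙 _) inferInstance ⟨π ⁻¹ᵁ V.1, hW₀⟩ W e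
    have h3 : π.appLE V.1 W.1 e = π.appLE V.1 (π ⁻¹ᵁ V.1) le_rfl ≫
        (𝟙 _ : (NormL.fL X L).normalization ⟶ _).appLE (π ⁻¹ᵁ V.1) W.1 e := by
      simp [Scheme.Hom.appLE]
      erw [Category.id_comp]
      rfl
    rw [h3, CommRingCat.hom_comp]
    exact RingHom.Etale.stableUnderComposition _ _ H h2
  rw [Scheme.Hom.appLE_eq_app]
  by_cases hne : Nonempty V.1
  · haveI := hne
    letI algL : Algebra Γ(X, V.1) L :=
      ((algebraMap X.functionField L).comp (algebraMap Γ(X, V.1) X.functionField)).toAlgebra
    obtain ⟨e', he'⟩ := NormL.exists_app_equiv X L V.2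
    haveI : IsIntegrallyClosed Γ(X, V.1) :=
      NormSch.isIntegrallyClosed_of_isAffineOpen' V.2 (fun y _ => (hX y).2)
    haveI := functionField_isFractionRing_of_isAffineOpen X V.1 V.2
    haveI : IsScalarTower Γ(X, V.1) X.functionField L := IsScalarTower.of_algebraMap_eq' rfl
    have h_unr : (π.app V.1).hom.FormallyUnramified := by
      have := HasRingHomProperty.appLE (P := @FormallyUnramified) π inferInstance V ⟨π ⁻¹ᵁ V.1, hW₀⟩ le_rfl
      rwa [Scheme.Hom.appLE_eq_app] at this
    have h_ft : (π.app V.1).hom.FiniteType := by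
      have := HasRingHomProperty.appLE (P := @LocallyOfFiniteType) π inferInstance V ⟨π ⁻¹ᵁ V.1, hW₀⟩ le_rfl
      rwa [Scheme.Hom.appLE_eq_app] at this
    have hcomp : algebraMap Γ(X, V.1) (integralClosure Γ(X, V.1) L) = e'.toRingHom.comp (π.app V.1).hom := by
      apply RingHom.ext
      intro a
      exact (he' a).symm
    haveI : Algebra.FormallyUnramified Γ(X, V.1) (integralClosure Γ(X, V.1) L) := by
      rw [← RingHom.formallyUnramified_algebraMap, hcomp]
      exact RingHom.FormallyUnramified.respectsIso.1 _ e' h_unr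
    haveI : Algebra.FiniteType Γ(X, V.1) (integralClosure Γ(X, V.1) L) := by
      have := RingHom.finiteType_respectsIso.1 _ e' h_ft
      rw [← hcomp] at this
      exact this
    have hEt : Algebra.Etale Γ(X, V.1) (integralClosure Γ(X, V.1) L) :=
      etale_integralClosure_of_formallyUnramified Γ(X, V.1) X.functionField L
    have hEt' : (algebraMap Γ(X, V.1) (integralClosure Γ(X, V.1) L)).Etale := RingHom.etale_algebraMap.mpr hEt
    have hcomp' : (π.app V.1).hom = e'.symm.toRingHom.comp (algebraMap Γ(X, V.1) (integralClosure Γ(X, V.1) L)) := by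
      apply RingHom.ext
      intro a
      rw [hcomp]
      simp
    rw [hcomp']
    exact RingHom.Etale.respectsIso.1 _ e'.symm hEt'
  · have hV : V.1 = ⊥ := by
      ext y
      simp only [Opens.coe_bot, Set.mem_empty_iff_false, iff_false]
      intro hy
      exact hne ⟨⟨y, hy⟩⟩
    have hW : π ⁻¹ᵁ V.1 = ⊥ := by
      rw [hV]
      rfl
    haveI : Subsingleton Γ(X, V.1) := hV ▸ (inferInstance : Subsingleton Γ(X, ⊥))
    haveI : Subsingleton Γ((NormL.fL X L).normalization, π ⁻¹ᵁ V.1) :=
      hW ▸ (inferInstance : Subsingleton Γ((NormL.fL X L).normalization, ⊥))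
    apply RingHom.Etale.of_bijective
    exact ⟨fun a b _ => Subsingleton.elim a b, fun b => ⟨0, Subsingleton.elim _ _⟩⟩

end Groth.Agent.Lib.Helper2
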