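import Mathlib
import Groth.Agent.Lib.Helper25.EtaleSubalgebra

/-!
# Largest finite étale subalgebra of a connected algebra over a field (helper2)

* `isField_of_isReduced_of_idem`: a reduced artinian ring with only trivial idempotents is a field.
* `isField_of_etale_of_idem`: finite étale subalgebras of a connected algebra are fields.
* `exists_largest_of_idem`: a connected `k`-algebra admitting a map to a finite field extension
  has a largest finite étale subalgebra (which is a field).
-/

set_option autoImplicit false
set_option linter.style.haveILetI false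
set_option linter.unusedSectionVars false
universe u

namespace Groth.Agent.Lib.Helper2.Pi0Alg

open Groth.Agent.Lib.Helper25.EtaleSubalgebra

/-- A reduced artinian nontrivial ring with only trivial idempotents is a field. -/
theorem isField_of_isReduced_of_idem {E : Type*} [CommRing E] [IsArtinianRing E] [IsReduced E]
    [Nontrivial E] (hid : ∀ e : E, IsIdempotentElem e → e = 0 ∨ e = 1) : IsField E := by
  classical
  let φ := IsArtinianRing.equivPi E
  have hsub : ∀ m1 m2 : MaximalSpectrum E, m1 = m2 := by
    intro m1 m2
    by_contra hne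
    let e : E := φ.symm (Pi.single m1 1)
    have he : IsIdempotentElem e := by
      show e * e = e
      rw [← map_mul, ← Pi.single_mul, mul_one]
    have hφe : φ e = Pi.single m1 1 := φ.apply_symm_apply _
    haveI : Nontrivial (E ⧸ m1.asIdeal) := Ideal.Quotient.nontrivial_iff.mpr m1.isMaximal.ne_top
    haveI : Nontrivial (E ⧸ m2.asIdeal) := Ideal.Quotient.nontrivial_iff.mpr m2.isMaximal.ne_top
    rcases hid e he with h | h
    · have := congrFun (hφe ▸ congrArg φ h) m1
      simp at this
    · have := congrFun (hφe ▸ congrArg φ h) m2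
      rw [map_one, Pi.one_apply, Pi.single_eq_of_ne (Ne.symm hne)] at this
      exact zero_ne_one this
  obtain ⟨M, hM⟩ := Ideal.exists_maximal E
  haveI : IsLocalRing E := IsLocalRing.of_unique_max_ideal ⟨M, hM, fun M' hM' =>
    congrArg MaximalSpectrum.asIdeal (hsub ⟨M', hM'⟩ ⟨M, hM⟩)⟩
  exact IsArtinianRing.isField_of_isReduced_of_isLocalRing E

variable {k : Type u} [Field k] {A : Type u} [CommRing A] [Algebra k A]

/-- A finite étale subalgebra of an algebra with only trivial idempotents is a field. -/
theorem isField_of_etale_of_idem [Nontrivial A]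
    (hid : ∀ e : A, IsIdempotentElem e → e = 0 ∨ e = 1) (E : Subalgebra k A) [Module.Finite k E]
    [Algebra.Etale k E] : IsField E := by
  haveI : IsArtinianRing E := IsArtinianRing.of_finite k E
  haveI : IsReduced E := Algebra.FormallyUnramified.isReduced_of_field k E
  apply isField_of_isReduced_of_idem
  intro e he
  have he' : IsIdempotentElem (e : A) := by
    have := congrArg Subtype.val he.eq
    exact this
  rcases hid _ he' with h | h
  · left; exact Subtype.ext h
  · right; exact Subtype.ext h

/-- Largest finite étale subalgebra of a connected algebra admitting a map to a finite extension. -/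
theorem exists_largest_of_idem [Nontrivial A]
    (hid : ∀ e : A, IsIdempotentElem e → e = 0 ∨ e = 1)
    {K : Type u} [Field K] [Algebra k K] [Module.Finite k K] (ev : A →ₐ[k] K) :
    ∃ E : Subalgebra k A, Module.Finite k E ∧ Algebra.Etale k E ∧ IsField E ∧
      ∀ E' : Subalgebra k A, Module.Finite k E' → Algebra.Etale k E' → E' ≤ E := by
  classical
  let P : Subalgebra k A → Prop := fun E => Module.Finite k E ∧ Algebra.Etale k E
  let N := Module.finrank k K
  have hbound : ∀ E, P E → Module.finrank k E ≤ N := by
    rintro E ⟨h1, h2⟩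
    have hf : IsField E := isField_of_etale_of_idem hid E
    letI := hf.toField
    have hinj : Function.Injective (ev.comp E.val) := (ev.comp E.val).toRingHom.injective
    exact LinearMap.finrank_le_finrank_of_injective (f := (ev.comp E.val).toLinearMap) hinj
  have hex : ∃ n, ∃ E, P E ∧ Module.finrank k E = n := ⟨_, ⊥, ⟨etale_bot.1, etale_bot.2⟩, rfl⟩
  obtain ⟨E, hPE, hmax⟩ : ∃ E, P E ∧ ∀ E', P E' → Module.finrank k E' ≤ Module.finrank k E := by
    let n := Nat.findGreatest (fun n => ∃ E, P E ∧ Module.finrank k E = n) N
    obtain ⟨n₀, E₀, hE₀, hn₀⟩ := hex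
    have hn₀N : n₀ ≤ N := hn₀ ▸ hbound E₀ hE₀
    obtain ⟨E, hPE, hE⟩ : ∃ E, P E ∧ Module.finrank k E = n :=
      Nat.findGreatest_spec (P := fun n => ∃ E, P E ∧ Module.finrank k E = n) hn₀N ⟨E₀, hE₀, hn₀⟩
    refine ⟨E, hPE, fun E' hE' => ?_⟩
    rw [hE]
    exact Nat.le_findGreatest (hbound E' hE') ⟨E', hE', rfl⟩
  obtain ⟨hEfin, hEet⟩ := hPE
  refine ⟨E, hEfin, hEet, isField_of_etale_of_idem hid E, fun E' hE'fin hE'et => ?_⟩
  obtain ⟨h1, h2⟩ := etale_sup E E'
  have h3 : Module.finrank k ↥(E ⊔ E') ≤ Module.finrank k E := hmax (E ⊔ E') ⟨h1, h2⟩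
  have h4 : Subalgebra.toSubmodule E = Subalgebra.toSubmodule (E ⊔ E') := by
    apply Submodule.eq_of_le_of_finrank_le
    · exact Subalgebra.toSubmodule.monotone le_sup_left
    · exact h3
  have h5 : E = E ⊔ E' := Subalgebra.toSubmodule_injective h4
  rw [h5]
  exact le_sup_right

end Groth.Agent.Lib.Helper2.Pi0Alg
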