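import Mathlib
import Groth.Agent.Lib.Helper2.Pi0Alg
import Groth.Agent.Lib.Helper89.HensCouple1

/-!
# The étale `π₀` of a scheme locally of finite type over a field (helper2)

* `Γhom` and its calculus: morphisms `Z ⟶ Spec R` versus ring maps `R ⟶ Γ(Z, ⊤)`.
* `idem_eq_zero_or_one`: idempotent global sections of a connected scheme are trivial.
* `exists_finite_field_point`: a nonempty scheme locally of finite type over a field has a point
  with values in a finite extension.
* `discreteTopology_of_etale`, `exists_lift_affine`: schemes étale over a field are discrete, so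
  morphisms from connected schemes to them factor through an affine open.
* `exists_pi0_connected`: the connected case (largest finite étale subalgebra of `Γ(Z, ⊤)`).
* `exists_pi0`: the general case, by decomposition into (open) connected components.
-/

set_option autoImplicit false
set_option linter.style.haveILetI false
set_option linter.unusedSectionVars false
universe u

namespace Groth.Agent.Lib.Helper2.Pi0Scheme

open AlgebraicGeometry CategoryTheory CategoryTheory.Limits TopologicalSpace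

section Topology

open Set

/-- In a Noetherian space connected components are open. -/
lemma isOpen_connectedComponent_of_noetherianSpace {α : Type*} [TopologicalSpace α] [NoetherianSpace α]
    (x : α) : IsOpen (connectedComponent x) := by
  rw [← isClosed_compl_iff]
  have hfin : (irreducibleComponents α).Finite := NoetherianSpace.finite_irreducibleComponents
  have heq : (connectedComponent x)ᶜ =
      ⋃₀ {Z ∈ irreducibleComponents α | Disjoint Z (connectedComponent x)} := by
    ext y
    constructor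
    · intro hy
      have hyu : y ∈ ⋃₀ irreducibleComponents α := by
        rw [sUnion_irreducibleComponents]; trivial
      obtain ⟨Z, hZ, hyZ⟩ := hyu
      refine ⟨Z, ⟨hZ, ?_⟩, hyZ⟩
      rw [Set.disjoint_left]
      intro z hzZ hzC
      apply hy
      have h1 : Z ⊆ connectedComponent z :=
        (hZ.1.isPreirreducible.isPreconnected).subset_connectedComponent hzZ
      rw [connectedComponent_eq hzC]
      exact h1 hyZ
    · rintro ⟨Z, ⟨-, hZd⟩, hyZ⟩ hyC
      exact Set.disjoint_left.mp hZd hyZ hyC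
  rw [heq, sUnion_eq_biUnion]
  have hfin' : {Z ∈ irreducibleComponents α | Disjoint Z (connectedComponent x)}.Finite :=
    hfin.subset (fun Z hZ => hZ.1)
  exact hfin'.isClosed_biUnion (fun Z hZ => isClosed_of_mem_irreducibleComponents Z hZ.1)

/-- If every point has a Noetherian open neighbourhood then connected components are open. -/
lemma isOpen_connectedComponent_of_locally_noetherian {α : Type*} [TopologicalSpace α]
    (h : ∀ x : α, ∃ N : Set α, IsOpen N ∧ x ∈ N ∧ NoetherianSpace N) (x : α) :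
    IsOpen (connectedComponent x) := by
  rw [isOpen_iff_mem_nhds]
  intro y hy
  obtain ⟨N, hNo, hyN, hN⟩ := h y
  have h1 : IsOpen (connectedComponent (⟨y, hyN⟩ : N)) :=
    isOpen_connectedComponent_of_noetherianSpace _
  have h2 : IsOpen ((↑) '' connectedComponent (⟨y, hyN⟩ : N) : Set α) :=
    hNo.isOpenMap_subtype_val _ h1
  have h3 : _root_.IsPreconnected ((↑) '' connectedComponent (⟨y, hyN⟩ : N) : Set α) :=
    isPreconnected_connectedComponent.image _ continuous_subtype_val.continuousOn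
  have h4 : y ∈ ((↑) '' connectedComponent (⟨y, hyN⟩ : N) : Set α) :=
    ⟨⟨y, hyN⟩, mem_connectedComponent, rfl⟩
  have h5 : ((↑) '' connectedComponent (⟨y, hyN⟩ : N) : Set α) ⊆ connectedComponent x := by
    rw [connectedComponent_eq hy]
    exact h3.subset_connectedComponent h4
  exact Filter.mem_of_superset (h2.mem_nhds h4) h5

/-- Connected components of a locally Noetherian scheme are open. -/
lemma isOpen_connectedComponent_of_isLocallyNoetherian (X : Scheme.{u}) [IsLocallyNoetherian X]
    (x : X) : IsOpen (connectedComponent x) := by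
  apply isOpen_connectedComponent_of_locally_noetherian
  intro y
  obtain ⟨W, hW, hyW, -⟩ := exists_isAffineOpen_mem_and_subset (x := y) (U := ⊤) trivial
  haveI := IsLocallyNoetherian.component_noetherian ⟨W, hW⟩
  exact ⟨W, W.isOpen, hyW, noetherianSpace_of_isAffineOpen W hW⟩

end Topology

section Γhom

variable {Z : Scheme.{u}} {R S : CommRingCat.{u}}

/-- The ring map associated to a morphism to an affine scheme. -/
noncomputable def Γhom (a : Z ⟶ Spec R) : R ⟶ Γ(Z, ⊤) :=
  (Scheme.ΓSpecIso R).inv ≫ a.appTop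

lemma toSpecΓ_map_Γhom (a : Z ⟶ Spec R) : Z.toSpecΓ ≫ Spec.map (Γhom a) = a := by
  rw [Γhom, Spec.map_comp, ← Scheme.toSpecΓ_naturality_assoc, toSpecΓ_SpecMap_ΓSpecIso_inv,
    Category.comp_id]

lemma Γhom_toSpecΓ_map (ψ : R ⟶ Γ(Z, ⊤)) : Γhom (Z.toSpecΓ ≫ Spec.map ψ) = ψ := by
  rw [Γhom, Scheme.Hom.comp_appTop, Scheme.toSpecΓ_appTop, ← Category.assoc,
    ← Scheme.ΓSpecIso_inv_naturality, Category.assoc, Iso.inv_hom_id, Category.comp_id]

lemma Γhom_comp_map (a : Z ⟶ Spec R) (β : S ⟶ R) : Γhom (a ≫ Spec.map β) = β ≫ Γhom a := by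
  rw [Γhom, Γhom, Scheme.Hom.comp_appTop, ← Category.assoc, ← Scheme.ΓSpecIso_inv_naturality,
    Category.assoc]

lemma Γhom_injective {a b : Z ⟶ Spec R} (h : Γhom a = Γhom b) : a = b := by
  rw [← toSpecΓ_map_Γhom a, ← toSpecΓ_map_Γhom b, h]

end Γhom

/-- Idempotent global sections of a connected scheme are trivial. -/
theorem idem_eq_zero_or_one (Z : Scheme.{u}) [ConnectedSpace Z] (e : Γ(Z, ⊤))
    (he : IsIdempotentElem e) : e = 0 ∨ e = 1 := by
  have hcl := Groth.Agent.Lib.Helper89.HensCouple.isClopen_basicOpen Z e he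
  rcases isClopen_iff.mp hcl with h | h
  · left
    apply Groth.Agent.Lib.Helper89.HensCouple.idem_eq_of_basicOpen_eq Z he IsIdempotentElem.zero
    rw [h, Scheme.basicOpen_zero]
    rfl
  · right
    apply Groth.Agent.Lib.Helper89.HensCouple.idem_eq_of_basicOpen_eq Z he IsIdempotentElem.one
    rw [h, Scheme.basicOpen_of_isUnit _ isUnit_one]
    rfl

variable {k : Type u} [Field k]

/-- A nonempty scheme locally of finite type over a field has a point with values in a finite
extension. -/
theorem exists_finite_field_point {Z : Scheme.{u}} [Nonempty Z]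
    (g : Z ⟶ Spec (CommRingCat.of k)) [LocallyOfFiniteType g] :
    ∃ (K : Type u) (_ : Field K) (_ : Algebra k K) (_ : Module.Finite k K)
      (ev : Γ(Z, ⊤) →+* K), ev.comp (Γhom g).hom = algebraMap k K := by
  obtain ⟨z⟩ := ‹Nonempty Z›
  let 𝒰 := Z.affineOpenCover
  let i := 𝒰.idx z
  obtain ⟨z', hz'⟩ := 𝒰.covers z
  let R := 𝒰.X i
  haveI : IsOpenImmersion (𝒰.f i) := 𝒰.map_prop i
  haveI : Nontrivial R := by
    have : Nonempty (PrimeSpectrum R) := ⟨z'⟩
    exact (PrimeSpectrum.nonempty_iff_nontrivial).mp this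
  obtain ⟨β, hβ⟩ : ∃ β : CommRingCat.of k ⟶ R, Spec.map β = 𝒰.f i ≫ g :=
    ⟨Spec.preimage _, Spec.map_preimage _⟩
  have hft : LocallyOfFiniteType (Spec.map β) := by rw [hβ]; infer_instance
  have hβft : β.hom.FiniteType := HasRingHomProperty.Spec_iff.mp hft
  obtain ⟨m, hm⟩ := Ideal.exists_maximal R
  let K := R ⧸ m
  letI : Field K := Ideal.Quotient.field m
  letI : Algebra k R := β.hom.toAlgebra
  haveI : Algebra.FiniteType k R := hβft
  haveI : Algebra.FiniteType k K :=
    Algebra.FiniteType.of_surjective (Ideal.Quotient.mkₐ k m) (Ideal.Quotient.mkₐ_surjective k m)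
  haveI : Module.Finite k K := finite_of_finite_type_of_isJacobsonRing k K
  have hcomp : Γhom g ≫ (𝒰.f i).appTop ≫ (Scheme.ΓSpecIso R).hom = β := by
    rw [Γhom, Category.assoc, ← Scheme.Hom.comp_appTop_assoc, ← hβ, ← Category.assoc,
      ← Scheme.ΓSpecIso_inv_naturality, Category.assoc, Iso.inv_hom_id, Category.comp_id]
  refine ⟨K, inferInstance, inferInstance, inferInstance,
    (Ideal.Quotient.mk m).comp ((𝒰.f i).appTop ≫ (Scheme.ΓSpecIso R).hom).hom, ?_⟩
  rw [RingHom.comp_assoc, ← CommRingCat.hom_comp, hcomp]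
  rfl

/-- The underlying space of a scheme étale over a field is discrete. -/
theorem isOpen_singleton_of_etale {Y : Scheme.{u}} (gY : Y ⟶ Spec (CommRingCat.of k)) [Etale gY]
    (y : Y) : IsOpen ({y} : Set Y) := by
  let 𝒰 := Y.affineOpenCover
  let i := 𝒰.idx y
  obtain ⟨y', hy'⟩ := 𝒰.covers y
  let R := 𝒰.X i
  haveI : IsOpenImmersion (𝒰.f i) := 𝒰.map_prop i
  obtain ⟨β, hβ⟩ : ∃ β : CommRingCat.of k ⟶ R, Spec.map β = 𝒰.f i ≫ gY :=
    ⟨Spec.preimage _, Spec.map_preimage _⟩
  have het : Etale (Spec.map β) := by rw [hβ]; infer_instance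
  have hβet : β.hom.Etale := HasRingHomProperty.Spec_iff.mp het
  letI : Algebra k R := β.hom.toAlgebra
  haveI : Algebra.Etale k R := hβet
  haveI : Module.Finite k R := Algebra.FormallyUnramified.finite_of_free k R
  haveI : IsArtinianRing R := IsArtinianRing.of_finite k R
  haveI : DiscreteTopology (Spec R) := inferInstanceAs (DiscreteTopology (PrimeSpectrum R))
  have h1 : IsOpen ({y'} : Set (Spec R)) := isOpen_discrete _
  have h2 := (𝒰.f i).isOpenEmbedding.isOpenMap _ h1
  rwa [Set.image_singleton, hy'] at h2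

theorem discreteTopology_of_etale {Y : Scheme.{u}} (gY : Y ⟶ Spec (CommRingCat.of k)) [Etale gY] :
    DiscreteTopology Y :=
  discreteTopology_iff_isOpen_singleton.mpr (isOpen_singleton_of_etale gY)

/-- A morphism from a connected scheme to a scheme étale over a field factors through an affine
open. -/
theorem exists_lift_affine {Z Y : Scheme.{u}} [ConnectedSpace Z]
    (gY : Y ⟶ Spec (CommRingCat.of k)) [Etale gY] (h : Z ⟶ Y) :
    ∃ i : Y.affineOpenCover.I₀, Set.range h ⊆ Set.range (Y.affineOpenCover.f i) := by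
  haveI := discreteTopology_of_etale gY
  obtain ⟨z0⟩ := (inferInstance : Nonempty Z)
  let y := h z0
  refine ⟨Y.affineOpenCover.idx y, ?_⟩
  have hcl : IsClopen (h ⁻¹' {y}) := (isClopen_discrete {y}).preimage h.continuous
  have huniv : h ⁻¹' {y} = Set.univ := hcl.eq_univ ⟨z0, rfl⟩
  rintro _ ⟨z, rfl⟩
  have hz : h z = y := by
    have : z ∈ h ⁻¹' {y} := huniv ▸ Set.mem_univ z
    exact this
  rw [hz]
  exact Y.affineOpenCover.covers y

open Groth.Agent.Lib.Helper25.EtaleSubalgebra in
/-- The étale `π₀` of a connected scheme locally of finite type over a field. -/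
theorem exists_pi0_connected {Z : Scheme.{u}} [ConnectedSpace Z]
    (g : Z ⟶ Spec (CommRingCat.of k)) [LocallyOfFiniteType g] :
    ∃ (E : Type u) (_ : CommRing E) (_ : Algebra k E) (_ : Algebra.Etale k E)
      (q : Z ⟶ Spec (CommRingCat.of E)),
      IsField E ∧
      q ≫ Spec.map (CommRingCat.ofHom (algebraMap k E)) = g ∧
      ∀ (Y : Scheme.{u}) (gY : Y ⟶ Spec (CommRingCat.of k)) (h : Z ⟶ Y), Etale gY → h ≫ gY = g →
        ∃! t : Spec (CommRingCat.of E) ⟶ Y,
          t ≫ gY = Spec.map (CommRingCat.ofHom (algebraMap k E)) ∧ q ≫ t = h := by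
  classical
  letI : Algebra k Γ(Z, ⊤) := (Γhom g).hom.toAlgebra
  haveI : Nonempty (⊤ : Z.Opens) := ⟨⟨(inferInstance : Nonempty Z).some, trivial⟩⟩
  haveI : Nontrivial Γ(Z, ⊤) := Scheme.component_nontrivial Z ⊤
  obtain ⟨K, _, _, _, ev, hev⟩ := exists_finite_field_point g
  let ev' : Γ(Z, ⊤) →ₐ[k] K := { ev with commutes' := fun r => RingHom.congr_fun hev r }
  obtain ⟨E, hfin, het, hfield, hmax⟩ :=
    Groth.Agent.Lib.Helper2.Pi0Alg.exists_largest_of_idem (idem_eq_zero_or_one Z) ev'
  let ι : CommRingCat.of E ⟶ Γ(Z, ⊤) := CommRingCat.ofHom E.val.toRingHom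
  have hιinj : Function.Injective ι.hom := Subtype.val_injective
  let q : Z ⟶ Spec (CommRingCat.of E) := Z.toSpecΓ ≫ Spec.map ι
  have hq : Γhom q = ι := Γhom_toSpecΓ_map ι
  have hsub : ∀ p p' : Spec (CommRingCat.of E), p = p' := by
    have hbot : ∀ p : PrimeSpectrum E, p.asIdeal = ⊥ := by
      intro p
      rw [eq_bot_iff]
      intro x hx
      by_contra hx0
      obtain ⟨y, hy⟩ := hfield.mul_inv_cancel hx0
      exact p.isPrime.ne_top (Ideal.eq_top_of_isUnit_mem _ hx (IsUnit.of_mul_eq_one _ hy))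
    intro p p'
    exact PrimeSpectrum.ext ((hbot p).trans (hbot p').symm)
  refine ⟨E, inferInstance, inferInstance, het, q, hfield, ?_, ?_⟩
  · apply Γhom_injective
    rw [Γhom_comp_map, hq]
    ext r
    rfl
  · intro Y gY h hgY hh
    obtain ⟨i, hi⟩ := exists_lift_affine gY h
    let 𝒰 := Y.affineOpenCover
    let R := 𝒰.X i
    haveI : IsOpenImmersion (𝒰.f i) := 𝒰.map_prop i
    let h0 : Z ⟶ Spec R := IsOpenImmersion.lift (𝒰.f i) h hi
    have hh0 : h0 ≫ 𝒰.f i = h := IsOpenImmersion.lift_fac _ _ _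
    obtain ⟨β, hβ⟩ : ∃ β : CommRingCat.of k ⟶ R, Spec.map β = 𝒰.f i ≫ gY :=
      ⟨Spec.preimage _, Spec.map_preimage _⟩
    have het' : Etale (Spec.map β) := by rw [hβ]; infer_instance
    have hβet : β.hom.Etale := HasRingHomProperty.Spec_iff.mp het'
    letI : Algebra k R := β.hom.toAlgebra
    haveI : Algebra.Etale k R := hβet
    haveI : Module.Finite k R := Algebra.FormallyUnramified.finite_of_free k R
    let ψ : R ⟶ Γ(Z, ⊤) := Γhom h0
    have hψβ : β ≫ ψ = Γhom g := by
      rw [← Γhom_comp_map, hβ, ← Category.assoc, hh0, hh]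
    let ψa : R →ₐ[k] Γ(Z, ⊤) :=
      { ψ.hom with commutes' := fun r => congrArg (fun φ => φ.hom r) hψβ }
    obtain ⟨hrfin, hret⟩ := etale_range ψa
    have hle : ψa.range ≤ E := hmax _ hrfin hret
    let ψc : R →ₐ[k] E := ψa.codRestrict E (fun r => hle ⟨r, rfl⟩)
    let ψ' : R ⟶ CommRingCat.of E := CommRingCat.ofHom ψc.toRingHom
    have hψ' : ψ' ≫ ι = ψ := by
      ext r
      rfl
    refine ⟨Spec.map ψ' ≫ 𝒰.f i, ⟨?_, ?_⟩, ?_⟩
    · rw [Category.assoc, ← hβ, ← Spec.map_comp]
      congr 1
      ext r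
      exact congrArg Subtype.val (ψc.commutes r)
    · show (Z.toSpecΓ ≫ Spec.map ι) ≫ Spec.map ψ' ≫ 𝒰.f i = h
      rw [Category.assoc, ← Spec.map_comp_assoc, hψ', ← Category.assoc, toSpecΓ_map_Γhom, hh0]
    · rintro t' ⟨-, ht'⟩
      obtain ⟨z0⟩ := (inferInstance : Nonempty Z)
      have hrange : Set.range t' ⊆ Set.range (𝒰.f i) := by
        rintro _ ⟨p, rfl⟩
        rw [hsub p (q z0)]
        have : t' (q z0) = h z0 := by rw [← ht']; rfl
        rw [this]
        exact hi ⟨z0, rfl⟩
      let t0 : Spec (CommRingCat.of E) ⟶ Spec R := IsOpenImmersion.lift (𝒰.f i) t' hrange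
      have ht0 : t0 ≫ 𝒰.f i = t' := IsOpenImmersion.lift_fac _ _ _
      have hqt0 : q ≫ t0 = h0 := by
        rw [← cancel_mono (𝒰.f i), Category.assoc, ht0, ht', hh0]
      obtain ⟨ρ, hρ⟩ : ∃ ρ : R ⟶ CommRingCat.of E, Spec.map ρ = t0 :=
        ⟨Spec.preimage _, Spec.map_preimage _⟩
      have hρι : ρ ≫ ι = ψ := by
        rw [← hq, ← Γhom_comp_map, hρ, hqt0]
      have hρψ : ρ = ψ' := by
        ext r
        have := congrArg (fun φ => φ.hom r) (hρι.trans hψ'.symm)
        exact this
      rw [← ht0, ← hρ, hρψ]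

/-- Every ring homomorphism out of a field is flat. -/
theorem ringHom_flat_of_isField {E S : Type u} [CommRing E] [CommRing S] (hE : IsField E)
    (φ : E →+* S) : φ.Flat := by
  letI := hE.toField
  letI := φ.toAlgebra
  show Module.Flat E S
  infer_instance

/-- Every morphism to the spectrum of a field is flat. -/
theorem flat_of_isField {Z : Scheme.{u}} {E : Type u} [CommRing E] (hE : IsField E)
    (q : Z ⟶ Spec (CommRingCat.of E)) : Flat q := by
  rw [IsZariskiLocalAtSource.iff_of_openCover (P := @Flat) Z.affineCover]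
  intro i
  obtain ⟨β, hβ⟩ : ∃ β : CommRingCat.of E ⟶ Γ(Z.affineCover.X i, ⊤),
      Spec.map β = (Z.affineCover.X i).isoSpec.inv ≫ Z.affineCover.f i ≫ q :=
    ⟨Spec.preimage _, Spec.map_preimage _⟩
  have h1 : Flat (Spec.map β) :=
    HasRingHomProperty.Spec_iff.mpr (ringHom_flat_of_isField hE β.hom)
  have h2 : Z.affineCover.f i ≫ q = (Z.affineCover.X i).isoSpec.hom ≫ Spec.map β := by
    rw [hβ, Iso.hom_inv_id_assoc]
  rw [h2]
  infer_instance

/-- The étale `π₀` of a scheme locally of finite type over a field. -/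
theorem exists_pi0 (X : Scheme.{u}) (f : X ⟶ Spec (CommRingCat.of k)) [LocallyOfFiniteType f] :
    ∃ (P : Scheme.{u}) (g : P ⟶ Spec (CommRingCat.of k)) (q : X ⟶ P), Etale g ∧ q ≫ g = f ∧
      (∀ (Y : Scheme.{u}) (gY : Y ⟶ Spec (CommRingCat.of k)) (h : X ⟶ Y), Etale gY → h ≫ gY = f →
        ∃! t : P ⟶ Y, t ≫ gY = g ∧ q ≫ t = h) ∧
      Flat q ∧ Surjective q ∧
      ∀ x : ↥X, (fun x' : ↥X => q x') ⁻¹' {q x} = connectedComponent x := by
  classical
  haveI : IsLocallyNoetherian X := LocallyOfFiniteType.isLocallyNoetherian f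
  -- the connected components as open subschemes
  let ι := _root_.ConnectedComponents X
  have hopen : ∀ c : ι, IsOpen (ConnectedComponents.mk ⁻¹' {c} : Set X) := by
    intro c
    obtain ⟨x, rfl⟩ := ConnectedComponents.surjective_coe c
    rw [connectedComponents_preimage_singleton]
    exact isOpen_connectedComponent_of_isLocallyNoetherian X x
  let Uc : ι → X.Opens := fun c => ⟨ConnectedComponents.mk ⁻¹' {c}, hopen c⟩
  have hmem : ∀ (c : ι) (x : X), x ∈ Uc c ↔ ConnectedComponents.mk x = c := fun c x => Iff.rfl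
  have hconn : ∀ c : ι, ConnectedSpace (Uc c).toScheme := by
    intro c
    obtain ⟨x, rfl⟩ := ConnectedComponents.surjective_coe c
    have h1 : _root_.IsConnected ((Uc (ConnectedComponents.mk x) : X.Opens) : Set X) := by
      show _root_.IsConnected (ConnectedComponents.mk ⁻¹' {ConnectedComponents.mk x} : Set X)
      rw [connectedComponents_preimage_singleton]
      exact isConnected_connectedComponent
    exact isConnected_iff_connectedSpace.mp h1
  have hcover : IsOpenCover Uc := by
    rw [IsOpenCover, eq_top_iff]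
    intro x _
    exact Opens.mem_iSup.mpr ⟨ConnectedComponents.mk x, rfl⟩
  let 𝒰 : X.OpenCover := X.openCoverOfIsOpenCover Uc hcover
  have h𝒰f : ∀ c, 𝒰.f c = (Uc c).ι := fun c => rfl
  -- apply the connected case
  have hM := fun c : ι => @exists_pi0_connected k _ (Uc c).toScheme (hconn c) ((Uc c).ι ≫ f) _
  choose E instE algE etE qc fieldE hqc hunivc using hM
  let P : Scheme.{u} := ∐ fun c : ι => Spec (CommRingCat.of (E c))
  let g : P ⟶ Spec (CommRingCat.of k) :=
    Sigma.desc fun c => Spec.map (CommRingCat.ofHom (algebraMap k (E c)))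
  have hdisj : ∀ c c' : ι, c ≠ c' → IsEmpty ↑(pullback (𝒰.f c) (𝒰.f c')) := by
    intro c c' hcc
    refine ⟨fun p => hcc ?_⟩
    have h1 : (pullback.fst (𝒰.f c) (𝒰.f c') ≫ 𝒰.f c) p ∈ Uc c := by
      rw [Scheme.Hom.comp_apply]
      exact ((pullback.fst (𝒰.f c) (𝒰.f c')) p).2
    have h2 : (pullback.fst (𝒰.f c) (𝒰.f c') ≫ 𝒰.f c) p ∈ Uc c' := by
      rw [pullback.condition, Scheme.Hom.comp_apply]
      exact ((pullback.snd (𝒰.f c) (𝒰.f c')) p).2
    exact ((hmem _ _).mp h1).symm.trans ((hmem _ _).mp h2)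
  let q : X ⟶ P := 𝒰.glueMorphisms (fun c => qc c ≫ Sigma.ι (fun c : ι => Spec (CommRingCat.of (E c))) c)
    (by
      intro c c'
      by_cases hcc : c = c'
      · subst hcc
        have : pullback.fst (𝒰.f c) (𝒰.f c) = pullback.snd (𝒰.f c) (𝒰.f c) := by
          rw [← cancel_mono (𝒰.f c)]
          exact pullback.condition
        rw [this]
      · haveI := hdisj c c' hcc
        exact (isInitialOfIsEmpty).hom_ext _ _)
  have hq : ∀ c, (Uc c).ι ≫ q = qc c ≫ Sigma.ι (fun c : ι => Spec (CommRingCat.of (E c))) c :=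
    fun c => 𝒰.ι_glueMorphisms _ _ c
  have hpt : ∀ (c : ι) (p p' : Spec (CommRingCat.of (E c))), p = p' := by
    intro c
    have hbot : ∀ p : PrimeSpectrum (E c), p.asIdeal = ⊥ := by
      intro p
      rw [eq_bot_iff]
      intro x hx
      by_contra hx0
      obtain ⟨y, hy⟩ := (fieldE c).mul_inv_cancel hx0
      exact p.isPrime.ne_top (Ideal.eq_top_of_isUnit_mem _ hx (IsUnit.of_mul_eq_one _ hy))
    intro p p'
    exact PrimeSpectrum.ext ((hbot p).trans (hbot p').symm)
  have hqx : ∀ (c : ι) (x : X) (hx : x ∈ Uc c),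
      q x = Sigma.ι (fun c : ι => Spec (CommRingCat.of (E c))) c (qc c ⟨x, hx⟩) := by
    intro c x hx
    have := congrArg (fun φ : (Uc c).toScheme ⟶ P => φ ⟨x, hx⟩) (hq c)
    exact this
  have hιg : ∀ c : ι, Sigma.ι (fun c : ι => Spec (CommRingCat.of (E c))) c ≫ g =
      Spec.map (CommRingCat.ofHom (algebraMap k (E c))) :=
    fun c => Sigma.ι_desc (fun c => Spec.map (CommRingCat.ofHom (algebraMap k (E c)))) c
  refine ⟨P, g, q, ?_, ?_, ?_, ?_, ?_, ?_⟩
  · -- étale
    apply IsZariskiLocalAtSource.sigmaDesc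
    intro c
    exact HasRingHomProperty.Spec_iff.mpr (RingHom.etale_algebraMap.mpr (etE c))
  · -- q ≫ g = f
    apply 𝒰.hom_ext
    intro c
    show (Uc c).ι ≫ q ≫ g = (Uc c).ι ≫ f
    rw [← Category.assoc, hq c, Category.assoc, hιg c, hqc c]
  · -- universal property
    intro Y gY h hgY hh
    have hc := fun c => hunivc c Y gY ((Uc c).ι ≫ h) hgY (by rw [Category.assoc, hh])
    choose tc htc htcu using hc
    refine ⟨Sigma.desc tc, ⟨?_, ?_⟩, ?_⟩
    · apply Sigma.hom_ext
      intro c
      rw [← Category.assoc, Sigma.ι_desc, (htc c).1]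
      exact (hιg c).symm
    · apply 𝒰.hom_ext
      intro c
      show (Uc c).ι ≫ q ≫ Sigma.desc tc = (Uc c).ι ≫ h
      rw [← Category.assoc, hq c, Category.assoc, Sigma.ι_desc, (htc c).2]
    · rintro t' ⟨ht'1, ht'2⟩
      apply Sigma.hom_ext
      intro c
      rw [Sigma.ι_desc]
      apply htcu c
      refine ⟨?_, ?_⟩
      · rw [Category.assoc, ht'1]
        exact hιg c
      · rw [← Category.assoc, ← hq c, Category.assoc, ht'2]
  · -- flat
    rw [IsZariskiLocalAtSource.iff_of_openCover (P := @Flat) 𝒰]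
    intro (c : ι)
    show Flat ((Uc c).ι ≫ q)
    rw [hq c]
    haveI := flat_of_isField (fieldE c) (qc c)
    infer_instance
  · -- surjective
    refine ⟨fun p => ?_⟩
    obtain ⟨p', hp'⟩ := (sigmaOpenCover (fun c : ι => Spec (CommRingCat.of (E c)))).covers p
    let c := (sigmaOpenCover (fun c : ι => Spec (CommRingCat.of (E c)))).idx p
    obtain ⟨x, hx⟩ := ConnectedComponents.surjective_coe c
    refine ⟨x, ?_⟩
    rw [hqx c x ((hmem c x).mpr hx), ← hp']
    exact congrArg _ (hpt c _ _)
  · -- fibres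
    intro x
    ext x'
    simp only [Set.mem_preimage, Set.mem_singleton_iff]
    rw [← connectedComponents_preimage_singleton]
    simp only [Set.mem_preimage, Set.mem_singleton_iff]
    constructor
    · intro hxx'
      rw [hqx _ x' ((hmem _ x').mpr rfl), hqx _ x ((hmem _ x).mpr rfl)] at hxx'
      have := (sigmaι_eq_iff _ _ _ _ _).mp hxx'
      exact congrArg Sigma.fst this
    · intro hxx'
      rw [hqx _ x ((hmem _ x).mpr rfl), hqx _ x' ((hmem _ x').mpr hxx')]
      exact congrArg _ (hpt _ _ _)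

end Groth.Agent.Lib.Helper2.Pi0Scheme
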