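import Mathlib
import Groth.Prelude.Def_FEt
import Groth.Agent.Lib.Helper2.BirationalFEt

/-!
# Proper birational morphisms induce equivalences of finite étale covers (helper2)

`isEquivalence_restrict_of_proper_birational` (S18424): `f : X ⟶ Y` proper between locally
Noetherian schemes, an isomorphism over a dense open `V ⊆ Y` with dense preimage, `Y` regular off
`V` and `X` normal off `f⁻¹ V`.  Then `FEt.restrict f` is an equivalence: faithfulness and fullness
from the dense opens, essential surjectivity from `BirationalFEt.exists_extension_of_pullback`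
applied to the rational section `sec f V`.
-/

set_option autoImplicit false
set_option linter.style.haveILetI false
set_option linter.unusedSectionVars false
universe u

open CategoryTheory CategoryTheory.Limits AlgebraicGeometry TopologicalSpace

namespace Groth.Agent.Lib.Helper2.BirationalFEt

open Groth.Agent.Lib.Helper2.RegularExtend Groth.Agent.Lib.Helper2.ValCritExtend
  Groth.Agent.Lib.Helper2.FEtDenseFull Groth.Agent.Lib.Helper69 Groth.Agent.Lib.Helper2

section

variable {X Y : Scheme.{u}}
  (f : X ⟶ Y) (V : Y.Opens) (hV : Dense (V : Set Y))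
  (hV' : Dense ((f ⁻¹ᵁ V : X.Opens) : Set X)) [hf : IsIso (f ∣_ V)]
  (hY : ∀ y : Y, y ∉ V → IsRegularLocalRing (Y.presheaf.stalk y))
  (hX : ∀ x : X, x ∉ f ⁻¹ᵁ V →
    IsDomain (X.presheaf.stalk x) ∧ IsIntegrallyClosed (X.presheaf.stalk x))

/-- The rational section of a birational morphism. -/
noncomputable def sec : (V : Scheme.{u}) ⟶ X := inv (f ∣_ V) ≫ (f ⁻¹ᵁ V).ι

@[reassoc]
lemma sec_f : sec f V ≫ f = V.ι := by
  rw [sec, Category.assoc, ← morphismRestrict_ι, IsIso.inv_hom_id_assoc]

@[reassoc]
lemma restrict_sec : (f ∣_ V) ≫ sec f V = (f ⁻¹ᵁ V).ι := by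
  rw [sec, IsIso.hom_inv_id_assoc]

instance : IsOpenImmersion (sec f V) := by
  unfold sec
  infer_instance

include hV' in
lemma denseRange_sec : DenseRange (sec f V) := by
  have hd : DenseRange (f ⁻¹ᵁ V).ι := by
    change Dense (Set.range (f ⁻¹ᵁ V).ι)
    rw [Scheme.Opens.range_ι]
    exact hV'
  refine hd.mono ?_
  rintro _ ⟨x, rfl⟩
  refine ⟨(f ∣_ V) x, ?_⟩
  rw [← Scheme.Hom.comp_apply, restrict_sec]

include hV in
lemma denseRange_ι : DenseRange V.ι := by
  change Dense (Set.range V.ι)
  rw [Scheme.Opens.range_ι]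
  exact hV

include hV in
lemma denseRange_f : DenseRange f := by
  refine (denseRange_ι V hV).mono ?_
  rintro _ ⟨v, rfl⟩
  refine ⟨sec f V v, ?_⟩
  rw [← Scheme.Hom.comp_apply, sec_f]

include hY in
lemma normal_off_ι (y : Y) (hy : y ∉ Set.range V.ι) :
    IsDomain (Y.presheaf.stalk y) ∧ IsIntegrallyClosed (Y.presheaf.stalk y) := by
  rw [Scheme.Opens.range_ι] at hy
  haveI := hY y hy
  exact Groth.Agent.Lib.Helper73.RegularNormal.isIntegrallyClosed_of_isRegularLocalRing _

variable [IsLocallyNoetherian X] [IsLocallyNoetherian Y] [IsProper f]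

include hV in
theorem faithful_restrict_of_proper_birational : (FEt.restrict f).Faithful := by
  refine faithful_restrict_of_clopen f ?_
  intro A C hC hsub
  have hAet : Etale A.hom := A.prop.2
  have hd : DenseRange (pullback.fst A.hom f) :=
    denseRange_of_isPullback f (denseRange_f f V hV) A.hom _ _ (IsPullback.of_hasPullback A.hom f)
  have : Dense C := hd.mono hsub
  rw [← hC.1.closure_eq]
  exact this.closure_eq

include hV hV' hY in
theorem full_restrict_of_proper_birational : (FEt.restrict f).Full := by
  refine full_restrict_of_exists_extension f ?_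
  intro A B k hk
  have hAfin : IsFinite A.hom := A.prop.1
  have hAet : Etale A.hom := A.prop.2
  have hBfin : IsFinite B.hom := B.prop.1
  have hBet : Etale B.hom := B.prop.2
  let m : pullback A.hom V.ι ⟶ pullback A.hom f :=
    pullback.lift (pullback.fst A.hom V.ι) (pullback.snd A.hom V.ι ≫ sec f V) (by
      rw [pullback.condition, Category.assoc, sec_f])
  have hm1 : m ≫ pullback.fst A.hom f = pullback.fst A.hom V.ι := pullback.lift_fst _ _ _
  have hm2 : m ≫ pullback.snd A.hom f = pullback.snd A.hom V.ι ≫ sec f V :=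
    pullback.lift_snd _ _ _
  have hbig : IsPullback (m ≫ pullback.fst A.hom f) (pullback.snd A.hom V.ι) A.hom
      (sec f V ≫ f) := by
    rw [hm1, sec_f]
    exact IsPullback.of_hasPullback A.hom V.ι
  have hmpb : IsPullback m (pullback.snd A.hom V.ι) (pullback.snd A.hom f) (sec f V) :=
    IsPullback.of_right hbig hm2 (IsPullback.of_hasPullback A.hom f)
  have hmd : DenseRange m :=
    denseRange_of_isPullback (sec f V) (denseRange_sec f V hV') (pullback.snd A.hom f) m _ hmpb
  obtain ⟨h₀, hw, hh₀⟩ := exists_extension_of_dense_of_normal V.ι (denseRange_ι V hV)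
    (normal_off_ι V hY) A B (m ≫ k) (by rw [Category.assoc, hk, reassoc_of% hm1])
  refine ⟨h₀, hw, ?_⟩
  exact eq_of_comp_eq_of_denseRange B.hom (pullback.fst A.hom f ≫ h₀) k
    (by rw [Category.assoc, hw, hk]) m hmd (by rw [reassoc_of% hm1, hh₀])

include hV hV' hY hX in
theorem essSurj_restrict_of_proper_birational : (FEt.restrict f).EssSurj := by
  constructor
  intro W
  have hWfin : IsFinite W.hom := W.prop.1
  have hWet : Etale W.hom := W.prop.2
  let wX : W.left ⟶ X := W.hom
  haveI : IsFinite wX := hWfin
  haveI : Etale wX := hWet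
  let s := sec f V
  let fV := f ∣_ V
  let j := (f ⁻¹ᵁ V).ι
  let τ : pullback wX s ⟶ W.left := pullback.fst wX s
  let t : pullback wX s ⟶ (V : Scheme.{u}) := pullback.snd wX s
  obtain ⟨Z, z, a, hzf, hze, hpb⟩ := exists_extension_of_pullback V hV hY f (𝟙 Y) s
    (by rw [sec_f, Category.comp_id]) wX τ t (IsPullback.of_hasPullback wX s)
  haveI := hzf
  haveI := hze
  let Zc : FEt.Cat Y := MorphismProperty.Over.mk ⊤ z ⟨hzf, hze⟩
  let αB : pullback wX j ⟶ W.left := pullback.fst wX j
  let b' : pullback wX j ⟶ (f ⁻¹ᵁ V : Scheme.{u}) := pullback.snd wX j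
  let u : pullback wX j ⟶ pullback wX s := pullback.lift αB (b' ≫ fV) (by
    rw [pullback.condition, Category.assoc, restrict_sec])
  have hu1 : u ≫ τ = αB := pullback.lift_fst _ _ _
  have hu2 : u ≫ t = b' ≫ fV := pullback.lift_snd _ _ _
  have hubig : IsPullback (u ≫ τ) b' wX (fV ≫ s) := by
    rw [hu1, restrict_sec]
    exact IsPullback.of_hasPullback wX j
  have hupb : IsPullback u b' t fV := IsPullback.of_right hubig hu2 (IsPullback.of_hasPullback wX s)
  have hua : IsPullback (u ≫ a) b' z (fV ≫ V.ι) := hupb.paste_horiz hpb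
  have hjf : fV ≫ V.ι = j ≫ f := morphismRestrict_ι f V
  let αA : pullback wX j ⟶ pullback z f := pullback.lift (u ≫ a) (b' ≫ j) (by
    rw [Category.assoc, hpb.w, reassoc_of% hu2, hjf, Category.assoc])
  have hαA1 : αA ≫ pullback.fst z f = u ≫ a := pullback.lift_fst _ _ _
  have hαA2 : αA ≫ pullback.snd z f = b' ≫ j := pullback.lift_snd _ _ _
  have hAbig : IsPullback (αA ≫ pullback.fst z f) b' z (j ≫ f) := by
    rw [hαA1, ← hjf]
    exact hua
  have hApb : IsPullback αA b' (pullback.snd z f) j :=
    IsPullback.of_right hAbig hαA2 (IsPullback.of_hasPullback z f)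
  have hjd : DenseRange j := by
    change Dense (Set.range (f ⁻¹ᵁ V).ι)
    rw [Scheme.Opens.range_ι]
    exact hV'
  have hX' : ∀ x : X, x ∉ Set.range j →
      IsDomain (X.presheaf.stalk x) ∧ IsIntegrallyClosed (X.presheaf.stalk x) := by
    intro x hx
    apply hX
    rwa [Scheme.Opens.range_ι] at hx
  obtain ⟨Θ, hΘ1, -⟩ := exists_iso_of_iso_restrict j hjd hX' (pullback.snd z f) wX αA b' hApb αB b'
    (IsPullback.of_hasPullback wX j) (Iso.refl _) (by simp)
  exact ⟨Zc, ⟨MorphismProperty.Over.isoMk Θ hΘ1⟩⟩

include hV hV' hY hX in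
/-- **Birational invariance along a proper birational morphism**: `f : X ⟶ Y` proper, an
isomorphism over the dense open `V` of `Y` with dense preimage, `Y` regular off `V`, `X` normal off
`f⁻¹ V`.  Then pullback of finite étale covers along `f` is an equivalence. -/
theorem isEquivalence_restrict_of_proper_birational : (FEt.restrict f).IsEquivalence where
  faithful := faithful_restrict_of_proper_birational f V hV
  full := full_restrict_of_proper_birational f V hV hV' hY
  essSurj := essSurj_restrict_of_proper_birational f V hV hV' hY hX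

end

end Groth.Agent.Lib.Helper2.BirationalFEt
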