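import Mathlib
import Groth.Prelude.Def_FEt
import Groth.Agent.Lib.Helper2.HenselianPairFEt
import Groth.Agent.Lib.Helper2.GeomConnField
import Groth.Agent.Lib.Helper2.GeomConnFibres

/-!
# Pulling back finite étale covers of a henselian local ring to a proper scheme (S5129)

* `full_faithful_restrict_of_closedFibre_fibres`: `A` henselian local, `f : X ⟶ Spec A` universally closed hitting the
  closed point, fibres of `T ×_A X ⟶ T` over the closed fibre of `T` preconnected ⇒ `FEt.restrict f` full and faithful.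
* `exists_geometric_point_closedFibre`.
* `full_faithful_restrict_of_proper_over_complete` (= S5129).
-/

set_option linter.style.haveILetI false

universe u
open CategoryTheory CategoryTheory.Limits AlgebraicGeometry TopologicalSpace Opposite Pi1

namespace Groth.Agent.Lib.Helper2

/-- Full faithfulness of pullback to a universally closed `X` over a henselian local ring, from preconnectedness of the
fibres of `T ×_A X ⟶ T` over the points of the closed fibre of `T` (`T` finite étale over `A`). -/
theorem full_faithful_restrict_of_closedFibre_fibres (A : Type u) [CommRing A] [IsLocalRing A]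
    [HenselianRing A (IsLocalRing.maximalIdeal A)] {X : Scheme.{u}} (f : X ⟶ Spec (CommRingCat.of A))
    [UniversallyClosed f]
    (hne : (IsLocalRing.closedPoint A : PrimeSpectrum A) ∈ Set.range f)
    (hfib : ∀ (T : FEt.Cat (Spec (CommRingCat.of A))) (t : T.left),
      (T.hom t : PrimeSpectrum A) = IsLocalRing.closedPoint A →
      _root_.IsPreconnected ((pullback.fst T.hom f) ⁻¹' {t})) :
    (FEt.restrict f).Full ∧ (FEt.restrict f).Faithful := by
  let m := IsLocalRing.maximalIdeal A
  let j := Spec.map (CommRingCat.ofHom (Ideal.Quotient.mk m))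
  have hV : ∀ p : PrimeSpectrum A, p ∈ PrimeSpectrum.zeroLocus (m : Set A) ↔ p = IsLocalRing.closedPoint A := by
    intro p
    rw [PrimeSpectrum.mem_zeroLocus, SetLike.coe_subset_coe]
    constructor
    · intro h
      apply PrimeSpectrum.ext
      exact ((IsLocalRing.maximalIdeal.isMaximal A).eq_of_le p.2.ne_top h).symm
    · rintro rfl
      exact le_rfl
  -- every nonempty closed subset of a finite `A`-scheme meets the closed fibre
  have hT4 : ∀ (T : FEt.Cat (Spec (CommRingCat.of A))) (Z : Set T.left), IsClosed Z → Z.Nonempty →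
      ∃ t ∈ Z, (T.hom t : PrimeSpectrum A) = IsLocalRing.closedPoint A := by
    intro T Z hZ ⟨z, hz⟩
    have hTfin : IsFinite T.hom := T.prop.1
    obtain ⟨p, ⟨t, ht, htp⟩, hp⟩ := exists_mem_zeroLocus_of_isClosed_of_le_jacobson m HenselianRing.jac
      (T.hom '' Z) (T.hom.isClosedMap _ hZ) (T.hom z) ⟨z, hz, rfl⟩
    exact ⟨t, ht, htp.trans ((hV p).mp hp)⟩
  apply full_faithful_restrict_of_clopen f
  · intro T C hC hrange
    have hTfin : IsFinite T.hom := T.prop.1
    apply (clopen_correspondence_of_henselianPair A m T.hom).1 C hC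
    refine subset_trans ?_ hrange
    rw [Scheme.Pullback.range_fst, Scheme.Pullback.range_fst, range_SpecMap_quotient_mk]
    intro t ht
    rw [Set.mem_preimage] at ht ⊢
    rw [(hV _).mp ht]
    exact hne
  · intro T C' hC'
    have hTfin : IsFinite T.hom := T.prop.1
    let g := pullback.fst T.hom f
    have hgcl : IsClosedMap g := by
      haveI : UniversallyClosed g := MorphismProperty.pullback_fst _ _ ‹UniversallyClosed f›
      exact g.isClosedMap
    let j₀ := pullback.fst T.hom j
    haveI : IsFinite (pullback.snd T.hom j) := MorphismProperty.pullback_snd _ _ hTfin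
    letI : Field (A ⧸ m) := Ideal.Quotient.field m
    haveI hdisc : DiscreteTopology ↥(pullback T.hom j) :=
      discreteTopology_of_isFinite_field (A ⧸ m) (pullback.snd T.hom j)
    let S : Set T.left :=
      {t | (T.hom t : PrimeSpectrum A) = IsLocalRing.closedPoint A ∧ g ⁻¹' {t} ⊆ C'}
    obtain ⟨C, hC, hCS⟩ := (clopen_correspondence_of_henselianPair A m T.hom).2 (j₀ ⁻¹' S) (isClopen_discrete _)
    have hrj₀ : ∀ t : T.left, (T.hom t : PrimeSpectrum A) = IsLocalRing.closedPoint A → ∃ t₀, j₀ t₀ = t := by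
      intro t ht
      have : t ∈ Set.range j₀ := by
        rw [Scheme.Pullback.range_fst, range_SpecMap_quotient_mk, Set.mem_preimage]
        exact (hV _).mpr ht
      exact this
    have hCS' : ∀ t : T.left, (T.hom t : PrimeSpectrum A) = IsLocalRing.closedPoint A → (t ∈ C ↔ t ∈ S) := by
      intro t ht
      obtain ⟨t₀, rfl⟩ := hrj₀ t ht
      exact Set.ext_iff.mp hCS t₀
    refine ⟨C, hC, ?_⟩
    apply Set.Subset.antisymm
    · by_contra hsub
      obtain ⟨d, hdC, hdC'⟩ := Set.not_subset.mp hsub
      have hDcl : IsClosed (g ⁻¹' C ∩ C'ᶜ) := (hC.1.preimage g.continuous).inter hC'.compl.1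
      obtain ⟨t, ⟨d', ⟨hd'C, hd'C'⟩, rfl⟩, ht⟩ := hT4 T (g '' (g ⁻¹' C ∩ C'ᶜ)) (hgcl _ hDcl)
        ⟨g d, d, ⟨hdC, hdC'⟩, rfl⟩
      have hS : g d' ∈ S := (hCS' _ ht).mp hd'C
      exact hd'C' (hS.2 rfl)
    · by_contra hsub
      obtain ⟨d, hdC', hdC⟩ := Set.not_subset.mp hsub
      have hDcl : IsClosed (C' ∩ g ⁻¹' Cᶜ) := hC'.1.inter (hC.compl.1.preimage g.continuous)
      obtain ⟨t, ⟨d', ⟨hd'C', hd'C⟩, rfl⟩, ht⟩ := hT4 T (g '' (C' ∩ g ⁻¹' Cᶜ)) (hgcl _ hDcl)
        ⟨g d, d, ⟨hdC', hdC⟩, rfl⟩
      have hpre := hfib T (g d') ht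
      have hsub' : g ⁻¹' {g d'} ⊆ C' := hpre.subset_isClopen hC' ⟨d', rfl, hd'C'⟩
      have hS : g d' ∈ S := ⟨ht, hsub'⟩
      exact hd'C ((hCS' _ ht).mpr hS)

/-- Through every point of the closed fibre of a finite `A`-scheme (`A` local) there is a geometric point lying over the
standard geometric point of `Spec A`. -/
theorem exists_geometric_point_closedFibre (A : Type u) [CommRing A] [IsLocalRing A] {T : Scheme.{u}}
    (q : T ⟶ Spec (CommRingCat.of A)) [IsFinite q] (t : T)
    (ht : (q t : PrimeSpectrum A) = IsLocalRing.closedPoint A) :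
    ∃ τ : Spec (CommRingCat.of (AlgebraicClosure (IsLocalRing.ResidueField A))) ⟶ T,
      τ ≫ q = Spec.map (CommRingCat.ofHom ((algebraMap (IsLocalRing.ResidueField A)
        (AlgebraicClosure (IsLocalRing.ResidueField A))).comp (IsLocalRing.residue A))) ∧
      Set.range τ = {t} := by
  let k := IsLocalRing.ResidueField A
  let j : Spec (CommRingCat.of k) ⟶ Spec (CommRingCat.of A) :=
    Spec.map (CommRingCat.ofHom (IsLocalRing.residue A))
  have hj : (j (IsLocalRing.closedPoint k) : PrimeSpectrum A) = IsLocalRing.closedPoint A :=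
    IsLocalRing.comap_closedPoint (IsLocalRing.residue A)
  obtain ⟨t₀, ht₀⟩ : ∃ t₀ : ↥(pullback q j), pullback.fst q j t₀ = t := by
    have : t ∈ Set.range (pullback.fst q j) := by
      rw [Scheme.Pullback.range_fst]
      exact ⟨IsLocalRing.closedPoint k, hj.trans ht.symm⟩
    exact this
  haveI : IsFinite (pullback.snd q j) := MorphismProperty.pullback_snd _ _ ‹IsFinite q›
  obtain ⟨τ₀, hτ₀, hτ₀r⟩ := exists_geometric_point_of_isFinite k (pullback.snd q j) t₀
  refine ⟨τ₀ ≫ pullback.fst q j, ?_, ?_⟩
  · rw [Category.assoc, pullback.condition, ← Category.assoc, hτ₀, ← Spec.map_comp]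
    rfl
  · ext y
    constructor
    · rintro ⟨x, rfl⟩
      rw [Scheme.Hom.comp_apply]
      have : τ₀ x ∈ Set.range τ₀ := ⟨x, rfl⟩
      rw [hτ₀r] at this
      rw [Set.mem_singleton_iff] at this ⊢
      rw [this, ht₀]
    · intro hy
      rw [Set.mem_singleton_iff] at hy
      subst hy
      have : t₀ ∈ Set.range τ₀ := by rw [hτ₀r]; rfl
      obtain ⟨x, hx⟩ := this
      exact ⟨x, by rw [Scheme.Hom.comp_apply, hx, ht₀]⟩

/-- `S5129`. -/
theorem full_faithful_restrict_of_proper_over_complete (A : Type u) [CommRing A]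
    [IsNoetherianRing A] [IsLocalRing A] [IsAdicComplete (IsLocalRing.maximalIdeal A) A]
    {X : Scheme.{u}} (f : X ⟶ Spec (CommRingCat.of A)) [IsProper f]
    (ξ : Spec (CommRingCat.of (AlgebraicClosure (IsLocalRing.ResidueField A))) ⟶ Spec (CommRingCat.of A))
    (hξ : ξ = Spec.map (CommRingCat.ofHom ((algebraMap (IsLocalRing.ResidueField A)
      (AlgebraicClosure (IsLocalRing.ResidueField A))).comp (IsLocalRing.residue A))))
    [ConnectedSpace ↥(pullback f ξ)] :
    (FEt.restrict f).Full ∧ (FEt.restrict f).Faithful := by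
  haveI : HenselianRing A (IsLocalRing.maximalIdeal A) := inferInstance
  have hξpt : ∀ x : Spec (CommRingCat.of (AlgebraicClosure (IsLocalRing.ResidueField A))),
      (ξ x : PrimeSpectrum A) = IsLocalRing.closedPoint A := by
    intro x
    subst hξ
    apply PrimeSpectrum.ext
    ext a
    have hx : x.asIdeal = ⊥ := by
      have : x.asIdeal.IsPrime := x.2
      exact Ideal.eq_bot_of_prime x.asIdeal
    change ((algebraMap (IsLocalRing.ResidueField A) (AlgebraicClosure (IsLocalRing.ResidueField A))).comp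
      (IsLocalRing.residue A)) a ∈ x.asIdeal ↔ a ∈ IsLocalRing.maximalIdeal A
    rw [hx, Ideal.mem_bot, RingHom.comp_apply, map_eq_zero_iff _ (algebraMap (IsLocalRing.ResidueField A)
      (AlgebraicClosure (IsLocalRing.ResidueField A))).injective, IsLocalRing.residue_eq_zero_iff]
  apply full_faithful_restrict_of_closedFibre_fibres A f
  · obtain ⟨z⟩ : Nonempty ↥(pullback f ξ) := inferInstance
    refine ⟨pullback.fst f ξ z, ?_⟩
    rw [← Scheme.Hom.comp_apply, pullback.condition, Scheme.Hom.comp_apply]
    exact hξpt _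
  · intro T t ht
    have hTfin : IsFinite T.hom := T.prop.1
    obtain ⟨τ, hτ, hτr⟩ := exists_geometric_point_closedFibre A T.hom t ht
    haveI : ConnectedSpace ↥(pullback f (τ ≫ T.hom)) := by
      rw [hτ, ← hξ]
      infer_instance
    exact isPreconnected_fiber_of_point f T.hom τ t hτr

end Groth.Agent.Lib.Helper2
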