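import Groth.Agent.Lib.Helper2.PuncturedFEt
import Mathlib.RingTheory.RingHom.Etale
import Mathlib.RingTheory.RingHom.Finite

/-!
# Global sections of extendable finite étale covers of the punctured spectrum (helper2)
-/

set_option autoImplicit false
universe u
open AlgebraicGeometry CategoryTheory TopologicalSpace Opposite RingTheory.Sequence Limits

namespace Groth.Agent.Lib.Helper2

theorem globalSections_finite_etale_of_extends (A : Type u) [CommRing A] [IsLocalRing A]
    (hA : (2 : ℕ∞) ≤ LocCoh.depth A A)
    (V : FEt.Cat (FEt.puncturedSpec A : Scheme.{u}))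
    (hV : ∃ Y : FEt.Cat (Spec (CommRingCat.of A)),
      Nonempty ((FEt.restrict (FEt.puncturedSpec A).ι).obj Y ≅ V)) :
    ((Scheme.ΓSpecIso (CommRingCat.of A)).inv ≫ (V.hom ≫ (FEt.puncturedSpec A).ι).appTop).hom.Finite ∧
    ((Scheme.ΓSpecIso (CommRingCat.of A)).inv ≫ (V.hom ≫ (FEt.puncturedSpec A).ι).appTop).hom.Etale := by
  obtain ⟨Y, ⟨α⟩⟩ := hV
  have hYfin : IsFinite Y.hom := Y.prop.1
  have hYet : Etale Y.hom := Y.prop.2
  have hYa : IsAffine Y.left := isAffine_of_isAffineHom (Y := Spec (CommRingCat.of A)) Y.hom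
  have : IsAffine ((𝟭 Scheme).obj Y.left) := hYa
  have hXa : IsAffine ((Functor.fromPUnit (Spec (CommRingCat.of A))).obj Y.right) :=
    inferInstanceAs (IsAffine (Spec (CommRingCat.of A)))
  have hbij := appTop_pullback_fst_bijective Y.hom _ (res_bijective_preimage_punctured A hA Y.hom)
  -- the scheme iso
  let β : pullback Y.hom (FEt.puncturedSpec A).ι ⟶ V.left := α.hom.left
  have hβiso : IsIso β := by
    refine ⟨α.inv.left, ?_, ?_⟩
    · have := congrArg (fun k => k.left) α.hom_inv_id
      exact this
    · have := congrArg (fun k => k.left) α.inv_hom_id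
      exact this
  have hβw : β ≫ V.hom = pullback.snd Y.hom (FEt.puncturedSpec A).ι :=
    MorphismProperty.Over.w α.hom
  have hβapp : IsIso β.appTop := inferInstanceAs (IsIso (β.app ⊤))
  -- key identity
  have key : (V.hom ≫ (FEt.puncturedSpec A).ι).appTop ≫ β.appTop =
      Y.hom.appTop ≫ (pullback.fst Y.hom (FEt.puncturedSpec A).ι).appTop := by
    rw [← Scheme.Hom.comp_appTop, ← Scheme.Hom.comp_appTop, ← Category.assoc, hβw,
      pullback.condition]
  have key2 : (V.hom ≫ (FEt.puncturedSpec A).ι).appTop =
      Y.hom.appTop ≫ (pullback.fst Y.hom (FEt.puncturedSpec A).ι).appTop ≫ inv β.appTop := by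
    rw [← Category.assoc, ← key, Category.assoc, IsIso.hom_inv_id, Category.comp_id]
  have hfinY : Y.hom.appTop.hom.Finite :=
    ((HasAffineProperty.iff_of_isAffine (P := @IsFinite)).mp hYfin).2
  have hetY : Y.hom.appTop.hom.Etale := HasRingHomProperty.appTop @Etale Y.hom hYet
  have hbij2 : Function.Bijective
      ((pullback.fst Y.hom (FEt.puncturedSpec A).ι).appTop ≫ inv β.appTop).hom := by
    simp only [CommRingCat.hom_comp, RingHom.coe_comp]
    exact Function.Bijective.comp (ConcreteCategory.bijective_of_isIso _) hbij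
  have hbij0 : Function.Bijective (Scheme.ΓSpecIso (CommRingCat.of A)).inv.hom :=
    ConcreteCategory.bijective_of_isIso _
  rw [key2]
  simp only [CommRingCat.hom_comp]
  constructor
  · exact RingHom.Finite.comp (RingHom.Finite.comp (RingHom.Finite.of_surjective _ hbij2.2) hfinY)
      (RingHom.Finite.of_surjective _ hbij0.2)
  · exact RingHom.Etale.stableUnderComposition _ _
      (RingHom.Etale.of_bijective hbij0)
      (RingHom.Etale.stableUnderComposition _ _ hetY (RingHom.Etale.of_bijective hbij2))

end Groth.Agent.Lib.Helper2
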