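import Mathlib
import Groth.Prelude.Def_FEt
import Groth.Agent.Lib.Helper2.FEtClopenFull

/-!
# Faithfulness of restriction from a neighbourhood of the punctured hypersurface (S9485)

* `exists_prime_ge_of_dim_ge_two`: Krull's Hauptidealsatz: a prime `p ∌ f` with `dim A/p ≥ 2` lies in a non-maximal prime
  containing `f`.
* `faithful_restrict_nhd_punctured_hypersurface` (= S9485).
-/

set_option linter.style.haveILetI false

universe u
open CategoryTheory CategoryTheory.Limits AlgebraicGeometry TopologicalSpace Opposite Pi1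

namespace Groth.Agent.Lib.Helper2

/-- In a Noetherian local ring, a minimal prime `p` not containing `f ∈ 𝔪` with `dim A/p ≥ 2` is contained in a
non-maximal prime containing `f`. -/
theorem exists_prime_ge_of_dim_ge_two {A : Type u} [CommRing A] [IsNoetherianRing A] [IsLocalRing A] (f : A)
    (hf : f ∈ IsLocalRing.maximalIdeal A) (p : Ideal A) [p.IsPrime]
    (hdim : (2 : WithBot ℕ∞) ≤ ringKrullDim (A ⧸ p)) :
    ∃ q : Ideal A, q.IsPrime ∧ p ≤ q ∧ f ∈ q ∧ q ≠ IsLocalRing.maximalIdeal A := by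
  haveI : IsLocalRing (A ⧸ p) := .of_surjective' _ Ideal.Quotient.mk_surjective
  let π := Ideal.Quotient.mk p
  have hne : Ideal.span {π f} ≠ ⊤ := by
    intro h
    rw [Ideal.span_singleton_eq_top] at h
    obtain ⟨g, hg⟩ := Ideal.Quotient.mk_surjective (h.unit⁻¹ : (A ⧸ p)ˣ).1
    have h1 : π (f * g - 1) = 0 := by
      rw [map_sub, map_mul, map_one, hg, IsUnit.mul_val_inv, sub_self]
    rw [Ideal.Quotient.eq_zero_iff_mem] at h1
    have h2 : f * g - 1 ∈ IsLocalRing.maximalIdeal A := IsLocalRing.le_maximalIdeal (Ideal.IsPrime.ne_top ‹_›) h1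
    have h3 : f * g ∈ IsLocalRing.maximalIdeal A := Ideal.mul_mem_right _ _ hf
    have h4 : (1 : A) ∈ IsLocalRing.maximalIdeal A := by
      have := Ideal.sub_mem _ h3 h2
      simpa using this
    exact (Ideal.ne_top_iff_one _).mp (IsLocalRing.maximalIdeal.isMaximal A).ne_top h4
  obtain ⟨M, hM, hIM⟩ := Ideal.exists_le_maximal _ hne
  obtain ⟨qb, hqb, -⟩ := Ideal.exists_minimalPrimes_le hIM
  have hqbprime : qb.IsPrime := hqb.1.1
  have hht : qb.height ≤ 1 := Ideal.height_le_one_of_isPrincipal_of_mem_minimalPrimes _ qb hqb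
  refine ⟨qb.comap π, inferInstance, ?_, ?_, ?_⟩
  · intro x hx
    rw [Ideal.mem_comap]
    have : π x = 0 := Ideal.Quotient.eq_zero_iff_mem.mpr hx
    rw [this]
    exact zero_mem _
  · rw [Ideal.mem_comap]
    exact hqb.1.2 (Ideal.subset_span rfl)
  · intro hq
    have hq' : qb = IsLocalRing.maximalIdeal (A ⧸ p) := by
      apply Ideal.comap_injective_of_surjective π Ideal.Quotient.mk_surjective
      rw [hq]
      haveI : IsLocalHom π := IsLocalHom.of_surjective π Ideal.Quotient.mk_surjective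
      exact (IsLocalRing.maximalIdeal_comap π).symm
    rw [hq'] at hht
    have hht' : ringKrullDim (A ⧸ p) ≤ 1 := by
      rw [← IsLocalRing.maximalIdeal_height_eq_ringKrullDim]
      exact_mod_cast hht
    have := hdim.trans hht'
    norm_num at this

theorem faithful_restrict_nhd_punctured_hypersurface (A : Type u) [CommRing A] [IsNoetherianRing A] [IsLocalRing A]
    (f : A) (hf : f ∈ IsLocalRing.maximalIdeal A)
    (U' : (Spec (CommRingCat.of A)).Opens) (hU' : U' ≤ FEt.puncturedSpec A)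
    (u' : pullback (FEt.puncturedSpec A).ι (Spec.map (CommRingCat.ofHom (Ideal.Quotient.mk (Ideal.span {f})))) ⟶ (U' : Scheme.{u})) (hu' : u' ≫ U'.ι = (pullback.fst (FEt.puncturedSpec A).ι (Spec.map (CommRingCat.ofHom (Ideal.Quotient.mk (Ideal.span {f})))) ≫ (FEt.puncturedSpec A).ι))
    (hdim : ∀ p : PrimeSpectrum A, p.asIdeal ∈ minimalPrimes A → p ∈ U' → f ∉ p.asIdeal →
      (2 : WithBot ℕ∞) ≤ ringKrullDim (A ⧸ p.asIdeal)) :
    (FEt.restrict u').Faithful := by
  let g := Spec.map (CommRingCat.ofHom (Ideal.Quotient.mk (Ideal.span {f})))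
  have hR : ∀ q : PrimeSpectrum A, f ∈ q.asIdeal → q ≠ IsLocalRing.closedPoint A →
      ∃ z : ↥(pullback (FEt.puncturedSpec A).ι g), (U'.ι (u' z) : PrimeSpectrum A) = q := by
    intro q hfq hq
    have hy : q ∈ Set.range g := by
      have : Set.range g = PrimeSpectrum.zeroLocus (Ideal.span {f} : Set A) := by
        have := range_comap_of_surjective _ (Ideal.Quotient.mk (Ideal.span {f}))
          Ideal.Quotient.mk_surjective
        rw [Ideal.mk_ker] at this
        exact this
      rw [this]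
      change q ∈ PrimeSpectrum.zeroLocus (Ideal.span {f} : Set A)
      rw [PrimeSpectrum.mem_zeroLocus, SetLike.coe_subset_coe, Ideal.span_le, Set.singleton_subset_iff]
      exact hfq
    obtain ⟨y, hy⟩ := hy
    obtain ⟨z, hz1, hz2⟩ := Scheme.Pullback.exists_preimage_pullback (f := (FEt.puncturedSpec A).ι) (g := g)
      ⟨q, hq⟩ y hy.symm
    refine ⟨z, ?_⟩
    rw [← Scheme.Hom.comp_apply, hu', Scheme.Hom.comp_apply, hz1]
    rfl
  apply faithful_restrict_of_clopen u'
  intro Y C hC hrange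
  by_contra hne
  have hYfin : IsFinite Y.hom := Y.prop.1
  have hYet : Etale Y.hom := Y.prop.2
  let E : Set ↥(U' : Scheme.{u}) := Y.hom '' Cᶜ
  have hEclopen : IsClopen E := ⟨Y.hom.isClosedMap _ hC.compl.1, Y.hom.isOpenMap _ hC.compl.2⟩
  have hEne : E.Nonempty := by
    obtain ⟨d, hd⟩ := Set.nonempty_compl.mpr hne
    exact ⟨Y.hom d, d, hd, rfl⟩
  have hEdisj : ∀ z, u' z ∉ E := by
    rintro z ⟨d, hd, hdz⟩
    obtain ⟨w, hw1, hw2⟩ := Scheme.Pullback.exists_preimage_pullback (f := Y.hom) (g := u') d z hdz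
    exact hd (hrange ⟨w, hw1⟩)
  obtain ⟨e, he⟩ := hEne
  let P : PrimeSpectrum A := U'.ι e
  obtain ⟨p, hpmin, hpP⟩ := Ideal.exists_minimalPrimes_le (bot_le : (⊥ : Ideal A) ≤ P.asIdeal)
  haveI hpprime : p.IsPrime := hpmin.1.1
  let p' : PrimeSpectrum A := ⟨p, hpprime⟩
  have hspec : p' ⤳ P := (PrimeSpectrum.le_iff_specializes _ _).mp hpP
  have hp'U : p' ∈ U' := hspec.mem_open U'.2 e.2
  let pe : ↥(U' : Scheme.{u}) := ⟨p', hp'U⟩
  have hpe : pe ⤳ e := U'.ι.isOpenEmbedding.isInducing.specializes_iff.mp hspec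
  have hpeE : pe ∈ E := hpe.mem_open hEclopen.2 he
  have key : ∀ q : PrimeSpectrum A, f ∈ q.asIdeal → q ≠ IsLocalRing.closedPoint A → p' ⤳ q → False := by
    intro q hfq hq hpq
    obtain ⟨z, hz⟩ := hR q hfq hq
    have hqe : pe ⤳ u' z := U'.ι.isOpenEmbedding.isInducing.specializes_iff.mp (by
      rw [hz]
      exact hpq)
    exact hEdisj z (hqe.mem_closed hEclopen.1 hpeE)
  by_cases hfp : f ∈ p
  · exact key p' hfp (hU' hp'U) specializes_rfl
  · have h2 := hdim p' hpmin hp'U hfp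
    obtain ⟨q, hqprime, hpq, hfq, hqm⟩ := exists_prime_ge_of_dim_ge_two f hf p h2
    refine key ⟨q, hqprime⟩ hfq ?_ ((PrimeSpectrum.le_iff_specializes _ _).mp hpq)
    intro h
    exact hqm (congrArg PrimeSpectrum.asIdeal h)

end Groth.Agent.Lib.Helper2
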