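import Groth.Agent.Lib.Helper2.HartogsExt
import Groth.Agent.Lib.Helper2.FEtThickening
import Groth.Agent.S1131
import Groth.Agent.S1133
import Groth.Agent.Lib.Helper1.AffineAndDescent
import Mathlib.AlgebraicGeometry.Morphisms.LocalFlatDescent
import Mathlib.AlgebraicGeometry.Morphisms.FlatDescent

/-!
# Descent of extendability of finite étale covers along fpqc morphisms (SGA 2 X 3.? / purity descent)

Let `q : Y₁ ⟶ Y` be flat, surjective and quasi-compact, `UY ⊆ Y` an open with the Hartogs property (e.g. `Y`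
locally Noetherian of depth at least two off `UY`).  If every finite étale cover of `q⁻¹ UY` extends to a finite
étale cover of `Y₁`, then every finite étale cover of `UY` extends to a finite étale cover of `Y`
(`liftsFEt_of_fpqc`).  The extension upstairs gets a descent datum by Hartogs extension of the canonical one on
the `UY`-part; effectivity is `S1133` (affine descent data), and the comparison over `UY` uses `S1131`.
-/

set_option autoImplicit false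
set_option linter.style.haveILetI false
set_option linter.unusedSectionVars false

universe u
open AlgebraicGeometry CategoryTheory CategoryTheory.Limits TopologicalSpace Opposite

namespace Groth.Agent.Lib.Helper2.PureDescent

open Groth.Agent.Lib.Helper2 Groth.Agent.Lib.Helper2.HartogsExt

/-- The data for descending a finite étale cover `WU` of the open `UY` of `Y` along `q : Y₁ ⟶ Y`: a scheme `W`
over `Y₁` whose `UY`-part is `Y₁ ×_Y WU`. -/
structure Setup {Y Y₁ : Scheme.{u}} (q : Y₁ ⟶ Y) (UY : Y.Opens) where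
  W : Scheme.{u}
  w : W ⟶ Y₁
  WU : Scheme.{u}
  wU : WU ⟶ (UY : Scheme.{u})
  W₁U : Scheme.{u}
  j : W₁U ⟶ W
  r : W₁U ⟶ (UY : Scheme.{u})
  c : W₁U ⟶ WU
  hj : IsPullback j r (w ≫ q) UY.ι
  hc : IsPullback (j ≫ w) c q (wU ≫ UY.ι)

namespace Setup

variable {Y Y₁ : Scheme.{u}} {q : Y₁ ⟶ Y} {UY : Y.Opens} (D : Setup q UY)

lemma r_eq : D.r = D.c ≫ D.wU := by
  rw [← cancel_mono UY.ι, ← D.hj.w, Category.assoc, ← D.hc.w, Category.assoc]

/-- The `WU`-component of a point of `W` lying over `UY`. -/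
noncomputable def sig {T : Scheme.{u}} (v : T ⟶ D.W) (u : T ⟶ (UY : Scheme.{u}))
    (hv : v ≫ D.w ≫ q = u ≫ UY.ι) : T ⟶ D.WU :=
  D.hj.lift v u hv ≫ D.c

lemma sig_wU {T : Scheme.{u}} (v : T ⟶ D.W) (u : T ⟶ (UY : Scheme.{u}))
    (hv : v ≫ D.w ≫ q = u ≫ UY.ι) : D.sig v u hv ≫ D.wU = u := by
  rw [sig, Category.assoc, ← D.r_eq, IsPullback.lift_snd]

/-- The point of `W` over `x` with given `WU`-component. -/
noncomputable def tau {T : Scheme.{u}} (x : T ⟶ Y₁) (s : T ⟶ D.WU)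
    (h : x ≫ q = s ≫ D.wU ≫ UY.ι) : T ⟶ D.W :=
  D.hc.lift x s h ≫ D.j

lemma tau_w {T : Scheme.{u}} (x : T ⟶ Y₁) (s : T ⟶ D.WU)
    (h : x ≫ q = s ≫ D.wU ≫ UY.ι) : D.tau x s h ≫ D.w = x := by
  rw [tau, Category.assoc, IsPullback.lift_fst]

lemma sig_tau {T : Scheme.{u}} (x : T ⟶ Y₁) (s : T ⟶ D.WU)
    (h : x ≫ q = s ≫ D.wU ≫ UY.ι) (u : T ⟶ (UY : Scheme.{u}))
    (hv : D.tau x s h ≫ D.w ≫ q = u ≫ UY.ι) : D.sig (D.tau x s h) u hv = s := by
  have hu : u = s ≫ D.wU := by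
    rw [← cancel_mono UY.ι, ← hv, ← Category.assoc, D.tau_w, h, Category.assoc]
  have : D.hj.lift (D.tau x s h) u hv = D.hc.lift x s h := by
    apply D.hj.hom_ext
    · rw [IsPullback.lift_fst, tau]
    · rw [IsPullback.lift_snd, D.r_eq, ← Category.assoc, IsPullback.lift_snd, hu]
  rw [sig, this, IsPullback.lift_snd]

lemma tau_sig {T : Scheme.{u}} (v : T ⟶ D.W) (u : T ⟶ (UY : Scheme.{u}))
    (hv : v ≫ D.w ≫ q = u ≫ UY.ι) (x : T ⟶ Y₁) (hx : x = v ≫ D.w)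
    (h : x ≫ q = D.sig v u hv ≫ D.wU ≫ UY.ι) : D.tau x (D.sig v u hv) h = v := by
  subst hx
  have : D.hc.lift (v ≫ D.w) (D.sig v u hv) h = D.hj.lift v u hv := by
    apply D.hc.hom_ext
    · rw [IsPullback.lift_fst, ← Category.assoc, IsPullback.lift_fst]
    · rw [IsPullback.lift_snd, sig]
  rw [tau, this, IsPullback.lift_fst]

lemma comp_sig {T T' : Scheme.{u}} (g : T' ⟶ T) (v : T ⟶ D.W) (u : T ⟶ (UY : Scheme.{u}))
    (hv : v ≫ D.w ≫ q = u ≫ UY.ι) :
    g ≫ D.sig v u hv = D.sig (g ≫ v) (g ≫ u) (by rw [Category.assoc, hv, Category.assoc]) := by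
  rw [sig, sig, ← Category.assoc]
  congr 1
  apply D.hj.hom_ext
  · rw [Category.assoc, IsPullback.lift_fst, IsPullback.lift_fst]
  · rw [Category.assoc, IsPullback.lift_snd, IsPullback.lift_snd]

lemma comp_tau {T T' : Scheme.{u}} (g : T' ⟶ T) (x : T ⟶ Y₁) (s : T ⟶ D.WU)
    (h : x ≫ q = s ≫ D.wU ≫ UY.ι) :
    g ≫ D.tau x s h = D.tau (g ≫ x) (g ≫ s) (by rw [Category.assoc, h, Category.assoc]) := by
  rw [tau, tau, ← Category.assoc]
  congr 1
  apply D.hc.hom_ext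
  · rw [Category.assoc, IsPullback.lift_fst, IsPullback.lift_fst]
  · rw [Category.assoc, IsPullback.lift_snd, IsPullback.lift_snd]

lemma sig_congr {T : Scheme.{u}} {v v' : T ⟶ D.W} {u u' : T ⟶ (UY : Scheme.{u})}
    (hv : v ≫ D.w ≫ q = u ≫ UY.ι) (e₁ : v = v') (e₂ : u = u') :
    D.sig v u hv = D.sig v' u' (by rw [← e₁, ← e₂]; exact hv) := by
  subst e₁ e₂
  rfl

lemma tau_congr {T : Scheme.{u}} {x x' : T ⟶ Y₁} {s s' : T ⟶ D.WU}
    (h : x ≫ q = s ≫ D.wU ≫ UY.ι) (e₁ : x = x') (e₂ : s = s') :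
    D.tau x s h = D.tau x' s' (by rw [← e₁, ← e₂]; exact h) := by
  subst e₁ e₂
  rfl

/-- The action on points lying over `UY`: replace the `Y₁`-component, keep the `WU`-component. -/
noncomputable def actU {T : Scheme.{u}} (v : T ⟶ D.W) (x : T ⟶ Y₁) (u : T ⟶ (UY : Scheme.{u}))
    (hv : v ≫ D.w ≫ q = u ≫ UY.ι) (hx : x ≫ q = u ≫ UY.ι) : T ⟶ D.W :=
  D.tau x (D.sig v u hv) (by rw [← Category.assoc, D.sig_wU, hx])

lemma actU_w {T : Scheme.{u}} (v : T ⟶ D.W) (x : T ⟶ Y₁) (u : T ⟶ (UY : Scheme.{u}))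
    (hv : v ≫ D.w ≫ q = u ≫ UY.ι) (hx : x ≫ q = u ≫ UY.ι) :
    D.actU v x u hv hx ≫ D.w = x :=
  D.tau_w _ _ _

lemma sig_actU {T : Scheme.{u}} (v : T ⟶ D.W) (x : T ⟶ Y₁) (u : T ⟶ (UY : Scheme.{u}))
    (hv : v ≫ D.w ≫ q = u ≫ UY.ι) (hx : x ≫ q = u ≫ UY.ι)
    (hv' : D.actU v x u hv hx ≫ D.w ≫ q = u ≫ UY.ι) :
    D.sig (D.actU v x u hv hx) u hv' = D.sig v u hv :=
  D.sig_tau _ _ _ _ _

lemma actU_self {T : Scheme.{u}} (v : T ⟶ D.W) (x : T ⟶ Y₁) (u : T ⟶ (UY : Scheme.{u}))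
    (hv : v ≫ D.w ≫ q = u ≫ UY.ι) (hx : x ≫ q = u ≫ UY.ι) (hxv : x = v ≫ D.w) :
    D.actU v x u hv hx = v :=
  D.tau_sig v u hv x hxv _

lemma actU_actU {T : Scheme.{u}} (v : T ⟶ D.W) (x x' : T ⟶ Y₁) (u : T ⟶ (UY : Scheme.{u}))
    (hv : v ≫ D.w ≫ q = u ≫ UY.ι) (hx : x ≫ q = u ≫ UY.ι) (hx' : x' ≫ q = u ≫ UY.ι)
    (hv' : D.actU v x u hv hx ≫ D.w ≫ q = u ≫ UY.ι) :
    D.actU (D.actU v x u hv hx) x' u hv' hx' = D.actU v x' u hv hx' := by
  unfold actU
  exact D.tau_congr _ rfl (D.sig_tau _ _ _ _ _)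

lemma comp_actU {T T' : Scheme.{u}} (g : T' ⟶ T) (v : T ⟶ D.W) (x : T ⟶ Y₁)
    (u : T ⟶ (UY : Scheme.{u})) (hv : v ≫ D.w ≫ q = u ≫ UY.ι) (hx : x ≫ q = u ≫ UY.ι) :
    g ≫ D.actU v x u hv hx = D.actU (g ≫ v) (g ≫ x) (g ≫ u)
      (by rw [Category.assoc, hv, Category.assoc]) (by rw [Category.assoc, hx, Category.assoc]) := by
  unfold actU
  rw [D.comp_tau]
  exact D.tau_congr _ rfl (D.comp_sig g v u hv)

lemma actU_congr {T : Scheme.{u}} {v v' : T ⟶ D.W} {x x' : T ⟶ Y₁} {u u' : T ⟶ (UY : Scheme.{u})}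
    (hv : v ≫ D.w ≫ q = u ≫ UY.ι) (hx : x ≫ q = u ≫ UY.ι) (e₁ : v = v') (e₂ : x = x')
    (e₃ : u = u') :
    D.actU v x u hv hx = D.actU v' x' u' (by rw [← e₁, ← e₃]; exact hv)
      (by rw [← e₂, ← e₃]; exact hx) := by
  subst e₁ e₂ e₃
  rfl


section Act

variable (hH : Hartogs Y UY) [Flat q] [Flat D.w] [IsAffineHom D.w]

/-- The structure map of `W ×_Y Y₁` to `Y`. -/
noncomputable abbrev p₂ : pullback (D.w ≫ q) q ⟶ Y := pullback.fst (D.w ≫ q) q ≫ D.w ≫ q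

instance : Flat D.p₂ := inferInstanceAs (Flat (pullback.fst (D.w ≫ q) q ≫ D.w ≫ q))

/-- The action map on the `UY`-part of `W ×_Y Y₁`. -/
noncomputable def kΦ : pullback D.p₂ UY.ι ⟶ D.W :=
  D.actU (pullback.fst D.p₂ UY.ι ≫ pullback.fst (D.w ≫ q) q)
    (pullback.fst D.p₂ UY.ι ≫ pullback.snd (D.w ≫ q) q) (pullback.snd D.p₂ UY.ι)
    (by rw [Category.assoc]; exact pullback.condition)
    (by rw [Category.assoc, ← pullback.condition]; exact pullback.condition)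

include hH in
lemma exists_Φ : ∃ Φ : pullback (D.w ≫ q) q ⟶ D.W, Φ ≫ D.w = pullback.snd (D.w ≫ q) q ∧
    pullback.fst D.p₂ UY.ι ≫ Φ = D.kΦ :=
  exists_extension hH D.p₂ D.w (pullback.snd _ _) D.kΦ (by rw [kΦ, actU_w])

/-- The action map `W ×_Y Y₁ ⟶ W`. -/
noncomputable def Φ : pullback (D.w ≫ q) q ⟶ D.W := (D.exists_Φ hH).choose

lemma Φ_w : D.Φ hH ≫ D.w = pullback.snd (D.w ≫ q) q := (D.exists_Φ hH).choose_spec.1

lemma fst_Φ : pullback.fst D.p₂ UY.ι ≫ D.Φ hH = D.kΦ := (D.exists_Φ hH).choose_spec.2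

/-- The action on points. -/
noncomputable def act {T : Scheme.{u}} (v : T ⟶ D.W) (x : T ⟶ Y₁) (h : v ≫ D.w ≫ q = x ≫ q) :
    T ⟶ D.W :=
  pullback.lift v x h ≫ D.Φ hH

lemma act_w {T : Scheme.{u}} (v : T ⟶ D.W) (x : T ⟶ Y₁) (h : v ≫ D.w ≫ q = x ≫ q) :
    D.act hH v x h ≫ D.w = x := by
  rw [act, Category.assoc, Φ_w, pullback.lift_snd]

lemma comp_act {T T' : Scheme.{u}} (g : T' ⟶ T) (v : T ⟶ D.W) (x : T ⟶ Y₁)
    (h : v ≫ D.w ≫ q = x ≫ q) :
    g ≫ D.act hH v x h = D.act hH (g ≫ v) (g ≫ x) (by rw [Category.assoc, h, Category.assoc]) := by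
  rw [act, act, ← Category.assoc]
  congr 1
  apply pullback.hom_ext
  · rw [Category.assoc, pullback.lift_fst, pullback.lift_fst]
  · rw [Category.assoc, pullback.lift_snd, pullback.lift_snd]

lemma act_congr {T : Scheme.{u}} {v v' : T ⟶ D.W} {x x' : T ⟶ Y₁} (h : v ≫ D.w ≫ q = x ≫ q)
    (e₁ : v = v') (e₂ : x = x') :
    D.act hH v x h = D.act hH v' x' (by rw [← e₁, ← e₂]; exact h) := by
  subst e₁ e₂
  rfl

lemma act_eq_actU {T : Scheme.{u}} (v : T ⟶ D.W) (x : T ⟶ Y₁) (h : v ≫ D.w ≫ q = x ≫ q)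
    (u : T ⟶ (UY : Scheme.{u})) (hv : v ≫ D.w ≫ q = u ≫ UY.ι) :
    D.act hH v x h = D.actU v x u hv (h.symm.trans hv) := by
  let s : T ⟶ pullback D.p₂ UY.ι := pullback.lift (pullback.lift v x h) u
    (by rw [← Category.assoc, pullback.lift_fst]; exact hv)
  have hs1 : s ≫ pullback.fst D.p₂ UY.ι = pullback.lift v x h := pullback.lift_fst _ _ _
  have hs2 : s ≫ pullback.snd D.p₂ UY.ι = u := pullback.lift_snd _ _ _
  rw [act, ← hs1, Category.assoc, fst_Φ, kΦ, D.comp_actU]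
  apply D.actU_congr
  · rw [← Category.assoc, hs1, pullback.lift_fst]
  · rw [← Category.assoc, hs1, pullback.lift_snd]
  · exact hs2

lemma act_id : D.act hH (𝟙 D.W) D.w (by rw [Category.id_comp]) = 𝟙 D.W := by
  haveI : Flat (D.w ≫ q) := inferInstance
  apply uniq' hH (D.w ≫ q) D.j D.r D.hj D.w
  · rw [act_w, Category.id_comp]
  · refine Eq.trans ?_ (Category.comp_id D.j).symm
    rw [D.comp_act hH, D.act_congr hH _ (Category.comp_id D.j) rfl,
      D.act_eq_actU hH D.j (D.j ≫ D.w) _ D.r D.hj.w]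
    exact D.actU_self _ _ _ _ _ rfl

lemma act_self {T : Scheme.{u}} (v : T ⟶ D.W) (x : T ⟶ Y₁) (hx : x = v ≫ D.w)
    (h : v ≫ D.w ≫ q = x ≫ q) : D.act hH v x h = v := by
  subst hx
  have h1 : v ≫ D.act hH (𝟙 D.W) D.w (by rw [Category.id_comp]) = v := by
    rw [act_id, Category.comp_id]
  rw [D.comp_act hH, D.act_congr hH _ (Category.comp_id v) rfl] at h1
  exact h1


/-- The cocycle condition on the universal triple `(v, x, x')`. -/
lemma act_act_univ
    (hVX : (pullback.fst (pullback.snd (D.w ≫ q) q ≫ q) q ≫ pullback.fst (D.w ≫ q) q) ≫ D.w ≫ q = (pullback.fst (pullback.snd (D.w ≫ q) q ≫ q) q ≫ pullback.snd (D.w ≫ q) q) ≫ q)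
    (hVX' : (pullback.fst (pullback.snd (D.w ≫ q) q ≫ q) q ≫ pullback.fst (D.w ≫ q) q) ≫ D.w ≫ q = (pullback.snd (pullback.snd (D.w ≫ q) q ≫ q) q) ≫ q)
    (h' : D.act hH (pullback.fst (pullback.snd (D.w ≫ q) q ≫ q) q ≫ pullback.fst (D.w ≫ q) q) (pullback.fst (pullback.snd (D.w ≫ q) q ≫ q) q ≫ pullback.snd (D.w ≫ q) q) hVX ≫ D.w ≫ q = (pullback.snd (pullback.snd (D.w ≫ q) q ≫ q) q) ≫ q) :
    D.act hH (D.act hH (pullback.fst (pullback.snd (D.w ≫ q) q ≫ q) q ≫ pullback.fst (D.w ≫ q) q) (pullback.fst (pullback.snd (D.w ≫ q) q ≫ q) q ≫ pullback.snd (D.w ≫ q) q) hVX) (pullback.snd (pullback.snd (D.w ≫ q) q ≫ q) q) h' = D.act hH (pullback.fst (pullback.snd (D.w ≫ q) q ≫ q) q ≫ pullback.fst (D.w ≫ q) q) (pullback.snd (pullback.snd (D.w ≫ q) q ≫ q) q) hVX' := by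
  obtain ⟨V, hV⟩ : ∃ V : pullback (pullback.snd (D.w ≫ q) q ≫ q) q ⟶ D.W, V = (pullback.fst (pullback.snd (D.w ≫ q) q ≫ q) q ≫ pullback.fst (D.w ≫ q) q) := ⟨_, rfl⟩
  obtain ⟨X, hX⟩ : ∃ X : pullback (pullback.snd (D.w ≫ q) q ≫ q) q ⟶ Y₁, X = (pullback.fst (pullback.snd (D.w ≫ q) q ≫ q) q ≫ pullback.snd (D.w ≫ q) q) := ⟨_, rfl⟩
  obtain ⟨X', hX'⟩ : ∃ X' : pullback (pullback.snd (D.w ≫ q) q ≫ q) q ⟶ Y₁, X' = (pullback.snd (pullback.snd (D.w ≫ q) q ≫ q) q) := ⟨_, rfl⟩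
  obtain ⟨pT, hpT⟩ : ∃ pT : pullback (pullback.snd (D.w ≫ q) q ≫ q) q ⟶ Y, pT = V ≫ D.w ≫ q :=
    ⟨_, rfl⟩
  haveI : Flat pT := by
    rw [hpT, hV]
    infer_instance
  simp only [← hV, ← hX, ← hX'] at hVX hVX' h' ⊢
  apply uniq hH pT D.w
  · rw [act_w, act_w]
  · obtain ⟨jT, hjT⟩ : ∃ jT : pullback pT UY.ι ⟶ _, jT = pullback.fst pT UY.ι := ⟨_, rfl⟩
    obtain ⟨uT, huT⟩ : ∃ uT : pullback pT UY.ι ⟶ _, uT = pullback.snd pT UY.ι := ⟨_, rfl⟩
    rw [← hjT]
    have hc0 : (jT ≫ V) ≫ D.w ≫ q = uT ≫ UY.ι := by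
      rw [Category.assoc, ← hpT, hjT, huT]
      exact pullback.condition
    have hVX₀ : (jT ≫ V) ≫ D.w ≫ q = (jT ≫ X) ≫ q := by
      rw [Category.assoc, hVX, Category.assoc]
    have hVX'₀ : (jT ≫ V) ≫ D.w ≫ q = (jT ≫ X') ≫ q := by
      rw [Category.assoc, hVX', Category.assoc]
    have h1 : D.act hH (jT ≫ V) (jT ≫ X) hVX₀ = D.actU (jT ≫ V) (jT ≫ X) uT hc0
        (hVX₀.symm.trans hc0) := D.act_eq_actU hH _ _ _ uT hc0
    have hc1 : D.act hH (jT ≫ V) (jT ≫ X) hVX₀ ≫ D.w ≫ q = uT ≫ UY.ι := by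
      rw [← Category.assoc, act_w, ← hVX₀, hc0]
    have lhs : jT ≫ D.act hH (D.act hH V X hVX) X' h' =
        D.actU (jT ≫ V) (jT ≫ X') uT hc0 (hVX'₀.symm.trans hc0) := by
      rw [D.comp_act hH, D.act_congr hH _ (D.comp_act hH jT V X hVX) rfl,
        D.act_eq_actU hH _ _ _ uT hc1, D.actU_congr _ _ h1 rfl rfl]
      exact D.actU_actU _ _ _ _ _ _ _ _
    have rhs : jT ≫ D.act hH V X' hVX' =
        D.actU (jT ≫ V) (jT ≫ X') uT hc0 (hVX'₀.symm.trans hc0) := by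
      rw [D.comp_act hH]
      exact D.act_eq_actU hH _ _ _ uT hc0
    rw [lhs, rhs]

lemma act_act {T : Scheme.{u}} (v : T ⟶ D.W) (x x' : T ⟶ Y₁) (h : v ≫ D.w ≫ q = x ≫ q)
    (hx : x ≫ q = x' ≫ q) (h' : D.act hH v x h ≫ D.w ≫ q = x' ≫ q) :
    D.act hH (D.act hH v x h) x' h' = D.act hH v x' (h.trans hx) := by
  let θ : T ⟶ pullback (pullback.snd (D.w ≫ q) q ≫ q) q :=
    pullback.lift (pullback.lift v x h) x' (by rw [← Category.assoc, pullback.lift_snd]; exact hx)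
  have hθV : θ ≫ (pullback.fst (pullback.snd (D.w ≫ q) q ≫ q) q ≫ pullback.fst (D.w ≫ q) q) = v := by
    rw [← Category.assoc, pullback.lift_fst, pullback.lift_fst]
  have hθX : θ ≫ (pullback.fst (pullback.snd (D.w ≫ q) q ≫ q) q ≫ pullback.snd (D.w ≫ q) q) = x := by
    rw [← Category.assoc, pullback.lift_fst, pullback.lift_snd]
  have hθX' : θ ≫ (pullback.snd (pullback.snd (D.w ≫ q) q ≫ q) q) = x' := pullback.lift_snd _ _ _
  have hVX : (pullback.fst (pullback.snd (D.w ≫ q) q ≫ q) q ≫ pullback.fst (D.w ≫ q) q) ≫ D.w ≫ q = (pullback.fst (pullback.snd (D.w ≫ q) q ≫ q) q ≫ pullback.snd (D.w ≫ q) q) ≫ q := by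
    rw [Category.assoc, Category.assoc, pullback.condition]
  have hVX' : (pullback.fst (pullback.snd (D.w ≫ q) q ≫ q) q ≫ pullback.fst (D.w ≫ q) q) ≫ D.w ≫ q = (pullback.snd (pullback.snd (D.w ≫ q) q ≫ q) q) ≫ q := by
    rw [hVX, Category.assoc]
    exact pullback.condition
  have h'' : D.act hH (pullback.fst (pullback.snd (D.w ≫ q) q ≫ q) q ≫ pullback.fst (D.w ≫ q) q) (pullback.fst (pullback.snd (D.w ≫ q) q ≫ q) q ≫ pullback.snd (D.w ≫ q) q) hVX ≫ D.w ≫ q = (pullback.snd (pullback.snd (D.w ≫ q) q ≫ q) q) ≫ q := by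
    rw [← Category.assoc, act_w, ← hVX, hVX']
  have L : θ ≫ D.act hH (D.act hH (pullback.fst (pullback.snd (D.w ≫ q) q ≫ q) q ≫ pullback.fst (D.w ≫ q) q) (pullback.fst (pullback.snd (D.w ≫ q) q ≫ q) q ≫ pullback.snd (D.w ≫ q) q) hVX) (pullback.snd (pullback.snd (D.w ≫ q) q ≫ q) q) h'' = D.act hH (D.act hH v x h) x' h' := by
    rw [D.comp_act hH, D.act_congr hH _ (D.comp_act hH θ _ _ hVX) rfl]
    exact D.act_congr hH _ (D.act_congr hH _ hθV hθX) hθX'
  have R : θ ≫ D.act hH (pullback.fst (pullback.snd (D.w ≫ q) q ≫ q) q ≫ pullback.fst (D.w ≫ q) q) (pullback.snd (pullback.snd (D.w ≫ q) q ≫ q) q) hVX' = D.act hH v x' (h.trans hx) := by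
    rw [D.comp_act hH]
    exact D.act_congr hH _ hθV hθX'
  rw [← L, ← R, D.act_act_univ hH hVX hVX' h'']


lemma sig_comp_j {T : Scheme.{u}} (v : T ⟶ D.W₁U) (u : T ⟶ (UY : Scheme.{u}))
    (hv : (v ≫ D.j) ≫ D.w ≫ q = u ≫ UY.ι) : D.sig (v ≫ D.j) u hv = v ≫ D.c := by
  have : D.hj.lift (v ≫ D.j) u hv = v := by
    apply D.hj.hom_ext
    · rw [IsPullback.lift_fst]
    · rw [IsPullback.lift_snd, ← cancel_mono UY.ι, ← hv, Category.assoc, Category.assoc,
        ← D.hj.w]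
  rw [sig, this]

lemma act_comp_j {T : Scheme.{u}} (v : T ⟶ D.W₁U) (x : T ⟶ Y₁)
    (h : (v ≫ D.j) ≫ D.w ≫ q = x ≫ q) :
    D.act hH (v ≫ D.j) x h = D.hc.lift x (v ≫ D.c)
      (by rw [← h, Category.assoc, Category.assoc, ← Category.assoc D.j, D.hc.w]) ≫ D.j := by
  have hv : (v ≫ D.j) ≫ D.w ≫ q = (v ≫ D.r) ≫ UY.ι := by
    rw [Category.assoc, Category.assoc, D.hj.w]
  rw [D.act_eq_actU hH _ _ h (v ≫ D.r) hv]
  unfold actU tau
  congr 1
  apply D.hc.hom_ext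
  · rw [IsPullback.lift_fst, IsPullback.lift_fst]
  · rw [IsPullback.lift_snd, IsPullback.lift_snd, D.sig_comp_j]

/-- The descent datum on `W` relative to `q`. -/
noncomputable def dd : Desc.SchDD q where
  obj := Over.mk D.w
  φ T x₀ x₁ h :=
    { toFun := fun v => ⟨D.act hH v.1 x₁ (by
          have e : v.1 ≫ D.w = x₀ := v.2
          rw [← Category.assoc, e]
          exact h), D.act_w hH _ _ _⟩
      invFun := fun v => ⟨D.act hH v.1 x₀ (by
          have e : v.1 ≫ D.w = x₁ := v.2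
          rw [← Category.assoc, e]
          exact h.symm), D.act_w hH _ _ _⟩
      left_inv := fun v => Subtype.ext (by
        have e : v.1 ≫ D.w = x₀ := v.2
        change D.act hH (D.act hH v.1 x₁ _) x₀ _ = v.1
        rw [D.act_act hH _ _ _ _ h.symm]
        exact D.act_self hH _ _ e.symm _)
      right_inv := fun v => Subtype.ext (by
        have e : v.1 ≫ D.w = x₁ := v.2
        change D.act hH (D.act hH v.1 x₀ _) x₁ _ = v.1
        rw [D.act_act hH _ _ _ _ h]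
        exact D.act_self hH _ _ e.symm _) }
  φ_natural T T' g x₀ x₁ h h' v v' hv' := by
    change D.act hH v'.1 (g ≫ x₁) _ = g ≫ D.act hH v.1 x₁ _
    rw [D.comp_act hH]
    exact D.act_congr hH _ hv' rfl
  φ_self T x v := Subtype.ext (by
    have e : v.1 ≫ D.w = x := v.2
    exact D.act_self hH _ _ e.symm _)
  φ_comp T x₀ x₁ x₂ h₀₁ h₁₂ v := Subtype.ext (by
    change D.act hH (D.act hH v.1 x₁ _) x₂ _ = D.act hH v.1 x₂ _
    exact D.act_act hH _ _ _ _ h₁₂ _)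

@[simp] lemma dd_obj : (D.dd hH).obj = Over.mk D.w := rfl

lemma dd_φ_val {T : Scheme.{u}} (x₀ x₁ : T ⟶ Y₁) (h : x₀ ≫ q = x₁ ≫ q)
    (v : Desc.Lifts (D.dd hH).obj x₀) (hv : v.1 ≫ D.w ≫ q = x₁ ≫ q) :
    ((D.dd hH).φ x₀ x₁ h v).1 = D.act hH v.1 x₁ hv := rfl

end Act


section Descend

variable (hH : Hartogs Y UY) [Flat q] [Surjective q] [QuasiCompact q] [IsFinite D.w] [Etale D.w]

include hH in
/-- Effectivity of the descent datum, together with the morphism from `WU` to the descended scheme. -/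
theorem exists_descent_aux : ∃ (W'' : Scheme.{u}) (w'' : W'' ⟶ Y) (e : pullback q w'' ≅ D.W)
    (θ : D.WU ⟶ W''), e.hom ≫ D.w = pullback.fst q w'' ∧ θ ≫ w'' = D.wU ≫ UY.ι ∧
      D.c ≫ θ = D.j ≫ e.inv ≫ pullback.snd q w'' := by
  haveI : IsAffineHom (D.dd hH).obj.hom := inferInstanceAs (IsAffineHom D.w)
  obtain ⟨W'', ⟨ε⟩⟩ := Groth.Agent.S1133.result q (D.dd hH)
  let eo : ((Desc.toDD q).obj W'').obj ≅ (D.dd hH).obj :=
    { hom := ε.hom.hom
      inv := ε.inv.hom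
      hom_inv_id := by
        rw [← Desc.SchDD.comp_hom, ε.hom_inv_id]
        rfl
      inv_hom_id := by
        rw [← Desc.SchDD.comp_hom, ε.inv_hom_id]
        rfl }
  let e : pullback q W''.hom ≅ D.W := (Over.forget Y₁).mapIso eo
  have he : e.hom ≫ D.w = pullback.fst q W''.hom := Over.w ε.hom.hom
  -- the morphism `WU ⟶ W''`
  let A : Over Y := Over.mk (D.wU ≫ UY.ι)
  let m₀ : (Desc.toDD q).obj A ⟶ D.dd hH :=
    ⟨Over.homMk (D.hc.isoPullback.inv ≫ D.j) (by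
        change (D.hc.isoPullback.inv ≫ D.j) ≫ D.w = pullback.fst q (D.wU ≫ UY.ι)
        rw [Category.assoc, D.hc.isoPullback_inv_fst]),
      fun T x₀ x₁ h v w' hw' => by
        have hw'' : w'.1 = (v.1 ≫ D.hc.isoPullback.inv) ≫ D.j := by
          rw [Category.assoc]
          exact hw'
        have hv1 : w'.1 ≫ D.w ≫ q = x₁ ≫ q := by
          have e' : w'.1 ≫ D.w = x₀ := w'.2
          rw [← Category.assoc, e']
          exact h
        rw [D.dd_φ_val hH x₀ x₁ h w' hv1]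
        rw [D.act_congr hH hv1 hw'' rfl, D.act_comp_j hH]
        change _ = pullback.lift x₁ (v.1 ≫ pullback.snd q (D.wU ≫ UY.ι)) _ ≫
          (D.hc.isoPullback.inv ≫ D.j)
        rw [← Category.assoc _ _ D.j]
        congr 1
        apply D.hc.hom_ext
        · rw [IsPullback.lift_fst, Category.assoc, D.hc.isoPullback_inv_fst, pullback.lift_fst]
        · refine (IsPullback.lift_snd _ _ _ _).trans ?_
          refine Eq.trans ?_ (Category.assoc _ _ _).symm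
          refine Eq.trans ?_ (congrArg (fun t => pullback.lift x₁
            (v.1 ≫ pullback.snd q (D.wU ≫ UY.ι)) _ ≫ t) D.hc.isoPullback_inv_snd).symm
          refine Eq.trans ?_ (pullback.lift_snd _ _ _).symm
          exact (Category.assoc _ _ _).trans (congrArg (fun t => v.1 ≫ t)
            D.hc.isoPullback_inv_snd)⟩
  haveI : (Desc.toDD q).Full := Groth.Agent.S1131.result q
  let θ' : A ⟶ W'' := (Desc.toDD q).preimage (m₀ ≫ ε.inv)
  have hθ' : (Desc.toDD q).map θ' ≫ ε.hom = m₀ := by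
    rw [Functor.map_preimage, Category.assoc, ε.inv_hom_id, Category.comp_id]
  let θ : D.WU ⟶ W''.left := θ'.left
  have hθw : θ ≫ W''.hom = D.wU ≫ UY.ι := Over.w θ'
  have hθ1 : pullback.map q (D.wU ≫ UY.ι) q W''.hom (𝟙 _) θ (𝟙 _) (by simp) (by simp [hθw]) ≫
      e.hom = D.hc.isoPullback.inv ≫ D.j := by
    have := congrArg (fun m => m.hom.left) hθ'
    exact this
  refine ⟨W''.left, W''.hom, e, θ, he, hθw, ?_⟩
  have h1 : D.hc.isoPullback.hom ≫ pullback.map q (D.wU ≫ UY.ι) q W''.hom (𝟙 _) θ (𝟙 _)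
      (by simp) (by simp [hθw]) = D.j ≫ e.inv := by
    rw [← cancel_mono e.hom, Category.assoc, hθ1, Iso.hom_inv_id_assoc, Category.assoc,
      Iso.inv_hom_id, Category.comp_id]
  have h2 := congrArg (fun m => m ≫ pullback.snd q W''.hom) h1
  simp only [Category.assoc, pullback.lift_snd, pullback.map] at h2
  rw [← Category.assoc, D.hc.isoPullback_hom_snd] at h2
  exact h2

include hH in
/-- The finite étale cover `WU` of `UY` extends to a finite étale cover of `Y`. -/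
theorem exists_descent : ∃ (W'' : Scheme.{u}) (w'' : W'' ⟶ Y) (θ : D.WU ⟶ W''),
    IsFinite w'' ∧ Etale w'' ∧ IsPullback θ D.wU w'' UY.ι := by
  obtain ⟨W'', w'', e, θ, he, hθw, hcθ⟩ := D.exists_descent_aux hH
  have hq : (@Surjective ⊓ @Flat ⊓ @QuasiCompact : MorphismProperty Scheme.{u}) q :=
    ⟨⟨inferInstance, inferInstance⟩, inferInstance⟩
  have hfin : IsFinite w'' := by
    haveI := Groth.Agent.Lib.Helper1.descendsAlong_isFinite_fpqc.{u}
    refine MorphismProperty.of_pullback_fst_of_descendsAlong (P := @IsFinite)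
      (Q := (@Surjective ⊓ @Flat ⊓ @QuasiCompact : MorphismProperty Scheme.{u})) (f := q)
      (g := w'') hq ?_
    rw [← he]
    exact (MorphismProperty.cancel_left_of_respectsIso @IsFinite e.hom D.w).mpr inferInstance
  have het : Etale w'' := by
    refine MorphismProperty.of_pullback_fst_of_descendsAlong (P := @Etale)
      (Q := (@Surjective ⊓ @Flat ⊓ @QuasiCompact : MorphismProperty Scheme.{u})) (f := q)
      (g := w'') hq ?_
    rw [← he]
    exact (MorphismProperty.cancel_left_of_respectsIso @Etale e.hom D.w).mpr inferInstance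
  obtain ⟨pr, hpr0⟩ : ∃ pr : D.W ⟶ W'', pr = e.inv ≫ pullback.snd q w'' := ⟨_, rfl⟩
  rw [← hpr0] at hcθ
  -- `W = Y₁ ×_Y W''`
  have hW : IsPullback D.w pr q w'' := by
    refine IsPullback.of_iso_pullback ⟨?_⟩ e.symm ?_ ?_
    · rw [hpr0, Category.assoc, ← pullback.condition, ← Category.assoc, ← he,
        Iso.inv_hom_id_assoc]
    · change e.inv ≫ pullback.fst q w'' = D.w
      rw [← he, Iso.inv_hom_id_assoc]
    · exact hpr0.symm
  -- the `UY`-part of `W''`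
  let f' : D.W₁U ⟶ pullback w'' UY.ι := pullback.lift (D.j ≫ pr) D.r (by
    rw [Category.assoc, ← hW.w, D.hj.w])
  have hf'1 : f' ≫ pullback.fst w'' UY.ι = D.j ≫ pr := pullback.lift_fst _ _ _
  have hf'2 : f' ≫ pullback.snd w'' UY.ι = D.r := pullback.lift_snd _ _ _
  have S1 : IsPullback D.j f' pr (pullback.fst w'' UY.ι) := by
    refine IsPullback.of_bot ?_ hf'1.symm (IsPullback.of_hasPullback w'' UY.ι)
    rw [hf'2, ← hW.w]
    exact D.hj
  have hpr : (@Surjective ⊓ @Flat ⊓ @QuasiCompact : MorphismProperty Scheme.{u}) pr :=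
    MorphismProperty.of_isPullback hW hq
  have hf' : (@Surjective ⊓ @Flat ⊓ @QuasiCompact : MorphismProperty Scheme.{u}) f' :=
    MorphismProperty.of_isPullback S1 hpr
  have S2 : IsPullback (D.j ≫ D.w) f' q (pullback.fst w'' UY.ι ≫ w'') :=
    S1.paste_horiz hW
  let θU : D.WU ⟶ pullback w'' UY.ι := pullback.lift θ D.wU hθw
  have hθU1 : θU ≫ pullback.fst w'' UY.ι = θ := pullback.lift_fst _ _ _
  have hθU2 : θU ≫ pullback.snd w'' UY.ι = D.wU := pullback.lift_snd _ _ _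
  have hcθU : D.c ≫ θU = f' := by
    apply pullback.hom_ext
    · rw [Category.assoc, hθU1, hcθ, hf'1]
    · rw [Category.assoc, hθU2, ← D.r_eq, hf'2]
  have S3 : IsPullback (𝟙 D.W₁U) D.c f' θU := by
    refine IsPullback.of_right ?_ (by rw [Category.id_comp, hcθU]) S2
    rw [Category.id_comp, ← Category.assoc, hθU1, hθw]
    exact D.hc
  have hiso : IsIso θU :=
    MorphismProperty.of_isPullback_of_descendsAlong (P := MorphismProperty.isomorphisms Scheme.{u})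
      (Q := (@Surjective ⊓ @Flat ⊓ @QuasiCompact : MorphismProperty Scheme.{u})) S3 hf'
      (inferInstanceAs (IsIso (𝟙 D.W₁U)))
  refine ⟨W'', w'', θ, hfin, het, ?_⟩
  exact IsPullback.of_iso_pullback ⟨hθw⟩ (asIso θU) hθU1 hθU2

end Descend

end Setup


open Groth.Agent.Lib.Helper2.FEtGlue in
/-- **Descent of extendability of finite étale covers** along a flat, surjective, quasi-compact morphism
`q : Y₁ ⟶ Y`, under the Hartogs property of `UY ⊆ Y`: if finite étale covers of the preimage of `UY` extend over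
`Y₁`, then finite étale covers of `UY` extend over `Y`. -/
theorem liftsFEt_of_fpqc {Y Y₁ : Scheme.{u}} {UY : Y.Opens} (hH : Hartogs Y UY) (q : Y₁ ⟶ Y)
    [Flat q] [Surjective q] [QuasiCompact q] (h : LiftsFEt (pullback.fst q UY.ι)) :
    LiftsFEt UY.ι := by
  intro WU wU hfin het
  obtain ⟨W, w, a, hwfin, hwet, hpb⟩ := h (pullback (pullback.snd q UY.ι) wU)
    (pullback.fst (pullback.snd q UY.ι) wU) inferInstance inferInstance
  let D : Setup q UY :=
    { W := W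
      w := w
      WU := WU
      wU := wU
      W₁U := pullback (pullback.snd q UY.ι) wU
      j := a
      r := pullback.fst (pullback.snd q UY.ι) wU ≫ pullback.snd q UY.ι
      c := pullback.snd (pullback.snd q UY.ι) wU
      hj := hpb.paste_vert (IsPullback.of_hasPullback q UY.ι)
      hc := by
        rw [hpb.w]
        exact ((IsPullback.of_hasPullback (pullback.snd q UY.ι) wU).flip.paste_vert
          (IsPullback.of_hasPullback q UY.ι).flip).flip }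
  haveI : IsFinite D.w := hwfin
  haveI : Etale D.w := hwet
  exact D.exists_descent hH

end Groth.Agent.Lib.Helper2.PureDescent
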