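import Groth.Agent.Lib.Helper2.PureDescent
import Groth.Prelude.Def_SGA2

/-!
# Descent of purity of a pair `(X, X − U)` along fpqc morphisms

`isPurePair_of_fpqc`: if `U ⊆ X` has the Hartogs property (e.g. `X` locally Noetherian with depth ≥ 2 off `U`),
`f : X₁ ⟶ X` is flat, surjective and quasi-compact and `(X₁, X₁ − f⁻¹ U)` is a pure pair, then so is
`(X, X − U)`.  Full faithfulness comes from the Hartogs property alone (`full_faithful_restrict`), essential
surjectivity from `liftsFEt_of_fpqc`.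
-/

set_option autoImplicit false
set_option linter.style.haveILetI false
set_option linter.unusedSectionVars false

universe u
open AlgebraicGeometry CategoryTheory CategoryTheory.Limits TopologicalSpace Opposite

namespace Groth.Agent.Lib.Helper2.PureDescent

open Groth.Agent.Lib.Helper2 Groth.Agent.Lib.Helper2.HartogsExt Groth.Agent.Lib.Helper2.FEtGlue

/-- The Hartogs property restricts to open subschemes. -/
theorem hartogs_restrict {X : Scheme.{u}} {U : X.Opens} (hH : Hartogs X U) (V : X.Opens) :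
    Hartogs (V : Scheme.{u}) (V.ι ⁻¹ᵁ U) := by
  intro R i _ A _ pA _
  exact hH R (i ≫ V.ι) A pA

/-- Restriction of finite étale covers to (a model of) an open with the Hartogs property is fully faithful. -/
theorem full_faithful_restrict {Y : Scheme.{u}} {UY : Y.Opens} (hH : Hartogs Y UY) {T' : Scheme.{u}}
    (g : T' ⟶ Y) (eU : T' ≅ (UY : Scheme.{u})) (he : eU.hom ≫ UY.ι = g) :
    (FEt.restrict g).Full ∧ (FEt.restrict g).Faithful := by
  have hpb : ∀ Y' : FEt.Cat Y, IsPullback (pullback.fst Y'.hom g) (pullback.snd Y'.hom g ≫ eU.hom)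
      Y'.hom UY.ι := by
    intro Y'
    refine (IsPullback.of_hasPullback Y'.hom g).of_iso (Iso.refl _) (Iso.refl _) eU (Iso.refl _)
      ?_ ?_ ?_ ?_
    · simp
    · simp
    · simp
    · rw [Iso.refl_hom, Category.comp_id, he]
  constructor
  · constructor
    intro Y' Z' m
    have hYet : Etale Y'.hom := Y'.prop.2
    have hZfin : IsFinite Z'.hom := Z'.prop.1
    let ml : pullback Y'.hom g ⟶ pullback Z'.hom g := m.left
    have hmw : ml ≫ pullback.snd Z'.hom g = pullback.snd Y'.hom g := MorphismProperty.Over.w m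
    let k : pullback Y'.hom g ⟶ Z'.left := ml ≫ pullback.fst Z'.hom g
    have hk0 : k ≫ Z'.hom = pullback.fst Y'.hom g ≫ Y'.hom := by
      rw [Category.assoc, pullback.condition, ← Category.assoc, hmw, pullback.condition]
    obtain ⟨h₀, hw, hk⟩ := exists_extension' hH Y'.hom _ _ (hpb Y') Z'.hom Y'.hom k hk0
    refine ⟨MorphismProperty.Over.homMk h₀ hw trivial, ?_⟩
    ext
    simp only [FEt.restrict, MorphismProperty.Over.pullback_map_left,
      MorphismProperty.Over.homMk_hom, Over.homMk_left]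
    apply pullback.hom_ext
    · rw [pullback.lift_fst]
      exact hk
    · rw [pullback.lift_snd]
      exact hmw.symm
  · constructor
    intro Y' Z' m₁ m₂ hm
    have hYet : Etale Y'.hom := Y'.prop.2
    have hZfin : IsFinite Z'.hom := Z'.prop.1
    have h1 : ∀ m : Y' ⟶ Z', ((FEt.restrict g).map m).left ≫ pullback.fst Z'.hom g =
        pullback.fst Y'.hom g ≫ m.left := by
      intro m
      simp only [FEt.restrict, MorphismProperty.Over.pullback_map_left]
      exact pullback.lift_fst _ _ _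
    have h2 : pullback.fst Y'.hom g ≫ m₁.left = pullback.fst Y'.hom g ≫ m₂.left := by
      rw [← h1, ← h1, hm]
    have h3 : m₁.left = m₂.left := by
      apply uniq' hH Y'.hom _ _ (hpb Y') Z'.hom
      · rw [MorphismProperty.Over.w m₁, MorphismProperty.Over.w m₂]
      · exact h2
    ext
    exact h3


/-- `LiftsFEt` only depends on the range of an open immersion. -/
lemma liftsFEt_congr_range {A B Z : Scheme.{u}} (a : A ⟶ Z) (b : B ⟶ Z) [IsOpenImmersion a]
    [IsOpenImmersion b] (e : Set.range a = Set.range b) (h : LiftsFEt b) : LiftsFEt a :=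
  liftsFEt_of_iso a b (IsOpenImmersion.isoOfRangeEq a b e) (Iso.refl _)
    (by rw [Iso.refl_hom, Category.comp_id, IsOpenImmersion.isoOfRangeEq_hom_fac]) h

lemma ι_mem {X : Scheme.{u}} (V : X.Opens) (y : (V : Scheme.{u})) : V.ι y ∈ V := by
  have : V.ι y ∈ Set.range V.ι := ⟨y, rfl⟩
  rwa [Scheme.Opens.range_ι] at this

lemma range_homOfLE {X : Scheme.{u}} {W V : X.Opens} (h : W ≤ V) :
    Set.range (X.homOfLE h) = V.ι ⁻¹' (W : Set X) := by
  ext y
  constructor
  · rintro ⟨x, rfl⟩
    change V.ι (X.homOfLE h x) ∈ W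
    rw [← Scheme.Hom.comp_apply, X.homOfLE_ι]
    exact x.2
  · intro hy
    refine ⟨⟨V.ι y, hy⟩, ?_⟩
    apply V.ι.injective
    rw [← Scheme.Hom.comp_apply, X.homOfLE_ι]
    rfl

/-- **Descent of purity of a pair along an fpqc morphism**, in terms of the Hartogs property. -/
theorem isPurePair_of_fpqc {X X₁ : Scheme.{u}} {U : X.Opens} (hH : Hartogs X U) (f : X₁ ⟶ X)
    [Flat f] [Surjective f] [QuasiCompact f] (h : SGA2.IsPurePair X₁ (f ⁻¹ᵁ U)) :
    SGA2.IsPurePair X U := by
  intro V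
  let UY : (V : Scheme.{u}).Opens := V.ι ⁻¹ᵁ U
  have hHV : Hartogs (V : Scheme.{u}) UY := hartogs_restrict hH V
  have hr0 : Set.range (X.homOfLE (inf_le_left : V ⊓ U ≤ V)) = Set.range UY.ι := by
    rw [range_homOfLE, Scheme.Opens.range_ι]
    ext y
    change V.ι y ∈ V ⊓ U ↔ V.ι y ∈ U
    exact ⟨fun hy => hy.2, fun hy => ⟨ι_mem V y, hy⟩⟩
  let eU := IsOpenImmersion.isoOfRangeEq (X.homOfLE (inf_le_left : V ⊓ U ≤ V)) UY.ι hr0
  have heU : eU.hom ≫ UY.ι = X.homOfLE (inf_le_left : V ⊓ U ≤ V) :=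
    IsOpenImmersion.isoOfRangeEq_hom_fac _ _ _
  obtain ⟨hfull, hfaith⟩ := full_faithful_restrict hHV (X.homOfLE inf_le_left) eU heU
  have hess : (FEt.restrict (X.homOfLE (inf_le_left : V ⊓ U ≤ V))).EssSurj := by
    apply essSurj_of_liftsFEt
    apply liftsFEt_congr_range _ UY.ι hr0
    haveI : Surjective (f ∣_ V) :=
      MorphismProperty.of_isPullback (P := @Surjective) (isPullback_morphismRestrict f V).flip
        inferInstance
    apply liftsFEt_of_fpqc hHV (f ∣_ V)
    have h1 := liftsFEt_of_essSurj _ ((h (f ⁻¹ᵁ V)).essSurj)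
    refine liftsFEt_congr_range _ _ ?_ h1
    rw [range_homOfLE, Scheme.Pullback.range_fst, Scheme.Opens.range_ι]
    ext y
    change V.ι ((f ∣_ V) y) ∈ U ↔ (f ⁻¹ᵁ V).ι y ∈ f ⁻¹ᵁ V ⊓ f ⁻¹ᵁ U
    have hy : V.ι ((f ∣_ V) y) = f ((f ⁻¹ᵁ V).ι y) := by
      rw [← Scheme.Hom.comp_apply, ← Scheme.Hom.comp_apply, morphismRestrict_ι]
    rw [hy]
    exact ⟨fun hy' => ⟨ι_mem (f ⁻¹ᵁ V) y, hy'⟩, fun hy' => hy'.2⟩
  exact { faithful := hfaith, full := hfull, essSurj := hess }

end Groth.Agent.Lib.Helper2.PureDescent
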