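import Groth.Agent.Lib.Helper2.PurityBranchTools
import Groth.Agent.Lib.Helper55.KrullDimIntegral

/-!
# Dimension-theoretic tools for purity of the branch locus (Stacks 0BMB)

Injectivity of finite maps of domains of equal dimension, height preservation under contraction
for integral extensions of integrally closed domains, generization-stability of the unramified
locus, and existence of height-one primes.
-/

set_option autoImplicit false
set_option linter.style.haveILetI false
set_option linter.unusedSectionVars false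
universe u

open TensorProduct IsLocalRing Algebra

namespace Groth.Agent.Lib.Helper2.PurityBranch

/-- A finite algebra which is a domain of the same (finite) dimension as the base domain is faithful. -/
theorem injective_algebraMap_of_ringKrullDim_eq (A B : Type u) [CommRing A] [CommRing B] [IsDomain A]
    [IsDomain B] [Algebra A B] [Algebra.IsIntegral A B] (n : ℕ) (hA : ringKrullDim A = n)
    (hB : ringKrullDim B = n) : Function.Injective (algebraMap A B) := by
  rw [injective_iff_map_eq_zero]
  intro a ha
  by_contra ha0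
  let 𝔨 : Ideal A := RingHom.ker (algebraMap A B)
  let φ : A ⧸ 𝔨 →+* B := RingHom.kerLift (algebraMap A B)
  have hφinj : Function.Injective φ := RingHom.kerLift_injective _
  have hφint : φ.IsIntegral := by
    intro b
    obtain ⟨P, hP, hPb⟩ := Algebra.IsIntegral.isIntegral (R := A) b
    refine ⟨P.map (Ideal.Quotient.mk 𝔨), hP.map _, ?_⟩
    rw [Polynomial.eval₂_map]
    exact hPb
  have h1 := Groth.Agent.Lib.Helper55.ringKrullDim_eq_of_ringHom_isIntegral_of_injective φ hφint hφinj
  have h2 : ringKrullDim (A ⧸ 𝔨) + 1 ≤ ringKrullDim A :=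
    ringKrullDim_succ_le_of_surjective (Ideal.Quotient.mk 𝔨) Ideal.Quotient.mk_surjective
      (mem_nonZeroDivisors_of_ne_zero ha0) (by
        rw [Ideal.Quotient.eq_zero_iff_mem]
        exact ha)
  rw [← h1, hB, hA] at h2
  have : ((n : ℕ∞) : WithBot ℕ∞) + 1 ≤ ((n : ℕ∞) : WithBot ℕ∞) := h2
  have h3 : ((n + 1 : ℕ) : WithBot ℕ∞) ≤ ((n : ℕ) : WithBot ℕ∞) := by exact_mod_cast this
  have h4 : n + 1 ≤ n := by exact_mod_cast h3
  omega

/-- Heights are preserved by contraction along an integral extension of domains with integrally closed base. -/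
theorem height_under_eq_of_isIntegrallyClosed (A B : Type u) [CommRing A] [CommRing B] [IsDomain A]
    [IsIntegrallyClosed A] [IsNoetherianRing A] [IsDomain B] [IsNoetherianRing B] [Algebra A B]
    [Algebra.IsIntegral A B]
    (hinj : Function.Injective (algebraMap A B)) (𝔔 : Ideal B) [𝔔.IsPrime] :
    𝔔.height = (𝔔.under A).height := by
  haveI : FaithfulSMul A B := (faithfulSMul_iff_algebraMap_injective A B).mpr hinj
  apply le_antisymm
  · have hmono : StrictMono (PrimeSpectrum.comap (algebraMap A B)) := by
      intro p q hpq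
      have : p.asIdeal < q.asIdeal := hpq
      exact Ideal.IsIntegral.comap_lt_comap (R := A) this
    have h1 := PrimeSpectrum.height_eq_orderHeight (⟨𝔔, inferInstance⟩ : PrimeSpectrum B)
    have h2 := PrimeSpectrum.height_eq_orderHeight
      (PrimeSpectrum.comap (algebraMap A B) (⟨𝔔, inferInstance⟩ : PrimeSpectrum B))
    have h3 := Order.height_le_height_apply_of_strictMono _ hmono
      (⟨𝔔, inferInstance⟩ : PrimeSpectrum B)
    rw [← h1, ← h2] at h3
    exact h3
  · haveI : 𝔔.LiesOver (𝔔.under A) := ⟨rfl⟩
    rw [Ideal.height_eq_height_add_of_liesOver_of_hasGoingDown (𝔔.under A) 𝔔]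
    exact le_self_add

/-- The unramified locus is stable under generization. -/
theorem isUnramifiedAt_of_le {R S : Type u} [CommRing R] [CommRing S] [Algebra R S]
    [Algebra.EssFiniteType R S] (q₀ q₁ : Ideal S) [q₀.IsPrime] [q₁.IsPrime] (hle : q₀ ≤ q₁)
    (h : Algebra.IsUnramifiedAt R q₁) : Algebra.IsUnramifiedAt R q₀ := by
  have hopen := Algebra.isOpen_unramifiedLocus (R := R) (A := S)
  have hsp : (⟨q₀, inferInstance⟩ : PrimeSpectrum S) ⤳ ⟨q₁, inferInstance⟩ :=
    (PrimeSpectrum.le_iff_specializes _ _).mp hle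
  exact hsp.mem_open hopen h

/-- A Noetherian local domain which is not a field has a prime of height one. -/
theorem exists_height_eq_one (B : Type u) [CommRing B] [IsDomain B] [IsNoetherianRing B] [IsLocalRing B]
    (h : ¬ IsField B) : ∃ 𝔔 : Ideal B, 𝔔.IsPrime ∧ 𝔔.height = 1 := by
  obtain ⟨x, hxm, hx0⟩ : ∃ x ∈ maximalIdeal B, x ≠ 0 := by
    by_contra hcon
    push Not at hcon
    apply h
    rw [IsLocalRing.isField_iff_maximalIdeal_eq, eq_bot_iff]
    intro y hy
    exact (Submodule.mem_bot B).mpr (hcon y hy)
  have hne : Ideal.span {x} ≠ ⊤ := by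
    intro htop
    have : x ∈ maximalIdeal B := hxm
    rw [Ideal.span_singleton_eq_top] at htop
    exact (mem_maximalIdeal x).mp hxm htop
  obtain ⟨𝔔, h𝔔⟩ := Ideal.nonempty_minimalPrimes hne
  have hprime : 𝔔.IsPrime := h𝔔.1.1
  refine ⟨𝔔, hprime, le_antisymm ?_ ?_⟩
  · exact Ideal.height_le_one_of_isPrincipal_of_mem_minimalPrimes (Ideal.span {x}) 𝔔 h𝔔
  · by_contra hlt
    have h0 : 𝔔.height = 0 := by
      have : 𝔔.height < 1 := not_le.mp hlt
      exact Order.lt_one_iff.mp this
    rw [Ideal.height_eq_zero_iff] at h0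
    have hbot : 𝔔 = ⊥ := by
      have h1 : (⊥ : Ideal B) ∈ minimalPrimes B := by
        rw [minimalPrimes_eq_minimals]
        exact ⟨Ideal.isPrime_bot, fun _ _ _ => bot_le⟩
      exact (h0.2 h1.1 bot_le) |> fun hle => le_antisymm hle bot_le
    have : x ∈ 𝔔 := h𝔔.1.2 (Ideal.mem_span_singleton_self x)
    rw [hbot] at this
    exact hx0 ((Submodule.mem_bot B).mp this)

end Groth.Agent.Lib.Helper2.PurityBranch
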