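import Groth.Agent.Lib.Helper2.PurityBranchDim
import Groth.Agent.Lib.Helper29.Purity.Normal
import Groth.Agent.Lib.Helper73.RegularNormal
import Groth.Agent.S0564

/-!
# Purity of the branch locus: the induction on the height (Stacks 0BMB)

`isUnramifiedAt_of_height_one_aux`: a quasi-finite point over a regular local ring, with normal local
ring of the same dimension, which is unramified in codimension one, is unramified.  The proof is by
strong induction on the height, passing to a finite étale-local model and applying Zariski–Nagata
purity for finite normal algebras (helper29).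
-/

set_option autoImplicit false
set_option linter.style.haveILetI false
set_option linter.unusedSectionVars false
universe u

open TensorProduct IsLocalRing Algebra

namespace Groth.Agent.Lib.Helper2.PurityBranch

/-- Unramifiedness at a prime of a localization can be checked at the contracted prime. -/
theorem isUnramifiedAt_of_isLocalization {R C B : Type u} [CommRing R] [CommRing C] [CommRing B]
    [Algebra R C] [Algebra C B] [Algebra R B] [IsScalarTower R C B] (M : Submonoid C)
    [IsLocalization M B] (𝔔 : Ideal B) [𝔔.IsPrime]
    (h : Algebra.IsUnramifiedAt R (𝔔.under C)) : Algebra.IsUnramifiedAt R 𝔔 := by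
  haveI : IsLocalization.AtPrime (Localization.AtPrime 𝔔) (𝔔.under C) :=
    IsLocalization.isLocalization_isLocalization_atPrime_isLocalization M (Localization.AtPrime 𝔔) 𝔔
  let e : Localization.AtPrime (𝔔.under C) ≃ₐ[C] Localization.AtPrime 𝔔 :=
    IsLocalization.algEquiv (𝔔.under C).primeCompl _ _
  exact Algebra.FormallyUnramified.of_equiv (e.restrictScalars R)

/-- The local homomorphism induced by an injective map into a domain is injective. -/
theorem localRingHom_injective_of_isDomain {A B : Type u} [CommRing A] [CommRing B] [IsDomain B]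
    [Algebra A B] (hinj : Function.Injective (algebraMap A B)) (𝔭 : Ideal A) [𝔭.IsPrime]
    (𝔔 : Ideal B) [𝔔.IsPrime] (h : 𝔭 = 𝔔.comap (algebraMap A B)) :
    Function.Injective (Localization.localRingHom 𝔭 𝔔 (algebraMap A B) h) := by
  rw [injective_iff_map_eq_zero]
  intro x hx
  obtain ⟨a, s, rfl⟩ := IsLocalization.exists_mk'_eq 𝔭.primeCompl x
  rw [Localization.localRingHom_mk', IsLocalization.mk'_eq_zero_iff] at hx
  obtain ⟨⟨t, ht⟩, hta⟩ := hx
  have ht0 : t ≠ 0 := by
    rintro rfl
    exact ht 𝔔.zero_mem
  have : algebraMap A B a = 0 := by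
    rcases mul_eq_zero.mp hta with h0 | h0
    · exact absurd h0 ht0
    · exact h0
  have ha : a = 0 := hinj (by rw [this, map_zero])
  rw [ha, IsLocalization.mk'_zero]

/-- Localizations of normal domains at primes are normal domains. -/
theorem isIntegrallyClosed_localization (B : Type u) [CommRing B] [IsDomain B] [IsIntegrallyClosed B]
    (𝔔 : Ideal B) [𝔔.IsPrime] :
    IsDomain (Localization.AtPrime 𝔔) ∧ IsIntegrallyClosed (Localization.AtPrime 𝔔) :=
  ⟨inferInstance, isIntegrallyClosed_of_isLocalization _ 𝔔.primeCompl 𝔔.primeCompl_le_nonZeroDivisors⟩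

section Model

variable {R S R' C : Type u} [CommRing R] [CommRing S] [CommRing R'] [CommRing C] [Algebra R S]
  [Algebra R R'] [Algebra R' C] [Algebra S C] [Algebra R C] [IsScalarTower R R' C]
  [IsScalarTower R S C]
  (q : Ideal S) [q.IsPrime] (P : Ideal R') [P.IsPrime]
  (P'' : Ideal C) [P''.IsPrime] [P''.LiesOver P] [P''.LiesOver q]

/-- Descent of unramifiedness from the finite étale-local model. -/
theorem isUnramifiedAt_of_etale_model [Algebra.Etale R R'] [Algebra.Etale S C]
    (h : letI := Localization.AtPrime.algebraOfLiesOver P P''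
      Algebra.FormallyUnramified (Localization.AtPrime P) (Localization.AtPrime P'')) :
    Algebra.IsUnramifiedAt R q := by
  letI := Localization.AtPrime.algebraOfLiesOver P P''
  letI := Localization.AtPrime.algebraOfLiesOver q P''
  have h1 : Algebra.FormallyUnramified R (Localization.AtPrime P) :=
    Algebra.FormallyUnramified.comp R R' _
  have h2 : Algebra.FormallyUnramified R (Localization.AtPrime P'') :=
    Algebra.FormallyUnramified.comp R (Localization.AtPrime P) _
  obtain ⟨h3, h4⟩ := formallyEtale_faithfullyFlat_localization q P''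
  exact formallyUnramified_of_faithfullyFlat_formallyEtale R (Localization.AtPrime q)
    (Localization.AtPrime P'')

/-- Transfer of unramifiedness in codimension one to the finite étale-local model. -/
theorem isUnramifiedAt_model_of_height_one [IsNoetherianRing S] [Algebra.Etale S C]
    (hunr : ∀ q' : Ideal S, ∀ _ : q'.IsPrime, q' ≤ q → q'.height = 1 → Algebra.IsUnramifiedAt R q')
    (𝔔 : Ideal (Localization.AtPrime P'')) [𝔔.IsPrime] (h𝔔 : 𝔔.height = 1) :
    letI := Localization.AtPrime.algebraOfLiesOver P P''
    Algebra.IsUnramifiedAt (Localization.AtPrime P) 𝔔 := by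
  letI := Localization.AtPrime.algebraOfLiesOver P P''
  have hQ₁ht : (𝔔.under C).height = 1 := by
    rw [IsLocalization.height_under P''.primeCompl]; exact h𝔔
  have hQ₁le : 𝔔.under C ≤ P'' := by
    have := IsLocalization.AtPrime.under_maximalIdeal (Localization.AtPrime P'') P''
    refine le_trans ?_ this.le
    exact Ideal.comap_mono (IsLocalRing.le_maximalIdeal (Ideal.IsPrime.ne_top inferInstance))
  haveI : (𝔔.under C).LiesOver ((𝔔.under C).under S) := ⟨rfl⟩
  have hq₁ht : ((𝔔.under C).under S).height = 1 := by
    rw [← height_eq_of_etale ((𝔔.under C).under S) (𝔔.under C)]; exact hQ₁ht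
  have hq₁le : (𝔔.under C).under S ≤ q := by
    rw [Ideal.LiesOver.over (p := q) (P := P'')]; exact Ideal.comap_mono hQ₁le
  haveI : Algebra.IsUnramifiedAt R ((𝔔.under C).under S) := hunr _ inferInstance hq₁le hq₁ht
  haveI : Algebra.IsUnramifiedAt S (𝔔.under C) := inferInstance
  have h1 : Algebra.IsUnramifiedAt R (𝔔.under C) :=
    Algebra.IsUnramifiedAt.comp ((𝔔.under C).under S) (𝔔.under C)
  have h2 : Algebra.IsUnramifiedAt R' (𝔔.under C) := Algebra.IsUnramifiedAt.of_restrictScalars R _
  have h3 : Algebra.IsUnramifiedAt R' 𝔔 := isUnramifiedAt_of_isLocalization P''.primeCompl 𝔔 h2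
  haveI : IsScalarTower R' (Localization.AtPrime P) (Localization.AtPrime 𝔔) :=
    IsScalarTower.of_algebraMap_eq' (by
      rw [IsScalarTower.algebraMap_eq R' (Localization.AtPrime P'') (Localization.AtPrime 𝔔),
        IsScalarTower.algebraMap_eq (Localization.AtPrime P) (Localization.AtPrime P'')
          (Localization.AtPrime 𝔔), RingHom.comp_assoc,
        ← IsScalarTower.algebraMap_eq R' (Localization.AtPrime P) (Localization.AtPrime P'')])
  exact Algebra.FormallyUnramified.of_restrictScalars R' _ _

end Model


/-- **Purity of the branch locus, unramified form** (strong induction on the height). -/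
theorem isUnramifiedAt_of_height_one_aux : ∀ (n : ℕ) (R S : Type u) [CommRing R] [CommRing S]
    [Algebra R S] [IsNoetherianRing R] [Algebra.FiniteType R S] (p : Ideal R) [p.IsPrime]
    (q : Ideal S) [q.IsPrime] [q.LiesOver p],
    IsDomain (Localization.AtPrime q) → IsIntegrallyClosed (Localization.AtPrime q) →
    IsRegularLocalRing (Localization.AtPrime p) → Algebra.QuasiFiniteAt R q →
    q.height = p.height → q.height = n → 1 ≤ n →
    (∀ q' : Ideal S, ∀ _ : q'.IsPrime, q' ≤ q → q'.height = 1 → Algebra.IsUnramifiedAt R q') →
    Algebra.IsUnramifiedAt R q := by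
  intro n
  induction n using Nat.strong_induction_on with
  | _ n ih =>
  intro R S _ _ _ _ _ p _ q _ _ hdom hic hreg hqf hht hn h1 hunr
  rcases Nat.lt_or_ge n 2 with hlt | hge
  · have : n = 1 := by omega
    subst this
    exact hunr q inferInstance le_rfl (by exact_mod_cast hn)
  obtain ⟨R', C, _, _, _, _, _, _, _, _, _, _, _, P, _, _, P'', _, _, _, hprimes⟩ :=
    exists_finite_etale_model R S p q
  haveI hS : IsNoetherianRing S := Algebra.FiniteType.isNoetherianRing R S
  haveI hR' : IsNoetherianRing R' := Algebra.FiniteType.isNoetherianRing R R'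
  haveI hC : IsNoetherianRing C := Algebra.FiniteType.isNoetherianRing S C
  letI := Localization.AtPrime.algebraOfLiesOver P P''
  haveI hA₁reg : IsRegularLocalRing (Localization.AtPrime P) :=
    (isRegularLocalRing_iff_of_etale p P).mp hreg
  obtain ⟨hB₁dom, hB₁ic⟩ := isIntegrallyClosed_of_etale q P'' ⟨hdom, hic⟩
  haveI hfin : Module.Finite (Localization.AtPrime P) (Localization.AtPrime P'') :=
    Localization.finite_of_primesOver_eq_singleton hprimes
  have hPht : P.height = n := by rw [height_eq_of_etale p P, ← hht, hn]
  have hP''ht : P''.height = n := by rw [height_eq_of_etale q P'', hn]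
  have hdimA : ringKrullDim (Localization.AtPrime P) = n := by
    rw [IsLocalization.AtPrime.ringKrullDim_eq_height P, hPht]; rfl
  have hdimB : ringKrullDim (Localization.AtPrime P'') = n := by
    rw [IsLocalization.AtPrime.ringKrullDim_eq_height P'', hP''ht]; rfl
  obtain ⟨hA₁dom, hA₁ic⟩ :=
    Groth.Agent.Lib.Helper73.RegularNormal.isIntegrallyClosed_of_isRegularLocalRing
      (Localization.AtPrime P)
  have hinj : Function.Injective (algebraMap (Localization.AtPrime P) (Localization.AtPrime P'')) :=
    injective_algebraMap_of_ringKrullDim_eq _ _ n hdimA hdimB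
  have hU1 : ∀ (𝔔 : Ideal (Localization.AtPrime P'')) [𝔔.IsPrime], 𝔔.height = 1 →
      Algebra.IsUnramifiedAt (Localization.AtPrime P) 𝔔 :=
    fun 𝔔 _ h => isUnramifiedAt_model_of_height_one q P P'' hunr 𝔔 h
  have hnotfield : ¬ IsField (Localization.AtPrime P'') := by
    intro hf
    have h0 := ringKrullDim_eq_zero_of_isField hf
    rw [hdimB] at h0
    have : (n : ℕ∞) = 0 := by exact_mod_cast h0
    have : n = 0 := by exact_mod_cast this
    omega
  haveI hfp : Algebra.FinitePresentation (Localization.AtPrime P) (Localization.AtPrime P'') :=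
    Algebra.FinitePresentation.of_finiteType.mp inferInstance
  have hEt : Algebra.Etale (Localization.AtPrime P) (Localization.AtPrime P'') := by
    apply Groth.Agent.Lib.Helper29.Purity.purity_normal _ _ ?_ hinj ?_
    · rw [hdimA]; exact_mod_cast hge
    · intro 𝔔 h𝔔 hne
      haveI := h𝔔
      haveI : 𝔔.LiesOver (𝔔.under (Localization.AtPrime P)) := ⟨rfl⟩
      have hunr𝔔 : Algebra.IsUnramifiedAt (Localization.AtPrime P) 𝔔 := by
        by_cases h0 : 𝔔.height = 0
        · obtain ⟨𝔔₁, h𝔔₁, h𝔔₁ht⟩ := exists_height_eq_one (Localization.AtPrime P'') hnotfield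
          haveI := h𝔔₁
          have hbot : 𝔔 ≤ 𝔔₁ := by
            rw [Ideal.height_eq_zero_iff] at h0
            have hb : (⊥ : Ideal (Localization.AtPrime P'')) ∈ minimalPrimes _ := by
              rw [minimalPrimes_eq_minimals]
              exact ⟨Ideal.isPrime_bot, fun _ _ _ => bot_le⟩
            exact (h0.2 hb.1 bot_le).trans bot_le
          exact isUnramifiedAt_of_le 𝔔 𝔔₁ hbot (hU1 𝔔₁ h𝔔₁ht)
        · have hfinht : 𝔔.height ≠ ⊤ := Ideal.height_ne_top (Ideal.IsPrime.ne_top inferInstance)
          obtain ⟨m, hm⟩ := ENat.ne_top_iff_exists.mp hfinht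
          have hm1 : 1 ≤ m := by
            rcases Nat.eq_zero_or_pos m with rfl | hpos
            · exact absurd (by exact_mod_cast hm.symm) h0
            · exact hpos
          have hmn : m < n := by
            have hlt : 𝔔 < maximalIdeal (Localization.AtPrime P'') := by
              refine lt_of_le_of_ne (IsLocalRing.le_maximalIdeal (Ideal.IsPrime.ne_top inferInstance)) ?_
              intro heq
              apply hne
              rw [heq]
              exact ((IsLocalRing.local_hom_TFAE (algebraMap (Localization.AtPrime P)
                (Localization.AtPrime P''))).out 0 4).mp (by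
                  change IsLocalHom (Localization.localRingHom P P'' (algebraMap R' C) _)
                  infer_instance)
            have h2 := Ideal.height_strict_mono_of_isPrime_of_isPrime hlt
            have h3 : ((maximalIdeal (Localization.AtPrime P'')).height : WithBot ℕ∞) = n := by
              rw [IsLocalRing.maximalIdeal_height_eq_ringKrullDim, hdimB]
            have h4 : (maximalIdeal (Localization.AtPrime P'')).height = (n : ℕ∞) := by
              exact_mod_cast h3
            rw [h4, ← hm] at h2
            exact_mod_cast h2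
          obtain ⟨hd, hi⟩ := isIntegrallyClosed_localization (Localization.AtPrime P'') 𝔔
          have hnoeA : IsNoetherianRing (Localization.AtPrime P) :=
            IsLocalization.isNoetherianRing P.primeCompl _ hR'
          have hft : Algebra.FiniteType (Localization.AtPrime P) (Localization.AtPrime P'') :=
            Module.Finite.finiteType _
          have hqf0 : Algebra.QuasiFinite (Localization.AtPrime P) (Localization.AtPrime P'') :=
            Algebra.QuasiFinite.instOfFinite
          have hqfA : Algebra.QuasiFiniteAt (Localization.AtPrime P) 𝔔 :=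
            Algebra.QuasiFinite.of_isLocalization 𝔔.primeCompl
          have hregloc := Groth.Agent.S0564.result (Localization.AtPrime P)
            (𝔔.under (Localization.AtPrime P))
          have hhteq := height_under_eq_of_isIntegrallyClosed _ _ hinj 𝔔
          exact @ih m hmn (Localization.AtPrime P) (Localization.AtPrime P'') _ _ _ hnoeA hft
            (𝔔.under (Localization.AtPrime P)) _ 𝔔 _ _ hd hi hregloc hqfA hhteq hm.symm hm1
            (fun 𝔔' h𝔔' _ hht' => @hU1 𝔔' h𝔔' hht')
      haveI := hunr𝔔
      obtain ⟨hd, hi⟩ := isIntegrallyClosed_localization (Localization.AtPrime P)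
        (𝔔.under (Localization.AtPrime P))
      exact isEtaleAt_of_isUnramifiedAt_of_normal (𝔔.under (Localization.AtPrime P)) 𝔔
        (localRingHom_injective_of_isDomain hinj _ _ _)
  have hfu : Algebra.FormallyUnramified (Localization.AtPrime P) (Localization.AtPrime P'') :=
    (Algebra.FormallyEtale.iff_formallyUnramified_and_formallySmooth.mp hEt.formallyEtale).1
  exact isUnramifiedAt_of_etale_model q P P'' hfu

end Groth.Agent.Lib.Helper2.PurityBranch
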