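import Groth.Agent.Lib.Helper2.PurityBranchMain

/-!
# Purity of the branch locus, ring form (Stacks 0BMB)

`isEtaleAt_of_height_one`: let `R → S` be of finite type with `R` Noetherian, `q` a prime of `S` over
`p` such that `S_q` is a normal domain, `R_p` is regular of the same dimension `≥ 1`, `S` is
quasi-finite over `R` at `q` and `R → S` is unramified at all height-one primes contained in `q`.
Then `R → S` is étale at `q`.
-/

set_option autoImplicit false
set_option linter.style.haveILetI false
set_option linter.unusedSectionVars false
universe u

open TensorProduct IsLocalRing Algebra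

namespace Groth.Agent.Lib.Helper2.PurityBranch

theorem localRingHom_congr {A B : Type u} [CommRing A] [CommRing B] (I : Ideal A) [I.IsPrime]
    (J : Ideal B) [J.IsPrime] (f g : A →+* B) (hfg : f = g) (hf : I = J.comap f) (hg : I = J.comap g) :
    Localization.localRingHom I J f hf = Localization.localRingHom I J g hg := by
  subst hfg
  rfl

/-- Under the hypotheses of purity of the branch locus, the map of local rings is injective. -/
theorem localRingHom_injective_of_height_eq (R S : Type u) [CommRing R] [CommRing S]
    [Algebra R S] [IsNoetherianRing R] [Algebra.FiniteType R S] (p : Ideal R) [p.IsPrime]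
    (q : Ideal S) [q.IsPrime] [q.LiesOver p]
    (hdom : IsDomain (Localization.AtPrime q)) (hic : IsIntegrallyClosed (Localization.AtPrime q))
    (hreg : IsRegularLocalRing (Localization.AtPrime p)) (hqf : Algebra.QuasiFiniteAt R q)
    (hht : q.height = p.height) :
    Function.Injective (Localization.localRingHom p q (algebraMap R S) (q.over_def p)) := by
  obtain ⟨R', C, _, _, _, _, _, _, _, _, _, _, _, P, _, _, P'', _, _, _, hprimes⟩ :=
    exists_finite_etale_model R S p q
  haveI hS : IsNoetherianRing S := Algebra.FiniteType.isNoetherianRing R S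
  haveI hR' : IsNoetherianRing R' := Algebra.FiniteType.isNoetherianRing R R'
  haveI hC : IsNoetherianRing C := Algebra.FiniteType.isNoetherianRing S C
  have hfinht : q.height ≠ ⊤ := Ideal.height_ne_top (Ideal.IsPrime.ne_top inferInstance)
  obtain ⟨n, hn⟩ := ENat.ne_top_iff_exists.mp hfinht
  letI := Localization.AtPrime.algebraOfLiesOver P P''
  haveI hA₁reg : IsRegularLocalRing (Localization.AtPrime P) :=
    (isRegularLocalRing_iff_of_etale p P).mp hreg
  obtain ⟨hB₁dom, hB₁ic⟩ := isIntegrallyClosed_of_etale q P'' ⟨hdom, hic⟩
  haveI hfin : Module.Finite (Localization.AtPrime P) (Localization.AtPrime P'') :=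
    Localization.finite_of_primesOver_eq_singleton hprimes
  have hPht : P.height = n := by rw [height_eq_of_etale p P, ← hht, hn]
  have hP''ht : P''.height = n := by rw [height_eq_of_etale q P'', hn]
  have hdimA : ringKrullDim (Localization.AtPrime P) = n := by
    rw [IsLocalization.AtPrime.ringKrullDim_eq_height P, hPht]; rfl
  have hdimB : ringKrullDim (Localization.AtPrime P'') = n := by
    rw [IsLocalization.AtPrime.ringKrullDim_eq_height P'', hP''ht]; rfl
  obtain ⟨hA₁dom, hA₁ic⟩ :=
    Groth.Agent.Lib.Helper73.RegularNormal.isIntegrallyClosed_of_isRegularLocalRing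
      (Localization.AtPrime P)
  have hinj : Function.Injective (algebraMap (Localization.AtPrime P) (Localization.AtPrime P'')) :=
    injective_algebraMap_of_ringKrullDim_eq _ _ n hdimA hdimB
  have hinj0 : Function.Injective
      (Localization.localRingHom p P (algebraMap R R') (P.over_def p)) := by
    letI := Localization.AtPrime.algebraOfLiesOver p P
    obtain ⟨-, hff⟩ := formallyEtale_faithfullyFlat_localization p P
    exact FaithfulSMul.algebraMap_injective (Localization.AtPrime p) (Localization.AtPrime P)
  have hcomp : (Localization.localRingHom q P'' (algebraMap S C) (P''.over_def q)).comp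
      (Localization.localRingHom p q (algebraMap R S) (q.over_def p)) =
      (Localization.localRingHom P P'' (algebraMap R' C) (P''.over_def P)).comp
        (Localization.localRingHom p P (algebraMap R R') (P.over_def p)) := by
    rw [← Localization.localRingHom_comp, ← Localization.localRingHom_comp]
    apply localRingHom_congr
    rw [← IsScalarTower.algebraMap_eq, ← IsScalarTower.algebraMap_eq]
  intro a b hab
  apply hinj0
  apply hinj
  have h1 := congrArg (fun φ => φ a) hcomp
  have h2 := congrArg (fun φ => φ b) hcomp
  simp only [RingHom.comp_apply] at h1 h2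
  change Localization.localRingHom P P'' (algebraMap R' C) _ _ =
    Localization.localRingHom P P'' (algebraMap R' C) _ _
  rw [← h1, ← h2, hab]

/-- **Purity of the branch locus** (Stacks 0BMB), ring form: étaleness at the point. -/
theorem isEtaleAt_of_height_one (R S : Type u) [CommRing R] [CommRing S]
    [Algebra R S] [IsNoetherianRing R] [Algebra.FiniteType R S] (p : Ideal R) [p.IsPrime]
    (q : Ideal S) [q.IsPrime] [q.LiesOver p]
    (hdom : IsDomain (Localization.AtPrime q)) (hic : IsIntegrallyClosed (Localization.AtPrime q))
    (hreg : IsRegularLocalRing (Localization.AtPrime p)) (hqf : Algebra.QuasiFiniteAt R q)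
    (hht : q.height = p.height) (h1 : 1 ≤ q.height)
    (hunr : ∀ q' : Ideal S, ∀ _ : q'.IsPrime, q' ≤ q → q'.height = 1 →
      Algebra.IsUnramifiedAt R q') :
    Algebra.IsEtaleAt R q := by
  haveI hS : IsNoetherianRing S := Algebra.FiniteType.isNoetherianRing R S
  have hfinht : q.height ≠ ⊤ := Ideal.height_ne_top (Ideal.IsPrime.ne_top inferInstance)
  obtain ⟨n, hn⟩ := ENat.ne_top_iff_exists.mp hfinht
  have hn1 : 1 ≤ n := by
    rw [← hn] at h1
    exact_mod_cast h1
  haveI : Algebra.IsUnramifiedAt R q :=
    isUnramifiedAt_of_height_one_aux n R S p q hdom hic hreg hqf hht hn.symm hn1 hunr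
  haveI hfp : Algebra.FinitePresentation R S := Algebra.FinitePresentation.of_finiteType.mp inferInstance
  obtain ⟨hd, hi⟩ :=
    Groth.Agent.Lib.Helper73.RegularNormal.isIntegrallyClosed_of_isRegularLocalRing
      (Localization.AtPrime p)
  exact isEtaleAt_of_isUnramifiedAt_of_normal p q
    (localRingHom_injective_of_height_eq R S p q hdom hic hreg hqf hht)

end Groth.Agent.Lib.Helper2.PurityBranch
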