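import Groth.Agent.Lib.Helper2.PurityBranchRing

/-!
# Purity of the branch locus, scheme form (Stacks 0BMB)

Transfer of `isEtaleAt_of_height_one` to morphisms of schemes via affine charts.
-/

set_option autoImplicit false
set_option linter.style.haveILetI false
set_option linter.unusedSectionVars false
universe u

open AlgebraicGeometry CategoryTheory

namespace Groth.Agent.Lib.Helper2.PurityBranch

set_option backward.defeqAttrib.useBackward true in
set_option backward.isDefEq.respectTransparency false in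
/-- If `f.appLE U V` is étale at the prime corresponding to `x`, then `f` is étale near `x`. -/
theorem exists_opens_etale_of_isEtaleAt {X Y : Scheme.{u}} (f : X ⟶ Y) {x : X} (U : Y.Opens)
    (hU : IsAffineOpen U) (V : X.Opens) (hV : IsAffineOpen V) (hVU : V ≤ f ⁻¹ᵁ U) (hxV : x ∈ V)
    (hfp : (f.appLE U V hVU).hom.FinitePresentation)
    (het : letI := (f.appLE U V hVU).hom.toAlgebra
      Algebra.IsEtaleAt Γ(Y, U) (hV.primeIdealOf ⟨x, hxV⟩).asIdeal) :
    ∃ W : X.Opens, x ∈ W ∧ Etale (W.ι ≫ f) := by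
  algebraize [(f.appLE U V hVU).hom]
  let q := (hV.primeIdealOf ⟨x, hxV⟩).asIdeal
  have : Algebra.IsEtaleAt Γ(Y, U) q := het
  obtain ⟨r, hrx, hr⟩ := Algebra.exists_etale_of_isEtaleAt (R := Γ(Y, U)) q
  have hVrU : X.basicOpen r ≤ f ⁻¹ᵁ U := (X.basicOpen_le r).trans hVU
  have hxr : x ∈ X.basicOpen r := by
    rwa [← PrimeSpectrum.mem_basicOpen, IsAffineOpen.primeIdealOf,
      ← hV.fromSpec_preimage_basicOpen, Scheme.Hom.mem_preimage, ← Scheme.Hom.comp_apply,
      IsAffineOpen.isoSpec_hom, IsAffineOpen.toSpecΓ_fromSpec] at hrx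
  have H : (f.appLE U (X.basicOpen r) hVrU).hom.Etale := by
    have := hV.isLocalization_basicOpen r
    rw [← RingHom.etale_algebraMap] at hr
    convert!
      RingHom.Etale.propertyIsLocal.respectsIso.1 _
        (IsLocalization.algEquiv (.powers r) _ Γ(X, X.basicOpen r)).toRingEquiv hr
    ext
    dsimp
    simp only [IsScalarTower.algebraMap_apply Γ(Y, U) Γ(X, V) (Localization _),
      IsLocalization.map_eq]
    simp only [RingHom.algebraMap_toAlgebra, RingHomCompTriple.comp_apply, ← ConcreteCategory.comp_apply,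
      Scheme.Hom.appLE_map]
  refine ⟨X.basicOpen r, hxr, ?_⟩
  have : Etale (f.resLE U (X.basicOpen r) hVrU) := by
    have : IsAffine _ := hU
    have : IsAffine _ := hV.basicOpen r
    rw [HasRingHomProperty.iff_of_isAffine (P := @Etale)]
    exact (RingHom.Etale.propertyIsLocal.respectsIso.arrow_mk_iso_iff
      (arrowResLEAppIso f U (X.basicOpen r) hVrU)).mpr H
  rw [← Scheme.Hom.resLE_comp_ι f hVrU]
  infer_instance


set_option backward.defeqAttrib.useBackward true in
set_option backward.isDefEq.respectTransparency false in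
/-- **Purity of the branch locus** (Stacks 0BMB), scheme form. -/
theorem purity_of_branch_locus {X Y : Scheme.{u}} (f : X ⟶ Y) [LocallyOfFiniteType f]
    [IsLocallyNoetherian X] [IsLocallyNoetherian Y] (x : X)
    (hx : IsDomain (X.presheaf.stalk x) ∧ IsIntegrallyClosed (X.presheaf.stalk x))
    (hy : IsRegularLocalRing (Y.presheaf.stalk (f.base x)))
    (hq : f.QuasiFiniteAt x)
    (hdim : ringKrullDim (X.presheaf.stalk x) = ringKrullDim (Y.presheaf.stalk (f.base x)))
    (hdim1 : (1 : WithBot ℕ∞) ≤ ringKrullDim (X.presheaf.stalk x))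
    (hunr : ∀ x' : X, x' ⤳ x → ringKrullDim (X.presheaf.stalk x') = 1 →
      (f.stalkMap x').hom.FormallyUnramified) :
    ∃ U : X.Opens, x ∈ U ∧ Etale (U.ι ≫ f) := by
  obtain ⟨_, ⟨U, hU, rfl⟩, hxU, -⟩ :=
    Y.isBasis_affineOpens.exists_subset_of_mem_open (Set.mem_univ (f x)) isOpen_univ
  obtain ⟨_, ⟨V, hV, rfl⟩, hxV, hVU⟩ :=
    X.isBasis_affineOpens.exists_subset_of_mem_open hxU (U.2.preimage f.continuous)
  have hft : (f.appLE U V hVU).hom.FiniteType := f.finiteType_appLE hU hV hVU
  haveI hnoe : IsNoetherianRing Γ(Y, U) := IsLocallyNoetherian.component_noetherian ⟨U, hU⟩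
  have hfp : (f.appLE U V hVU).hom.FinitePresentation := f.finitePresentation_appLE hU hV hVU
  refine exists_opens_etale_of_isEtaleAt f U hU V hV hVU hxV hfp ?_
  algebraize [(f.appLE U V hVU).hom]
  let p := (hU.primeIdealOf ⟨f x, hVU hxV⟩).asIdeal
  let q := (hV.primeIdealOf ⟨x, hxV⟩).asIdeal
  have : q.LiesOver p :=
    ⟨congr($(IsAffineOpen.comap_primeIdealOf_appLE U hU V hV hVU hxV).1).symm⟩
  letI := Y.presheaf.algebra_section_stalk ⟨f x, hVU hxV⟩
  haveI := hU.isLocalization_stalk ⟨f x, hVU hxV⟩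
  letI := X.presheaf.algebra_section_stalk ⟨x, hxV⟩
  haveI := hV.isLocalization_stalk ⟨x, hxV⟩
  let eY : Y.presheaf.stalk (f x) ≃ₐ[Γ(Y, U)] Localization.AtPrime p :=
    IsLocalization.algEquiv p.primeCompl _ _
  let eX : X.presheaf.stalk x ≃ₐ[Γ(X, V)] Localization.AtPrime q :=
    IsLocalization.algEquiv q.primeCompl _ _
  have hdomq : IsDomain (Localization.AtPrime q) := by
    haveI := hx.1
    exact eX.symm.toMulEquiv.isDomain _
  have hicq : IsIntegrallyClosed (Localization.AtPrime q) := by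
    haveI := hx.2
    exact IsIntegrallyClosed.of_equiv eX.toRingEquiv
  have hregp : IsRegularLocalRing (Localization.AtPrime p) :=
    IsRegularLocalRing.of_ringEquiv eY.toRingEquiv
  have hqf : Algebra.QuasiFiniteAt Γ(Y, U) q := hq.quasiFiniteAt hV hU hVU hxV
  have hdX : ringKrullDim (X.presheaf.stalk x) = q.height :=
    IsLocalization.AtPrime.ringKrullDim_eq_height q _
  have hdY : ringKrullDim (Y.presheaf.stalk (f x)) = p.height :=
    IsLocalization.AtPrime.ringKrullDim_eq_height p _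
  have hht : q.height = p.height := by
    rw [hdX, hdY] at hdim
    exact_mod_cast hdim
  have h1 : 1 ≤ q.height := by
    rw [hdX] at hdim1
    exact_mod_cast hdim1
  apply isEtaleAt_of_height_one Γ(Y, U) Γ(X, V) p q hdomq hicq hregp hqf hht h1
  intro q' hq' hle hht'
  obtain ⟨x', hx'⟩ : ∃ x' : V, hV.primeIdealOf x' = ⟨q', hq'⟩ :=
    ⟨hV.isoSpec.inv ⟨q', hq'⟩, by simp [IsAffineOpen.primeIdealOf]⟩
  have hq'eq : q' = (hV.primeIdealOf x').asIdeal := by rw [hx']
  clear hx'
  subst hq'eq
  obtain ⟨x', hx'V⟩ := x'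
  have hspec : x' ⤳ x := by
    have h1 : hV.primeIdealOf ⟨x', hx'V⟩ ⤳ hV.primeIdealOf ⟨x, hxV⟩ :=
      (PrimeSpectrum.le_iff_specializes _ _).mp hle
    have h2 := h1.map hV.fromSpec.continuous
    rwa [hV.fromSpec_primeIdealOf, hV.fromSpec_primeIdealOf] at h2
  have hdim' : ringKrullDim (X.presheaf.stalk x') = 1 := by
    letI := X.presheaf.algebra_section_stalk ⟨x', hx'V⟩
    haveI := hV.isLocalization_stalk ⟨x', hx'V⟩
    rw [IsLocalization.AtPrime.ringKrullDim_eq_height (hV.primeIdealOf ⟨x', hx'V⟩).asIdeal, hht']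
    rfl
  have hu := hunr x' hspec hdim'
  let p' := (hU.primeIdealOf ⟨f x', hVU hx'V⟩).asIdeal
  have : (hV.primeIdealOf ⟨x', hx'V⟩).asIdeal.LiesOver p' :=
    ⟨congr($(IsAffineOpen.comap_primeIdealOf_appLE U hU V hV hVU hx'V).1).symm⟩
  letI := Localization.AtPrime.algebraOfLiesOver p' (hV.primeIdealOf ⟨x', hx'V⟩).asIdeal
  have h2 : Algebra.FormallyUnramified (Localization.AtPrime p')
      (Localization.AtPrime (hV.primeIdealOf ⟨x', hx'V⟩).asIdeal) := by
    rw [← RingHom.formallyUnramified_algebraMap]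
    exact (RingHom.FormallyUnramified.respectsIso.arrow_mk_iso_iff
      (IsAffineOpen.arrowStalkMapIso f U hU V hV hVU hx'V)).mp hu
  exact Algebra.FormallyUnramified.comp Γ(Y, U) (Localization.AtPrime p') _

end Groth.Agent.Lib.Helper2.PurityBranch
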