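import Mathlib
import Groth.Prelude.Def_FEt
import Groth.Agent.Lib.Helper2.StalkLimit
import Groth.Agent.Lib.Helper2.LimIsoDescent
import Groth.Agent.Lib.Helper2.GlueTwo
import Groth.Agent.Lib.Helper2.FEtLimit
import Groth.Agent.Lib.Helper2.FEtThickening

/-!
# Purity at the points of the complement gives extension of finite étale covers (helper2)

`X` a Noetherian scheme, `U ⊆ X` open, purity (`FEt.PurityHolds`) for `𝒪_{X,x}` at all `x ∉ U`.
Then `FEt.restrict U.ι` is essentially surjective (`essSurj_restrict_of_purity`, S0250).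

Proof: by ACC on opens take a maximal open `U' ⊇ U` to which a given cover extends; if `U' ≠ X` pick
`x ∉ U'` none of whose proper generizations lies outside `U'` (`exists_minimal_point`), so that the
preimage of `U'` in `Spec 𝒪_{X,x}` is the punctured spectrum (`preimage_fromSpecStalk_eq_punctured`).
`extend_step`: purity extends the cover over `Spec 𝒪_{X,x}`; it descends to an affine neighbourhood
(`FEtLimit.exists_fet_descend` over `StalkLimit`), the identification with the given cover over the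
overlap descends to a smaller neighbourhood (`LimIsoDescent.exists_stage_iso`), and the two covers
are glued (`GlueTwo`).  `paste_X`, `paste_Y`, `paste_a`, `paste_b` are the pullback-pasting lemmas.
-/

set_option autoImplicit false
set_option linter.style.haveILetI false
set_option linter.unusedSectionVars false
universe u

open CategoryTheory CategoryTheory.Limits AlgebraicGeometry
open Groth.Agent.Lib.Helper13.LimDescent
open Groth.Agent.Lib.Helper2

namespace Groth.Agent.Lib.Helper2.PurityExtend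

open FEtGlue StalkLimit LimIsoDescent GlueTwo

section Paste

variable {C : Type*} [Category C]

/-- Pasting lemma for the `X`-side of the comparison. -/
lemma paste_X {VP P₀ Wx Sx Z₁ B₁ U' X Xi : C}
    {a₁ : Wx ⟶ Z₁} {wx : Wx ⟶ Sx} {z₁ : Z₁ ⟶ B₁} {π₁ : Sx ⟶ B₁} (hA : IsPullback a₁ wx z₁ π₁)
    {ax : VP ⟶ Wx} {sV : VP ⟶ P₀} {pι : P₀ ⟶ Sx} (hV : IsPullback ax sV wx pι)
    {ρ : P₀ ⟶ U'} {uι : U' ⟶ X} {σ : Sx ⟶ X} (hρ : IsPullback ρ pι uι σ)
    {j₁ : B₁ ⟶ X} (hσ : σ = π₁ ≫ j₁)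
    {f₁ : Xi ⟶ Z₁} {f₂ : Xi ⟶ U'} (hXi : IsPullback f₁ f₂ (z₁ ≫ j₁) uι) :
    ∃ qX : VP ⟶ Xi, qX ≫ f₁ = ax ≫ a₁ ∧ qX ≫ f₂ = sV ≫ ρ ∧
      IsPullback qX (ax ≫ wx) (f₁ ≫ z₁) π₁ := by
  have hw : (ax ≫ a₁) ≫ z₁ ≫ j₁ = (sV ≫ ρ) ≫ uι := by
    rw [Category.assoc, hA.w_assoc, ← hσ, Category.assoc, hρ.w, hV.w_assoc]
  let qX : VP ⟶ Xi := hXi.lift (ax ≫ a₁) (sV ≫ ρ) hw
  have h1 : qX ≫ f₁ = ax ≫ a₁ := hXi.lift_fst _ _ _
  have h2 : qX ≫ f₂ = sV ≫ ρ := hXi.lift_snd _ _ _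
  refine ⟨qX, h1, h2, ?_⟩
  -- big rectangle VP, P₀, U' / Wx, Sx, X
  have hbig : IsPullback (sV ≫ ρ) ax uι (wx ≫ σ) := hV.flip.paste_horiz hρ
  have hbig' : IsPullback (qX ≫ f₂) ax uι (a₁ ≫ z₁ ≫ j₁) := by
    rw [h2, hA.w_assoc, ← hσ]; exact hbig
  -- left square
  have hB : IsPullback qX ax f₁ a₁ := IsPullback.of_right hbig' h1 hXi.flip
  exact hB.paste_vert hA

/-- Pasting lemma for the `Y`-side of the comparison. -/
lemma paste_Y {VP P₀ Sx B₁ U' X T' Yi : C}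
    {fV : VP ⟶ T'} {sV : VP ⟶ P₀} {t' : T' ⟶ U'} {ρ : P₀ ⟶ U'} (hVP : IsPullback fV sV t' ρ)
    {pι : P₀ ⟶ Sx} {uι : U' ⟶ X} {σ : Sx ⟶ X} (hρ : IsPullback ρ pι uι σ)
    {π₁ : Sx ⟶ B₁} {j₁ : B₁ ⟶ X} (hσ : σ = π₁ ≫ j₁)
    {g₁ : Yi ⟶ T'} {yi : Yi ⟶ B₁} (hYi : IsPullback g₁ yi (t' ≫ uι) j₁) :
    ∃ qY : VP ⟶ Yi, qY ≫ g₁ = fV ∧ IsPullback qY (sV ≫ pι) yi π₁ := by
  have hbig : IsPullback fV (sV ≫ pι) (t' ≫ uι) σ := hVP.paste_vert hρ
  have hw : fV ≫ t' ≫ uι = ((sV ≫ pι) ≫ π₁) ≫ j₁ := by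
    rw [Category.assoc, ← hσ]; exact hbig.w
  let qY : VP ⟶ Yi := hYi.lift fV ((sV ≫ pι) ≫ π₁) hw
  have h1 : qY ≫ g₁ = fV := hYi.lift_fst _ _ _
  have h2 : qY ≫ yi = (sV ≫ pι) ≫ π₁ := hYi.lift_snd _ _ _
  refine ⟨qY, h1, ?_⟩
  have hbig' : IsPullback (qY ≫ g₁) (sV ≫ pι) (t' ≫ uι) (π₁ ≫ j₁) := by
    rw [h1, ← hσ]; exact hbig
  exact IsPullback.of_right hbig' h2 hYi

/-- The overlap maps into the restriction of the descended cover. -/
lemma paste_a {Z B₂ B₁ Xi Z₁ A U' X : C}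
    {pfZ : Z ⟶ B₂} {psZ : Z ⟶ Xi} {dφ : B₂ ⟶ B₁} {f₁ : Xi ⟶ Z₁} {z₁ : Z₁ ⟶ B₁}
    (hZ : IsPullback pfZ psZ dφ (f₁ ≫ z₁))
    {α₀ : A ⟶ B₂} {sA : A ⟶ Z₁} (hA2 : IsPullback α₀ sA dφ z₁)
    {f₂ : Xi ⟶ U'} {j₁ : B₁ ⟶ X} {uι : U' ⟶ X} (hXi : IsPullback f₁ f₂ (z₁ ≫ j₁) uι) :
    ∃ a : Z ⟶ A, a ≫ α₀ = pfZ ∧ IsPullback a psZ sA f₁ ∧
      IsPullback a (psZ ≫ f₂) (α₀ ≫ dφ ≫ j₁) uι := by
  have hw : pfZ ≫ dφ = (psZ ≫ f₁) ≫ z₁ := by rw [Category.assoc]; exact hZ.w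
  let a : Z ⟶ A := hA2.lift pfZ (psZ ≫ f₁) hw
  have h1 : a ≫ α₀ = pfZ := hA2.lift_fst _ _ _
  have h2 : a ≫ sA = psZ ≫ f₁ := hA2.lift_snd _ _ _
  have hbig : IsPullback (a ≫ α₀) psZ dφ (f₁ ≫ z₁) := by rw [h1]; exact hZ
  have hleft : IsPullback a psZ sA f₁ := IsPullback.of_right hbig h2 hA2
  refine ⟨a, h1, hleft, ?_⟩
  have := hleft.paste_vert hXi
  rwa [← hA2.w_assoc] at this

/-- The overlap on the `T'`-side is the restriction of `T'` to the smaller neighbourhood. -/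
lemma paste_b {Ym B₂ B₁ Yi T' X : C}
    {pfY : Ym ⟶ B₂} {psY : Ym ⟶ Yi} {dφ : B₂ ⟶ B₁} {yi : Yi ⟶ B₁}
    (hYm : IsPullback pfY psY dφ yi)
    {g₁ : Yi ⟶ T'} {tu : T' ⟶ X} {j₁ : B₁ ⟶ X} (hYi : IsPullback g₁ yi tu j₁) :
    IsPullback (psY ≫ g₁) pfY tu (dφ ≫ j₁) :=
  hYm.flip.paste_horiz hYi

end Paste

/-- A nonempty closed subset of a quasi-sober T0 space has a point none of whose proper
generizations lies in the subset. -/
lemma exists_minimal_point {T : Type*} [TopologicalSpace T] [QuasiSober T] [T0Space T]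
    (Z : Set T) (hZ : IsClosed Z) (hne : Z.Nonempty) :
    ∃ x ∈ Z, ∀ y, y ⤳ x → y ∈ Z → y = x := by
  obtain ⟨z₀, hz₀⟩ := hne
  haveI : QuasiSober Z := hZ.isClosedEmbedding_subtypeVal.quasiSober
  let C : Set Z := irreducibleComponent ⟨z₀, hz₀⟩
  have hCirr : IsIrreducible C := isIrreducible_irreducibleComponent
  have hCcl : IsClosed C := isClosed_irreducibleComponent
  obtain ⟨x', hx'⟩ := QuasiSober.sober hCirr hCcl
  refine ⟨x'.1, x'.2, fun y hy hyZ => ?_⟩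
  have hspec : (⟨y, hyZ⟩ : Z) ⤳ x' := by
    exact Topology.IsInducing.subtypeVal.specializes_iff.mp hy
  have hsub : C ⊆ closure {(⟨y, hyZ⟩ : Z)} := by
    rw [← hx'.def]
    exact closure_minimal (Set.singleton_subset_iff.mpr hspec.mem_closure) isClosed_closure
  have hirr : IsPreirreducible (closure {(⟨y, hyZ⟩ : Z)}) :=
    (isIrreducible_singleton.closure).isPreirreducible
  have heq : closure {(⟨y, hyZ⟩ : Z)} = C := eq_irreducibleComponent hirr hsub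
  have hgen : IsGenericPoint (⟨y, hyZ⟩ : Z) C := heq
  have := hgen.eq hx'
  exact congrArg Subtype.val this

/-- If all proper generizations of `x ∉ U'` lie in `U'`, the preimage of `U'` in `Spec 𝒪_{X,x}` is the
punctured spectrum. -/
lemma preimage_fromSpecStalk_eq_punctured {X : Scheme.{u}} (x : X) (U' : X.Opens) (hx : x ∉ U')
    (hgen : ∀ y, y ⤳ x → y ∉ U' → y = x) :
    (X.fromSpecStalk x) ⁻¹ᵁ U' = FEt.puncturedSpec (X.presheaf.stalk x) := by
  ext p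
  have hiff : p ∈ FEt.puncturedSpec (X.presheaf.stalk x) ↔
      p ≠ IsLocalRing.closedPoint (X.presheaf.stalk x) := Iff.rfl
  refine Iff.trans ?_ hiff.symm
  change X.fromSpecStalk x p ∈ U' ↔ _
  constructor
  · intro h hp
    rw [hp, Scheme.fromSpecStalk_closedPoint] at h
    exact hx h
  · intro hp
    by_contra h
    have hspec : X.fromSpecStalk x p ⤳ x := by
      have : X.fromSpecStalk x p ∈ Set.range (X.fromSpecStalk x) := ⟨p, rfl⟩
      rw [Scheme.range_fromSpecStalk] at this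
      exact this
    have := (hgen _ hspec h).trans (Scheme.fromSpecStalk_closedPoint (x := x)).symm
    exact hp ((X.fromSpecStalk x).isEmbedding.injective this)

/-- **One step of the extension.**  If the open `U'` contains all proper generizations of `x`
(expressed by `hP`) and purity holds at `x`, every finite étale cover of `U'` extends over an open
`U'' ⊇ U'` containing `x`. -/
theorem extend_step {X : Scheme.{u}} [IsNoetherian X] (x : X) (U' : X.Opens)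
    (hpur : LiftsFEt (FEt.puncturedSpec (X.presheaf.stalk x)).ι)
    {T' : Scheme.{u}} (t' : T' ⟶ (U' : Scheme.{u})) [IsFinite t'] [Etale t']
    (hP : (X.fromSpecStalk x) ⁻¹ᵁ U' = FEt.puncturedSpec (X.presheaf.stalk x)) :
    ∃ (U'' : X.Opens) (hle : U' ≤ U'') (_ : x ∈ U'') (T'' : Scheme.{u})
      (t'' : T'' ⟶ (U'' : Scheme.{u})) (a' : T' ⟶ T''),
      IsFinite t'' ∧ Etale t'' ∧ IsPullback a' t' t'' (X.homOfLE hle) := by
  let A := X.presheaf.stalk x
  let Sx : Scheme.{u} := Spec (CommRingCat.of A)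
  let σ : Sx ⟶ X := X.fromSpecStalk x
  let P₀ : Sx.Opens := FEt.puncturedSpec A
  have hrange : Set.range (P₀.ι ≫ σ) ⊆ Set.range U'.ι := by
    rintro _ ⟨p, rfl⟩
    rw [Scheme.Opens.range_ι]
    have : p.1 ∈ (X.fromSpecStalk x) ⁻¹ᵁ U' := by rw [hP]; exact p.2
    exact this
  let ρ : (P₀ : Scheme.{u}) ⟶ (U' : Scheme.{u}) := IsOpenImmersion.lift U'.ι (P₀.ι ≫ σ) hrange
  have hρ : ρ ≫ U'.ι = P₀.ι ≫ σ := IsOpenImmersion.lift_fac _ _ _
  have hρpb : IsPullback ρ P₀.ι U'.ι σ := by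
    refine IsOpenImmersion.isPullback _ _ _ _ hρ.symm ?_
    rw [Scheme.Opens.opensRange_ι, Scheme.Opens.opensRange_ι]
    exact hP
  -- purity
  obtain ⟨Wx, wx, ax, hwxfin, hwxet, hV⟩ := hpur (pullback t' ρ) (pullback.snd t' ρ)
    inferInstance inferInstance
  -- descend to a neighbourhood
  let wx' : Wx ⟶ (StalkLimit.cone X x).pt := wx
  have hwx'fin : IsFinite wx' := hwxfin
  have hwx'et : Etale wx' := hwxet
  obtain ⟨N₁, Z₁, z₁, a₁, hz₁fin, hz₁et, hA⟩ :=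
    FEtLimit.exists_fet_descend (StalkLimit.D X x) (StalkLimit.cone X x) (StalkLimit.isLimitCone X x)
      wx'
  let B₁ : Scheme.{u} := (StalkLimit.D X x).obj N₁
  let j₁ : B₁ ⟶ X := toX X x N₁
  let π₁ : Sx ⟶ B₁ := (StalkLimit.cone X x).π.app N₁
  have hσ : σ = π₁ ≫ j₁ := (cone_π_toX X x N₁).symm
  have hA' : IsPullback a₁ wx z₁ π₁ := hA
  -- the two restricted covers over the stage `N₁`
  let Xi : Scheme.{u} := pullback (z₁ ≫ j₁) U'.ι
  let f₁ : Xi ⟶ Z₁ := pullback.fst (z₁ ≫ j₁) U'.ι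
  let f₂ : Xi ⟶ (U' : Scheme.{u}) := pullback.snd (z₁ ≫ j₁) U'.ι
  have hXi : IsPullback f₁ f₂ (z₁ ≫ j₁) U'.ι := IsPullback.of_hasPullback _ _
  let xi : Xi ⟶ B₁ := f₁ ≫ z₁
  let Yi : Scheme.{u} := pullback (t' ≫ U'.ι) j₁
  let g₁ : Yi ⟶ T' := pullback.fst (t' ≫ U'.ι) j₁
  let yi : Yi ⟶ B₁ := pullback.snd (t' ≫ U'.ι) j₁
  have hYi : IsPullback g₁ yi (t' ≫ U'.ι) j₁ := IsPullback.of_hasPullback _ _
  obtain ⟨qX, hqX1, hqX2, hX⟩ := paste_X hA' hV hρpb hσ hXi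
  obtain ⟨qY, hqY1, hY⟩ := paste_Y (IsPullback.of_hasPullback t' ρ) hρpb hσ hYi
  let isoX : pullback t' ρ ≅ (sysCone (StalkLimit.D X x) (StalkLimit.cone X x) N₁ xi).pt :=
    hX.flip.isoPullback
  let isoY : pullback t' ρ ≅ (sysCone (StalkLimit.D X x) (StalkLimit.cone X x) N₁ yi).pt :=
    hY.flip.isoPullback
  have hisoX : isoX.hom ≫ cpf (StalkLimit.D X x) (StalkLimit.cone X x) xi = ax ≫ wx :=
    hX.flip.isoPullback_hom_fst
  have hisoY : isoY.hom ≫ cpf (StalkLimit.D X x) (StalkLimit.cone X x) yi =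
      pullback.snd t' ρ ≫ P₀.ι := hY.flip.isoPullback_hom_fst
  have he : (isoX.symm ≪≫ isoY).hom ≫ cpf (StalkLimit.D X x) (StalkLimit.cone X x) yi =
      cpf (StalkLimit.D X x) (StalkLimit.cone X x) xi := by
    rw [Iso.trans_hom, Iso.symm_hom, Category.assoc, hisoY, Iso.inv_comp_eq, hisoX, hV.w]
  -- instances
  haveI : IsFinite z₁ := hz₁fin
  haveI : Etale z₁ := hz₁et
  haveI : IsAffine B₁ := inferInstanceAs (IsAffine ((StalkLimit.D X x).obj N₁))
  haveI : IsAffine Z₁ := isAffine_of_isAffineHom z₁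
  haveI : QuasiCompact f₁ := MorphismProperty.pullback_fst _ _ inferInstance
  haveI : CompactSpace Xi := QuasiCompact.compactSpace_of_compactSpace f₁
  haveI : QuasiSeparatedSpace Xi := quasiSeparatedSpace_of_quasiSeparated f₁
  haveI : LocallyOfFinitePresentation xi := inferInstanceAs (LocallyOfFinitePresentation (f₁ ≫ z₁))
  haveI : QuasiCompact yi := MorphismProperty.pullback_snd _ _ inferInstance
  haveI : QuasiSeparated yi := MorphismProperty.pullback_snd _ _ inferInstance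
  haveI : LocallyOfFinitePresentation yi := MorphismProperty.pullback_snd _ _ inferInstance
  haveI : CompactSpace Yi := QuasiCompact.compactSpace_of_compactSpace yi
  haveI : QuasiSeparatedSpace Yi := quasiSeparatedSpace_of_quasiSeparated yi
  obtain ⟨m, em, hem⟩ := exists_stage_iso (StalkLimit.D X x) (StalkLimit.cone X x)
    (StalkLimit.isLimitCone X x) xi yi (isoX.symm ≪≫ isoY) he
  -- the smaller neighbourhood
  let N₂ : AffNhd X x := m.left
  let B₂ : Scheme.{u} := (StalkLimit.D X x).obj N₂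
  let dφ : B₂ ⟶ B₁ := (StalkLimit.D X x).map m.hom
  let j₂ : B₂ ⟶ X := toX X x N₂
  have hj : dφ ≫ j₁ = j₂ := D_map_toX X x m.hom
  let A : Scheme.{u} := pullback dφ z₁
  let α₀ : A ⟶ B₂ := pullback.fst dφ z₁
  let sA : A ⟶ Z₁ := pullback.snd dφ z₁
  have hA2 : IsPullback α₀ sA dφ z₁ := IsPullback.of_hasPullback _ _
  let Z : Scheme.{u} := (sys (StalkLimit.D X x) N₁ xi).obj m
  let pfZ : Z ⟶ B₂ := pf (StalkLimit.D X x) xi m
  let psZ : Z ⟶ Xi := ps (StalkLimit.D X x) xi m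
  have hZ : IsPullback pfZ psZ dφ (f₁ ≫ z₁) := IsPullback.of_hasPullback dφ xi
  obtain ⟨a, ha1, ha2, ha3⟩ := paste_a hZ hA2 hXi
  have hYm : IsPullback (pf (StalkLimit.D X x) yi m) (ps (StalkLimit.D X x) yi m) dφ yi :=
    IsPullback.of_hasPullback dφ yi
  have hb₀ := paste_b hYm hYi
  let b : Z ⟶ T' := em.hom ≫ ps (StalkLimit.D X x) yi m ≫ g₁
  have hb : IsPullback b pfZ (t' ≫ U'.ι) j₂ := by
    rw [← hj]
    refine IsPullback.of_iso hb₀ em.symm (Iso.refl _) (Iso.refl _) (Iso.refl _) ?_ ?_ ?_ ?_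
    · rw [Iso.refl_hom, Category.comp_id, Iso.symm_hom, Iso.inv_hom_id_assoc]
    · rw [Iso.refl_hom, Category.comp_id, Iso.symm_hom, Iso.eq_inv_comp]; exact hem
    · simp
    · simp
  haveI : IsOpenImmersion a := MorphismProperty.of_isPullback ha2.flip
    (inferInstanceAs (IsOpenImmersion f₁))
  haveI : IsOpenImmersion b := MorphismProperty.of_isPullback hb.flip
    (inferInstanceAs (IsOpenImmersion j₂))
  -- the base
  let U'' : X.Opens := U' ⊔ N₂.1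
  have hle : U' ≤ U'' := le_sup_left
  have hj₂range : Set.range j₂ ⊆ Set.range U''.ι := by
    rw [range_toX, Scheme.Opens.range_ι]
    exact (le_sup_right : N₂.1 ≤ U'')
  let iV₁ : B₂ ⟶ (U'' : Scheme.{u}) := IsOpenImmersion.lift U''.ι j₂ hj₂range
  have hiV₁ : iV₁ ≫ U''.ι = j₂ := IsOpenImmersion.lift_fac _ _ _
  haveI : IsOpenImmersion (iV₁ ≫ U''.ι) := by rw [hiV₁]; infer_instance
  haveI : IsOpenImmersion iV₁ := IsOpenImmersion.of_comp iV₁ U''.ι
  let iV₂ : (U' : Scheme.{u}) ⟶ (U'' : Scheme.{u}) := X.homOfLE hle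
  have hiV₂ : iV₂ ≫ U''.ι = U'.ι := X.homOfLE_ι hle
  let α : A ⟶ (U'' : Scheme.{u}) := α₀ ≫ iV₁
  let β : T' ⟶ (U'' : Scheme.{u}) := t' ≫ iV₂
  have hαβ : a ≫ α = b ≫ β := by
    rw [← cancel_mono U''.ι]
    simp only [α, β, Category.assoc, hiV₁, hiV₂]
    rw [reassoc_of% ha1]
    exact hb.w.symm
  have hα : ∀ p : A, α p ∈ Set.range iV₂ → p ∈ Set.range a := by
    rintro p ⟨v, hv⟩
    have h1 : (α₀ ≫ dφ ≫ j₁) p = U'.ι v := by
      have h2 := congrArg U''.ι hv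
      rw [← Scheme.Hom.comp_apply, ← Scheme.Hom.comp_apply, hiV₂] at h2
      have hα' : α ≫ U''.ι = α₀ ≫ dφ ≫ j₁ := by simp only [α, Category.assoc, hiV₁, hj]
      rw [hα'] at h2
      exact h2.symm
    obtain ⟨z, hz, -⟩ := Scheme.exists_preimage_of_isPullback ha3 p v h1
    exact ⟨z, hz⟩
  have hβ : ∀ y : T', β y ∈ Set.range iV₁ → y ∈ Set.range b := by
    rintro y ⟨q, hq⟩
    have h1 : (t' ≫ U'.ι) y = j₂ q := by
      have h2 := congrArg U''.ι hq
      rw [← Scheme.Hom.comp_apply, ← Scheme.Hom.comp_apply, hiV₁] at h2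
      have hβ' : β ≫ U''.ι = t' ≫ U'.ι := by simp only [β, Category.assoc, hiV₂]
      rw [hβ'] at h2
      exact h2.symm
    obtain ⟨z, hz, -⟩ := Scheme.exists_preimage_of_isPullback hb y q h1
    exact ⟨z, hz⟩
  have hinr := isPullback_inr a b α β hαβ iV₂ t' rfl hα
  have hinl := isPullback_inl a b α β hαβ iV₁ α₀ rfl hβ
  have hcov : ∀ s : (U'' : Scheme.{u}), s ∈ Set.range iV₁ ∨ s ∈ Set.range iV₂ := by
    intro s
    rcases (TopologicalSpace.Opens.mem_sup.mp s.2 : s.1 ∈ U' ∨ s.1 ∈ N₂.1) with h | h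
    · right
      refine ⟨⟨s.1, h⟩, ?_⟩
      apply U''.ι.isOpenEmbedding.injective
      rw [← Scheme.Hom.comp_apply, hiV₂]
      rfl
    · left
      have h' : s.1 ∈ Set.range j₂ := by rw [range_toX]; exact h
      obtain ⟨q, hq⟩ := h'
      refine ⟨q, ?_⟩
      apply U''.ι.isOpenEmbedding.injective
      rw [← Scheme.Hom.comp_apply, hiV₁]
      exact hq
  have hα₀fin : IsFinite α₀ := MorphismProperty.pullback_fst _ _ hz₁fin
  have hα₀et : Etale α₀ := MorphismProperty.pullback_fst _ _ hz₁et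
  have hfin : IsFinite (glueHom a b α β hαβ) :=
    prop_of_two_opens @IsFinite _ iV₁ iV₂ hcov α₀ _ hinl hα₀fin t' _ hinr inferInstance
  have het : Etale (glueHom a b α β hαβ) :=
    prop_of_two_opens @Etale _ iV₁ iV₂ hcov α₀ _ hinl hα₀et t' _ hinr inferInstance
  exact ⟨U'', hle, (le_sup_right : N₂.1 ≤ U'') N₂.2.2, pushout a b, glueHom a b α β hαβ,
    pushout.inr a b, hfin, het, hinr.flip⟩


/-- **Purity at the points of the complement gives extension of finite étale covers**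
(concrete form). -/
theorem liftsFEt_of_purity {X : Scheme.{u}} [IsNoetherian X] (U : X.Opens)
    (h : ∀ x : X, x ∉ U → LiftsFEt (FEt.puncturedSpec (X.presheaf.stalk x)).ι) :
    LiftsFEt U.ι := by
  intro Z' z' hfin het
  let 𝒮 : Set X.Opens := {U' | ∃ (hU : U ≤ U') (T : Scheme.{u}) (t : T ⟶ (U' : Scheme.{u}))
      (a : Z' ⟶ T), IsFinite t ∧ Etale t ∧ IsPullback a z' t (X.homOfLE hU)}
  have hne : 𝒮.Nonempty := by
    refine ⟨U, le_rfl, Z', z', 𝟙 _, hfin, het, ?_⟩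
    rw [X.homOfLE_rfl]
    exact IsPullback.of_horiz_isIso ⟨by simp⟩
  obtain ⟨U', hU'mem, hmax⟩ := (wellFounded_gt (α := X.Opens)).has_min 𝒮 hne
  obtain ⟨hU, T, t, a, htfin, htet, hpb⟩ := hU'mem
  by_cases htop : U' = ⊤
  · subst htop
    haveI : IsIso (⊤ : X.Opens).ι := inferInstanceAs (IsIso X.topIso.hom)
    refine ⟨T, t ≫ (⊤ : X.Opens).ι, a, inferInstance, inferInstance, ?_⟩
    have hbot : IsPullback (X.homOfLE hU) (𝟙 _) (⊤ : X.Opens).ι U.ι :=
      IsPullback.of_vert_isIso ⟨by simp⟩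
    have := hpb.paste_vert hbot
    rwa [Category.comp_id] at this
  · exfalso
    have hZne : ((U' : Set X)ᶜ).Nonempty := by
      rw [Set.nonempty_compl]
      intro hh
      exact htop (TopologicalSpace.Opens.ext hh)
    obtain ⟨x, hxZ, hxmin⟩ := exists_minimal_point ((U' : Set X)ᶜ) U'.isOpen.isClosed_compl hZne
    have hP := preimage_fromSpecStalk_eq_punctured x U' hxZ (fun y hy hyU => hxmin y hy hyU)
    have hxU : x ∉ U := fun hx => hxZ (hU hx)
    obtain ⟨U'', hle, hxU'', T'', t'', a', hfin'', het'', hpb''⟩ :=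
      extend_step x U' (h x hxU) t hP
    refine hmax U'' ⟨hU.trans hle, T'', t'', a ≫ a', hfin'', het'', ?_⟩ ?_
    · have := hpb.paste_horiz hpb''
      rwa [X.homOfLE_homOfLE] at this
    · exact lt_of_le_of_ne hle (fun heq => hxZ (heq ▸ hxU''))

/-- **S0250 in functor form.** -/
theorem essSurj_restrict_of_purity {X : Scheme.{u}} [IsNoetherian X] (U : X.Opens)
    (h : ∀ x : X, x ∉ U → FEt.PurityHolds (X.presheaf.stalk x)) : (FEt.restrict U.ι).EssSurj :=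
  essSurj_of_liftsFEt _ (liftsFEt_of_purity U fun x hx => liftsFEt_of_essSurj _ (h x hx))

end Groth.Agent.Lib.Helper2.PurityExtend
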