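import Groth.Agent.Lib.Helper2.PurityBranchRing
import Groth.Agent.Lib.Helper2.DiscrEtale
import Groth.Agent.S0249

/-!
# Purity of the branch locus for flat maps, ring form

* `exists_finite_flat_etale_model`: the finite étale-local model of a quasi-finite point, keeping track
  of flatness.
* `height_under_eq_of_flat`: heights are preserved under contraction along flat integral extensions.
* `etale_of_finite_flat_of_isUnramifiedAt_height_one`: a finite flat algebra over a Noetherian local
  ring of dimension `≥ 1`, unramified in codimension one, is étale (discriminant + Krull).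
* `isEtaleAt_of_flat_of_height_one`: the quasi-finite flat version.
-/

set_option autoImplicit false
set_option linter.style.haveILetI false
set_option linter.unusedSectionVars false
universe u

open TensorProduct IsLocalRing Algebra

namespace Groth.Agent.Lib.Helper2.PurityBranch

/-- **Finite étale-local model** of a quasi-finite point, keeping track of flatness. -/
theorem exists_finite_flat_etale_model (R S : Type u) [CommRing R] [CommRing S] [Algebra R S]
    [Algebra.FiniteType R S] (p : Ideal R) [p.IsPrime] (q : Ideal S) [q.IsPrime] [q.LiesOver p]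
    [Algebra.QuasiFiniteAt R q] :
    ∃ (R' C : Type u) (_ : CommRing R') (_ : CommRing C) (_ : Algebra R R') (_ : Algebra R' C)
      (_ : Algebra S C) (_ : Algebra R C) (_ : IsScalarTower R R' C) (_ : IsScalarTower R S C)
      (_ : Algebra.Etale R R') (_ : Algebra.Etale S C) (_ : Module.Finite R' C)
      (P : Ideal R') (_ : P.IsPrime) (_ : P.LiesOver p) (P'' : Ideal C) (_ : P''.IsPrime)
      (_ : P''.LiesOver P) (_ : P''.LiesOver q), P.primesOver C = {P''} ∧
        (Module.Flat R S → Module.Flat R' C) := by
  obtain ⟨R', _, _, _, P, _, _, e, he, P', _, _, hP'q, heP', -, hfin, huniq⟩ :=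
    Algebra.exists_etale_isIdempotentElem_forall_liesOver_eq p q
  let T := R' ⊗[R] S
  letI : Algebra S T := Algebra.TensorProduct.rightAlgebra
  let C := Localization.Away e
  -- `T` is étale over `S`
  let eT : S ⊗[R] R' ≃ₐ[S] T := { __ := Algebra.TensorProduct.comm R S R', commutes' _ := rfl }
  haveI : Algebra.Etale S T := Algebra.Etale.of_equiv eT
  haveI : Algebra.Etale T C := Algebra.Etale.of_isLocalizationAway e
  haveI : Algebra.Etale S C := Algebra.Etale.comp S T C
  have hdisj : Disjoint (Submonoid.powers e : Set T) (P' : Set T) := by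
    rw [Ideal.disjoint_powers_iff_notMem_of_isPrime]
    exact heP'
  let P'' : Ideal C := P'.map (algebraMap T C)
  have hP''prime : P''.IsPrime :=
    IsLocalization.isPrime_of_isPrime_disjoint (Submonoid.powers e) C P' inferInstance hdisj
  have hcomap : P''.comap (algebraMap T C) = P' :=
    IsLocalization.comap_map_of_isPrime_disjoint (Submonoid.powers e) C inferInstance hdisj
  have hP''T : P''.LiesOver P' := ⟨hcomap.symm⟩
  have hP''P : P''.LiesOver P := Ideal.LiesOver.trans P'' P' P
  have hP'q' : P'.LiesOver q := ⟨hP'q.symm⟩
  have hP''q : P''.LiesOver q := Ideal.LiesOver.trans P'' P' q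
  refine ⟨R', C, inferInstance, inferInstance, inferInstance, inferInstance, inferInstance,
    inferInstance, inferInstance, inferInstance, inferInstance, inferInstance, hfin, P, inferInstance,
    inferInstance, P'', hP''prime, hP''P, hP''q, ?_, ?_⟩
  swap
  · intro hflat
    haveI : Module.Flat R' T := inferInstance
    haveI : Module.Flat T C := IsLocalization.flat C (Submonoid.powers e)
    exact Module.Flat.trans R' T C
  ext Q
  simp only [Ideal.primesOver, Set.mem_setOf_eq, Set.mem_singleton_iff]
  constructor
  · rintro ⟨hQ, hQP⟩
    let Q' : Ideal T := Q.comap (algebraMap T C)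
    have hQ'prime : Q'.IsPrime := Ideal.comap_isPrime _ _
    have hQQ' : Q.LiesOver Q' := ⟨rfl⟩
    have hQ'P : Q'.LiesOver P := by
      constructor
      rw [hQP.over]
      ext x
      simp only [Ideal.under, Ideal.mem_comap, Q']
      rw [IsScalarTower.algebraMap_apply R' T C]
    have heQ' : e ∉ Q' := by
      intro h
      have hu : IsUnit (algebraMap T C e) := IsLocalization.Away.algebraMap_isUnit e
      exact hQ.ne_top (Ideal.eq_top_of_isUnit_mem _ h hu)
    have hQ'eq : Q' = P' := huniq Q' hQ'prime hQ'P heQ'
    have h1 : Q'.map (algebraMap T C) = Q := IsLocalization.map_comap (Submonoid.powers e) C Q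
    rw [← h1, hQ'eq]
  · rintro rfl
    exact ⟨hP''prime, hP''P⟩


/-- Heights are preserved by contraction along a flat integral extension. -/
theorem height_under_eq_of_flat (A B : Type u) [CommRing A] [CommRing B] [IsNoetherianRing A]
    [IsNoetherianRing B] [Algebra A B] [Algebra.IsIntegral A B] [Module.Flat A B]
    (𝔔 : Ideal B) [𝔔.IsPrime] : 𝔔.height = (𝔔.under A).height := by
  apply le_antisymm
  · have hmono : StrictMono (PrimeSpectrum.comap (algebraMap A B)) := by
      intro p q hpq
      have : p.asIdeal < q.asIdeal := hpq
      exact Ideal.IsIntegral.comap_lt_comap (R := A) this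
    have h1 := PrimeSpectrum.height_eq_orderHeight (⟨𝔔, inferInstance⟩ : PrimeSpectrum B)
    have h2 := PrimeSpectrum.height_eq_orderHeight
      (PrimeSpectrum.comap (algebraMap A B) (⟨𝔔, inferInstance⟩ : PrimeSpectrum B))
    have h3 := Order.height_le_height_apply_of_strictMono _ hmono
      (⟨𝔔, inferInstance⟩ : PrimeSpectrum B)
    rw [← h1, ← h2] at h3
    exact h3
  · haveI : 𝔔.LiesOver (𝔔.under A) := ⟨rfl⟩
    rw [Ideal.height_eq_height_add_of_liesOver_of_hasGoingDown (𝔔.under A) 𝔔]
    exact le_self_add

/-- **Purity for finite flat algebras**: a finite flat algebra over a Noetherian local ring of dimension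
`≥ 1` which is unramified at all primes of height one is étale. -/
theorem etale_of_finite_flat_of_isUnramifiedAt_height_one (A B : Type u) [CommRing A] [CommRing B]
    [Algebra A B] [IsNoetherianRing A] [IsLocalRing A] (hdim : (1 : WithBot ℕ∞) ≤ ringKrullDim A)
    [Module.Finite A B] [Module.Flat A B]
    (h : ∀ (𝔔 : Ideal B) [𝔔.IsPrime], 𝔔.height = 1 → Algebra.IsUnramifiedAt A 𝔔) :
    Algebra.Etale A B := by
  classical
  haveI : Module.Free A B := Module.free_of_flat_of_isLocalRing
  haveI : IsNoetherianRing B := Algebra.FiniteType.isNoetherianRing A B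
  let b := Module.finBasis A B
  rw [Groth.Agent.S2195.result b]
  by_contra hd
  have hdm : Algebra.discr A b ∈ maximalIdeal A := (mem_maximalIdeal _).mpr hd
  obtain ⟨𝔭, h𝔭, hd𝔭, h𝔭ht⟩ := Groth.Agent.S0249.result A hdim _ hdm
  haveI := h𝔭
  let M := 𝔭.primeCompl
  let A' := Localization.AtPrime 𝔭
  let B' := Localization (Algebra.algebraMapSubmonoid B M)
  let b' : Module.Basis _ A' B' := b.localizationLocalization A' M B'
  have hdiscr : Algebra.discr A' b' = algebraMap A A' (Algebra.discr A b) :=
    Algebra.discr_localizationLocalization A M B' b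
  have hnu : ¬ IsUnit (Algebra.discr A' b') := by
    rw [hdiscr]
    intro hu
    have : algebraMap A A' (Algebra.discr A b) ∈ maximalIdeal A' := by
      rw [← Localization.AtPrime.map_eq_maximalIdeal]
      exact Ideal.mem_map_of_mem _ hd𝔭
    exact (mem_maximalIdeal _).mp this hu
  apply hnu
  rw [← Groth.Agent.S2195.result b']
  haveI : Module.Finite A' B' := Module.Finite.of_basis b'
  haveI : Module.Free A' B' := Module.Free.of_basis b'
  haveI : Module.FinitePresentation A' B' := Module.finitePresentation_of_projective _ _
  haveI : Algebra.FinitePresentation A' B' := inferInstance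
  haveI : Algebra.FormallyUnramified A' B' := by
    rw [Algebra.formallyUnramified_iff_forall]
    intro 𝔔'
    obtain ⟨𝔐, h𝔐max, hle⟩ := Ideal.exists_le_maximal 𝔔'.asIdeal 𝔔'.2.ne_top
    haveI := h𝔐max.isPrime
    refine isUnramifiedAt_of_le 𝔔'.asIdeal 𝔐 hle ?_
    have h1 : (𝔐.under A') = maximalIdeal A' := by
      have : (𝔐.under A').IsMaximal := Ideal.isMaximal_comap_of_isIntegral_of_isMaximal 𝔐
      exact IsLocalRing.eq_maximalIdeal this
    have h2 : (𝔐.under B).under A = 𝔭 := by
      rw [Ideal.under_under, ← Ideal.under_under (B := A'), h1]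
      exact IsLocalization.AtPrime.under_maximalIdeal A' 𝔭
    have h3 : (𝔐.under B).height = 1 := by
      rw [height_under_eq_of_flat A B (𝔐.under B), h2, h𝔭ht]
    have h4 : Algebra.IsUnramifiedAt A (𝔐.under B) := h _ h3
    have h5 : Algebra.IsUnramifiedAt A 𝔐 :=
      isUnramifiedAt_of_isLocalization (Algebra.algebraMapSubmonoid B M) 𝔐 h4
    exact Algebra.FormallyUnramified.of_restrictScalars A _ _
  exact Algebra.Etale.of_formallyUnramified_of_flat

/-- **Purity of the branch locus for flat maps** (ring form): a flat finite type algebra over a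
Noetherian ring which is quasi-finite at a prime `q` of height `≥ 1` and unramified at all primes of
height one contained in `q` is étale at `q`. -/
theorem isEtaleAt_of_flat_of_height_one (R S : Type u) [CommRing R] [CommRing S] [Algebra R S]
    [IsNoetherianRing R] [Algebra.FiniteType R S] [Module.Flat R S] (p : Ideal R) [p.IsPrime]
    (q : Ideal S) [q.IsPrime] [q.LiesOver p]
    (hqf : Algebra.QuasiFiniteAt R q) (h1 : 1 ≤ q.height)
    (hunr : ∀ q' : Ideal S, ∀ _ : q'.IsPrime, q' ≤ q → q'.height = 1 →
      Algebra.IsUnramifiedAt R q') :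
    Algebra.IsEtaleAt R q := by
  obtain ⟨R', C, _, _, _, _, _, _, _, _, _, _, _, P, _, _, P'', _, _, _, hprimes, hflat⟩ :=
    exists_finite_flat_etale_model R S p q
  haveI hS : IsNoetherianRing S := Algebra.FiniteType.isNoetherianRing R S
  haveI hR' : IsNoetherianRing R' := Algebra.FiniteType.isNoetherianRing R R'
  haveI hC : IsNoetherianRing C := Algebra.FiniteType.isNoetherianRing S C
  haveI hflatC : Module.Flat R' C := hflat inferInstance
  letI := Localization.AtPrime.algebraOfLiesOver P P''
  haveI hfin : Module.Finite (Localization.AtPrime P) (Localization.AtPrime P'') :=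
    Localization.finite_of_primesOver_eq_singleton hprimes
  haveI hflat₁ : Module.Flat (Localization.AtPrime P) (Localization.AtPrime P'') := by
    have h0 : Module.Flat R' (Localization.AtPrime P'') := Module.Flat.trans R' C _
    exact (Module.flat_iff_of_isLocalization (Localization.AtPrime P) P.primeCompl
      (Localization.AtPrime P'')).mpr h0
  have hnoeA : IsNoetherianRing (Localization.AtPrime P) :=
    IsLocalization.isNoetherianRing P.primeCompl _ hR'
  have hnoeB : IsNoetherianRing (Localization.AtPrime P'') :=
    IsLocalization.isNoetherianRing P''.primeCompl _ hC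
  have hP''ht : P''.height = q.height := height_eq_of_etale q P''
  have hdimA : (1 : WithBot ℕ∞) ≤ ringKrullDim (Localization.AtPrime P) := by
    have hloc : IsLocalHom (algebraMap (Localization.AtPrime P) (Localization.AtPrime P'')) := by
      change IsLocalHom (Localization.localRingHom P P'' (algebraMap R' C) _)
      infer_instance
    have hunder : (maximalIdeal (Localization.AtPrime P'')).under (Localization.AtPrime P) =
        maximalIdeal (Localization.AtPrime P) :=
      ((IsLocalRing.local_hom_TFAE (algebraMap (Localization.AtPrime P)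
        (Localization.AtPrime P''))).out 0 4).mp hloc
    have hh := height_under_eq_of_flat (Localization.AtPrime P) (Localization.AtPrime P'')
      (maximalIdeal (Localization.AtPrime P''))
    rw [hunder] at hh
    rw [← IsLocalRing.maximalIdeal_height_eq_ringKrullDim, ← hh,
      IsLocalRing.maximalIdeal_height_eq_ringKrullDim,
      IsLocalization.AtPrime.ringKrullDim_eq_height P'', hP''ht]
    exact_mod_cast h1
  have hU1 : ∀ (𝔔 : Ideal (Localization.AtPrime P'')) [𝔔.IsPrime], 𝔔.height = 1 →
      Algebra.IsUnramifiedAt (Localization.AtPrime P) 𝔔 :=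
    fun 𝔔 _ h => isUnramifiedAt_model_of_height_one q P P'' hunr 𝔔 h
  have hEt : Algebra.Etale (Localization.AtPrime P) (Localization.AtPrime P'') :=
    etale_of_finite_flat_of_isUnramifiedAt_height_one _ _ hdimA (fun 𝔔 _ h => hU1 𝔔 h)
  have hfu : Algebra.FormallyUnramified (Localization.AtPrime P) (Localization.AtPrime P'') :=
    (Algebra.FormallyEtale.iff_formallyUnramified_and_formallySmooth.mp hEt.formallyEtale).1
  haveI : Algebra.IsUnramifiedAt R q := isUnramifiedAt_of_etale_model q P P'' hfu
  haveI hfp : Algebra.FinitePresentation R S :=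
    Algebra.FinitePresentation.of_finiteType.mp inferInstance
  exact isEtaleAt_of_flat_of_isUnramifiedAt p q (Module.Flat.trans R S (Localization.AtPrime q))

end Groth.Agent.Lib.Helper2.PurityBranch
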