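import Groth.Agent.Lib.Helper2.PurityBranchScheme
import Groth.Agent.Lib.Helper2.PurityFlatRing

/-!
# Purity of the branch locus for flat morphisms, scheme form
-/

set_option autoImplicit false
set_option linter.style.haveILetI false
set_option linter.unusedSectionVars false
universe u

open AlgebraicGeometry CategoryTheory

namespace Groth.Agent.Lib.Helper2.PurityBranch

set_option backward.defeqAttrib.useBackward true in
set_option backward.isDefEq.respectTransparency false in
/-- **Purity of the branch locus for flat morphisms**, scheme form. -/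
theorem purity_of_branch_locus_flat {X Y : Scheme.{u}} (f : X ⟶ Y) [LocallyOfFiniteType f] [Flat f]
    [IsLocallyNoetherian X] [IsLocallyNoetherian Y] (x : X) (hq : f.QuasiFiniteAt x)
    (hdim1 : (1 : WithBot ℕ∞) ≤ ringKrullDim (X.presheaf.stalk x))
    (hunr : ∀ x' : X, x' ⤳ x → ringKrullDim (X.presheaf.stalk x') = 1 →
      (f.stalkMap x').hom.FormallyUnramified) :
    ∃ U : X.Opens, x ∈ U ∧ Etale (U.ι ≫ f) := by
  obtain ⟨_, ⟨U, hU, rfl⟩, hxU, -⟩ :=
    Y.isBasis_affineOpens.exists_subset_of_mem_open (Set.mem_univ (f x)) isOpen_univ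
  obtain ⟨_, ⟨V, hV, rfl⟩, hxV, hVU⟩ :=
    X.isBasis_affineOpens.exists_subset_of_mem_open hxU (U.2.preimage f.continuous)
  have hft : (f.appLE U V hVU).hom.FiniteType := f.finiteType_appLE hU hV hVU
  have hfl : (f.appLE U V hVU).hom.Flat := f.flat_appLE hU hV hVU
  haveI hnoe : IsNoetherianRing Γ(Y, U) := IsLocallyNoetherian.component_noetherian ⟨U, hU⟩
  have hfp : (f.appLE U V hVU).hom.FinitePresentation := f.finitePresentation_appLE hU hV hVU
  refine exists_opens_etale_of_isEtaleAt f U hU V hV hVU hxV hfp ?_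
  algebraize [(f.appLE U V hVU).hom]
  let p := (hU.primeIdealOf ⟨f x, hVU hxV⟩).asIdeal
  let q := (hV.primeIdealOf ⟨x, hxV⟩).asIdeal
  have : q.LiesOver p :=
    ⟨congr($(IsAffineOpen.comap_primeIdealOf_appLE U hU V hV hVU hxV).1).symm⟩
  letI := X.presheaf.algebra_section_stalk ⟨x, hxV⟩
  haveI := hV.isLocalization_stalk ⟨x, hxV⟩
  have hqf : Algebra.QuasiFiniteAt Γ(Y, U) q := hq.quasiFiniteAt hV hU hVU hxV
  have hdX : ringKrullDim (X.presheaf.stalk x) = q.height :=
    IsLocalization.AtPrime.ringKrullDim_eq_height q _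
  have h1 : 1 ≤ q.height := by
    rw [hdX] at hdim1
    exact_mod_cast hdim1
  apply isEtaleAt_of_flat_of_height_one Γ(Y, U) Γ(X, V) p q hqf h1
  intro q' hq' hle hht'
  obtain ⟨x', hx'⟩ : ∃ x' : V, hV.primeIdealOf x' = ⟨q', hq'⟩ :=
    ⟨hV.isoSpec.inv ⟨q', hq'⟩, by simp [IsAffineOpen.primeIdealOf]⟩
  have hq'eq : q' = (hV.primeIdealOf x').asIdeal := by rw [hx']
  clear hx'
  subst hq'eq
  obtain ⟨x', hx'V⟩ := x'
  have hspec : x' ⤳ x := by
    have h1 : hV.primeIdealOf ⟨x', hx'V⟩ ⤳ hV.primeIdealOf ⟨x, hxV⟩ :=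
      (PrimeSpectrum.le_iff_specializes _ _).mp hle
    have h2 := h1.map hV.fromSpec.continuous
    rwa [hV.fromSpec_primeIdealOf, hV.fromSpec_primeIdealOf] at h2
  have hdim' : ringKrullDim (X.presheaf.stalk x') = 1 := by
    letI := X.presheaf.algebra_section_stalk ⟨x', hx'V⟩
    haveI := hV.isLocalization_stalk ⟨x', hx'V⟩
    rw [IsLocalization.AtPrime.ringKrullDim_eq_height (hV.primeIdealOf ⟨x', hx'V⟩).asIdeal, hht']
    rfl
  have hu := hunr x' hspec hdim'
  let p' := (hU.primeIdealOf ⟨f x', hVU hx'V⟩).asIdeal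
  have : (hV.primeIdealOf ⟨x', hx'V⟩).asIdeal.LiesOver p' :=
    ⟨congr($(IsAffineOpen.comap_primeIdealOf_appLE U hU V hV hVU hx'V).1).symm⟩
  letI := Localization.AtPrime.algebraOfLiesOver p' (hV.primeIdealOf ⟨x', hx'V⟩).asIdeal
  have h2 : Algebra.FormallyUnramified (Localization.AtPrime p')
      (Localization.AtPrime (hV.primeIdealOf ⟨x', hx'V⟩).asIdeal) := by
    rw [← RingHom.formallyUnramified_algebraMap]
    exact (RingHom.FormallyUnramified.respectsIso.arrow_mk_iso_iff
      (IsAffineOpen.arrowStalkMapIso f U hU V hV hVU hx'V)).mp hu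
  exact Algebra.FormallyUnramified.comp Γ(Y, U) (Localization.AtPrime p') _

end Groth.Agent.Lib.Helper2.PurityBranch
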