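import Groth.Agent.Lib.Helper2.PurityScheme
import Groth.Agent.Lib.Helper29.SerreNormal

/-!
# Finite étale covers of the punctured spectrum of a normal local domain (helper2)

For a Noetherian local domain `A` of depth at least two (e.g. normal of dimension at least two,
`two_le_depth_of_isIntegrallyClosed`) and a finite étale cover `V` of the punctured spectrum: the ring of sections
`Γ(V, ⊤)` is finite over `A` (`finite_strMap`), and `V` extends to a finite étale cover of `Spec A` iff
`Γ(V, ⊤)` is étale over `A` (`exists_of_etale`, `etale_of_exists`).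
-/

set_option autoImplicit false
set_option linter.style.haveILetI false
set_option linter.unusedSectionVars false
universe u

open AlgebraicGeometry CategoryTheory CategoryTheory.Limits TopologicalSpace Opposite

namespace Groth.Agent.Lib.Helper2.PurityNormal

open Groth.Agent.Lib.Helper2 Groth.Agent.Lib.Helper2.PurityRing Groth.Agent.Lib.Helper2.PurityScheme
  IsLocalRing

/-- **Finiteness of sections over the punctured spectrum.**  Over a local domain `A` of depth at least two, a
torsion-free `A`-algebra `B` which is finitely generated after inverting any element of the maximal ideal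
is finite over `A`. -/
theorem finite_of_punctured (A : Type u) [CommRing A] [IsDomain A] [IsLocalRing A]
    [IsNoetherianRing A] (hdA : (2 : ℕ∞) ≤ LocCoh.depth A A) (B : Type u) [CommRing B] [Algebra A B]
    (h2 : ∀ f ∈ maximalIdeal A, ∃ t : Finset B, ∀ b : B, ∃ k : ℕ,
      f ^ k • b ∈ Submodule.span A (t : Set B))
    (h3 : ∀ a : A, a ≠ 0 → IsSMulRegular B a) :
    Module.Finite A B := by
  classical
  obtain ⟨x, y, hxm, hym, hreg⟩ := exists_weaklyRegular_pair hdA
  obtain ⟨hx, hxy⟩ := regMod_of_isWeaklyRegular hreg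
  have hx0 : x ≠ 0 := by
    rintro rfl
    have : (1 : A) = 0 := hx (by simp)
    exact one_ne_zero this
  have hxB : IsSMulRegular B x := h3 x hx0
  obtain ⟨tx, htx⟩ := h2 x hxm
  obtain ⟨ty, hty⟩ := h2 y hym
  let M : Submodule A B := Submodule.span A ((tx ∪ ty : Finset B) : Set B)
  haveI : Module.Finite A M := Module.Finite.span_of_finite A (Finset.finite_toSet _)
  have hM : ∀ b : B, ∃ k : ℕ, x ^ k • b ∈ M ∧ y ^ k • b ∈ M := by
    intro b
    obtain ⟨k, hk⟩ := htx b
    obtain ⟨l, hl⟩ := hty b
    refine ⟨k + l, ?_, ?_⟩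
    · rw [pow_add, mul_comm, mul_smul]
      refine M.smul_mem _ (Submodule.span_mono ?_ hk)
      intro z hz
      exact Finset.mem_union_left _ hz
    · rw [pow_add, mul_smul]
      refine M.smul_mem _ (Submodule.span_mono ?_ hl)
      intro z hz
      exact Finset.mem_union_right _ hz
  have htfM : ∀ (a : A) (m : M), a ≠ 0 → a • m = 0 → m = 0 := by
    intro a m ha hm
    apply Subtype.ext
    have h0 : a • (m : B) = 0 := congrArg Subtype.val hm
    exact h3 a ha (h0.trans (smul_zero a).symm)
  obtain ⟨r, ψ, hψ⟩ := exists_injective_to_free A M htfM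
  obtain ⟨ψ', hψ'⟩ := exists_extension_injective hx hxy hxB hψ hM
  exact Module.Finite.of_injective ψ' hψ'

/-- A normal Noetherian local domain of dimension at least two has depth at least two. -/
theorem two_le_depth_of_isIntegrallyClosed (A : Type u) [CommRing A] [IsDomain A] [IsNoetherianRing A]
    [IsLocalRing A] [IsIntegrallyClosed A] (hdim : (2 : WithBot ℕ∞) ≤ ringKrullDim A) :
    (2 : ℕ∞) ≤ LocCoh.depth A A := by
  by_contra hcon
  have h1 : LocCoh.depth A A ≤ 1 := by
    rw [not_le] at hcon
    simpa using hcon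
  have h2 := Groth.Agent.Lib.Helper29.ringKrullDim_le_one_of_depth_le_one A h1
  have h3 : (2 : WithBot ℕ∞) ≤ 1 := hdim.trans h2
  exact absurd h3 (by decide)

/-- The ring of sections of a finite flat cover of the punctured spectrum of a Noetherian local domain of depth at
least two is finite over the base ring. -/
theorem finite_strMap (A : Type u) [CommRing A] [IsDomain A] [IsLocalRing A] [IsNoetherianRing A]
    (hdA : (2 : ℕ∞) ≤ LocCoh.depth A A) {Z' : Scheme.{u}}
    (z' : Z' ⟶ (FEt.puncturedSpec A : Scheme.{u})) [IsFinite z'] [Flat z'] :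
    (strMap A (z' ≫ (FEt.puncturedSpec A).ι)).Finite := by
  let w₀ : Z' ⟶ Spec (CommRingCat.of A) := z' ≫ (FEt.puncturedSpec A).ι
  haveI : Flat w₀ := inferInstance
  let φ : A →+* Γ(Z', ⊤) := strMap A w₀
  letI : Algebra A Γ(Z', ⊤) := φ.toAlgebra
  have hpb0 := isPullback_toSpecΓ A hdA z'
  have hpb : IsPullback Z'.toSpecΓ z' (Spec.map (CommRingCat.ofHom (algebraMap A Γ(Z', ⊤))))
      (FEt.puncturedSpec A).ι := hpb0
  have hsmul : ∀ (a : A) (b : Γ(Z', ⊤)), a • b = φ a * b := fun a b => Algebra.smul_def a b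
  have h2 : ∀ f ∈ IsLocalRing.maximalIdeal A, ∃ t : Finset Γ(Z', ⊤), ∀ b : Γ(Z', ⊤), ∃ k : ℕ,
      f ^ k • b ∈ Submodule.span A (t : Set Γ(Z', ⊤)) := by
    intro f hf
    have h := prop_SpecMap_tensor @IsFinite A Γ(Z', ⊤) z' Z'.toSpecΓ hpb inferInstance f hf
    rw [IsFinite.SpecMap_iff, CommRingCat.hom_ofHom, RingHom.finite_algebraMap] at h
    exact exists_finset_of_finite_tensor A Γ(Z', ⊤) f
  have h3 : ∀ a : A, a ≠ 0 → IsSMulRegular Γ(Z', ⊤) a := by
    intro a ha
    rw [isSMulRegular_iff_right_eq_zero_of_smul]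
    intro b hb
    rw [hsmul] at hb
    exact eq_zero_of_strMap_mul_eq_zero A w₀ a ha b hb
  exact finite_of_punctured A hdA Γ(Z', ⊤) h2 h3

/-- If the ring of sections is finite étale over `A`, the cover extends. -/
theorem exists_of_etale (A : Type u) [CommRing A] [IsLocalRing A] [IsNoetherianRing A]
    (hdA : (2 : ℕ∞) ≤ LocCoh.depth A A) (V : FEt.Cat (FEt.puncturedSpec A : Scheme.{u}))
    (hfin : (strMap A (V.hom ≫ (FEt.puncturedSpec A).ι)).Finite)
    (het : (strMap A (V.hom ≫ (FEt.puncturedSpec A).ι)).Etale) :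
    ∃ Y : FEt.Cat (Spec (CommRingCat.of A)),
      Nonempty ((FEt.restrict (FEt.puncturedSpec A).ι).obj Y ≅ V) := by
  haveI : IsFinite V.hom := V.prop.1
  have hpb := isPullback_toSpecΓ A hdA V.hom
  have htfin : IsFinite (Spec.map ((Scheme.ΓSpecIso (CommRingCat.of A)).inv ≫
      (V.hom ≫ (FEt.puncturedSpec A).ι).appTop)) := by
    rw [IsFinite.SpecMap_iff]
    exact hfin
  have htet : Etale (Spec.map ((Scheme.ΓSpecIso (CommRingCat.of A)).inv ≫
      (V.hom ≫ (FEt.puncturedSpec A).ι).appTop)) := by
    rw [HasRingHomProperty.Spec_iff (P := @Etale)]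
    exact het
  let W : FEt.Cat (Spec (CommRingCat.of A)) := MorphismProperty.Over.mk ⊤ _ ⟨htfin, htet⟩
  refine ⟨W, ⟨MorphismProperty.Over.isoMk hpb.isoPullback.symm ?_⟩⟩
  change hpb.isoPullback.inv ≫ V.hom = pullback.snd _ (FEt.puncturedSpec A).ι
  rw [Iso.inv_comp_eq, hpb.isoPullback_hom_snd]

/-- If the cover extends, its ring of sections is étale over `A` (unbundled form). -/
theorem etale_strMap_of_iso (A : Type u) [CommRing A] [IsLocalRing A]
    (hdA : (2 : ℕ∞) ≤ LocCoh.depth A A) {YL VL : Scheme.{u}} (y : YL ⟶ Spec (CommRingCat.of A))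
    [IsFinite y] [Etale y] (v : VL ⟶ (FEt.puncturedSpec A : Scheme.{u}))
    (el : pullback y (FEt.puncturedSpec A).ι ≅ VL)
    (hw : el.hom ≫ v = pullback.snd y (FEt.puncturedSpec A).ι) :
    (strMap A (v ≫ (FEt.puncturedSpec A).ι)).Etale := by
  haveI : IsAffine YL := isAffine_of_isAffineHom y
  have hY : (strMap A y).Etale := by
    have h := (HasRingHomProperty.iff_of_isAffine (P := @Etale)).mp ‹Etale y›
    exact RingHom.Etale.stableUnderComposition _ _ (RingHom.Etale.of_bijective
      (ConcreteCategory.bijective_of_isIso (Scheme.ΓSpecIso (CommRingCat.of A)).inv)) h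
  have hbij := appTop_pullback_fst_bijective y _ (res_bijective_preimage_punctured A hdA y)
  have hcomp : v ≫ (FEt.puncturedSpec A).ι =
      el.inv ≫ pullback.fst y (FEt.puncturedSpec A).ι ≫ y := by
    rw [pullback.condition, ← hw, Category.assoc, Iso.inv_hom_id_assoc]
  have key : strMap A (v ≫ (FEt.puncturedSpec A).ι) =
      (el.inv.appTop.hom.comp (pullback.fst y (FEt.puncturedSpec A).ι).appTop.hom).comp
        (strMap A y) := by
    unfold strMap
    rw [hcomp, Scheme.Hom.comp_appTop, Scheme.Hom.comp_appTop]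
    rfl
  rw [key]
  refine RingHom.Etale.stableUnderComposition _ _ hY ?_
  refine RingHom.Etale.stableUnderComposition _ _ (RingHom.Etale.of_bijective hbij) ?_
  haveI : IsIso el.inv.appTop := inferInstanceAs (IsIso (el.inv.app ⊤))
  exact RingHom.Etale.of_bijective (ConcreteCategory.bijective_of_isIso el.inv.appTop)

/-- If the cover extends, its ring of sections is étale over `A`. -/
theorem etale_of_exists (A : Type u) [CommRing A] [IsLocalRing A]
    (hdA : (2 : ℕ∞) ≤ LocCoh.depth A A) (V : FEt.Cat (FEt.puncturedSpec A : Scheme.{u}))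
    (Y : FEt.Cat (Spec (CommRingCat.of A)))
    (e : (FEt.restrict (FEt.puncturedSpec A).ι).obj Y ≅ V) :
    (strMap A (V.hom ≫ (FEt.puncturedSpec A).ι)).Etale := by
  haveI : IsFinite Y.hom := Y.prop.1
  haveI : Etale Y.hom := Y.prop.2
  let el : pullback Y.hom (FEt.puncturedSpec A).ι ≅ V.left :=
    (MorphismProperty.Over.forget FEt.prop ⊤ _ ⋙ Over.forget _).mapIso e
  have hw : el.hom ≫ V.hom = pullback.snd Y.hom (FEt.puncturedSpec A).ι :=
    MorphismProperty.Over.w e.hom
  exact etale_strMap_of_iso A hdA Y.hom V.hom el hw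

end Groth.Agent.Lib.Helper2.PurityNormal
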