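import Groth.Agent.Lib.Helper29.Purity.Main
import Groth.Agent.Lib.Helper2.PuncturedFEt
import Groth.Agent.Lib.Helper2.HartshorneConn

/-!
# Ring-level extension of finite étale covers over the punctured spectrum of a regular local ring

* `exists_injective_to_free`: finitely generated torsion-free modules over a domain embed in finite free modules.
* `exists_extension_injective`: such an embedding of `M ⊆ B` extends to `B` when `B/M` is killed by powers of a
  regular sequence `x, y` (Hartogs).
* `two_le_depth_of_glue`: depth ≥ 2 from flatness of the localizations and the gluing condition.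
* `finite_etale_of_punctured`: the ring-level form of purity for the punctured spectrum (uses helper29's `purity`).
-/

set_option autoImplicit false
set_option linter.style.haveILetI false
set_option linter.unusedSectionVars false
universe u

namespace Groth.Agent.Lib.Helper2.PurityRing

open Groth.Agent.Lib.Helper2 RingTheory.Sequence IsLocalRing Pointwise

/-- A finitely generated torsion-free module over a domain embeds into a finite free module. -/
theorem exists_injective_to_free (A : Type u) [CommRing A] [IsDomain A] (M : Type u) [AddCommGroup M]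
    [Module A M] [Module.Finite A M] (htf : ∀ (a : A) (m : M), a ≠ 0 → a • m = 0 → m = 0) :
    ∃ (r : ℕ) (ψ : M →ₗ[A] (Fin r → A)), Function.Injective ψ := by
  classical
  let K := FractionRing A
  let S := nonZeroDivisors A
  let MK := LocalizedModule S M
  let ι : M →ₗ[A] MK := LocalizedModule.mkLinearMap S M
  have hι : Function.Injective ι := by
    rw [← LinearMap.ker_eq_bot, LinearMap.ker_eq_bot']
    intro m hm
    obtain ⟨s, hs⟩ := (IsLocalizedModule.eq_zero_iff S ι).mp hm
    exact htf s.1 m (nonZeroDivisors.ne_zero s.2) hs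
  haveI : Module.Finite K MK := Module.Finite.of_isLocalizedModule S (Rₚ := K) ι
  let r := Module.finrank K MK
  let bK : Module.Basis (Fin r) K MK := Module.finBasis K MK
  let coords : MK →ₗ[A] (Fin r → K) := (bK.equivFun.toLinearMap).restrictScalars A
  have hcoords : Function.Injective coords := bK.equivFun.injective
  let κ : (Fin r → A) →ₗ[A] (Fin r → K) := (Algebra.linearMap A K).compLeft (Fin r)
  have hκ : Function.Injective κ := by
    intro a b hab
    funext j
    exact IsFractionRing.injective A K (congrFun hab j)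
  obtain ⟨gens, hgens⟩ := (Module.Finite.fg_top : (⊤ : Submodule A M).FG)
  let T : Finset K := (gens.product Finset.univ).image fun p : M × Fin r => coords (ι p.1) p.2
  obtain ⟨d, hd⟩ := IsLocalization.exist_integer_multiples_of_finset S T
  have hd0 : (d : A) ≠ 0 := nonZeroDivisors.ne_zero d.2
  let Φ : M →ₗ[A] (Fin r → K) := (d : A) • (coords ∘ₗ ι)
  have hΦ : ∀ m, Φ m ∈ LinearMap.range κ := by
    intro m
    have hm : m ∈ Submodule.span A (gens : Set M) := by rw [hgens]; trivial
    induction hm using Submodule.span_induction with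
    | mem g hg =>
      have : ∀ j : Fin r, IsLocalization.IsInteger A ((d : A) • coords (ι g) j) := fun j =>
        hd _ (Finset.mem_image.mpr ⟨(g, j), Finset.mem_product.mpr ⟨hg, Finset.mem_univ j⟩, rfl⟩)
      choose a ha using this
      refine ⟨a, ?_⟩
      funext j
      exact ha j
    | zero => simp
    | add m₁ m₂ _ _ h₁ h₂ =>
      rw [map_add]
      exact Submodule.add_mem _ h₁ h₂
    | smul a m _ h =>
      rw [map_smul]
      exact Submodule.smul_mem _ a h
  let ψ : M →ₗ[A] (Fin r → A) :=
    (LinearEquiv.ofInjective κ hκ).symm.toLinearMap ∘ₗ Φ.codRestrict (LinearMap.range κ) hΦ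
  refine ⟨r, ψ, ?_⟩
  intro m₁ m₂ h
  have h1 : Φ.codRestrict (LinearMap.range κ) hΦ m₁ = Φ.codRestrict (LinearMap.range κ) hΦ m₂ :=
    (LinearEquiv.ofInjective κ hκ).symm.injective h
  have h2 : Φ m₁ = Φ m₂ := congrArg Subtype.val h1
  have h3 : (d : A) • coords (ι m₁) = (d : A) • coords (ι m₂) := h2
  have h4 : coords (ι m₁) = coords (ι m₂) := by
    funext j
    have := congrFun h3 j
    simp only [Pi.smul_apply, Algebra.smul_def] at this
    refine mul_left_cancel₀ ?_ this
    exact (map_ne_zero_iff _ (IsFractionRing.injective A K)).mpr hd0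
  exact hι (hcoords h4)



section Extend

variable {A : Type u} [CommRing A] {B : Type u} [AddCommGroup B] [Module A B] (x y : A)
  (M : Submodule A B) {r : ℕ} (ψ : M →ₗ[A] (Fin r → A))

/-- `t` is the value at `b` of the extension of `ψ`, as witnessed by the exponent `k`. -/
def Rel (b : B) (t : Fin r → A) (k : ℕ) : Prop :=
  ∃ h : x ^ k • b ∈ M, x ^ k • t = ψ ⟨x ^ k • b, h⟩

variable {x y M ψ}

lemma Rel.mono {b : B} {t : Fin r → A} {k l : ℕ} (h : Rel x M ψ b t k) (hkl : k ≤ l) :
    Rel x M ψ b t l := by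
  obtain ⟨hm, ht⟩ := h
  obtain ⟨d, rfl⟩ := Nat.exists_eq_add_of_le hkl
  have hm' : x ^ (k + d) • b ∈ M := by
    rw [pow_add, mul_comm, mul_smul]
    exact M.smul_mem _ hm
  refine ⟨hm', ?_⟩
  have : (⟨x ^ (k + d) • b, hm'⟩ : M) = x ^ d • ⟨x ^ k • b, hm⟩ := by
    apply Subtype.ext
    change x ^ (k + d) • b = x ^ d • x ^ k • b
    rw [pow_add, mul_comm, mul_smul]
  rw [this, map_smul, ← ht, pow_add, mul_comm, mul_smul]

lemma Rel.unique (hx : IsSMulRegular A x) {b : B} {t t' : Fin r → A} {k l : ℕ}
    (h : Rel x M ψ b t k) (h' : Rel x M ψ b t' l) : t = t' := by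
  obtain ⟨hm, ht⟩ := h.mono (Nat.le_max_left k l)
  obtain ⟨hm', ht'⟩ := h'.mono (Nat.le_max_right k l)
  have e : x ^ max k l • t = x ^ max k l • t' := by rw [ht, ht']
  funext j
  have := congrFun e j
  simp only [Pi.smul_apply] at this
  exact (hx.pow (max k l)) this

lemma Rel.add {b b' : B} {t t' : Fin r → A} {k l : ℕ}
    (h : Rel x M ψ b t k) (h' : Rel x M ψ b' t' l) : Rel x M ψ (b + b') (t + t') (max k l) := by
  obtain ⟨hm, ht⟩ := h.mono (Nat.le_max_left k l)
  obtain ⟨hm', ht'⟩ := h'.mono (Nat.le_max_right k l)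
  have hmm : x ^ max k l • (b + b') ∈ M := by
    rw [smul_add]
    exact M.add_mem hm hm'
  refine ⟨hmm, ?_⟩
  have : (⟨x ^ max k l • (b + b'), hmm⟩ : M) =
      ⟨x ^ max k l • b, hm⟩ + ⟨x ^ max k l • b', hm'⟩ := by
    apply Subtype.ext
    change x ^ max k l • (b + b') = x ^ max k l • b + x ^ max k l • b'
    rw [smul_add]
  rw [this, map_add, smul_add, ht, ht']

lemma Rel.smul {b : B} {t : Fin r → A} {k : ℕ} (a : A) (h : Rel x M ψ b t k) :
    Rel x M ψ (a • b) (a • t) k := by
  obtain ⟨hm, ht⟩ := h
  have hmm : x ^ k • a • b ∈ M := by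
    rw [smul_comm]
    exact M.smul_mem _ hm
  refine ⟨hmm, ?_⟩
  have : (⟨x ^ k • a • b, hmm⟩ : M) = a • ⟨x ^ k • b, hm⟩ := by
    apply Subtype.ext
    change x ^ k • a • b = a • x ^ k • b
    rw [smul_comm]
  rw [this, map_smul, ← ht, smul_comm]

lemma exists_rel (hx : IsSMulRegular A x) (hxy : RegMod x y)
    (hB : ∀ b : B, ∃ k : ℕ, x ^ k • b ∈ M ∧ y ^ k • b ∈ M) (b : B) :
    ∃ (t : Fin r → A) (k : ℕ), Rel x M ψ b t k := by
  obtain ⟨k, h1, h2⟩ := hB b
  have hreg : RegMod (x ^ k) (y ^ k) := regMod_pow_right (regMod_pow_left hx hxy k) k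
  have e : y ^ k • ψ ⟨x ^ k • b, h1⟩ = x ^ k • ψ ⟨y ^ k • b, h2⟩ := by
    rw [← map_smul, ← map_smul]
    congr 1
    apply Subtype.ext
    change y ^ k • x ^ k • b = x ^ k • y ^ k • b
    rw [smul_comm]
  have : ∀ j : Fin r, ∃ s, ψ ⟨x ^ k • b, h1⟩ j = x ^ k * s := by
    intro j
    apply hreg
    refine ⟨ψ ⟨y ^ k • b, h2⟩ j, ?_⟩
    have := congrFun e j
    simpa only [Pi.smul_apply, smul_eq_mul] using this
  choose t ht using this
  refine ⟨t, k, h1, ?_⟩
  funext j
  simp only [Pi.smul_apply, smul_eq_mul]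
  exact (ht j).symm

/-- Extension of an embedding of `M` into a free module to `B`, when `B/M` is killed by powers of a regular
sequence `x, y`. -/
theorem exists_extension_injective (hx : IsSMulRegular A x) (hxy : RegMod x y)
    (hxB : IsSMulRegular B x) (hψ : Function.Injective ψ)
    (hB : ∀ b : B, ∃ k : ℕ, x ^ k • b ∈ M ∧ y ^ k • b ∈ M) :
    ∃ ψ' : B →ₗ[A] (Fin r → A), Function.Injective ψ' := by
  choose t k ht using exists_rel (ψ := ψ) hx hxy hB
  let ψ' : B →ₗ[A] (Fin r → A) :=
    { toFun := t
      map_add' := fun b b' => ((ht (b + b')).unique hx ((ht b).add (ht b')))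
      map_smul' := fun a b => ((ht (a • b)).unique hx ((ht b).smul a)) }
  refine ⟨ψ', ?_⟩
  rw [← LinearMap.ker_eq_bot, LinearMap.ker_eq_bot']
  intro b hb
  have hb' : t b = 0 := hb
  obtain ⟨hm, h⟩ := ht b
  rw [hb', smul_zero] at h
  have h0 : (⟨x ^ k b • b, hm⟩ : M) = 0 := hψ (by rw [← h, map_zero])
  have h1 : x ^ k b • b = 0 := congrArg Subtype.val h0
  exact (hxB.pow (k b)) (h1.trans (smul_zero _).symm)

end Extend



/-- Depth at least two for an algebra whose localizations away from elements of the maximal ideal are flat and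
which satisfies the gluing condition for the cover of the punctured spectrum by basic opens. -/
theorem two_le_depth_of_glue {A : Type u} [CommRing A] [IsLocalRing A] {B : Type u} [CommRing B]
    [Algebra A B] (x y : A) (hxm : x ∈ maximalIdeal A) (hym : y ∈ maximalIdeal A)
    (hreg : IsWeaklyRegular A [x, y]) (hxB : IsSMulRegular B x)
    (hflat : ∀ f ∈ maximalIdeal A, Module.Flat A (Localization.Away (algebraMap A B f)))
    (hglue : ∀ (c : maximalIdeal A → B) (e : maximalIdeal A → ℕ),
      (∀ f g : maximalIdeal A, (g : A) ^ e g • c f = (f : A) ^ e f • c g) →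
      ∃ b : B, ∀ f : maximalIdeal A, (f : A) ^ e f • b = c f) :
    2 ≤ LocCoh.depth A B := by
  have key : ∀ b b' : B, y • b = x • b' → ∃ c : B, b = x • c := by
    intro b b' hbb'
    have hloc : ∀ f : maximalIdeal A, ∃ (e : ℕ) (c : B), (f : A) ^ e • b = x • c := by
      intro f
      let Bf := Localization.Away (algebraMap A B (f : A))
      haveI : Module.Flat A Bf := hflat f f.2
      have h1 : IsWeaklyRegular Bf ([x, y].map (algebraMap A Bf)) := hreg.of_flat
      obtain ⟨-, hRM⟩ := regMod_of_isWeaklyRegular (R := Bf) (x := algebraMap A Bf x)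
        (y := algebraMap A Bf y) (by simpa using h1)
      obtain ⟨s, hs⟩ := hRM (algebraMap B Bf b) ⟨algebraMap B Bf b', by
        rw [IsScalarTower.algebraMap_apply A B Bf, IsScalarTower.algebraMap_apply A B Bf,
          ← map_mul, ← map_mul, ← Algebra.smul_def, ← Algebra.smul_def, hbb']⟩
      obtain ⟨⟨c, ⟨_, n, rfl⟩⟩, hc⟩ := IsLocalization.surj (Submonoid.powers (algebraMap A B (f : A))) s
      have h2 : algebraMap B Bf (algebraMap A B (f : A) ^ n * b) =
          algebraMap B Bf (algebraMap A B x * c) := by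
        rw [map_mul, map_mul, hs, ← hc, IsScalarTower.algebraMap_apply A B Bf]
        ring
      obtain ⟨⟨_, k, rfl⟩, hk⟩ := (IsLocalization.eq_iff_exists
        (Submonoid.powers (algebraMap A B (f : A))) Bf).mp h2
      refine ⟨k + n, algebraMap A B (f : A) ^ k * c, ?_⟩
      simp only [Algebra.smul_def, map_pow] at hk ⊢
      rw [pow_add, mul_assoc, hk]
      ring
    choose e c hc using hloc
    have hcompat : ∀ f g : maximalIdeal A, (g : A) ^ e g • c f = (f : A) ^ e f • c g := by
      intro f g
      apply hxB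
      change x • (g : A) ^ e g • c f = x • (f : A) ^ e f • c g
      rw [smul_comm x, ← hc f, smul_comm x, ← hc g, smul_comm]
    obtain ⟨c₀, hc₀⟩ := hglue c e hcompat
    refine ⟨c₀, ?_⟩
    have h3 : x ^ e ⟨x, hxm⟩ • b = x ^ e ⟨x, hxm⟩ • x • c₀ := by
      rw [smul_comm _ x, hc₀ ⟨x, hxm⟩]
      exact hc ⟨x, hxm⟩
    exact (hxB.pow _) h3
  unfold LocCoh.depth LocCoh.idealDepth
  split_ifs with htop
  · exact le_top
  · have hwr : IsWeaklyRegular B [x, y] := by
      rw [isWeaklyRegular_cons_iff]
      refine ⟨hxB, ?_⟩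
      rw [isWeaklyRegular_cons_iff]
      refine ⟨?_, IsWeaklyRegular.nil _ _⟩
      change IsSMulRegular (B ⧸ x • (⊤ : Submodule A B)) y
      rw [isSMulRegular_quotient_iff_mem_of_smul_mem]
      intro b hb
      rw [Submodule.mem_smul_pointwise_iff_exists] at hb ⊢
      obtain ⟨b', -, hb'⟩ := hb
      obtain ⟨c, hc⟩ := key b b' hb'.symm
      exact ⟨c, trivial, hc.symm⟩
    refine le_trans ?_ (le_iSup₂_of_le [x, y] ⟨hwr, ?_⟩ le_rfl)
    · simp
    · intro r hr
      simp only [List.mem_cons, List.not_mem_nil, or_false] at hr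
      rcases hr with rfl | rfl
      · exact hxm
      · exact hym


open Groth.Agent.Lib.Helper29.Purity in
/-- **Ring-level extension theorem.**  Let `A` be a regular local ring of dimension at least two and `B` an
`A`-algebra which is torsion-free, finite étale over `A` after inverting any element of the maximal ideal, and
satisfies the gluing condition over the punctured spectrum.  Then `B` is finite étale over `A`. -/
theorem finite_etale_of_punctured (A : Type u) [CommRing A] [IsRegularLocalRing A]
    (hA : (2 : WithBot ℕ∞) ≤ ringKrullDim A) (B : Type u) [CommRing B] [Algebra A B]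
    (h1 : ∀ f ∈ maximalIdeal A, Algebra.FormallyEtale A (Localization.Away (algebraMap A B f)))
    (h2 : ∀ f ∈ maximalIdeal A, ∃ t : Finset B, ∀ b : B, ∃ k : ℕ,
      f ^ k • b ∈ Submodule.span A (t : Set B))
    (h3 : ∀ a : A, a ≠ 0 → IsSMulRegular B a)
    (h4 : ∀ (c : maximalIdeal A → B) (e : maximalIdeal A → ℕ),
      (∀ f g : maximalIdeal A, (g : A) ^ e g • c f = (f : A) ^ e f • c g) →
      ∃ b : B, ∀ f : maximalIdeal A, (f : A) ^ e f • b = c f) :
    Module.Finite A B ∧ Algebra.Etale A B := by
  classical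
  haveI := Groth.Agent.Lib.Helper85.isDomain_of_isRegularLocalRing A
  have hspan : 2 ≤ (maximalIdeal A).spanFinrank := by
    rw [← IsRegularLocalRing.spanFinrank_maximalIdeal (R := A)] at hA
    exact_mod_cast hA
  have hdA : (2 : ℕ∞) ≤ LocCoh.depth A A := by
    rw [depth_self_eq]
    exact_mod_cast hspan
  obtain ⟨x, y, hxm, hym, hreg⟩ := exists_weaklyRegular_pair hdA
  obtain ⟨hx, hxy⟩ := regMod_of_isWeaklyRegular hreg
  have hx0 : x ≠ 0 := by
    rintro rfl
    have : (1 : A) = 0 := hx (by simp)
    exact one_ne_zero this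
  have hxB : IsSMulRegular B x := h3 x hx0
  -- finiteness
  obtain ⟨tx, htx⟩ := h2 x hxm
  obtain ⟨ty, hty⟩ := h2 y hym
  let M : Submodule A B := Submodule.span A ((tx ∪ ty : Finset B) : Set B)
  haveI : Module.Finite A M := Module.Finite.span_of_finite A (Finset.finite_toSet _)
  have hM : ∀ b : B, ∃ k : ℕ, x ^ k • b ∈ M ∧ y ^ k • b ∈ M := by
    intro b
    obtain ⟨k, hk⟩ := htx b
    obtain ⟨l, hl⟩ := hty b
    refine ⟨k + l, ?_, ?_⟩
    · rw [pow_add, mul_comm, mul_smul]
      refine M.smul_mem _ (Submodule.span_mono ?_ hk)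
      intro z hz
      exact Finset.mem_union_left _ hz
    · rw [pow_add, mul_smul]
      refine M.smul_mem _ (Submodule.span_mono ?_ hl)
      intro z hz
      exact Finset.mem_union_right _ hz
  have htfM : ∀ (a : A) (m : M), a ≠ 0 → a • m = 0 → m = 0 := by
    intro a m ha hm
    apply Subtype.ext
    have h0 : a • (m : B) = 0 := congrArg Subtype.val hm
    exact h3 a ha (h0.trans (smul_zero a).symm)
  obtain ⟨r, ψ, hψ⟩ := exists_injective_to_free A M htfM
  obtain ⟨ψ', hψ'⟩ := exists_extension_injective hx hxy hxB hψ hM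
  have hfin : Module.Finite A B := Module.Finite.of_injective ψ' hψ'
  refine ⟨hfin, ?_⟩
  -- flatness, depth, étaleness
  have hflat : ∀ f ∈ maximalIdeal A, Module.Flat A (Localization.Away (algebraMap A B f)) := by
    intro f hf
    haveI := h1 f hf
    exact flat_away_of_formallyEtale (A := A) (algebraMap A B f)
  have hd : 2 ≤ LocCoh.depth A B := two_le_depth_of_glue x y hxm hym hreg hxB hflat h4
  exact purity A B hA hd (fun q hq hne => isEtaleAt_of_formallyEtale_away h1 ⟨q, hq⟩ hne)

end Groth.Agent.Lib.Helper2.PurityRing
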