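import Mathlib
import Groth.Prelude.Def_FEt
import Groth.Agent.Lib.Helper2.RegularExtendMain

/-!
# Extension of finite étale covers over a regular complement, functor form (helper2)

`exists_fet_extension` (= S0287): `X` locally Noetherian, `U` a dense open, `Y` a finite étale
cover of `U`, the local rings of `X` off `U` regular and `Y` extending over the local schemes at the
points of codimension one off `U`.  Then `Y` extends to a finite étale cover of `X`.
-/

set_option autoImplicit false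
set_option linter.style.haveILetI false
set_option linter.unusedSectionVars false
universe u

open CategoryTheory CategoryTheory.Limits AlgebraicGeometry TopologicalSpace

namespace Groth.Agent.Lib.Helper2.RegularExtend

/-- **S0287 in functor form.** -/
theorem exists_fet_extension {X : Scheme.{u}} [IsLocallyNoetherian X] (U : X.Opens)
    (hU : Dense (U : Set X)) (Y : FEt.Cat (U : Scheme.{u}))
    (hreg : ∀ x : X, x ∉ U → IsRegularLocalRing (X.presheaf.stalk x))
    (hunr : ∀ ξ : X, ξ ∉ U → ringKrullDim (X.presheaf.stalk ξ) = 1 →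
      ∃ Yξ : FEt.Cat (Spec (X.presheaf.stalk ξ)),
        Nonempty ((FEt.restrict (pullback.snd U.ι (X.fromSpecStalk ξ))).obj Yξ ≅
          (FEt.restrict (pullback.fst U.ι (X.fromSpecStalk ξ))).obj Y)) :
    ∃ Y' : FEt.Cat X, Nonempty ((FEt.restrict U.ι).obj Y' ≅ Y) := by
  have hYfin : IsFinite Y.hom := Y.prop.1
  have hYet : Etale Y.hom := Y.prop.2
  let t : Y.left ⟶ (U : Scheme.{u}) := Y.hom
  haveI : IsFinite t := hYfin
  haveI : Etale t := hYet
  obtain ⟨Z, z, a, hfin, het, hpb⟩ := exists_extension_of_regular U hU t hreg (by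
    intro ξ hξ h1 P Q p₁ p₂ hP q₁ q₂ hQ
    obtain ⟨Yξ, ⟨e⟩⟩ := hunr ξ hξ h1
    let σ : Spec (X.presheaf.stalk ξ) ⟶ X := X.fromSpecStalk ξ
    let π₁ : pullback U.ι σ ⟶ (U : Scheme.{u}) := pullback.fst U.ι σ
    let π₂ : pullback U.ι σ ⟶ Spec (X.presheaf.stalk ξ) := pullback.snd U.ι σ
    let w : Yξ.left ⟶ Spec (X.presheaf.stalk ξ) := Yξ.hom
    have hwfin : IsFinite w := Yξ.prop.1
    have hwet : Etale w := Yξ.prop.2
    let el : pullback w π₂ ≅ pullback t π₁ :=
      (MorphismProperty.Over.forget FEt.prop ⊤ _ ⋙ Over.forget _).mapIso e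
    have hel : el.hom ≫ pullback.snd t π₁ = pullback.snd w π₂ := MorphismProperty.Over.w e.hom
    let eP : P ≅ pullback U.ι σ := hP.isoPullback
    have heP1 : eP.hom ≫ π₁ = p₁ := hP.isoPullback_hom_fst
    have heP2 : eP.hom ≫ π₂ = p₂ := hP.isoPullback_hom_snd
    have hQ' : IsPullback q₁ (q₂ ≫ eP.hom) t π₁ := by
      refine hQ.of_iso (Iso.refl _) (Iso.refl _) eP (Iso.refl _) ?_ ?_ ?_ ?_
      · simp
      · simp
      · simp
      · rw [Iso.refl_hom, Category.comp_id, heP1]
    let eQ : Q ≅ pullback t π₁ := hQ'.isoPullback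
    have heQ1 : eQ.hom ≫ pullback.fst t π₁ = q₁ := hQ'.isoPullback_hom_fst
    have heQ2 : eQ.hom ≫ pullback.snd t π₁ = q₂ ≫ eP.hom := hQ'.isoPullback_hom_snd
    refine ⟨Yξ.left, w, eQ.hom ≫ el.inv ≫ pullback.fst w π₂, hwfin, hwet, ?_⟩
    refine (IsPullback.of_hasPullback w π₂).of_iso (el ≪≫ eQ.symm) (Iso.refl _) eP.symm
      (Iso.refl _) ?_ ?_ ?_ ?_
    · simp
    · rw [Iso.trans_hom, Iso.symm_hom, Iso.symm_hom, Category.assoc, ← hel, Category.assoc]
      congr 1
      rw [Iso.eq_inv_comp, ← Category.assoc, heQ2, Category.assoc, Iso.hom_inv_id,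
        Category.comp_id]
    · simp
    · rw [Iso.refl_hom, Category.comp_id, Iso.symm_hom, Iso.eq_inv_comp, heP2])
  let W : FEt.Cat X := MorphismProperty.Over.mk ⊤ z ⟨hfin, het⟩
  refine ⟨W, ⟨MorphismProperty.Over.isoMk hpb.isoPullback.symm ?_⟩⟩
  change hpb.isoPullback.inv ≫ Y.hom = pullback.snd z U.ι
  rw [Iso.inv_comp_eq, hpb.isoPullback_hom_snd]

end Groth.Agent.Lib.Helper2.RegularExtend
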