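import Mathlib
import Groth.Agent.Lib.Helper2.SplitCover2
import Groth.Agent.Lib.Helper2.FEtClopenFull

/-!
# Counting sections of a finite étale cover over a connected base

Rigidity (`eq_of_geometric_point_eq`), evaluation at a geometric point is injective
(`evFib_injective`), and `sections_count` (= S18918): there are at most `n` lifts, with equality iff
the pulled-back cover is trivial.
-/

set_option autoImplicit false
set_option linter.style.haveILetI false
set_option linter.unusedSectionVars false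
universe u

open CategoryTheory CategoryTheory.Limits AlgebraicGeometry

namespace Groth.Agent.Lib.Helper2.SplitCover

section Sections

variable {X Y X' : Scheme.{u}} (f : X ⟶ Y) [IsFinite f] [Etale f] (φ : X' ⟶ Y)

/-- Rigidity: two `Y`-morphisms from a connected scheme to a finite étale `Y`-scheme which agree at
one geometric point are equal. -/
lemma eq_of_geometric_point_eq [ConnectedSpace X'] {Ω : Type u} [Field Ω]
    (ξ : Spec (CommRingCat.of Ω) ⟶ X') (g₁ g₂ : X' ⟶ X) (h₁ : g₁ ≫ f = φ) (h₂ : g₂ ≫ f = φ)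
    (h : ξ ≫ g₁ = ξ ≫ g₂) : g₁ = g₂ := by
  apply eq_of_comp_eq_of_clopen f g₁ g₂ (h₁.trans h₂.symm) ξ ?_ h
  intro C hC hsub
  have hne : C.Nonempty := ⟨ξ (IsLocalRing.closedPoint Ω), hsub ⟨_, rfl⟩⟩
  exact hC.eq_univ hne

/-- Evaluation of a `Y`-morphism at a geometric point. -/
noncomputable def evFib {Ω : Type u} [Field Ω] (ξ : Spec (CommRingCat.of Ω) ⟶ X')
    (g : Over.mk φ ⟶ Over.mk f) : Fib f (ξ ≫ φ) :=
  ⟨ξ ≫ g.left, by rw [Category.assoc]; exact congrArg (ξ ≫ ·) (Over.w g)⟩

lemma evFib_injective [ConnectedSpace X'] {Ω : Type u} [Field Ω]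
    (ξ : Spec (CommRingCat.of Ω) ⟶ X') : Function.Injective (evFib f φ ξ) := by
  intro g₁ g₂ h
  ext1
  exact eq_of_geometric_point_eq f φ ξ g₁.left g₂.left (Over.w g₁) (Over.w g₂)
    (congrArg Subtype.val h)

theorem sections_count (n : ℕ)
    (hdeg : FlatMod.IsFinLocFreeOfRank n ((Scheme.Modules.pushforward f).obj (Coh.structureModule X)))
    [Nonempty X'] [ConnectedSpace X'] :
    Finite (Over.mk φ ⟶ Over.mk f) ∧ Nat.card (Over.mk φ ⟶ Over.mk f) ≤ n ∧
      (Nat.card (Over.mk φ ⟶ Over.mk f) = n ↔
        ∃ e : pullback f φ ≅ ∐ fun _ : Fin n => X',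
          e.hom ≫ Sigma.desc (fun _ : Fin n => 𝟙 X') = pullback.snd f φ) := by
  have hD : HasDeg f n := (hasDeg_iff_rank f n).mpr hdeg
  obtain ⟨x'⟩ := (inferInstance : Nonempty X')
  obtain ⟨Ω, _, _, ξ, -⟩ := Groth.Agent.Lib.Helper2.FreeAction.exists_geometric_point x'
  have hinj := evFib_injective f φ ξ
  haveI hfin : Finite (Over.mk φ ⟶ Over.mk f) := Finite.of_injective _ hinj
  have hle : Nat.card (Over.mk φ ⟶ Over.mk f) ≤ n := by
    rw [← hD Ω (ξ ≫ φ)]
    exact Nat.card_le_card_of_injective _ hinj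
  refine ⟨hfin, hle, ?_, ?_⟩
  · intro hcard
    let E : (Over.mk φ ⟶ Over.mk f) ≃ Fin n :=
      (Finite.equivFin _).trans (finCongr hcard)
    let a : Fin n → (X' ⟶ X) := fun i => (E.symm i).left
    have ha : ∀ i, a i ≫ f = φ := fun i => Over.w (E.symm i)
    haveI : IsIso (Sigma.desc (sec f φ a ha)) := by
      apply isIso_sigmaDesc_of_bijective
      intro Ω' _ _ y
      haveI : Finite (Fib f (y ≫ φ)) := inferInstance
      refine Function.Injective.bijective_of_nat_card_le (β := Fib f (y ≫ φ)) ?_ ?_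
      · intro i j hij
        have h1 : y ≫ a i = y ≫ a j := congrArg Subtype.val hij
        have h2 : E.symm i = E.symm j := by
          ext1
          exact eq_of_geometric_point_eq f φ y _ _ (ha i) (ha j) h1
        exact E.symm.injective h2
      · rw [hD Ω' (y ≫ φ), Nat.card_fin]
    refine ⟨(asIso (Sigma.desc (sec f φ a ha))).symm, ?_⟩
    show inv (Sigma.desc (sec f φ a ha)) ≫ _ = _
    rw [IsIso.inv_comp_eq]
    apply Sigma.hom_ext
    intro i
    rw [Sigma.ι_desc, Sigma.ι_desc_assoc, sec_snd]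
  · rintro ⟨e, he⟩
    apply le_antisymm hle
    let s : Fin n → (X' ⟶ pullback f φ) := fun i => Sigma.ι (fun _ : Fin n => X') i ≫ e.inv
    have hs : ∀ i, s i ≫ pullback.snd f φ = 𝟙 X' := by
      intro i
      rw [← he]
      simp only [s, Category.assoc, Iso.inv_hom_id_assoc, Sigma.ι_desc]
    let g : Fin n → (Over.mk φ ⟶ Over.mk f) := fun i =>
      Over.homMk (s i ≫ pullback.fst f φ) (by
        show (s i ≫ pullback.fst f φ) ≫ f = φ
        rw [Category.assoc, pullback.condition, reassoc_of% hs i])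
    have hg : Function.Injective g := by
      intro i j hij
      by_contra hne
      have h1 : s i ≫ pullback.fst f φ = s j ≫ pullback.fst f φ := congrArg CommaMorphism.left hij
      have h2 : s i = s j := by
        apply pullback.hom_ext h1
        rw [hs, hs]
      have h3 : Sigma.ι (fun _ : Fin n => X') i = Sigma.ι (fun _ : Fin n => X') j := by
        rw [← cancel_mono e.inv]
        exact h2
      have hd := disjoint_opensRange_sigmaι (fun _ : Fin n => X') i j hne
      have hx : Sigma.ι (fun _ : Fin n => X') i x' ∈ (Sigma.ι (fun _ : Fin n => X') i).opensRange ⊓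
          (Sigma.ι (fun _ : Fin n => X') j).opensRange :=
        ⟨⟨x', rfl⟩, ⟨x', by rw [h3]⟩⟩
      rw [disjoint_iff.mp hd] at hx
      exact hx
    have := Nat.card_le_card_of_injective g hg
    rwa [Nat.card_fin] at this

end Sections

end Groth.Agent.Lib.Helper2.SplitCover
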