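import Mathlib
import Groth.Prelude.Def_FEt
import Groth.Prelude.Def_Pi1
import Groth.Agent.S9446
import Groth.Agent.S12237
import Groth.Agent.S2748
import Groth.Agent.S0539
import Groth.Agent.Lib.Helper36.IndEtaleLift

/-!
# Finite étale covers of `Frac A` split over `Frac (A^sh)` extend over a normal local `A` (helper2)

* `indSmooth_of_isIndEtale`: ind-étale ⇒ ind-smooth (via helper36 `exists_factor_etale`).
* `isIntegral_of_isIndEtale`: elements of an ind-étale `A`-algebra are integral over `Frac A`.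
* `isLocalization_of_forall_isIntegral`: `Frac R = R[(A∖0)⁻¹]` when `R` is integral over `Frac A`.
* `nonempty_integralClosure_pi_equiv`: integral closure of a normal domain `R` in `(Frac R)^ι` is `R^ι`.
* `isLocalization_integralClosure`: `E = (integral closure of A in E)[(A∖0)⁻¹]` for `E` integral over `Frac A`.
* `exists_finite_etale_of_split`: algebraic core (uses S9446 integral closure vs. ind-smooth base
  change, S12237 strict henselization is ind-étale, S2748 normality, S0539 faithful flatness).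
* `exists_algEquiv_of_isSplit`: `Pi1.IsSplit` over `Spec L` ⇒ `L ⊗[K] Γ(V) ≃ₐ[L] (ι → L)`.
* `exists_restrict_iso_of_algEquiv`: packaging `K ⊗[A] B ≃ₐ[K] Γ(V)` into an iso in `FEt.Cat (Spec K)`.
* `exists_restrict_iso_of_isSplit`: S1143.
-/

set_option autoImplicit false
set_option linter.style.haveILetI false
set_option linter.unusedSectionVars false
universe u

open TensorProduct nonZeroDivisors CategoryTheory CategoryTheory.Limits AlgebraicGeometry

namespace Groth.Agent.Lib.Helper2.SplitSH


/-- An ind-étale algebra is ind-smooth. -/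
theorem indSmooth_of_isIndEtale (A R : Type u) [CommRing A] [CommRing R] [Algebra A R]
    (h : EtPBC.IsIndEtale A R) : Smoothing.IndSmooth A R := by
  intro P _ _ hP f
  haveI := hP
  obtain ⟨W, _, _, hW, u, v, huv⟩ :=
    Groth.Agent.Lib.Helper36.IndEtLift.exists_factor_etale A R h P f
  exact ⟨W, inferInstance, inferInstance, inferInstance, u, v, huv⟩

/-- Elements of an ind-étale `A`-algebra become integral over `K` in any field `L ⊇ K`. -/
theorem isIntegral_of_isIndEtale (A R K L : Type u) [CommRing A] [CommRing R] [Algebra A R]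
    [Field K] [Field L] [Algebra A K] [Algebra K L] [Algebra R L] [Algebra A L]
    [IsScalarTower A K L] [IsScalarTower A R L] (h : EtPBC.IsIndEtale A R) (r : R) :
    IsIntegral K (algebraMap R L r) := by
  obtain ⟨W, _, _, hW, u, v, huv⟩ :=
    Groth.Agent.Lib.Helper36.IndEtLift.exists_factor_etale A R h (Polynomial A) (Polynomial.aeval r)
  set w := u Polynomial.X with hw
  have hvw : v w = r := by
    have := congrArg (fun f => f Polynomial.X) huv
    simpa using this
  haveI : Algebra.Etale K (K ⊗[A] W) := inferInstance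
  haveI : Module.Finite K (K ⊗[A] W) := Algebra.FormallyUnramified.finite_of_free K _
  let φ : K ⊗[A] W →ₐ[K] L :=
    Algebra.TensorProduct.lift (Algebra.ofId K L) ((IsScalarTower.toAlgHom A R L).comp v)
      (fun _ _ => Commute.all _ _)
  have h1 : φ (1 ⊗ₜ w) = algebraMap R L r := by
    simp [φ, hvw]
  rw [← h1]
  exact (Algebra.IsIntegral.isIntegral (R := K) ((1 : K) ⊗ₜ[A] w)).map φ



/-- If `R` is a domain over a domain `A` whose elements are integral over `K = Frac A` inside
`L = Frac R`, then `L` is the localization of `R` at the nonzero elements of `A`. -/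
theorem isLocalization_of_forall_isIntegral (A R K L : Type u) [CommRing A] [IsDomain A] [CommRing R]
    [IsDomain R] [Algebra A R] [Field K] [Field L] [Algebra A K] [IsFractionRing A K]
    [Algebra K L] [Algebra R L] [IsFractionRing R L] [Algebra A L]
    [IsScalarTower A K L] [IsScalarTower A R L]
    (hint : ∀ r : R, IsIntegral K (algebraMap R L r)) :
    IsLocalization (Algebra.algebraMapSubmonoid R A⁰) L := by
  have hAL : ∀ a : A, a ∈ A⁰ → algebraMap A L a ≠ 0 := by
    intro a ha h0
    rw [IsScalarTower.algebraMap_apply A K L, map_eq_zero_iff _ (algebraMap K L).injective,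
      map_eq_zero_iff _ (IsFractionRing.injective A K)] at h0
    exact nonZeroDivisors.ne_zero ha h0
  -- the subalgebra of fractions `r / a`
  let T : Subalgebra K L :=
    { carrier := {z | ∃ (r : R) (a : A), a ∈ A⁰ ∧ z * algebraMap A L a = algebraMap R L r}
      mul_mem' := by
        rintro z₁ z₂ ⟨r₁, a₁, ha₁, h₁⟩ ⟨r₂, a₂, ha₂, h₂⟩
        refine ⟨r₁ * r₂, a₁ * a₂, mul_mem ha₁ ha₂, ?_⟩
        rw [map_mul, map_mul, ← h₁, ← h₂]; ring
      add_mem' := by
        rintro z₁ z₂ ⟨r₁, a₁, ha₁, h₁⟩ ⟨r₂, a₂, ha₂, h₂⟩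
        refine ⟨r₁ * algebraMap A R a₂ + r₂ * algebraMap A R a₁, a₁ * a₂, mul_mem ha₁ ha₂, ?_⟩
        rw [map_add, map_mul, map_mul, map_mul, ← h₁, ← h₂,
          ← IsScalarTower.algebraMap_apply A R L, ← IsScalarTower.algebraMap_apply A R L]; ring
      algebraMap_mem' := by
        intro k
        obtain ⟨⟨b, a⟩, hk⟩ := IsLocalization.surj A⁰ k
        refine ⟨algebraMap A R b, a.1, a.2, ?_⟩
        rw [← IsScalarTower.algebraMap_apply A R L, IsScalarTower.algebraMap_apply A K L,
          IsScalarTower.algebraMap_apply A K L, ← map_mul]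
        exact congrArg _ hk }
  have hRT : ∀ r : R, algebraMap R L r ∈ T := fun r => ⟨r, 1, one_mem _, by simp⟩
  have hall : ∀ z : L, z ∈ T := by
    intro z
    obtain ⟨⟨r, s⟩, hz⟩ := IsLocalization.surj R⁰ z
    have hs0 : algebraMap R L s.1 ≠ 0 := by
      intro h0
      rw [map_eq_zero_iff _ (IsFractionRing.injective R L)] at h0
      exact nonZeroDivisors.ne_zero s.2 h0
    have hinv : (algebraMap R L s.1)⁻¹ ∈ T := (hint s.1).inv_mem (hRT s.1)
    have : z = algebraMap R L r * (algebraMap R L s.1)⁻¹ := by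
      rw [eq_mul_inv_iff_mul_eq₀ hs0]; exact hz
    rw [this]
    exact T.mul_mem (hRT r) hinv
  refine ⟨?_, ?_, ?_⟩
  · rintro ⟨_, a, ha, rfl⟩
    rw [← IsScalarTower.algebraMap_apply A R L]
    exact (hAL a ha).isUnit
  · intro z
    obtain ⟨r, a, ha, h⟩ := hall z
    refine ⟨⟨r, ⟨algebraMap A R a, a, ha, rfl⟩⟩, ?_⟩
    simp only
    rw [← IsScalarTower.algebraMap_apply A R L]
    exact h
  · intro x y hxy
    exact ⟨1, by rw [IsFractionRing.injective R L hxy]⟩



/-- The integral closure of an integrally closed domain `R` in a finite power `ι → L` of its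
fraction field is `ι → R`. -/
theorem nonempty_integralClosure_pi_equiv (R L : Type u) [CommRing R] [IsDomain R]
    [IsIntegrallyClosed R] [Field L] [Algebra R L] [IsFractionRing R L] (ι : Type u) [Finite ι] :
    Nonempty ((ι → R) ≃ₐ[R] integralClosure R (ι → L)) := by
  let j : (ι → R) →ₐ[R] (ι → L) := AlgHom.compLeft (Algebra.ofId R L) ι
  have hj : Function.Injective j := by
    intro x y hxy
    funext i
    have := congrFun hxy i
    exact IsFractionRing.injective R L this
  have hrange : j.range = integralClosure R (ι → L) := by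
    apply le_antisymm
    · rintro _ ⟨y, rfl⟩
      exact (Algebra.IsIntegral.isIntegral (R := R) y).map j
    · intro x hx
      have hx' : IsIntegral R x := hx
      have hi : ∀ i, ∃ y : R, algebraMap R L y = x i := by
        intro i
        have h1 : IsIntegral R (x i) := hx'.map (Pi.evalAlgHom R (fun _ : ι => L) i)
        exact IsIntegrallyClosed.isIntegral_iff.mp h1
      choose y hy using hi
      exact ⟨y, funext hy⟩
  exact ⟨(AlgEquiv.ofInjective j hj).trans (Subalgebra.equivOfEq _ _ hrange)⟩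

/-- For a `K`-algebra `E` integral over `K = Frac A`, `E` is the localization of the integral
closure of `A` in `E` at the nonzero elements of `A`. -/
theorem isLocalization_integralClosure (A K E : Type u) [CommRing A] [IsDomain A] [Field K]
    [Algebra A K] [IsFractionRing A K] [CommRing E] [Algebra K E] [Algebra A E]
    [IsScalarTower A K E] [Algebra.IsIntegral K E] :
    IsLocalization (Algebra.algebraMapSubmonoid (integralClosure A E) A⁰) E := by
  refine ⟨?_, ?_, ?_⟩
  · rintro ⟨_, a, ha, rfl⟩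
    rw [← IsScalarTower.algebraMap_apply A (integralClosure A E) E,
      IsScalarTower.algebraMap_apply A K E]
    have h1 : IsUnit (algebraMap A K a) := by
      apply IsUnit.mk0
      intro h0
      rw [map_eq_zero_iff _ (IsFractionRing.injective A K)] at h0
      exact nonZeroDivisors.ne_zero ha h0
    exact h1.map _
  · intro z
    obtain ⟨m, hm⟩ := IsIntegral.exists_multiple_integral_of_isLocalization A⁰ z
      (Algebra.IsIntegral.isIntegral (R := K) z)
    refine ⟨⟨⟨m • z, hm⟩, ⟨algebraMap A (integralClosure A E) m.1, m.1, m.2, rfl⟩⟩, ?_⟩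
    simp only
    rw [← IsScalarTower.algebraMap_apply A (integralClosure A E) E, mul_comm,
      ← Algebra.smul_def]
    rfl
  · intro x y hxy
    exact ⟨1, by rw [Subtype.val_injective hxy]⟩


/-- **Algebraic core of S1143.** -/
theorem exists_finite_etale_of_split (A : Type u) [CommRing A] [IsDomain A] [IsLocalRing A]
    [IsIntegrallyClosed A] (R : Type u) [CommRing R] [IsLocalRing R] [Algebra A R]
    [IsLocalHom (algebraMap A R)] [Hensel.IsStrictHenselization A R]
    (K L : Type u) [Field K] [Field L] [Algebra A K] [IsFractionRing A K] [Algebra R L]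
    [IsFractionRing R L] [Algebra K L] [Algebra A L] [IsScalarTower A K L] [IsScalarTower A R L]
    (E : Type u) [CommRing E] [Algebra K E] [Module.Finite K E] (ι : Type u) [Finite ι]
    (eL : L ⊗[K] E ≃ₐ[L] (ι → L)) :
    ∃ (B : Type u) (_ : CommRing B) (_ : Algebra A B), Module.Finite A B ∧ Algebra.Etale A B ∧
      Nonempty (K ⊗[A] B ≃ₐ[K] E) := by
  letI : Algebra A E := ((algebraMap K E).comp (algebraMap A K)).toAlgebra
  haveI : IsScalarTower A K E := IsScalarTower.of_algebraMap_eq fun _ => rfl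
  have hInd : EtPBC.IsIndEtale A R := Groth.Agent.S12237.result A R
  have hsm : Smoothing.IndSmooth A R := indSmooth_of_isIndEtale A R hInd
  have hbij := Groth.Agent.S9446.result A R hsm E
  obtain ⟨hRdom, hRic⟩ := (Groth.Agent.S2748.result A R).mpr ⟨inferInstance, inferInstance⟩
  haveI := hRdom
  haveI := hRic
  haveI : Module.FaithfullyFlat A R := Groth.Agent.S0539.result A R
  haveI hloc : IsLocalization (Algebra.algebraMapSubmonoid R A⁰) L :=
    isLocalization_of_forall_isIntegral A R K L (isIntegral_of_isIndEtale A R K L hInd)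
  haveI hpo : Algebra.IsPushout A R K L := Algebra.isPushout_of_isLocalization A⁰ K R L
  let e1 : R ⊗[A] integralClosure A E ≃ₐ[R] integralClosure R (R ⊗[A] E) :=
    AlgEquiv.ofBijective _ hbij
  let e2 : L ⊗[K] E ≃ₐ[R] R ⊗[A] E := Algebra.IsPushout.cancelBaseChangeAlg A R K L E
  let e3 : R ⊗[A] E ≃ₐ[R] (ι → L) := e2.symm.trans (eL.restrictScalars R)
  let e4 : integralClosure R (R ⊗[A] E) ≃ₐ[R] integralClosure R (ι → L) := e3.mapIntegralClosure
  obtain ⟨e5⟩ := nonempty_integralClosure_pi_equiv R L ι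
  let e : R ⊗[A] integralClosure A E ≃ₐ[R] (ι → R) := (e1.trans e4).trans e5.symm
  haveI : Module.Finite R (R ⊗[A] integralClosure A E) := Module.Finite.equiv e.symm.toLinearEquiv
  haveI : Algebra.Etale R (R ⊗[A] integralClosure A E) := Algebra.Etale.of_equiv e.symm
  have hfin : Module.Finite A (integralClosure A E) :=
    Module.Finite.of_finite_tensorProduct_of_faithfullyFlat R
  have het : Algebra.Etale A (integralClosure A E) :=
    Algebra.Etale.of_etale_tensorProduct_of_faithfullyFlat (T := R)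
  haveI : Algebra.IsIntegral K E := inferInstance
  haveI hlocB : IsLocalization (Algebra.algebraMapSubmonoid (integralClosure A E) A⁰) E :=
    isLocalization_integralClosure A K E
  haveI hpoB : Algebra.IsPushout A (integralClosure A E) K E :=
    Algebra.isPushout_of_isLocalization A⁰ K (integralClosure A E) E
  haveI hpoB' : Algebra.IsPushout A K (integralClosure A E) E := hpoB.symm
  exact ⟨integralClosure A E, inferInstance, inferInstance, hfin, het,
    ⟨Algebra.IsPushout.equiv A K (integralClosure A E) E⟩⟩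



/-- A finite étale cover of `Spec K` which is split over `Spec L` gives an isomorphism of
`L`-algebras `L ⊗[K] Γ(V) ≃ₐ[L] (ι → L)`. -/
theorem exists_algEquiv_of_isSplit (K L : Type u) [CommRing K] [CommRing L] [Algebra K L]
    (V : FEt.Cat (Spec (CommRingCat.of K)))
    (hV : Pi1.IsSplit ((FEt.restrict (Spec.map (CommRingCat.ofHom (algebraMap K L)))).obj V)) :
    letI : Algebra K Γ(V.left, ⊤) :=
      ((Scheme.ΓSpecIso (CommRingCat.of K)).inv ≫ V.hom.appTop).hom.toAlgebra
    ∃ (ι : Type u) (_ : Finite ι), Nonempty (L ⊗[K] Γ(V.left, ⊤) ≃ₐ[L] (ι → L)) := by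
  letI algE : Algebra K Γ(V.left, ⊤) :=
    ((Scheme.ΓSpecIso (CommRingCat.of K)).inv ≫ V.hom.appTop).hom.toAlgebra
  obtain ⟨ι, hι, e, he⟩ := hV
  haveI := hι
  refine ⟨ι, hι, ?_⟩
  let g : Spec (CommRingCat.of L) ⟶ Spec (CommRingCat.of K) :=
    Spec.map (CommRingCat.ofHom (algebraMap K L))
  have hVfin : IsFinite V.hom := V.prop.1
  haveI hAff : IsAffine ((Functor.fromPUnit (Spec (CommRingCat.of K))).obj V.right) :=
    inferInstanceAs (IsAffine (Spec (CommRingCat.of K)))
  haveI : IsAffine V.left := isAffine_of_isAffineHom V.hom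
  haveI : IsAffine ((𝟭 Scheme).obj V.left) := ‹IsAffine V.left›
  let ψ₀ : CommRingCat.of K ⟶ Γ(V.left, ⊤) :=
    (Scheme.ΓSpecIso (CommRingCat.of K)).inv ≫ V.hom.appTop
  let σ := sigmaSpec (fun _ : ι => CommRingCat.of L)
  let e₀ : pullback V.hom g ≅ ∐ fun _ : ι => Spec (CommRingCat.of L) := e
  have he₀ : ∀ i : ι, Sigma.ι (fun _ : ι => Spec (CommRingCat.of L)) i ≫ e₀.inv ≫
      pullback.snd V.hom g = 𝟙 _ := he
  let e' : pullback V.hom g ≅ Spec (CommRingCat.of (ι → L)) := e₀ ≪≫ asIso σ
  let fst' : Spec (CommRingCat.of (ι → L)) ⟶ V.left := e'.inv ≫ pullback.fst V.hom g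
  let snd' : Spec (CommRingCat.of (ι → L)) ⟶ Spec (CommRingCat.of L) :=
    Spec.map (CommRingCat.ofHom (algebraMap L (ι → L)))
  have h2 : e₀.inv ≫ pullback.snd V.hom g = σ ≫ snd' := by
    apply Sigma.hom_ext
    intro i
    have h1 : Sigma.ι (fun _ : ι => Spec (CommRingCat.of L)) i ≫ σ ≫ snd' = 𝟙 _ := by
      rw [ι_sigmaSpec_assoc, ← Spec.map_comp, ← Spec.map_id]
      congr 1
    rw [h1]
    exact he₀ i
  have hsnd : e'.inv ≫ pullback.snd V.hom g = snd' := by
    show (inv σ ≫ e₀.inv) ≫ pullback.snd V.hom g = snd'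
    rw [Category.assoc, h2, IsIso.inv_hom_id_assoc]
  have hpb : IsPullback fst' snd' V.hom g := by
    refine (IsPullback.of_hasPullback V.hom g).of_iso e' (Iso.refl _) (Iso.refl _) (Iso.refl _)
      ?_ ?_ ?_ ?_
    · simp [fst']
    · rw [Iso.refl_hom, Category.comp_id, ← hsnd, Iso.hom_inv_id_assoc]
    · simp
    · simp
  have hpo := isPushout_appTop_of_isPullback hpb
  -- transport along the `ΓSpecIso`s
  have hpo' : IsPushout ψ₀ (CommRingCat.ofHom (algebraMap K L))
      (fst'.appTop ≫ (Scheme.ΓSpecIso (CommRingCat.of (ι → L))).hom)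
      (CommRingCat.ofHom (algebraMap L (ι → L))) := by
    refine hpo.of_iso (Scheme.ΓSpecIso (CommRingCat.of K)) (Iso.refl _)
      (Scheme.ΓSpecIso (CommRingCat.of L)) (Scheme.ΓSpecIso (CommRingCat.of (ι → L))) ?_ ?_ ?_ ?_
    · simp [ψ₀]
    · exact Scheme.ΓSpecIso_naturality _
    · simp
    · exact Scheme.ΓSpecIso_naturality _
  have hpoT := CommRingCat.isPushout_tensorProduct K L Γ(V.left, ⊤)
  have hpo'' : IsPushout (CommRingCat.ofHom (algebraMap K L))
      (CommRingCat.ofHom (algebraMap K Γ(V.left, ⊤)))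
      (CommRingCat.ofHom (algebraMap L (ι → L)))
      (fst'.appTop ≫ (Scheme.ΓSpecIso (CommRingCat.of (ι → L))).hom) := hpo'.flip
  let ε := hpoT.isoIsPushout _ _ hpo''
  have hε : CommRingCat.ofHom (Algebra.TensorProduct.includeLeftRingHom) ≫ ε.hom =
      CommRingCat.ofHom (algebraMap L (ι → L)) := hpoT.inl_isoIsPushout_hom _ _ hpo''
  refine ⟨{ ε.commRingCatIsoToRingEquiv with commutes' := fun l => ?_ }⟩
  have := congrArg (fun f => f.hom l) hε
  exact this



/-- A finite étale cover `V` of `Spec K` whose algebra of global sections is `K ⊗[A] B` for a finite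
étale `A`-algebra `B` is the restriction of `Spec B`. -/
theorem exists_restrict_iso_of_algEquiv (A K : Type u) [CommRing A] [CommRing K] [Algebra A K]
    (V : FEt.Cat (Spec (CommRingCat.of K)))
    (B : Type u) [CommRing B] [Algebra A B] (hBfin : Module.Finite A B) (hBet : Algebra.Etale A B)
    (e : letI : Algebra K Γ(V.left, ⊤) :=
        ((Scheme.ΓSpecIso (CommRingCat.of K)).inv ≫ V.hom.appTop).hom.toAlgebra
      K ⊗[A] B ≃ₐ[K] Γ(V.left, ⊤)) :
    ∃ Y : FEt.Cat (Spec (CommRingCat.of A)),
      Nonempty ((FEt.restrict (Spec.map (CommRingCat.ofHom (algebraMap A K)))).obj Y ≅ V) := by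
  letI algE : Algebra K Γ(V.left, ⊤) :=
    ((Scheme.ΓSpecIso (CommRingCat.of K)).inv ≫ V.hom.appTop).hom.toAlgebra
  let j := Spec.map (CommRingCat.ofHom (algebraMap A K))
  have hVfin : IsFinite V.hom := V.prop.1
  haveI hAff : IsAffine ((Functor.fromPUnit (Spec (CommRingCat.of K))).obj V.right) :=
    inferInstanceAs (IsAffine (Spec (CommRingCat.of K)))
  haveI : IsAffine V.left := isAffine_of_isAffineHom V.hom
  haveI : IsAffine ((𝟭 Scheme).obj V.left) := ‹IsAffine V.left›
  let ψ₀ : CommRingCat.of K ⟶ Γ(V.left, ⊤) :=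
    (Scheme.ΓSpecIso (CommRingCat.of K)).inv ≫ V.hom.appTop
  have hV : V.hom = V.left.isoSpec.hom ≫ Spec.map ψ₀ := by
    have h1 := Scheme.toSpecΓ_naturality V.hom
    have h2 : (Spec (CommRingCat.of K)).toSpecΓ ≫
        Spec.map (Scheme.ΓSpecIso (CommRingCat.of K)).inv = 𝟙 _ :=
      toSpecΓ_SpecMap_ΓSpecIso_inv _
    calc V.hom = V.hom ≫ (Spec (CommRingCat.of K)).toSpecΓ ≫
          Spec.map (Scheme.ΓSpecIso (CommRingCat.of K)).inv := by
            rw [h2]; exact (Category.comp_id _).symm
      _ = V.left.isoSpec.hom ≫ Spec.map ψ₀ := by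
            rw [← Category.assoc]
            erw [h1]
            rw [Category.assoc, ← Spec.map_comp]
            rfl
  -- the pushout square of rings
  have hpo := CommRingCat.isPushout_tensorProduct A K B
  let eC : CommRingCat.of (K ⊗[A] B) ≅ Γ(V.left, ⊤) := e.toRingEquiv.toCommRingCatIso
  let inr' : CommRingCat.of B ⟶ Γ(V.left, ⊤) :=
    CommRingCat.ofHom ((e : K ⊗[A] B →+* Γ(V.left, ⊤)).comp
      (Algebra.TensorProduct.includeRight : B →ₐ[A] K ⊗[A] B).toRingHom)
  have hpo' : IsPushout (CommRingCat.ofHom (algebraMap A K)) (CommRingCat.ofHom (algebraMap A B))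
      ψ₀ inr' := by
    refine hpo.of_iso (Iso.refl _) (Iso.refl _) (Iso.refl _) eC ?_ ?_ ?_ ?_
    · simp
    · simp
    · ext x
      simp only [Iso.refl_hom, Category.id_comp]
      change e (x ⊗ₜ[A] (1 : B)) = algebraMap K Γ(V.left, ⊤) x
      rw [← e.commutes x]
      rfl
    · ext x
      rfl
  have hpb := isPullback_SpecMap_of_isPushout _ _ _ _ hpo'
  have hfinU : IsFinite (Spec.map (CommRingCat.ofHom (algebraMap A B))) := by
    rw [IsFinite.SpecMap_iff]
    exact RingHom.finite_algebraMap.mpr hBfin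
  have hetU : Etale (Spec.map (CommRingCat.ofHom (algebraMap A B))) := by
    rw [HasRingHomProperty.Spec_iff (P := @Etale)]
    exact RingHom.etale_algebraMap.mpr hBet
  let U : FEt.Cat (Spec (CommRingCat.of A)) :=
    MorphismProperty.Over.mk ⊤ (Spec.map (CommRingCat.ofHom (algebraMap A B))) ⟨hfinU, hetU⟩
  have hpb' : IsPullback (Spec.map inr') (Spec.map ψ₀) U.hom j := hpb.flip
  let α : V.left ≅ pullback U.hom j := V.left.isoSpec ≪≫ hpb'.isoPullback
  have hα : α.hom ≫ pullback.snd U.hom j = V.hom := by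
    have h2 := hpb'.isoPullback_hom_snd
    calc α.hom ≫ pullback.snd U.hom j
        = V.left.isoSpec.hom ≫ hpb'.isoPullback.hom ≫ pullback.snd U.hom j := Category.assoc _ _ _
      _ = V.left.isoSpec.hom ≫ Spec.map ψ₀ := congrArg (V.left.isoSpec.hom ≫ ·) h2
      _ = V.hom := hV.symm
  refine ⟨U, ⟨MorphismProperty.Over.isoMk α.symm ?_⟩⟩
  change α.inv ≫ V.hom = pullback.snd U.hom j
  rw [Iso.inv_comp_eq, hα]


/-- **S1143.** -/
theorem exists_restrict_iso_of_isSplit (A : Type u) [CommRing A] [IsDomain A]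
    [IsLocalRing A] [IsIntegrallyClosed A] (R : Type u) [CommRing R] [IsLocalRing R] [Algebra A R]
    [IsLocalHom (algebraMap A R)] [Hensel.IsStrictHenselization A R]
    (K L : Type u) [Field K] [Field L] [Algebra A K] [IsFractionRing A K] [Algebra R L]
    [IsFractionRing R L] [Algebra K L] [Algebra A L] [IsScalarTower A K L] [IsScalarTower A R L]
    (V : FEt.Cat (Spec (CommRingCat.of K)))
    (hV : Pi1.IsSplit ((FEt.restrict (Spec.map (CommRingCat.ofHom (algebraMap K L)))).obj V)) :
    ∃ Y : FEt.Cat (Spec (CommRingCat.of A)),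
      Nonempty ((FEt.restrict (Spec.map (CommRingCat.ofHom (algebraMap A K)))).obj Y ≅ V) := by
  letI algE : Algebra K Γ(V.left, ⊤) :=
    ((Scheme.ΓSpecIso (CommRingCat.of K)).inv ≫ V.hom.appTop).hom.toAlgebra
  obtain ⟨ι, hι, ⟨eL⟩⟩ := exists_algEquiv_of_isSplit K L V hV
  haveI := hι
  have hVfin : IsFinite V.hom := V.prop.1
  haveI hAff : IsAffine ((Functor.fromPUnit (Spec (CommRingCat.of K))).obj V.right) :=
    inferInstanceAs (IsAffine (Spec (CommRingCat.of K)))
  haveI : IsAffine V.left := isAffine_of_isAffineHom V.hom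
  haveI : IsAffine ((𝟭 Scheme).obj V.left) := ‹IsAffine V.left›
  have hbij0 : Function.Bijective (Scheme.ΓSpecIso (CommRingCat.of K)).inv.hom :=
    ConcreteCategory.bijective_of_isIso _
  have hfin : ((Scheme.ΓSpecIso (CommRingCat.of K)).inv ≫ V.hom.appTop).hom.Finite := by
    have h1 : V.hom.appTop.hom.Finite := Scheme.Hom.finite_appTop V.hom
    exact h1.comp (RingHom.Finite.of_surjective _ hbij0.2)
  haveI : Module.Finite K Γ(V.left, ⊤) := hfin
  obtain ⟨B, _, _, hBfin, hBet, ⟨e⟩⟩ :=
    exists_finite_etale_of_split A R K L Γ(V.left, ⊤) ι eL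
  exact exists_restrict_iso_of_algEquiv A K V B hBfin hBet e

end Groth.Agent.Lib.Helper2.SplitSH
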