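import Groth.Prelude.Def_Pi1
import Mathlib.RingTheory.Finiteness.Defs
import Mathlib.LinearAlgebra.TensorProduct.Finiteness
import Mathlib.LinearAlgebra.TensorProduct.RightExactness
import Mathlib.RingTheory.TensorProduct.Finite
import Mathlib.Algebra.Module.FinitePresentation
import Mathlib.RingTheory.FiniteType
import Mathlib.RingTheory.TensorProduct.Maps
import Mathlib.RingTheory.FinitePresentation
import Mathlib.RingTheory.FiniteStability

set_option autoImplicit false
universe u
open scoped TensorProduct

namespace Groth.Agent.Lib.Helper2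

variable {R S : Type u} [CommRing R] [CommRing S] [Algebra R S]

/-- For a universally injective `R → S`, the map `P → S ⊗[R] P`, `p ↦ 1 ⊗ p` is injective. -/
theorem UnivInjective.mk_one_injective (h : Pi1.UnivInjective R S) (P : Type u) [AddCommGroup P]
    [Module R P] : Function.Injective (TensorProduct.mk R S P 1) := by
  have h1 := h P
  have : (TensorProduct.mk R S P 1) =
      (TensorProduct.comm R P S).toLinearMap ∘ₗ (LinearMap.lTensor P (Algebra.linearMap R S)) ∘ₗ
        (TensorProduct.rid R P).symm.toLinearMap := by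
    ext p
    simp
  rw [this]
  simp only [LinearMap.coe_comp, LinearEquiv.coe_coe]
  exact (TensorProduct.comm R P S).injective.comp (h1.comp (TensorProduct.rid R P).symm.injective)

theorem UnivInjective.subsingleton (h : Pi1.UnivInjective R S) (P : Type u) [AddCommGroup P]
    [Module R P] [Subsingleton (S ⊗[R] P)] : Subsingleton P :=
  (UnivInjective.mk_one_injective h P).subsingleton

/-- If `S ⊗ N → S ⊗ M` is surjective for a submodule `N ≤ M` and `R → S` is universally injective,
then `N = ⊤`. -/
theorem UnivInjective.eq_top_of_surjective (h : Pi1.UnivInjective R S) {M : Type u} [AddCommGroup M]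
    [Module R M] (N : Submodule R M)
    (hs : Function.Surjective (N.subtype.lTensor S)) : N = ⊤ := by
  have hex : Function.Exact (N.subtype.lTensor S) (N.mkQ.lTensor S) :=
    lTensor_exact S (LinearMap.exact_subtype_mkQ N) (Submodule.mkQ_surjective N)
  have hsurj : Function.Surjective (N.mkQ.lTensor S) :=
    LinearMap.lTensor_surjective S (Submodule.mkQ_surjective N)
  have : Subsingleton (S ⊗[R] (M ⧸ N)) := by
    refine subsingleton_of_forall_eq 0 fun x ↦ ?_
    obtain ⟨y, rfl⟩ := hsurj x
    obtain ⟨z, rfl⟩ := hs y
    exact (hex _).mpr ⟨z, rfl⟩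
  have := UnivInjective.subsingleton h (M ⧸ N)
  rwa [Submodule.Quotient.subsingleton_iff] at this

/-- Descent of finite generation along universally injective ring maps. -/
theorem UnivInjective.finite (h : Pi1.UnivInjective R S) (M : Type u) [AddCommGroup M] [Module R M]
    [Module.Finite S (S ⊗[R] M)] : Module.Finite R M := by
  obtain ⟨t, ht⟩ := (Module.Finite.fg_top : (⊤ : Submodule S (S ⊗[R] M)).FG)
  obtain ⟨N, hN, hsub⟩ := TensorProduct.exists_finite_submodule_right_of_setFinite
    (R := R) (M := S) (N := M) (t : Set (S ⊗[R] M)) t.finite_toSet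
  have hs : Function.Surjective (N.subtype.lTensor S) := by
    have : LinearMap.range (N.subtype.baseChange S) = ⊤ := by
      rw [eq_top_iff, ← ht, Submodule.span_le]
      intro x hx
      obtain ⟨y, hy⟩ := hsub hx
      exact ⟨y, hy⟩
    intro x
    have hx : x ∈ LinearMap.range (N.subtype.baseChange S) := this ▸ Submodule.mem_top
    obtain ⟨y, hy⟩ := hx
    exact ⟨y, hy⟩
  have := UnivInjective.eq_top_of_surjective h N hs
  subst this
  exact Module.Finite.of_surjective (Submodule.topEquiv (R := R) (M := M)).toLinearMap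
    (Submodule.topEquiv (R := R) (M := M)).surjective


/-- Descent of finite presentation along universally injective ring maps. -/
theorem UnivInjective.finitePresentation (h : Pi1.UnivInjective R S) (M : Type u) [AddCommGroup M]
    [Module R M] [Module.FinitePresentation S (S ⊗[R] M)] : Module.FinitePresentation R M := by
  classical
  have : Module.Finite R M := UnivInjective.finite h M
  obtain ⟨n, π, hπ⟩ := Module.Finite.exists_fin' R M
  set K := LinearMap.ker π with hK
  have hπS : Function.Surjective (π.baseChange S) := LinearMap.lTensor_surjective S hπ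
  have hfg : (LinearMap.ker (π.baseChange S)).FG := Module.FinitePresentation.fg_ker _ hπS
  have hker : LinearMap.ker (π.baseChange S) = K.baseChange S := by
    have hex : Function.Exact (K.subtype.lTensor S) (π.lTensor S) :=
      lTensor_exact S (LinearMap.exact_subtype_ker_map π) hπ
    ext x
    rw [LinearMap.mem_ker, Submodule.baseChange, LinearMap.mem_range]
    exact hex x
  rw [hker, Submodule.baseChange_eq_span] at hfg
  obtain ⟨s', hs', hspan⟩ := (Submodule.fg_span_iff_fg_span_finset_subset _).mp hfg
  rw [Submodule.map_coe, Finset.subset_set_image_iff] at hs'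
  obtain ⟨t, htK, rfl⟩ := hs'
  let N : Submodule R (Fin n → R) := Submodule.span R (t : Set (Fin n → R))
  have hNK : N ≤ K := Submodule.span_le.mpr htK
  have hNfg : N.FG := ⟨t, rfl⟩
  have hbc : K.baseChange S ≤ N.baseChange S := by
    rw [Submodule.baseChange_eq_span S K, hspan, Submodule.baseChange_span, Finset.coe_image]
  -- the quotient
  have hfp : Module.FinitePresentation R ((Fin n → R) ⧸ N) :=
    Module.finitePresentation_of_free_of_surjective N.mkQ (Submodule.mkQ_surjective N)
      (by rwa [Submodule.ker_mkQ])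
  let q : ((Fin n → R) ⧸ N) →ₗ[R] M := N.liftQ π hNK
  have hqsurj : Function.Surjective q := by
    intro m
    obtain ⟨x, rfl⟩ := hπ m
    exact ⟨N.mkQ x, by simp [q]⟩
  have hqS : Function.Injective (q.lTensor S) := by
    rw [injective_iff_map_eq_zero]
    intro y hy
    obtain ⟨z, rfl⟩ := LinearMap.lTensor_surjective S (Submodule.mkQ_surjective N) y
    rw [← LinearMap.comp_apply, ← LinearMap.lTensor_comp] at hy
    have hz : z ∈ LinearMap.ker (π.baseChange S) := by
      rw [LinearMap.mem_ker]
      have : q ∘ₗ N.mkQ = π := by ext; simp [q]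
      rw [this] at hy
      exact hy
    rw [hker] at hz
    obtain ⟨w, rfl⟩ := hbc hz
    change (N.mkQ.lTensor S) ((N.subtype.lTensor S) w) = 0
    rw [← LinearMap.comp_apply, ← LinearMap.lTensor_comp]
    have : N.mkQ ∘ₗ N.subtype = 0 := by ext; simp
    rw [this, LinearMap.lTensor_zero, LinearMap.zero_apply]
  have hqinj : Function.Injective q := by
    rw [injective_iff_map_eq_zero]
    intro x hx
    apply UnivInjective.mk_one_injective h ((Fin n → R) ⧸ N)
    apply hqS
    simp [hx]
  exact Module.FinitePresentation.of_equiv (LinearEquiv.ofBijective q ⟨hqinj, hqsurj⟩)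

/-- If `S ⊗ f` is surjective and `R → S` is universally injective then `f` is surjective. -/
theorem UnivInjective.surjective_of_lTensor_surjective (h : Pi1.UnivInjective R S)
    {N M : Type u} [AddCommGroup N] [Module R N] [AddCommGroup M] [Module R M] (f : N →ₗ[R] M)
    (hs : Function.Surjective (f.lTensor S)) : Function.Surjective f := by
  rw [← LinearMap.range_eq_top]
  apply UnivInjective.eq_top_of_surjective h
  intro x
  obtain ⟨y, rfl⟩ := hs x
  refine ⟨(f.rangeRestrict.lTensor S) y, ?_⟩
  rw [← LinearMap.comp_apply, ← LinearMap.lTensor_comp]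
  rfl

/-- Descent of finite type along universally injective ring maps. -/
theorem UnivInjective.finiteType (h : Pi1.UnivInjective R S) (A : Type u) [CommRing A]
    [Algebra R A] [Algebra.FiniteType S (S ⊗[R] A)] : Algebra.FiniteType R A := by
  classical
  obtain ⟨t, ht⟩ := (Algebra.FiniteType.out : (⊤ : Subalgebra S (S ⊗[R] A)).FG)
  obtain ⟨N, hN, hsub⟩ := TensorProduct.exists_finite_submodule_right_of_setFinite
    (R := R) (M := S) (N := A) (t : Set (S ⊗[R] A)) t.finite_toSet
  obtain ⟨t0, ht0⟩ := (Module.Finite.iff_fg.mp hN)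
  let A0 : Subalgebra R A := Algebra.adjoin R (t0 : Set A)
  have hNA0 : N ≤ Subalgebra.toSubmodule A0 := by
    rw [← ht0]
    exact Algebra.span_le_adjoin R _
  let F : S ⊗[R] A0 →ₐ[S] S ⊗[R] A := Algebra.TensorProduct.map (AlgHom.id S S) A0.val
  have hF : ∀ y, F y = (A0.val.toLinearMap.lTensor S) y := by
    intro y
    induction y with
    | zero => simp
    | tmul a b => simp [F]
    | add x y hx hy => rw [map_add, map_add, hx, hy]
  have hrange : F.range = ⊤ := by
    rw [eq_top_iff, ← ht, Algebra.adjoin_le_iff]
    intro x hx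
    obtain ⟨y, rfl⟩ := hsub hx
    refine ⟨((Submodule.inclusion hNA0).lTensor S) y, ?_⟩
    change F _ = _
    rw [hF, ← LinearMap.comp_apply, ← LinearMap.lTensor_comp]
    rfl
  have hsurj : Function.Surjective (A0.val.toLinearMap.lTensor S) := by
    intro x
    have : x ∈ F.range := hrange ▸ Algebra.mem_top
    obtain ⟨y, rfl⟩ := this
    exact ⟨y, (hF y).symm⟩
  have hA0 : Function.Surjective A0.val.toLinearMap :=
    UnivInjective.surjective_of_lTensor_surjective h _ hsurj
  refine ⟨⟨t0, ?_⟩⟩
  rw [eq_top_iff]
  intro a _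
  obtain ⟨⟨b, hb⟩, rfl⟩ := hA0 a
  exact hb

/-- Descent of finite presentation of algebras along universally injective ring maps. -/
theorem UnivInjective.algFinitePresentation (h : Pi1.UnivInjective R S) (A : Type u) [CommRing A]
    [Algebra R A] [Algebra.FinitePresentation S (S ⊗[R] A)] : Algebra.FinitePresentation R A := by
  classical
  have hft : Algebra.FiniteType R A := UnivInjective.finiteType h A
  obtain ⟨n, π, hπ⟩ := Algebra.FiniteType.iff_quotient_mvPolynomial''.mp hft
  set I := RingHom.ker π with hI
  let F : S ⊗[R] MvPolynomial (Fin n) R →ₐ[S] S ⊗[R] A :=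
    Algebra.TensorProduct.map (AlgHom.id S S) π
  have hF : Function.Surjective F :=
    Algebra.TensorProduct.map_surjective (AlgHom.id S S) π Function.surjective_id hπ
  have hfg : (RingHom.ker F.toRingHom).FG := Algebra.FinitePresentation.ker_fG_of_surjective F hF
  let incl : MvPolynomial (Fin n) R →ₐ[R] S ⊗[R] MvPolynomial (Fin n) R :=
    Algebra.TensorProduct.includeRight
  have hker : RingHom.ker F.toRingHom = I.map incl :=
    Algebra.TensorProduct.lTensor_ker (A := S) π hπ
  rw [hker, Ideal.map, Ideal.span] at hfg
  obtain ⟨s', hs', hspan⟩ := (Submodule.fg_span_iff_fg_span_finset_subset _).mp hfg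
  rw [Finset.subset_set_image_iff] at hs'
  obtain ⟨t, htI, rfl⟩ := hs'
  let I0 : Ideal (MvPolynomial (Fin n) R) := Ideal.span (t : Set (MvPolynomial (Fin n) R))
  have hI0 : I0 ≤ I := Ideal.span_le.mpr htI
  have hI0fg : I0.FG := ⟨t, rfl⟩
  have hmap : I.map incl = I0.map incl := by
    rw [Ideal.map_span, Ideal.map, Ideal.span, hspan, Finset.coe_image]
  have hfp : Algebra.FinitePresentation R (MvPolynomial (Fin n) R ⧸ I0) :=
    Algebra.FinitePresentation.quotient hI0fg
  let q : (MvPolynomial (Fin n) R ⧸ I0) →ₐ[R] A := Ideal.Quotient.liftₐ I0 π (fun a ha ↦ hI0 ha)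
  have hqsurj : Function.Surjective q := by
    intro a
    obtain ⟨x, rfl⟩ := hπ a
    exact ⟨Ideal.Quotient.mk I0 x, by simp [q]⟩
  let G : S ⊗[R] MvPolynomial (Fin n) R →ₐ[R] S ⊗[R] (MvPolynomial (Fin n) R ⧸ I0) :=
    Algebra.TensorProduct.map (AlgHom.id R S) (Ideal.Quotient.mkₐ R I0)
  have hGker : RingHom.ker G = I0.map incl := by
    have := Algebra.TensorProduct.lTensor_ker (A := S) (Ideal.Quotient.mkₐ R I0)
      (Ideal.Quotient.mkₐ_surjective R I0)
    have hk : RingHom.ker (Ideal.Quotient.mkₐ R I0) = I0 := by
      ext x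
      simp [RingHom.mem_ker, Ideal.Quotient.eq_zero_iff_mem]
    rw [this, hk]
  have hqinj : Function.Injective q := by
    rw [injective_iff_map_eq_zero]
    intro x hx
    obtain ⟨p, rfl⟩ := Ideal.Quotient.mk_surjective x
    have hp : p ∈ I := by
      rw [hI, RingHom.mem_ker]
      simpa [q] using hx
    apply UnivInjective.mk_one_injective h (MvPolynomial (Fin n) R ⧸ I0)
    rw [map_zero]
    have h1 : incl p ∈ RingHom.ker G := by
      rw [hGker, ← hmap]
      exact Ideal.mem_map_of_mem _ hp
    rw [RingHom.mem_ker] at h1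
    simpa [G, incl] using h1
  exact Algebra.FinitePresentation.equiv (AlgEquiv.ofBijective q ⟨hqinj, hqsurj⟩)

end Groth.Agent.Lib.Helper2
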