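import Groth.Agent.Lib.Helper2.UnivInjFlat
import Mathlib.RingTheory.Etale.Basic
import Mathlib.RingTheory.Smooth.Fiber
import Mathlib.RingTheory.Kaehler.TensorProduct

set_option autoImplicit false
universe u
open scoped TensorProduct

namespace Groth.Agent.Lib.Helper2

variable {R S : Type u} [CommRing R] [CommRing S] [Algebra R S]

attribute [local instance] Algebra.TensorProduct.rightAlgebra in
theorem UnivInjective.etale (h : Pi1.UnivInjective R S) (A : Type u) [CommRing A] [Algebra R A]
    [Algebra.Etale S (S ⊗[R] A)] : Algebra.Etale R A := by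
  have hfp : Algebra.FinitePresentation R A := UnivInjective.algFinitePresentation h A
  have hflatS : Module.Flat S (S ⊗[R] A) := inferInstance
  have hflat : Module.Flat R A := UnivInjective.flat h A
  have hunr : Algebra.FormallyUnramified S (S ⊗[R] A) := inferInstance
  have hsub : Subsingleton (Ω[(S ⊗[R] A)⁄S]) := inferInstance
  have e := KaehlerDifferential.tensorKaehlerEquivBase R S A (S ⊗[R] A)
  have : Subsingleton (S ⊗[R] Ω[A⁄R]) := e.injective.subsingleton
  have : Subsingleton (Ω[A⁄R]) := UnivInjective.subsingleton h _
  have : Algebra.FormallyUnramified R A := ⟨this⟩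
  exact Algebra.Etale.of_formallyUnramified_of_flat

end Groth.Agent.Lib.Helper2
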