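import Mathlib
import Groth.Prelude.Def_SGA1
import Groth.Agent.Lib.Helper3.QFSplit

/-!
# Universally submersive morphisms over a henselian local ring (helper2)

* `univSubmersive_of_finite_family`: a morphism dominated by a finite jointly surjective family of
  universally closed morphisms is universally submersive.
* `quasiFiniteAt_of_finite_fibre`, `exists_idempotent_finite_of_finite_fibre`: over a henselian local
  ring, a finite type algebra with finite closed fibre splits off a finite part containing the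
  closed fibre (from helper3 `exists_idempotent_split_of_finiteType`).
* `exists_finite_piece`: scheme version on an affine open.
* `univSubmersive_of_specializes_closedFibre` (= S5114).
-/

set_option autoImplicit false
set_option linter.style.haveILetI false
set_option linter.unusedSectionVars false
universe u

open CategoryTheory CategoryTheory.Limits AlgebraicGeometry IsLocalRing

namespace Groth.Agent.Lib.Helper2.UnivSubm

/-- A morphism dominated by a finite jointly surjective family of universally closed morphisms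
is universally submersive. -/
theorem univSubmersive_of_finite_family {S' S : Scheme.{u}} (g : S' ⟶ S) {ι : Type*} [Finite ι]
    (F : ι → Scheme.{u}) (h : ∀ i, F i ⟶ S') (hcl : ∀ i, UniversallyClosed (h i ≫ g))
    (hsurj : ∀ s : S, ∃ i, ∃ x : F i, (h i ≫ g) x = s) : SGA1.UnivSubmersive g := by
  intro T' T i₁ i₂ f' hpb
  change Topology.IsQuotientMap f'
  -- the lifts
  have hl : ∀ i, ∃ l : pullback (h i ≫ g) i₂ ⟶ T', l ≫ f' = pullback.snd (h i ≫ g) i₂ ∧
      l ≫ i₁ = pullback.fst (h i ≫ g) i₂ ≫ h i := by
    intro i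
    refine ⟨hpb.lift (pullback.snd (h i ≫ g) i₂) (pullback.fst (h i ≫ g) i₂ ≫ h i) ?_,
      hpb.lift_fst _ _ _, hpb.lift_snd _ _ _⟩
    rw [Category.assoc, pullback.condition]
  choose l hl1 hl2 using hl
  have hpt : ∀ t : T, ∃ i, ∃ z : ↥(pullback (h i ≫ g) i₂), pullback.snd (h i ≫ g) i₂ z = t := by
    intro t
    obtain ⟨i, x, hx⟩ := hsurj (i₂ t)
    obtain ⟨z, -, hz⟩ := Scheme.Pullback.exists_preimage_pullback x t hx
    exact ⟨i, z, hz⟩
  have hfl : ∀ i (z : ↥(pullback (h i ≫ g) i₂)), f' (l i z) = pullback.snd (h i ≫ g) i₂ z := by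
    intro i z
    rw [← Scheme.Hom.comp_apply, hl1]
  rw [Topology.isQuotientMap_iff_isClosed]
  refine ⟨?_, ?_⟩
  · intro t
    obtain ⟨i, z, hz⟩ := hpt t
    exact ⟨l i z, (hfl i z).trans hz⟩
  · intro Z
    refine ⟨fun hZ => hZ.preimage f'.continuous, fun hZ => ?_⟩
    have hEq : Z = ⋃ i, (pullback.snd (h i ≫ g) i₂) '' ((l i) ⁻¹' (f' ⁻¹' Z)) := by
      ext t
      simp only [Set.mem_iUnion, Set.mem_image, Set.mem_preimage]
      constructor
      · intro ht
        obtain ⟨i, z, hz⟩ := hpt t
        exact ⟨i, z, by rw [hfl i z, hz]; exact ht, hz⟩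
      · rintro ⟨i, z, hz1, hz2⟩
        rw [hfl i z, hz2] at hz1
        exact hz1
    rw [hEq]
    refine isClosed_iUnion_of_finite fun i => ?_
    haveI := hcl i
    exact (pullback.snd (h i ≫ g) i₂).isClosedMap _ (hZ.preimage (l i).continuous)

/-- A prime of a finite type algebra whose fibre is finite is quasi-finite. -/
theorem quasiFiniteAt_of_finite_fibre {R S : Type u} [CommRing R] [CommRing S] [Algebra R S]
    [Algebra.FiniteType R S] (q : PrimeSpectrum S)
    (hfin : (PrimeSpectrum.comap (algebraMap R S) ⁻¹' {q.comap (algebraMap R S)}).Finite) :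
    Algebra.QuasiFiniteAt R q.asIdeal := by
  apply Algebra.QuasiFiniteAt.of_isOpen_singleton_fiber q
  let p := q.comap (algebraMap R S)
  let e := PrimeSpectrum.preimageHomeomorphFiber R S p
  haveI : Finite ↥(PrimeSpectrum.comap (algebraMap R S) ⁻¹' {p}) := hfin
  haveI : Finite (PrimeSpectrum (p.asIdeal.Fiber S)) := Finite.of_equiv _ e.toEquiv
  haveI : Algebra.QuasiFinite p.asIdeal.ResidueField (p.asIdeal.Fiber S) :=
    Algebra.QuasiFinite.iff_finite_comap_preimage_singleton.mpr fun _ => Set.toFinite _
  haveI : DiscreteTopology (PrimeSpectrum (p.asIdeal.Fiber S)) :=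
    Algebra.QuasiFinite.discreteTopology_primeSpectrum p.asIdeal.ResidueField (p.asIdeal.Fiber S)
  haveI : DiscreteTopology ↥(PrimeSpectrum.comap (algebraMap R S) ⁻¹' {p}) :=
    Topology.IsEmbedding.discreteTopology e.isEmbedding
  exact isOpen_discrete _

/-- Over a henselian local ring, a finite type algebra with finite closed fibre splits off a
finite part containing the whole closed fibre. -/
theorem exists_idempotent_finite_of_finite_fibre (R : Type u) [CommRing R] [HenselianLocalRing R]
    (S : Type u) [CommRing S] [Algebra R S] [Algebra.FiniteType R S]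
    (hfin : (PrimeSpectrum.comap (algebraMap R S) ⁻¹' {closedPoint R}).Finite) :
    ∃ e : S, IsIdempotentElem e ∧ Module.Finite R (S ⧸ Ideal.span ({1 - e} : Set S)) ∧
      ∀ q : PrimeSpectrum S, q.comap (algebraMap R S) = closedPoint R → 1 - e ∈ q.asIdeal := by
  obtain ⟨e, he, hefin, hq⟩ := Groth.Agent.Lib.Helper3.exists_idempotent_split_of_finiteType R S
  refine ⟨e, he, hefin, ?_⟩
  intro q hqm
  by_contra hne
  have heq : e ∈ q.asIdeal := by
    have h0 : e * (1 - e) ∈ q.asIdeal := by
      have : e * (1 - e) = 0 := by rw [mul_sub, mul_one, he.eq, sub_self]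
      rw [this]; exact zero_mem _
    exact (q.isPrime.mem_or_mem h0).resolve_right hne
  haveI hQF : Algebra.QuasiFiniteAt R q.asIdeal :=
    quasiFiniteAt_of_finite_fibre q (by rw [hqm]; exact hfin)
  -- the image prime in the quotient
  have hle : Ideal.span ({e} : Set S) ≤ q.asIdeal := (Ideal.span_singleton_le_iff_mem _).mpr heq
  let q' : Ideal (S ⧸ Ideal.span ({e} : Set S)) :=
    q.asIdeal.map (Ideal.Quotient.mk (Ideal.span ({e} : Set S)))
  have hcomap : q'.comap (Ideal.Quotient.mk (Ideal.span ({e} : Set S))) = q.asIdeal :=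
    Ideal.comap_map_mk hle
  haveI hq'prime : q'.IsPrime :=
    Ideal.map_isPrime_of_surjective Ideal.Quotient.mk_surjective (by rwa [Ideal.mk_ker])
  have hover : q'.LiesOver (maximalIdeal R) := by
    constructor
    have h1 : q'.under R = q.asIdeal.under R := by
      change Ideal.comap (algebraMap R (S ⧸ Ideal.span ({e} : Set S))) q' = _
      rw [IsScalarTower.algebraMap_eq R S (S ⧸ Ideal.span ({e} : Set S)), ← Ideal.comap_comap]
      change Ideal.comap (algebraMap R S) (q'.comap (Ideal.Quotient.mk _)) = _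
      rw [hcomap]
    rw [h1]
    exact (congrArg PrimeSpectrum.asIdeal hqm).symm
  refine hq q' hover ?_
  exact Algebra.QuasiFiniteAt.of_surjectiveOnStalks q.asIdeal
    (Ideal.Quotient.mkₐ R (Ideal.span ({e} : Set S)))
    (RingHom.surjectiveOnStalks_of_surjective Ideal.Quotient.mk_surjective) q' hcomap.symm


/-- Scheme version of the finite piece on an affine open. -/
theorem exists_finite_piece {A : Type u} [CommRing A] [HenselianLocalRing A] {S' : Scheme.{u}}
    (g : S' ⟶ Spec (CommRingCat.of A)) [LocallyOfFiniteType g]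
    (hfin : (g ⁻¹' {closedPoint A}).Finite) (W : S'.Opens) (hW : IsAffineOpen W) :
    ∃ (F : Scheme.{u}) (h : F ⟶ S'), IsFinite (h ≫ g) ∧ IsOpen (Set.range h) ∧
      ∀ x ∈ W, g x = closedPoint A → x ∈ Set.range h := by
  let φ : CommRingCat.of A ⟶ Γ(S', W) :=
    (Scheme.ΓSpecIso (CommRingCat.of A)).inv ≫ g.appLE ⊤ W le_top
  have hφ : hW.fromSpec ≫ g = Spec.map φ := by
    have h1 := IsAffineOpen.SpecMap_appLE_fromSpec g (isAffineOpen_top _) hW (le_top : W ≤ g ⁻¹ᵁ ⊤)
    rw [← h1, IsAffineOpen.fromSpec_top, Scheme.isoSpec_Spec_inv, ← Spec.map_comp]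
  have hft : LocallyOfFiniteType (Spec.map φ) := by rw [← hφ]; infer_instance
  have hft' : φ.hom.FiniteType := (HasRingHomProperty.Spec_iff (P := @LocallyOfFiniteType)).mp hft
  algebraize [φ.hom]
  have hcomap : ∀ q : PrimeSpectrum Γ(S', W),
      g (hW.fromSpec q) = PrimeSpectrum.comap (algebraMap A Γ(S', W)) q := by
    intro q
    rw [← Scheme.Hom.comp_apply, hφ]
    rfl
  have hfin' : (PrimeSpectrum.comap (algebraMap A Γ(S', W)) ⁻¹' {closedPoint A}).Finite := by
    have h2 : PrimeSpectrum.comap (algebraMap A Γ(S', W)) ⁻¹' {closedPoint A} =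
        hW.fromSpec ⁻¹' (g ⁻¹' {closedPoint A}) := by
      ext q
      change (PrimeSpectrum.comap (algebraMap A Γ(S', W)) q = closedPoint A) ↔
        (g (hW.fromSpec q) = closedPoint A)
      rw [hcomap]
      exact Iff.rfl
    rw [h2]
    exact hfin.preimage hW.fromSpec.isOpenEmbedding.injective.injOn
  obtain ⟨e, he, hefin, hq⟩ := exists_idempotent_finite_of_finite_fibre A Γ(S', W) hfin'
  let π : Γ(S', W) ⟶ CommRingCat.of (Γ(S', W) ⧸ Ideal.span ({1 - e} : Set Γ(S', W))) :=
    CommRingCat.ofHom (Ideal.Quotient.mk _)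
  refine ⟨Spec (CommRingCat.of (Γ(S', W) ⧸ Ideal.span ({1 - e} : Set Γ(S', W)))),
    Spec.map π ≫ hW.fromSpec, ?_, ?_, ?_⟩
  · rw [Category.assoc, hφ, ← Spec.map_comp, IsFinite.SpecMap_iff]
    have h3 : (φ ≫ π).hom = algebraMap A (Γ(S', W) ⧸ Ideal.span ({1 - e} : Set Γ(S', W))) := rfl
    rw [h3]
    exact RingHom.finite_algebraMap.mpr hefin
  · have hrange : Set.range (Spec.map π ≫ hW.fromSpec) =
        hW.fromSpec '' (PrimeSpectrum.basicOpen e : Set (PrimeSpectrum Γ(S', W))) := by
      rw [Scheme.Hom.comp_base, TopCat.coe_comp, Set.range_comp]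
      congr 1
      have h4 : Set.range (Spec.map π) =
          PrimeSpectrum.zeroLocus (Ideal.span ({1 - e} : Set Γ(S', W))) := by
        have := _root_.range_comap_of_surjective _
          (Ideal.Quotient.mk (Ideal.span ({1 - e} : Set Γ(S', W)))) Ideal.Quotient.mk_surjective
        rw [Ideal.mk_ker] at this
        exact this
      rw [h4]
      ext q
      simp only [PrimeSpectrum.mem_zeroLocus, SetLike.coe_subset_coe, PrimeSpectrum.mem_basicOpen,
        SetLike.mem_coe, Ideal.span_singleton_le_iff_mem]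
      constructor
      · intro h1 h2
        have : (1 : Γ(S', W)) ∈ q.asIdeal := by
          have := q.asIdeal.add_mem h1 h2
          rwa [sub_add_cancel] at this
        exact q.isPrime.ne_top ((Ideal.eq_top_iff_one _).mpr this)
      · intro h1
        have h0 : e * (1 - e) ∈ q.asIdeal := by
          have : e * (1 - e) = 0 := by rw [mul_sub, mul_one, he.eq, sub_self]
          rw [this]; exact zero_mem _
        exact (q.isPrime.mem_or_mem h0).resolve_left h1
    rw [hrange]
    exact hW.fromSpec.isOpenEmbedding.isOpenMap _ (PrimeSpectrum.basicOpen e).isOpen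
  · intro x hx hgx
    let q := hW.primeIdealOf ⟨x, hx⟩
    have hqx : hW.fromSpec q = x := hW.fromSpec_primeIdealOf ⟨x, hx⟩
    have hqm : q.comap (algebraMap A Γ(S', W)) = closedPoint A := by
      rw [← hcomap, hqx, hgx]
    have h1 := hq q hqm
    have h4 : q ∈ Set.range (Spec.map π) := by
      have := _root_.range_comap_of_surjective _
        (Ideal.Quotient.mk (Ideal.span ({1 - e} : Set Γ(S', W)))) Ideal.Quotient.mk_surjective
      rw [Ideal.mk_ker] at this
      change q ∈ Set.range (PrimeSpectrum.comap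
        (Ideal.Quotient.mk (Ideal.span ({1 - e} : Set Γ(S', W)))))
      rw [this, PrimeSpectrum.mem_zeroLocus, SetLike.coe_subset_coe,
        Ideal.span_singleton_le_iff_mem]
      exact h1
    obtain ⟨y, hy⟩ := h4
    refine ⟨y, ?_⟩
    rw [Scheme.Hom.comp_apply, hy, hqx]

/-- **S5114.** Over a henselian local ring, a surjective morphism locally of finite type with finite
closed fibre such that every point specialises into the closed fibre is universally submersive. -/
theorem univSubmersive_of_specializes_closedFibre {A : Type u} [CommRing A] [HenselianLocalRing A]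
    {S' : Scheme.{u}} (g : S' ⟶ Spec (CommRingCat.of A)) [LocallyOfFiniteType g] [Surjective g]
    (hfin : (g ⁻¹' {closedPoint A}).Finite)
    (hsp : ∀ t : S', ∃ s' : S', g s' = closedPoint A ∧ t ⤳ s') :
    SGA1.UnivSubmersive g := by
  haveI : Finite ↥(g ⁻¹' {closedPoint A}) := hfin
  have hW : ∀ i : ↥(g ⁻¹' {closedPoint A}), ∃ W : S'.Opens, IsAffineOpen W ∧ i.1 ∈ W := by
    intro i
    obtain ⟨W, hW, hi, -⟩ :=
      TopologicalSpace.Opens.isBasis_iff_nbhd.mp S'.isBasis_affineOpens
        (TopologicalSpace.Opens.mem_top i.1)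
    exact ⟨W, hW, hi⟩
  choose W hWaff hWmem using hW
  have hF := fun i => exists_finite_piece g hfin (W i) (hWaff i)
  choose F h hfinite hopen hmem using hF
  refine univSubmersive_of_finite_family g F h (fun i => ?_) ?_
  · haveI := hfinite i
    infer_instance
  · intro s
    obtain ⟨t, rfl⟩ := g.surjective s
    obtain ⟨s', hs', hts'⟩ := hsp t
    let i : ↥(g ⁻¹' {closedPoint A}) := ⟨s', hs'⟩
    have h1 : s' ∈ Set.range (h i) := hmem i s' (hWmem i) hs'
    have h2 : t ∈ Set.range (h i) := hts'.mem_open (hopen i) h1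
    obtain ⟨y, hy⟩ := h2
    exact ⟨i, y, by rw [Scheme.Hom.comp_apply, hy]⟩

end Groth.Agent.Lib.Helper2.UnivSubm
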