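import Mathlib.AlgebraicGeometry.Morphisms.WeaklyEtale
import Mathlib.AlgebraicGeometry.Morphisms.FormallyUnramified
import Mathlib.AlgebraicGeometry.Morphisms.Etale
import Mathlib.RingTheory.Ideal.Pure
import Mathlib.RingTheory.Etale.Weakly

set_option autoImplicit false
universe u

namespace Groth.Agent.Lib.Helper2

open TensorProduct

/-- If `f : C →+* B` is surjective and flat, then `ker f` is idempotent. -/
theorem ker_isIdempotentElem_of_flat_of_surjective {C B : Type*} [CommRing C] [CommRing B]
    (f : C →+* B) (hf : Function.Surjective f) (hflat : f.Flat) :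
    IsIdempotentElem (RingHom.ker f) := by
  algebraize [f]
  have e : (C ⧸ RingHom.ker f) ≃ₐ[C] B :=
    Ideal.quotientKerAlgEquivOfSurjective (f := Algebra.ofId C B) hf
  have : Module.Flat C (C ⧸ RingHom.ker f) := Module.Flat.of_linearEquiv e.toLinearEquiv
  exact Ideal.isIdempotentElem_of_pure _

/-- A weakly étale algebra is formally unramified. -/
theorem formallyUnramified_of_weaklyEtale (R S : Type*) [CommRing R] [CommRing S] [Algebra R S]
    [Algebra.WeaklyEtale R S] : Algebra.FormallyUnramified R S := by
  have h := Algebra.WeaklyEtale.flat_lmul' R S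
  have hs : Function.Surjective (Algebra.TensorProduct.lmul' R (S := S)).toRingHom :=
    fun x ↦ ⟨x ⊗ₜ 1, by simp⟩
  have := ker_isIdempotentElem_of_flat_of_surjective _ hs h
  constructor
  rw [KaehlerDifferential]
  rw [Ideal.cotangent_subsingleton_iff]
  exact this

end Groth.Agent.Lib.Helper2

namespace Groth.Agent.Lib.Helper2

open AlgebraicGeometry CategoryTheory Limits MorphismProperty

theorem weaklyEtale_formallyUnramified_scheme {X Y : Scheme.{u}} (f : X ⟶ Y) [WeaklyEtale f] :
    FormallyUnramified f := by
  wlog hY : ∃ R, Y = Spec R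
  · rw [IsZariskiLocalAtTarget.iff_of_openCover (P := @FormallyUnramified) Y.affineCover]
    intro i
    have inst : WeaklyEtale (pullback.snd f (Y.affineCover.f i)) := inferInstance
    exact this (pullback.snd _ _) ⟨_, rfl⟩
  obtain ⟨R, rfl⟩ := hY
  wlog hX : ∃ S, X = Spec S generalizing X
  · rw [IsZariskiLocalAtSource.iff_of_openCover (P := @FormallyUnramified) X.affineCover]
    intro i
    have inst : WeaklyEtale (X.affineCover.f i ≫ f) := inferInstance
    exact this (_ ≫ _) ⟨_, rfl⟩
  obtain ⟨S, rfl⟩ := hX
  obtain ⟨φ, rfl⟩ := Spec.map_surjective f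
  rw [HasRingHomProperty.Spec_iff (P := @FormallyUnramified)]
  have h1 : Flat (Spec.map φ) := inferInstance
  have h2 : Flat (pullback.diagonal (Spec.map φ)) := inferInstance
  rw [HasRingHomProperty.Spec_iff (P := @Flat)] at h1
  algebraize [φ.hom]
  rw [show φ = CommRingCat.ofHom (algebraMap R S) from rfl, diagonal_SpecMap R S,
    cancel_right_of_respectsIso (P := @Flat), HasRingHomProperty.Spec_iff (P := @Flat)] at h2
  have : Algebra.WeaklyEtale R S := ⟨h1, h2⟩
  rw [RingHom.FormallyUnramified]
  convert formallyUnramified_of_weaklyEtale R S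

end Groth.Agent.Lib.Helper2
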